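import Cfsg.Agent.Mrg.Omega.FFMutual
import Cfsg.Agent.ZN.ChoiceSit
import Cfsg.Agent.ZN.Facts


/-!
# II.d, `k = 2` against `k' = 1` (text #13866 (1) of helper592): the order argument
-/

set_option autoImplicit false

namespace Cfsg.Agent.Omega.IId.KOne

open Subgroup Cfsg Cfsg.Agent.ZN Cfsg.Agent.ZN.ChoiceBase Cfsg.Agent.ZN.ChoiceSit
open Cfsg.Agent.Omega.IId.MixedK (conj_comm comm_conj)
open Cfsg.Agent.Omega.IId.SemiLine

/-! ### Nilpotent endomorphisms -/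

/-- `|E| ≤ |ker δ| ^ n` if `δ ^ n = 1`. -/
theorem card_le_ker_pow (n : ℕ) : ∀ {E : Type*} [CommGroup E] [Finite E] (δ : E →* E),
    (∀ x, (δ : E → E)^[n] x = 1) → Nat.card E ≤ Nat.card δ.ker ^ n := by
  induction n with
  | zero =>
    intro E _ _ δ h
    have : Subsingleton E := ⟨fun x y => by
      have h1 := h x
      have h2 := h y
      simp only [Function.iterate_zero, id_eq] at h1 h2
      rw [h1, h2]⟩
    rw [pow_zero]
    exact Nat.card_of_subsingleton (1 : E) |>.le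
  | succ n ih =>
    intro E _ _ δ h
    have h1 : Nat.card δ.ker * Nat.card δ.range = Nat.card E := by
      rw [← Nat.card_congr (QuotientGroup.quotientKerEquivRange δ).toEquiv, mul_comm]
      exact (card_eq_card_quotient_mul_card_subgroup δ.ker).symm
    let δ' : δ.range →* δ.range :=
      { toFun := fun x => ⟨δ (x : E), ⟨(x : E), rfl⟩⟩
        map_one' := Subtype.ext (map_one δ)
        map_mul' := fun x y => Subtype.ext (map_mul δ (x : E) (y : E)) }
    have hit : ∀ (m : ℕ) (x : δ.range), (((δ' : δ.range → δ.range)^[m] x : δ.range) : E) =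
        (δ : E → E)^[m] x := by
      intro m
      induction m with
      | zero => intro x; rfl
      | succ m ihm =>
        intro x
        rw [Function.iterate_succ_apply', Function.iterate_succ_apply', ← ihm]
        rfl
    have h2 : Nat.card δ.range ≤ Nat.card δ'.ker ^ n := by
      refine ih δ' fun x => ?_
      obtain ⟨x, ⟨y, rfl⟩⟩ := x
      apply Subtype.ext
      rw [hit]
      change (δ : E → E)^[n] (δ y) = 1
      rw [← Function.iterate_succ_apply]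
      exact h y
    have h3 : Nat.card δ'.ker ≤ Nat.card δ.ker := by
      refine Nat.card_le_card_of_injective (fun x : δ'.ker => (⟨((x : δ.range) : E), ?_⟩ : δ.ker)) ?_
      · have hx := x.2
        rw [MonoidHom.mem_ker] at hx ⊢
        exact congrArg Subtype.val hx
      · intro x y hxy
        have := congrArg Subtype.val hxy
        exact Subtype.ext (Subtype.ext this)
    calc Nat.card E = Nat.card δ.ker * Nat.card δ.range := h1.symm
      _ ≤ Nat.card δ.ker * Nat.card δ.ker ^ n :=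
          Nat.mul_le_mul_left _ (h2.trans (Nat.pow_le_pow_left h3 n))
      _ = Nat.card δ.ker ^ (n + 1) := by rw [pow_succ, mul_comm]

variable {G : Type*} [Group G]

/-- `|Z| ≤ |C_Z(a)| ^ (2 ^ k)` if `Z` is elementary abelian, `a` normalises `Z` and `a ^ (2 ^ k)`
centralises it. -/
theorem card_le_pow [Finite G] {Z : Subgroup G} (hc : ∀ x ∈ Z, ∀ y ∈ Z, x * y = y * x)
    (hs : ∀ x ∈ Z, x * x = 1) {a : G} (ha : ∀ x ∈ Z, a * x * a⁻¹ ∈ Z) (k : ℕ)
    (hk : ∀ x ∈ Z, a ^ 2 ^ k * x = x * a ^ 2 ^ k) :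
    Nat.card Z ≤ Nat.card ↥(Z ⊓ centralizer ({a} : Set G)) ^ 2 ^ k := by
  let _ : CommGroup Z := { (inferInstance : Group Z) with
    mul_comm := fun x y => Subtype.ext (hc x x.2 y y.2) }
  have hpow : ∀ (n : ℕ), ∀ x ∈ Z, a ^ n * x * (a ^ n)⁻¹ ∈ Z := by
    intro n
    induction n with
    | zero => intro x hx; simpa using hx
    | succ n ih =>
      intro x hx
      have e : a ^ (n + 1) * x * (a ^ (n + 1))⁻¹ = a * (a ^ n * x * (a ^ n)⁻¹) * a⁻¹ := by
        rw [pow_succ']; group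
      rw [e]; exact ha _ (ih x hx)
  -- the map `x ↦ [b, x]`
  let δ : ∀ b : G, (∀ x ∈ Z, b * x * b⁻¹ ∈ Z) → Z →* Z := fun b hb =>
    { toFun := fun x => ⟨b * x * b⁻¹ * (x : G)⁻¹, mul_mem (hb x x.2) (inv_mem x.2)⟩
      map_one' := Subtype.ext (by simp)
      map_mul' := by
        intro x y
        apply Subtype.ext
        change b * ((x * y : Z) : G) * b⁻¹ * ((x * y : Z) : G)⁻¹ =
          b * x * b⁻¹ * (x : G)⁻¹ * (b * y * b⁻¹ * (y : G)⁻¹)
        rw [Subgroup.coe_mul]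
        calc b * (x * y : G) * b⁻¹ * (x * y : G)⁻¹
            = (b * x * b⁻¹) * ((b * y * b⁻¹ * (y : G)⁻¹) * (x : G)⁻¹) := by group
          _ = (b * x * b⁻¹) * ((x : G)⁻¹ * (b * y * b⁻¹ * (y : G)⁻¹)) := by
              rw [hc _ (mul_mem (hb y y.2) (inv_mem y.2)) _ (inv_mem x.2)]
          _ = _ := by group }
  have hsq : ∀ (b : G) (hb : ∀ x ∈ Z, b * x * b⁻¹ ∈ Z) (hb2 : ∀ x ∈ Z, b * b * x * (b * b)⁻¹ ∈ Z)
      (x : Z), δ b hb (δ b hb x) = δ (b * b) hb2 x := by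
    intro b hb hb2 x
    apply Subtype.ext
    change b * (b * x * b⁻¹ * (x : G)⁻¹) * b⁻¹ * (b * x * b⁻¹ * (x : G)⁻¹)⁻¹ =
      b * b * x * (b * b)⁻¹ * (x : G)⁻¹
    have e1 : (b * x * b⁻¹)⁻¹ = b * x * b⁻¹ := inv_eq_of_mul_eq_one_left (hs _ (hb x x.2))
    have e2 : (x : G)⁻¹ = x := inv_eq_of_mul_eq_one_left (hs x x.2)
    calc b * (b * x * b⁻¹ * (x : G)⁻¹) * b⁻¹ * (b * x * b⁻¹ * (x : G)⁻¹)⁻¹
        = (b * b * x * (b * b)⁻¹) * ((b * x * b⁻¹)⁻¹ * ((x : G) * (b * x * b⁻¹)⁻¹)) := by group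
      _ = (b * b * x * (b * b)⁻¹) * ((b * x * b⁻¹) * ((x : G) * (b * x * b⁻¹))) := by rw [e1]
      _ = (b * b * x * (b * b)⁻¹) * ((b * x * b⁻¹) * ((b * x * b⁻¹) * x)) := by
          rw [hc x x.2 _ (hb x x.2)]
      _ = (b * b * x * (b * b)⁻¹) * (((b * x * b⁻¹) * (b * x * b⁻¹)) * x) := by group
      _ = b * b * x * (b * b)⁻¹ * (x : G)⁻¹ := by rw [hs _ (hb x x.2), one_mul, e2]
  have hit : ∀ (m : ℕ) (x : Z), (δ a ha : Z → Z)^[2 ^ m] x = δ (a ^ 2 ^ m) (hpow _) x := by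
    intro m
    induction m with
    | zero =>
      intro x
      rw [pow_zero, Function.iterate_one]
      apply Subtype.ext
      change a * x * a⁻¹ * (x : G)⁻¹ = a ^ 2 ^ 0 * x * (a ^ 2 ^ 0)⁻¹ * (x : G)⁻¹
      rw [pow_zero, pow_one]
    | succ m ih =>
      intro x
      have e : 2 ^ (m + 1) = 2 ^ m + 2 ^ m := by rw [pow_succ]; ring
      have e2 : a ^ 2 ^ (m + 1) = a ^ 2 ^ m * a ^ 2 ^ m := by rw [e, pow_add]
      rw [e, Function.iterate_add_apply, ih, ih,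
        hsq _ (hpow _) (fun x hx => by rw [← e2]; exact hpow _ x hx)]
      apply Subtype.ext
      change a ^ 2 ^ m * a ^ 2 ^ m * x * (a ^ 2 ^ m * a ^ 2 ^ m)⁻¹ * (x : G)⁻¹ =
        a ^ (2 ^ m + 2 ^ m) * x * (a ^ (2 ^ m + 2 ^ m))⁻¹ * (x : G)⁻¹
      rw [pow_add]
  have h1 := card_le_ker_pow (2 ^ k) (δ a ha) (fun x => by
    rw [hit]
    apply Subtype.ext
    change a ^ 2 ^ k * x * (a ^ 2 ^ k)⁻¹ * (x : G)⁻¹ = 1
    rw [comm_conj (hk x x.2), mul_inv_cancel])
  refine h1.trans (Nat.pow_le_pow_left ?_ _)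
  refine Nat.card_le_card_of_injective
    (fun x : (δ a ha).ker => (⟨((x : Z) : G), ?_⟩ : ↥(Z ⊓ centralizer ({a} : Set G)))) ?_
  · refine mem_inf.2 ⟨(x : Z).2, ?_⟩
    rw [mem_centralizer_singleton_iff]
    have hx := x.2
    rw [MonoidHom.mem_ker] at hx
    have h2 : a * ((x : Z) : G) * a⁻¹ * ((x : Z) : G)⁻¹ = 1 := congrArg Subtype.val hx
    exact (conj_comm (mul_inv_eq_one.1 h2)).symm
  · intro x y hxy
    have h3 := congrArg (fun t : ↥(Z ⊓ centralizer ({a} : Set G)) => (t : G)) hxy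
    exact Subtype.ext (Subtype.ext h3)

/-! ### Sylow subgroups -/

theorem syl_inf [Finite G] {T H N : Subgroup G} (hT : Syl T H) (hN : N ≤ H)
    (hn : ∀ h ∈ H, ∀ n ∈ N, h * n * h⁻¹ ∈ N) : Syl (T ⊓ N) N := by
  refine ⟨inf_le_right, hT.2.1.to_le inf_le_left, ?_⟩
  intro R hR h2 hTR
  obtain ⟨S, hS, hRS⟩ := exists_syl h2 (hR.trans hN)
  obtain ⟨x, hx, e⟩ := syl_conj hS hT
  have h1 : cj x R ≤ T ⊓ N := by
    rintro _ ⟨r, hr, rfl⟩
    refine ⟨?_, hn x hx r (hR hr)⟩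
    rw [← e]
    exact ⟨r, hRS hr, rfl⟩
  have h3 := Subgroup.card_le_of_le h1
  rw [card_cj] at h3
  exact (Subgroup.eq_of_le_of_card_ge hTR h3).symm

theorem syl_le {T H K : Subgroup G} (hT : Syl T H) (hTK : T ≤ K) (hKH : K ≤ H) : Syl T K :=
  ⟨hTK, hT.2.1, fun Q hQ hp hTQ => hT.2.2 Q (hQ.trans hKH) hp hTQ⟩

/-- `C_G(R)` is normalised by `N_G(R)`. -/
theorem conj_cent {R : Subgroup G} {g x : G} (hg : g ∈ normalizer (R : Set G))
    (hx : x ∈ centralizer (R : Set G)) : g * x * g⁻¹ ∈ centralizer (R : Set G) := by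
  rw [mem_centralizer_iff] at hx ⊢
  intro r hr
  have h1 : g⁻¹ * r * g ∈ R := by
    have := (mem_normalizer_iff.1 (inv_mem hg) r).1 hr
    rwa [inv_inv] at this
  have h2 := hx _ h1
  calc r * (g * x * g⁻¹) = g * ((g⁻¹ * r * g) * x) * g⁻¹ := by group
    _ = g * (x * (g⁻¹ * r * g)) * g⁻¹ := by rw [h2]
    _ = g * x * g⁻¹ * r := by group

/-- Frattini: `N_B(T₀)` induces on `R` what `B` does, if `T₀ ≤ C(R)` is Sylow in `B`. -/
theorem frattini [Finite G] {B T₀ R : Subgroup G} (hB : Syl T₀ B) (hTR : T₀ ≤ centralizer (R : Set G))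
    (hBR : B ≤ normalizer (R : Set G)) {b : G} (hb : b ∈ B) :
    ∃ d ∈ B, (∀ t ∈ T₀, d * t * d⁻¹ ∈ T₀) ∧ ∀ r ∈ R, d * r * d⁻¹ = b * r * b⁻¹ := by
  have hcj : cj b B = B := cj_eq_of_mem_normalizer (le_normalizer hb)
  have h1 : Syl (cj b T₀) B := by
    refine ⟨?_, isPGroup_cj b hB.2.1, fun Q hQ hp hT => ?_⟩
    · rw [← hcj]; exact cj_mono b hB.1
    · have h3 := cj_mono b⁻¹ hQ
      have h4 : cj b⁻¹ B = B := cj_eq_of_mem_normalizer (le_normalizer (inv_mem hb))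
      rw [h4] at h3
      have h2 := hB.2.2 (cj b⁻¹ Q) h3 (isPGroup_cj _ hp) (cj_le_iff.1 hT)
      rw [← h2, cj_cj_inv]
  have h2 : cj b T₀ ≤ centralizer (R : Set G) := by
    rintro _ ⟨t, ht, rfl⟩
    exact conj_cent (hBR hb) (hTR ht)
  obtain ⟨k, hk, e⟩ := syl_conj (syl_le h1 (le_inf h1.1 h2) inf_le_left)
    (syl_le hB (le_inf hB.1 hTR) inf_le_left : Syl T₀ (B ⊓ centralizer (R : Set G)))
  rw [cj_cj] at e
  refine ⟨k * b, mul_mem hk.1 hb, fun t ht => ?_, fun r hr => ?_⟩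
  · rw [← e]
    exact ⟨t, ht, rfl⟩
  · have h3 : b * r * b⁻¹ ∈ R := (mem_normalizer_iff.1 (hBR hb) r).1 hr
    calc k * b * r * (k * b)⁻¹ = k * (b * r * b⁻¹) * k⁻¹ := by group
      _ = b * r * b⁻¹ := comm_conj (mem_centralizer_iff.1 hk.2 _ h3).symm

/-! ### the theorem -/

/-- **#13866 (1)**, abstract form. `R` is a line with coordinates in `F`; `S'` is a Sylow 2-subgroup of
`N_G(R)`, `|S'| = 2 |T|`, both act semilinearly on `R` with the same number of fixed points and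
`Ω₁ Z(S') ≤ R`; `y ∈ T` centralises `R` and `C_T(R)`, `y ∉ R`, and there is a group `B ≤ N(R)`
centralising `y` and transitive on `R#` in which `C_T(R)` is Sylow.  Then `|F| = 2`. -/
theorem card_two [Finite G] {F : Type*} [Field F] [Finite F] [CharP F 2] {S' T R B : Subgroup G}
    {y : G} (L : LineF F R) (hS' : Syl S' (normalizer (R : Set G))) (hRS : R ≤ S')
    (hT2 : IsPGroup 2 T) (hRT : R ≤ T)
    (hcard : Nat.card S' = 2 * Nat.card T)
    (hSs : ∀ s ∈ S', L.Semi s) (hTs : ∀ t ∈ T, L.Semi t)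
    (hq : Nat.card ↥(R ⊓ centralizer (T : Set G)) = Nat.card ↥(R ⊓ centralizer (S' : Set G)))
    (hZ : ∀ x ∈ S', (∀ s ∈ S', s * x = x * s) → x * x = 1 → x ∈ R)
    (hyT : y ∈ T) (hyR : ∀ r ∈ R, y * r = r * y)
    (hyc : ∀ t ∈ T, (∀ r ∈ R, t * r = r * t) → t * y = y * t) (hyy : y * y = 1) (hynR : y ∉ R)
    (hB : Syl (T ⊓ centralizer (R : Set G)) B) (hBR : B ≤ normalizer (R : Set G))
    (hBy : ∀ b ∈ B, b * y = y * b)
    (hBt : ∀ r ∈ R, ∀ r' ∈ R, r ≠ 1 → r' ≠ 1 → ∃ b ∈ B, b * r * b⁻¹ = r') : Nat.card F = 2 := by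
  have hFin : 2 ≤ Nat.card F := Finite.one_lt_card
  have hRcard := L.card
  have hRc : ∀ r ∈ R, ∀ r' ∈ R, r * r' = r' * r := by
    intro r hr r' hr'
    obtain ⟨x, rfl⟩ := (L.mem r).1 hr
    obtain ⟨x', rfl⟩ := (L.mem r').1 hr'
    exact L.comm x x'
  have hRsq : ∀ r ∈ R, r * r = 1 := by
    intro r hr
    obtain ⟨x, rfl⟩ := (L.mem r).1 hr
    rw [← L.add, CharTwo.add_self_eq_zero, L.e_zero]
  set X : Subgroup G := centralizer (R : Set G) with hX
  have hRX : R ≤ X := fun r hr => mem_centralizer_iff.2 fun r' hr' => hRc r' hr' r hr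
  set T₀ := T ⊓ X with hT₀
  set Y := S' ⊓ X with hY
  have hmemX : ∀ {g : G}, g ∈ X ↔ ∀ r ∈ R, g * r = r * g := by
    intro g
    rw [hX, mem_centralizer_iff]
    exact ⟨fun h r hr => (h r hr).symm, fun h r hr => (h r hr).symm⟩
  have hXN : X ≤ normalizer (R : Set G) := centralizer_le_normalizer _
  have hYsyl : Syl Y X := syl_inf hS' hXN fun h hh n hn => conj_cent hh hn
  -- counting
  have h1 : Nat.card R = Nat.card ↥(R ⊓ centralizer (T : Set G)) ^ T₀.relIndex T :=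
    L.card_eq T hTs hT2
  have h2 : Nat.card R = Nat.card ↥(R ⊓ centralizer (S' : Set G)) ^ Y.relIndex S' :=
    L.card_eq S' hSs hS'.2.1
  have hq1 : 2 ≤ Nat.card ↥(R ⊓ centralizer (S' : Set G)) := by
    have h0 : 0 < Nat.card ↥(R ⊓ centralizer (S' : Set G)) := Nat.card_pos
    by_contra hcon
    have h3 : Nat.card ↥(R ⊓ centralizer (S' : Set G)) = 1 := by omega
    rw [h3, one_pow] at h2
    omega
  have hφ : T₀.relIndex T = Y.relIndex S' := by
    rw [h2, hq] at h1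
    exact (Nat.pow_right_injective hq1 h1).symm
  have h3 : Nat.card T₀ * T₀.relIndex T = Nat.card T := by
    have h := relIndex_mul_relIndex (⊥ : Subgroup G) T₀ T bot_le inf_le_left
    rwa [relIndex_bot_left, relIndex_bot_left] at h
  have h4 : Nat.card Y * Y.relIndex S' = Nat.card S' := by
    have h := relIndex_mul_relIndex (⊥ : Subgroup G) Y S' bot_le inf_le_left
    rwa [relIndex_bot_left, relIndex_bot_left] at h
  have hpos : 0 < Y.relIndex S' := Nat.pos_of_ne_zero (by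
    intro h0
    rw [h0, mul_zero] at h4
    have : 0 < Nat.card S' := Nat.card_pos
    omega)
  have hYcard : Nat.card Y = 2 * Nat.card T₀ := by
    have h5 : Nat.card Y * Y.relIndex S' = (2 * Nat.card T₀) * Y.relIndex S' := by
      rw [h4, hcard, ← h3, hφ]; ring
    exact Nat.eq_of_mul_eq_mul_right hpos h5
  -- `Ω₁ Z(Y) = R`
  have hRY : R ≤ Y := le_inf hRS hRX
  have hRz : R ≤ zc Y := by
    intro r hr
    refine Cfsg.Agent.ZN.mem_zc.2 ⟨hRY hr, fun b hb => hmemX.1 hb.2 r hr, ?_⟩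
    rw [pow_two]; exact hRsq r hr
  obtain ⟨a, haS, hagen⟩ := L.exists_gen S' hSs hS'.2.1
  have hYN : (Y.subgroupOf S').Normal := by
    constructor
    intro n hn g
    rw [mem_subgroupOf] at hn ⊢
    exact mem_inf.2 ⟨(g * n * g⁻¹).2, conj_cent (hS'.1 g.2) hn.2⟩
  obtain ⟨k, hk⟩ : ∃ k, Y.relIndex S' = 2 ^ k := by
    obtain ⟨n, hn⟩ := hS'.2.1.exists_card_eq
    have h5 : Y.relIndex S' ∣ 2 ^ n := by
      rw [← hn, ← h4]; exact dvd_mul_left _ _
    obtain ⟨k, -, hk⟩ := (Nat.dvd_prime_pow Nat.prime_two).1 h5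
    exact ⟨k, hk⟩
  have hak : a ^ 2 ^ k ∈ Y := by
    have h5 := Subgroup.pow_index_mem (Y.subgroupOf S') (⟨a, haS⟩ : S')
    rw [mem_subgroupOf] at h5
    rw [← hk]
    exact h5
  have hSNz : S' ≤ normalizer ((zc Y : Subgroup G) : Set G) := by
    refine le_trans ?_ (normalizer_le_normalizer_zc Y)
    exact (normal_subgroupOf_iff_le_normalizer inf_le_left).1 hYN
  have h5 := card_le_pow (Z := zc Y) (fun x hx y hy => zc_comm hy (ZN.zc_le Y hx))
    (fun x hx => by rw [← pow_two]; exact zc_sq hx) (a := a)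
    (fun x hx => (mem_normalizer_iff.1 (hSNz haS) x).1 hx) k
    (fun x hx => zc_comm hx hak)
  have h6 : zc Y ⊓ centralizer ({a} : Set G) ≤ R ⊓ centralizer (S' : Set G) := by
    intro x hxx
    obtain ⟨hx, hxa⟩ := mem_inf.1 hxx
    rw [mem_centralizer_singleton_iff] at hxa
    have hxS : ∀ s ∈ S', s * x = x * s := by
      intro s hs
      obtain ⟨n, hn⟩ := hagen s hs
      have hY' : a ^ n * s ∈ Y := mem_inf.2 ⟨mul_mem (zpow_mem haS n) hs, hmemX.2 hn⟩
      have h7 : (a ^ n * s) * x = x * (a ^ n * s) := zc_comm hx hY'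
      have h8 : a ^ n * x = x * a ^ n := ((show Commute a x from hxa.symm).zpow_left n).eq
      have h9 : a ^ n * (s * x) = a ^ n * (x * s) := by
        calc a ^ n * (s * x) = (a ^ n * s) * x := by group
          _ = (x * a ^ n) * s := by rw [h7]; group
          _ = a ^ n * (x * s) := by rw [← h8]; group
      exact mul_left_cancel h9
    refine mem_inf.2 ⟨hZ x (ZN.zc_le Y hx).1 hxS ?_, mem_centralizer_iff.2 fun s hs => hxS s hs⟩
    rw [← pow_two]; exact zc_sq hx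
  have hzcR : R = zc Y := by
    refine Subgroup.eq_of_le_of_card_ge hRz ?_
    calc Nat.card (zc Y) ≤ Nat.card ↥(zc Y ⊓ centralizer ({a} : Set G)) ^ 2 ^ k := h5
      _ ≤ Nat.card ↥(R ⊓ centralizer (S' : Set G)) ^ 2 ^ k :=
          Nat.pow_le_pow_left (card_le_of_le h6) _
      _ = Nat.card R := by rw [h2, hk]
  -- a Sylow 2-subgroup of `X` containing `T₀`
  have hT₀2 : IsPGroup 2 T₀ := hT2.to_le inf_le_left
  obtain ⟨S₁, hS₁, hT₀S₁⟩ := exists_syl hT₀2 (inf_le_right : T₀ ≤ X)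
  obtain ⟨x, hx, hxS₁⟩ := syl_conj hYsyl hS₁
  have hS₁card : Nat.card S₁ = 2 * Nat.card T₀ := by rw [← hxS₁, card_cj, hYcard]
  have hrel : T₀.relIndex S₁ = 2 := by
    have h := relIndex_mul_relIndex (⊥ : Subgroup G) T₀ S₁ bot_le hT₀S₁
    rw [relIndex_bot_left, relIndex_bot_left, hS₁card, mul_comm 2] at h
    exact Nat.eq_of_mul_eq_mul_left Nat.card_pos h
  have hnd : ¬ 4 * Nat.card T₀ ∣ Nat.card X := by
    intro hd
    have h := relIndex_mul_relIndex (⊥ : Subgroup G) S₁ X bot_le hS₁.1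
    rw [relIndex_bot_left, relIndex_bot_left, hS₁card] at h
    rw [← h] at hd
    have h7 : (2 * Nat.card T₀) * 2 ∣ (2 * Nat.card T₀) * S₁.relIndex X := by
      have e : (2 * Nat.card T₀) * 2 = 4 * Nat.card T₀ := by ring
      rw [e]; exact hd
    exact syl_not_dvd hS₁ (Nat.dvd_of_mul_dvd_mul_left (by
      have : 0 < Nat.card T₀ := Nat.card_pos
      omega) h7)
  have hline := MixedK.line_eq (T₀ := T₀) (X₁ := S₁) (X := X) (R := R) (y := y) hT₀2 hT₀S₁ hS₁.1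
    hrel (le_inf hRT hRX) (fun g hg r hr => hmemX.1 hg r hr)
    (fun w hw hwc hww => by
      rw [← hxS₁] at hw
      obtain ⟨v, hv, rfl⟩ := hw
      change x * v * x⁻¹ ∈ R
      have hvz : v ∈ zc Y := by
        refine Cfsg.Agent.ZN.mem_zc.2 ⟨hv, fun b hb => ?_, ?_⟩
        · have h7 := hwc (x * b * x⁻¹) (by rw [← hxS₁]; exact ⟨b, hb, rfl⟩)
          change x * b * x⁻¹ * (x * v * x⁻¹) = x * v * x⁻¹ * (x * b * x⁻¹) at h7
          calc b * v = x⁻¹ * (x * b * x⁻¹ * (x * v * x⁻¹)) * x := by group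
            _ = x⁻¹ * (x * v * x⁻¹ * (x * b * x⁻¹)) * x := by rw [h7]
            _ = v * b := by group
        · rw [pow_two]
          change x * v * x⁻¹ * (x * v * x⁻¹) = 1 at hww
          calc v * v = x⁻¹ * (x * v * x⁻¹ * (x * v * x⁻¹)) * x := by group
            _ = 1 := by rw [hww]; group
      rw [← hzcR] at hvz
      rw [comm_conj (hmemX.1 hx v hvz)]
      exact hvz)
    (mem_inf.2 ⟨hyT, hmemX.2 hyR⟩) (fun t ht => hyc t ht.1 (hmemX.1 ht.2)) hyy hynR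
    (fun r hr r' hr' hr1 hr1' => by
      obtain ⟨b, hb, hbr⟩ := hBt r hr r' hr' hr1 hr1'
      obtain ⟨d, hd, hd1, hd2⟩ := frattini hB inf_le_right hBR hb
      exact ⟨d, by rw [hd2 r hr, hbr], hBy d hd, hd1, fun w hw => conj_cent (hBR hd) hw⟩)
    hnd
  -- `|R| ≤ 2`
  by_contra hne
  have h3F : 3 ≤ Nat.card F := by omega
  have hF0 : Fintype F := Fintype.ofFinite F
  obtain ⟨c, hc0, hc1⟩ : ∃ c : F, c ≠ 0 ∧ c ≠ 1 := by
    classical
    by_contra hcon
    push Not at hcon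
    have h7 : (Finset.univ : Finset F) ⊆ {0, 1} := by
      intro c _
      by_cases h0 : c = 0
      · simp [h0]
      · simp [hcon c h0]
    have h8 := Finset.card_le_card h7
    have h9 : ({0, 1} : Finset F).card ≤ 2 := Finset.card_le_two
    rw [Finset.card_univ, ← Nat.card_eq_fintype_card] at h8
    omega
  have h7 := hline (L.e c) (L.e_mem c) (L.e 1) (L.e_mem 1)
    (fun h => hc0 (L.inj (h.trans L.e_zero.symm)))
    (fun h => one_ne_zero (L.inj (h.trans L.e_zero.symm)))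
  exact hc1 (L.inj h7)

end Cfsg.Agent.Omega.IId.KOne
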