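import Cfsg.Agent.Mrg.Omega.IId.Fac
import Cfsg.Agent.Mrg.Omega.Half.Basic

section


/-!
# Matching of the lines of a mutual pair, and `|I| = 2`, `k, k' ≤ 2` (job 168 of OMEGA; #11954 helper7, #12388 helper358)

`M : NatK F S P V ⊥ k`, `M' : NatK F' S' P' V' ⊥ k'`; `V'` induces on `V` the full root group of `SL₂(F)^I`, `V` on
`V'` the full root group of `SL₂(F')^I'`.

* `Pair.exists_mutual`, `Hyp.typed'` : from a pair in normal position back to a mutual pair;
* `exists_match` : for `i ∈ I` there is `j ∈ I'` with `line M i = line M' j`, and the elements of `fac M i` which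
  act nontrivially act on `V'` as nontrivial root elements of the factor `j`;
* `wrTwo_small` : `k = 2`, `k' ≤ 2`: `|[V, V']| = q`.
-/

set_option autoImplicit false

namespace Cfsg.Agent.Omega.IId

open Subgroup Pointwise Cfsg Cfsg.Agent.ZN Cfsg.Agent.ZN.ChoiceBase
open Cfsg.Agent.Omega.MinPar Cfsg.Agent.Omega.Frame Cfsg.Agent.Omega.FFThm Cfsg.Agent.Omega.FrameMulti
open Cfsg.Agent.Lib.SL2Mat
open Cfsg.Agent.Omega.NatPair (ap)
open scoped commutatorElement

universe u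

/-! ### From normal position to mutual pairs -/

section mutpair

variable {G : Type u} [Group G] [Finite G]

theorem Pair.exists_mutual {S S' : Sylow 2 G} {P P' : Subgroup G} (h : Pair S S' P P') :
    ∃ (y : G) (P₂ : Subgroup G), S' = sy y S ∧ P' = ChoiceBase.cj y P₂ ∧ Mutual (S : Subgroup G) P P₂ y := by
  have : Fact (Nat.Prime 2) := ⟨Nat.prime_two⟩
  obtain ⟨y, hy⟩ := MulAction.exists_smul_eq G S S'
  have hy' : S' = sy y S := by
    rw [← hy]
    rfl
  have e1 : ChoiceBase.cj y⁻¹ (S' : Subgroup G) = (S : Subgroup G) := by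
    rw [hy', sy_coe, cj_inv_cj]
  have h2 : P' = ChoiceBase.cj y (ChoiceBase.cj y⁻¹ P') := (cj_cj_inv y P').symm
  have h3 : IsParS (S : Subgroup G) (ChoiceBase.cj y⁻¹ P') := by
    have := isParS_cj h.star' y⁻¹
    rwa [e1] at this
  have h4 : ChoiceBase.cj y (zl (S : Subgroup G) (ChoiceBase.cj y⁻¹ P')) = zl (S' : Subgroup G) P' := by
    rw [← zl_cj, ← h2, ← sy_coe, ← hy']
  refine ⟨y, ChoiceBase.cj y⁻¹ P', hy', h2, h.star, h3, ?_, ?_, ?_⟩
  · change _ ≤ normalizer ((ChoiceBase.cj y _ : Subgroup G) : Set G)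
    rw [h4]
    exact h.le'.trans (h.star'.le.trans (Cfsg.Agent.MinSimple.VModule.le_normalizer_zl _ _))
  · change ChoiceBase.cj y _ ≤ _
    rw [h4]
    exact h.le.trans (h.star.le.trans (Cfsg.Agent.MinSimple.VModule.le_normalizer_zl _ _))
  · change ⁅_, ChoiceBase.cj y _⁆ ≠ ⊥
    rw [h4]
    exact h.ne

theorem Hyp.typed' {K : Cls.{u}} {S S' : Sylow 2 G} {P P' : Subgroup G} (hH : Hyp K S) (h : Pair S S' P P') :
    Typed (S : Subgroup G) P ∧ Typed (S' : Subgroup G) P' := by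
  obtain ⟨y, P₂, h1, h2, hm⟩ := h.exists_mutual
  obtain ⟨t1, t2⟩ := hH.typed P P₂ y hm
  refine ⟨t1, ?_⟩
  rw [h1, h2, sy_coe]
  exact typed_cj t2 y

end mutpair

/-! ### Matching -/

section basic

variable {G : Type u} [Group G] {F : Type} [Field F] {S P : Subgroup G} {k : ℕ}
  {M : NatK F S P (zl S P) ⊥ k} {A : Subgroup G} {I : Set (Fin k)}

theorem lines_ne_bot {I : Set (Fin k)} (h : lines M I ≠ ⊥) : I.Nonempty := by
  by_contra h0
  rw [Set.not_nonempty_iff_eq_empty] at h0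
  apply h
  rw [h0, eq_bot_iff]
  intro v hv
  have := lines_le M ∅ hv
  rwa [part_empty] at this

theorem line_ne_bot (i : Fin k) : line M i ≠ ⊥ := by
  obtain ⟨v, hv, h⟩ := exists_fac M i ![1, 0]
  intro h0
  have h1 : v ∈ line M i := (mem_line M).2 ⟨hv, by rw [h]; rfl⟩
  rw [h0, mem_bot] at h1
  rw [h1, e_one] at h
  exact one_ne_zero (congrFun h 0).symm

theorem line_inj {i j : Fin k} (h : line M i ≤ line M j) : i = j := by
  by_contra hij
  apply line_ne_bot (M := M) i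
  rw [eq_bot_iff, ← fac_inf M hij]
  exact le_inf (line_le M i) (h.trans (line_le M j))

/-- `{[v, a] | a ∈ A}` for `v` in a factor. -/
theorem Ind.mem_line_iff (h : Ind M A I) (hA : A ≤ P) {i : Fin k} (hi : i ∈ I) {v : G} (hv : v ∈ fac M i)
    (hv1 : M.e v i 1 ≠ 0) {w : G} : w ∈ line M i ↔ ∃ a ∈ A, ⁅v, a⁆ = w := by
  classical
  constructor
  · intro hw
    rw [mem_line] at hw
    obtain ⟨a, ha, hact⟩ := h.ex (fun j => if j = i then -(M.e w i 0 / M.e v i 1) else 0) fun j hj => by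
      rw [if_neg]
      rintro rfl
      exact hj hi
    refine ⟨a, ha, ?_⟩
    refine e_inj M (e_comm hv.1 (hA ha) hact i).1 hw.1.1 (funext fun j => ?_)
    obtain ⟨-, h2, h3⟩ := e_comm hv.1 (hA ha) hact j
    by_cases hj : j = i
    · subst hj
      apply NatPair.ext2
      · rw [h2, if_pos rfl]
        field_simp
      · rw [h3, hw.2]
    · apply NatPair.ext2
      · rw [h2, if_neg hj, hw.1.2 j hj]
        simp
      · rw [h3, hw.1.2 j hj]
        rfl
  · rintro ⟨a, ha, rfl⟩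
    obtain ⟨b, hb, hact⟩ := h.act a ha
    rw [mem_line]
    refine ⟨⟨(e_comm hv.1 (hA ha) hact i).1, fun j hj => ?_⟩, (e_comm hv.1 (hA ha) hact i).2.2⟩
    obtain ⟨-, h2, h3⟩ := e_comm hv.1 (hA ha) hact j
    apply NatPair.ext2
    · rw [h2, hv.2 j hj]
      simp
    · rw [h3]
      rfl

/-- `{[v, a] | a ∈ V}` for `v` acting as `up c`. -/
theorem mem_lines_iff {v : G} (hv : v ∈ P) {c : Fin k → F} (hc : ActsSL M.e (zl S P) ⊥ v fun i => up (c i))
    (hk : 0 < k) {w : G} : w ∈ lines M {j | c j ≠ 0} ↔ ∃ a ∈ zl S P, ⁅v, a⁆ = w := by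
  classical
  have key : ∀ a ∈ zl S P, ⁅v, a⁆ ∈ zl S P ∧ ∀ j, M.e ⁅v, a⁆ j 0 = c j * M.e a j 1 ∧ M.e ⁅v, a⁆ j 1 = 0 := by
    intro a ha
    have e : ⁅v, a⁆ = ⁅a, v⁆⁻¹ := (commutatorElement_inv a v).symm
    have h0 := (e_comm ha hv hc ⟨0, hk⟩).1
    rw [e]
    refine ⟨inv_mem h0, fun j => ?_⟩
    obtain ⟨-, h2, h3⟩ := e_comm ha hv hc j
    rw [e_inv M h0, Pi.neg_apply, Pi.neg_apply, Pi.neg_apply, h2, h3, neg_neg, neg_zero]
    exact ⟨rfl, rfl⟩
  constructor
  · intro hw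
    obtain ⟨a, ha, hae⟩ := M.surj fun j => ![0, M.e w j 0 / c j]
    refine ⟨a, ha, ?_⟩
    refine e_inj M (key a ha).1 hw.1.1 (funext fun j => ?_)
    obtain ⟨h2, h3⟩ := (key a ha).2 j
    apply NatPair.ext2
    · rw [h2, hae]
      by_cases hj : c j = 0
      · have : M.e w j = 0 := hw.1.2 j fun h => h hj
        rw [this, hj]
        simp
      · change c j * (M.e w j 0 / c j) = _
        field_simp
    · rw [h3, hw.2]
  · rintro ⟨a, ha, rfl⟩
    refine ⟨⟨(key a ha).1, fun j hj => ?_⟩, fun j => ((key a ha).2 j).2⟩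
    have hj' : c j = 0 := by
      by_contra h
      exact hj h
    apply NatPair.ext2
    · rw [((key a ha).2 j).1, hj', zero_mul]
      rfl
    · rw [((key a ha).2 j).2]
      rfl

end basic

section pair

variable {G : Type u} [Group G] {F F' : Type} [Field F] [Field F'] {S P S' P' : Subgroup G} {k k' : ℕ}
  {M : NatK F S P (zl S P) ⊥ k} {M' : NatK F' S' P' (zl S' P') ⊥ k'} {I : Set (Fin k)} {I' : Set (Fin k')}

theorem exists_J (hI : Ind M (zl S' P') I) (hI' : Ind M' (zl S P) I') (hVP : zl S' P' ≤ P) (hVP' : zl S P ≤ P')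
    (hk' : 0 < k') {i : Fin k} (hi : i ∈ I) {v : G} (hv : v ∈ fac M i) (hv1 : M.e v i 1 ≠ 0) :
    ∃ c : Fin k' → F', (∀ j, j ∉ I' → c j = 0) ∧ ActsSL M'.e (zl S' P') ⊥ v (fun j => up (c j)) ∧
      line M i = lines M' {j | c j ≠ 0} := by
  obtain ⟨c, hc, hact⟩ := hI'.act v hv.1
  refine ⟨c, hc, hact, ?_⟩
  ext w
  rw [hI.mem_line_iff hVP hi hv hv1, mem_lines_iff (hVP' hv.1) hact hk']

/-- **Matching of the lines.** -/
theorem exists_match (hI : Ind M (zl S' P') I) (hI' : Ind M' (zl S P) I') (hVP : zl S' P' ≤ P)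
    (hVP' : zl S P ≤ P') (hk' : 0 < k') {i : Fin k} (hi : i ∈ I) :
    ∃ j ∈ I', line M i = line M' j ∧ ∀ v ∈ fac M i, M.e v i 1 ≠ 0 →
      ∃ c : Fin k' → F', c j ≠ 0 ∧ (∀ l, l ≠ j → c l = 0) ∧ ActsSL M'.e (zl S' P') ⊥ v fun l => up (c l) := by
  have hk : 0 < k := Nat.pos_of_ne_zero fun h => by subst h; exact i.elim0
  obtain ⟨v, hv, hve⟩ := exists_fac M i ![0, 1]
  have hv1 : M.e v i 1 ≠ 0 := by rw [hve]; exact one_ne_zero
  obtain ⟨c, hc, hact, hline⟩ := exists_J hI hI' hVP hVP' hk' hi hv hv1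
  obtain ⟨j, hj⟩ := lines_ne_bot (M := M') (hline ▸ line_ne_bot (M := M) i)
  have hjI : j ∈ I' := by
    by_contra h
    exact hj (hc j h)
  -- the other way round
  have hle : line M' j ≤ line M i := by
    rw [hline]
    exact lines_mono M' (Set.singleton_subset_iff.2 hj)
  obtain ⟨v', hv', hve'⟩ := exists_fac M' j ![0, 1]
  have hv1' : M'.e v' j 1 ≠ 0 := by rw [hve']; exact one_ne_zero
  obtain ⟨c', hc', hact', hline'⟩ := exists_J hI' hI hVP' hVP hk hjI hv' hv1'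
  obtain ⟨i', hi'⟩ := lines_ne_bot (M := M) (hline' ▸ line_ne_bot (M := M') j)
  have hle' : line M i' ≤ line M' j := by
    rw [hline']
    exact lines_mono M (Set.singleton_subset_iff.2 hi')
  have hii : i' = i := line_inj (hle'.trans hle)
  rw [hii] at hle'
  have heq : line M i = line M' j := le_antisymm hle' hle
  refine ⟨j, hjI, heq, fun u hu hu1 => ?_⟩
  obtain ⟨d, hd, hdact, hdline⟩ := exists_J hI hI' hVP hVP' hk' hi hu hu1
  have h1 : ∀ l, l ≠ j → d l = 0 := by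
    intro l hl
    by_contra h
    apply hl
    have h2 : line M' l ≤ line M i := by
      rw [hdline]
      exact lines_mono M' (Set.singleton_subset_iff.2 h)
    rw [heq] at h2
    exact line_inj h2
  refine ⟨d, ?_, h1, hdact⟩
  obtain ⟨l, hl⟩ := lines_ne_bot (M := M') (hdline ▸ line_ne_bot (M := M) i)
  by_cases hlj : l = j
  · rw [← hlj]; exact hl
  · exact absurd (h1 l hlj) hl

end pair

/-! ### `k = 2`, `k' ≤ 2`, `|I| = 2` -/

section two

variable {G : Type u} [Group G] [Finite G] {F F' : Type} [Field F] [Finite F] [Field F'] {k' : ℕ}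

/-- **Corollary of the HALF LEMMA** (#11954): `k = 2`, `k' ≤ 2`: `|[V, V']| = q`. -/
theorem wrTwo_small (hc : IsCharacteristicTwoType G) {S S' : Sylow 2 G} {P P' : Subgroup G} (h : Pair S S' P P')
    (hT : NoOver (zl (S : Subgroup G) P) P) (hT' : NoOver (zl (S' : Subgroup G) P') P')
    (M : NatK F (S : Subgroup G) P (zl (S : Subgroup G) P) ⊥ 2)
    (M' : NatK F' (S' : Subgroup G) P' (zl (S' : Subgroup G) P') ⊥ k') (hk' : 1 ≤ k') (hk2 : k' ≤ 2) :
    Nat.card ↥⁅zl (S : Subgroup G) P, zl (S' : Subgroup G) P'⁆ = Nat.card F := by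
  by_contra hcard
  obtain ⟨I, hI⟩ := exists_ind M h.le (h.off hc hT')
  obtain ⟨I', hI'⟩ := exists_ind M' h.le' (h.symm.off hc hT)
  have hVP : zl (S' : Subgroup G) P' ≤ P := h.le.trans h.star.le
  have hVP' : zl (S : Subgroup G) P ≤ P' := h.le'.trans h.star'.le
  have hcomm := hI.commutator_eq hVP
  -- `I` is everything
  have hIuniv : ∀ i, i ∈ I := by
    have hne : I.Nonempty := lines_ne_bot (M := M) (hcomm ▸ h.ne)
    obtain ⟨i, hi⟩ := hne
    by_contra hcon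
    push Not at hcon
    obtain ⟨j, hj⟩ := hcon
    apply hcard
    have hij : i ≠ j := fun e => hj (e ▸ hi)
    have hIi : I = {i} := by
      ext x
      constructor
      · intro hx
        have hxj : x ≠ j := fun e => hj (e ▸ hx)
        show x = i
        clear hcomm hcard hI hi hj hx
        revert x i j
        decide
      · intro hx
        rw [hx]
        exact hi
    rw [hcomm, hIi]
    exact card_line M i
  obtain ⟨j₀, -, hl₀, -⟩ := exists_match hI hI' hVP hVP' (by omega) (hIuniv 0)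
  obtain ⟨j₁, -, hl₁, hact⟩ := exists_match hI hI' hVP hVP' (by omega) (hIuniv 1)
  have hj : j₀ ≠ j₁ := by
    rintro rfl
    have := line_inj (M := M) (hl₀.trans hl₁.symm).le
    exact absurd this (by decide)
  obtain rfl : k' = 2 := by
    have h1 := j₀.2
    have h2 := j₁.2
    have h3 : j₀.val ≠ j₁.val := fun e => hj (Fin.ext e)
    omega
  -- an element of the common line
  obtain ⟨z, hz, hz1⟩ : ∃ z ∈ line M 0, z ≠ 1 := by
    by_contra hcon
    push Not at hcon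
    exact line_ne_bot (M := M) 0 ((eq_bot_iff_forall _).2 hcon)
  have hz' : z ∈ line M' j₀ := hl₀ ▸ hz
  -- a noncommuting pair
  obtain ⟨v, hv, hve⟩ := exists_fac M 1 ![0, 1]
  obtain ⟨c, hcj, -, hca⟩ := hact v hv (by rw [hve]; exact one_ne_zero)
  obtain ⟨a, ha, hae⟩ := exists_fac M' j₁ ![0, 1]
  have hne : v * a ≠ a * v := by
    intro h0
    have h1 := (e_comm ha.1 (hVP' hv.1) hca j₁).2.1
    have h2 : ⁅a, v⁆ = 1 := commutatorElement_eq_one_iff_mul_comm.2 h0.symm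
    rw [h2, e_one, hae] at h1
    apply hcj
    have h3 : (0 : F') = -(c j₁ * 1) := h1
    rw [mul_one] at h3
    exact (neg_eq_zero.1 h3.symm)
  apply hne
  have h1 := (Half.NatA.app_two' hc S M h.star.isLoc (i := 0) (j := 1) (by decide) (v := z) hz.1.1
    (fun x hx => hz.1.2 x hx) hz1 (w := v) hv.1 fun x hx => hv.2 x hx).2
  have h2 := (Half.NatA.app_two' hc S' M' h.star'.isLoc (i := j₀) (j := j₁) hj (v := z) hz'.1.1
    (fun x hx => hz'.1.2 x hx) hz1 (w := a) ha.1 fun x hx => ha.2 x hx).1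
  exact (mem_centralizer_iff.1 h1 a h2).symm

/-- `WrTwo` for `k = 2`, `k' ≤ 2`. -/
theorem wrTwo_of_le {K : Cls.{u}} {S S' : Sylow 2 G} (hH : Hyp K S) {P P' : Subgroup G} (h : Pair S S' P P')
    (M : NatK F (S : Subgroup G) P (zl (S : Subgroup G) P) ⊥ 2)
    (M' : NatK F' (S' : Subgroup G) P' (zl (S' : Subgroup G) P') ⊥ k') (hk' : 1 ≤ k') (hk2 : k' ≤ 2)
    (hne : Nat.card ↥⁅zl (S : Subgroup G) P, zl (S' : Subgroup G) P'⁆ ≠ Nat.card F) : False :=
  hne (wrTwo_small hH.ctx.char2 h (hH.typed' h).1.noOver (hH.typed' h).2.noOver M M' hk' hk2)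

end two

end Cfsg.Agent.Omega.IId

end

section


/-!
# The standing hypotheses `Hyp K S` of II.d for another Sylow 2-subgroup

* `Hyp.conj : Hyp K S → Hyp K S'`.
-/

set_option autoImplicit false

namespace Cfsg.Agent.Omega.IId

open Subgroup Pointwise Cfsg Cfsg.Agent.ZN.ChoiceBase
open Cfsg.Agent.ZN (o2 zc zl)
open Cfsg.Agent.Omega.MinPar Cfsg.Agent.Omega.Frame Cfsg.Agent.Omega.FFThm Cfsg.Agent.Omega.FrameMulti
open Cfsg.Agent.Omega.FrameLE (AllIn)
open Cfsg.Agent.Omega.FrameNOFF (CZ)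

universe u

variable {G : Type u} [Group G] [Finite G]

omit [Finite G] in
/-- A mutual pair over `S'` gives one over `S`. -/
theorem mutual_cj {S S' : Subgroup G} {P₁ P₂ : Subgroup G} {x y : G} (hS : ZN.ChoiceBase.cj y S = S')
    (h : Mutual S' P₁ P₂ x) : Mutual S (ZN.ChoiceBase.cj y⁻¹ P₁) (ZN.ChoiceBase.cj y⁻¹ P₂) (y⁻¹ * x * y) := by
  have e1 : ZN.ChoiceBase.cj y⁻¹ S' = S := by rw [← hS, cj_inv_cj]
  have e2 : ∀ P, zl S (ZN.ChoiceBase.cj y⁻¹ P) = ZN.ChoiceBase.cj y⁻¹ (zl S' P) := by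
    intro P
    rw [← zl_cj, e1]
  have e3 : ∀ A : Subgroup G, ZN.ChoiceBase.cj (y⁻¹ * x * y) (ZN.ChoiceBase.cj y⁻¹ A) =
      ZN.ChoiceBase.cj y⁻¹ (ZN.ChoiceBase.cj x A) := by
    intro A
    rw [cj_cj, cj_cj]
    congr 1
    group
  have star : ∀ {P}, IsParS S' P → IsParS S (ZN.ChoiceBase.cj y⁻¹ P) := by
    intro P hP
    have := isParS_cj hP y⁻¹
    rwa [e1] at this
  refine ⟨star h.star₁, star h.star₂, ?_, ?_, ?_⟩
  · change _ ≤ normalizer ((ZN.ChoiceBase.cj _ _ : Subgroup G) : Set G)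
    rw [e2, e2, e3, ← cj_normalizer]
    exact cj_mono _ h.le₁
  · change ZN.ChoiceBase.cj _ _ ≤ _
    rw [e2, e2, e3, ← cj_normalizer]
    exact cj_mono _ h.le₂
  · change ⁅_, ZN.ChoiceBase.cj _ _⁆ ≠ ⊥
    rw [e2, e2, e3]
    intro h0
    apply h.ne
    have h1 : ZN.ChoiceBase.cj y⁻¹ ⁅zl S' P₁, ZN.ChoiceBase.cj x (zl S' P₂)⁆ = ⊥ := by
      change Subgroup.map _ _ = _
      rw [Subgroup.map_commutator]
      exact h0
    have h2 := congrArg (ZN.ChoiceBase.cj y) h1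
    rw [cj_cj_inv] at h2
    change ⁅zl S' P₁, ZN.ChoiceBase.cj x (zl S' P₂)⁆ = ⊥
    rw [h2]
    exact Subgroup.map_bot _

/-- **`Hyp K S'` from `Hyp K S`.** -/
theorem Hyp.conj {K : Cls.{u}} {S : Sylow 2 G} (h : Hyp K S) (S' : Sylow 2 G) : Hyp K S' := by
  have : Fact (Nat.Prime 2) := ⟨Nat.prime_two⟩
  obtain ⟨y, hy⟩ := MulAction.exists_smul_eq G S S'
  have hS : ZN.ChoiceBase.cj y (S : Subgroup G) = (S' : Subgroup G) := by
    rw [← hy]; rfl
  have e1 : ZN.ChoiceBase.cj y⁻¹ (S' : Subgroup G) = (S : Subgroup G) := by rw [← hS, cj_inv_cj]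
  refine ⟨h.ctx, h.cls, Two.full_conj h.full, ?_, ?_⟩
  · intro P hP
    have h1 := isParS_cj hP y⁻¹
    rw [e1] at h1
    have h2 := cj_mono y (h.allIn _ h1)
    have e2 : zc (ZN.ChoiceBase.cj y (S : Subgroup G)) = ZN.ChoiceBase.cj y (zc (S : Subgroup G)) :=
      ZN.zc_map _ (MulAut.conj y).injective _
    rw [← zl_cj, cj_cj_inv, hS, ← ZN.ChoiceSit.o2_cj] at h2
    refine h2.trans_eq ?_
    congr 1
    change ZN.ChoiceBase.cj y (centralizer (zc (S : Subgroup G) : Set G)) = centralizer (zc (S' : Subgroup G) : Set G)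
    rw [cj_centralizer, ← e2, hS]
  · intro P₁ P₂ x hm
    obtain ⟨t1, t2⟩ := h.typed _ _ _ (mutual_cj hS hm)
    have k1 := typed_cj t1 y
    have k2 := typed_cj t2 y
    rw [cj_cj_inv, hS] at k1 k2
    exact ⟨k1, k2⟩

end Cfsg.Agent.Omega.IId

end
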