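import Cfsg.Agent.ZN.ChoiceBase
import Cfsg.Agent.ZN.Facts

section


/-!
# THEOREM J for all `q` (OMEGA, II.d; helper895 #13722, last line of (3); helper766 #14072 (F9))

The version of `ThmJ.lean` in lines instead of points.  `V₁`, `V₂` are the two factors of
`V = V₁ × V₂`, `𝓛₁`, `𝓛₂` their sets of `F_q`-lines, `H R` is `N_G(R)` or `C_G(R)`,
`N_R := ⟨V₂^{H(R)}⟩` for `R ∈ 𝓛₁` and `N_{R₂} := ⟨V₁^{H(R₂)}⟩` for `R₂ ∈ 𝓛₂`.

* `Side H V₁ V₂ 𝓛₁` : the facts on the lines `R` of `V₁`;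
* `inf_le_FF` (0), `EE_inf_FF` (1), `two` (2), `three` (3), `four` (4);
* `thmJ` : `N_R ∩ N_{R₂} = R R₂`, or some `x ∈ N_{R₂}` satisfies `1 ≠ [x, N_R] ≤ R₂`.
-/

set_option autoImplicit false

namespace Cfsg.Agent.Omega.IId.ThmJQ

open Subgroup Cfsg Cfsg.Agent.ZN Cfsg.Agent.ZN.ChoiceBase

universe u

variable {G : Type u} [Group G]

/-- `H R` is `N_G(R)` or `C_G(R)`: an equivariant function with `C_G(R) ≤ H R`. -/
structure Loc (H : Subgroup G → Subgroup G) : Prop where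
  eqv : ∀ (g : G) (R : Subgroup G), cj g (H R) = H (cj g R)
  cen_le : ∀ R : Subgroup G, centralizer (R : Set G) ≤ H R

theorem loc_normalizer : Loc (fun R : Subgroup G => normalizer (R : Set G)) :=
  ⟨fun g R => cj_normalizer g R, fun _ => centralizer_le_normalizer _⟩

theorem loc_centralizer : Loc (fun R : Subgroup G => centralizer (R : Set G)) :=
  ⟨fun g R => cj_centralizer g R, fun _ => le_rfl⟩

/-- `N_R = ⟨U^{H(R)}⟩`. -/
def NN (H : Subgroup G → Subgroup G) (U R : Subgroup G) : Subgroup G := ⨆ c : H R, cj (c : G) U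

variable {H : Subgroup G → Subgroup G}

theorem le_NN (U R : Subgroup G) : U ≤ NN H U R := by
  have h : cj ((1 : H R) : G) U ≤ NN H U R := le_iSup (fun c : H R => cj (c : G) U) 1
  rwa [Subgroup.coe_one, cj_one] at h

theorem Loc.mem {hH : Loc H} {g c : G} {R : Subgroup G} : g * c * g⁻¹ ∈ H (cj g R) ↔ c ∈ H R := by
  rw [← hH.eqv, mem_cj]
  have e : g⁻¹ * (g * c * g⁻¹) * g = c := by group
  rw [e]

theorem cj_NN (hH : Loc H) (g : G) (U R : Subgroup G) : cj g (NN H U R) = NN H (cj g U) (cj g R) := by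
  apply le_antisymm
  · have h1 : cj g (NN H U R) = ⨆ c : H R, cj g (cj (c : G) U) := Subgroup.map_iSup _ _
    rw [h1]
    refine iSup_le fun c => ?_
    have hc : g * (c : G) * g⁻¹ ∈ H (cj g R) := (Loc.mem (hH := hH)).2 c.2
    have h2 := le_iSup (fun c : H (cj g R) => cj (c : G) (cj g U)) ⟨_, hc⟩
    have e : cj (g * (c : G) * g⁻¹) (cj g U) = cj g (cj (c : G) U) := by
      rw [cj_cj, cj_cj]
      have e2 : g * (c : G) * g⁻¹ * g = g * c := by group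
      rw [e2]
    rw [← e]
    exact h2
  · refine iSup_le fun c => ?_
    obtain ⟨c, hc0⟩ := c
    have hc : g⁻¹ * c * g ∈ H R := by
      rw [← hH.eqv, mem_cj] at hc0
      exact hc0
    have h2 := cj_mono g (le_iSup (fun c : H R => cj (c : G) U) ⟨_, hc⟩)
    have e : cj g (cj (g⁻¹ * c * g) U) = cj c (cj g U) := by
      rw [cj_cj, cj_cj]
      have e2 : g * (g⁻¹ * c * g) = c * g := by group
      rw [e2]
    rw [← e]
    exact h2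

/-- An element of `H R` normalises `N_R`. -/
theorem H_le_normalizer_NN (U R : Subgroup G) : H R ≤ normalizer (NN H U R : Set G) := by
  intro x hx
  rw [mem_normalizer_iff_cj]
  have h1 : cj x (NN H U R) = ⨆ c : H R, cj x (cj (c : G) U) := Subgroup.map_iSup _ _
  rw [h1]
  apply le_antisymm
  · refine iSup_le fun c => ?_
    rw [cj_cj]
    exact le_iSup (fun c : H R => cj (c : G) U) (⟨x, hx⟩ * c)
  · refine iSup_le fun c => ?_
    have h2 := le_iSup (fun c : H R => cj x (cj (c : G) U)) (⟨x, hx⟩⁻¹ * c)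
    have e : cj x (cj (((⟨x, hx⟩⁻¹ * c : H R)) : G) U) = cj (c : G) U := by
      rw [cj_cj]
      congr 2
      simp
    rw [← e]
    exact h2

theorem NN_le {U K R : Subgroup G} (hU : U ≤ K) (hK : H R ≤ normalizer (K : Set G)) :
    NN H U R ≤ K := by
  refine iSup_le fun c => ?_
  have h1 := cj_mono (c : G) hU
  rwa [cj_eq_of_mem_normalizer (hK c.2)] at h1

theorem cj_NN_of (hH : Loc H) {g : G} {U R : Subgroup G} (hU : g ∈ normalizer (U : Set G)) :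
    cj g (NN H U R) = NN H U (cj g R) := by
  rw [cj_NN hH, cj_eq_of_mem_normalizer hU]

/-! ### The facts on one side -/

/-- The facts on the lines of `V₁` (see the header). -/
structure Side (H : Subgroup G → Subgroup G) (V₁ V₂ : Subgroup G) (L : Set (Subgroup G)) :
    Prop where
  le : ∀ R ∈ L, R ≤ V₁
  in_o2 : ∀ R ∈ L, V₂ ≤ o2 (H R)
  cent : ∀ R ∈ L, o2 (H R) ≤ centralizer (V₂ : Set G)
  self : ∀ R ∈ L, V₁ ≤ o2 (H R)
  tv : ∀ R ∈ L, ∀ R' ∈ L, ∀ R'' ∈ L, R' ≠ R → R'' ≠ R → ∃ w ∈ o2 (H R),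
    (∀ x ∈ o2 (H R), w * x * w⁻¹ * x⁻¹ ∈ R) ∧ cj w R' = R''
  onto : ∀ R ∈ L, ∀ R' ∈ L, ∀ w ∈ o2 (H R), (∀ x ∈ o2 (H R), w * x * w⁻¹ * x⁻¹ ∈ R) →
    cj w R' ≠ R' → ∀ r ∈ R, ∃ r' ∈ R', w * r' * w⁻¹ * r'⁻¹ = r
  three : ∀ R ∈ L, ∀ R' ∈ L, ∃ R'' ∈ L, R'' ≠ R ∧ R'' ≠ R'
  mem : ∀ R ∈ L, R ≤ NN H V₂ R

/-- `F = ⋂ N_R`, `R ∈ 𝓛₁`. -/
def FF (H : Subgroup G → Subgroup G) (L : Set (Subgroup G)) (V₂ : Subgroup G) : Subgroup G :=
  ⨅ (R : Subgroup G) (_ : R ∈ L), NN H V₂ R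

theorem mem_FF {L : Set (Subgroup G)} {V₂ : Subgroup G} {x : G} :
    x ∈ FF H L V₂ ↔ ∀ R ∈ L, x ∈ NN H V₂ R := by
  simp only [FF, mem_iInf]

namespace Side

variable {V₁ V₂ : Subgroup G} {L : Set (Subgroup G)} (h : Side H V₁ V₂ L)

section

include h

theorem NN_le_o2 {R : Subgroup G} (hR : R ∈ L) : NN H V₂ R ≤ o2 (H R) :=
  NN_le (h.in_o2 R hR) (le_normalizer_o2 _)

/-- `O₂(H R)` centralises `N_R`. -/
theorem o2_le_cent_NN {R : Subgroup G} (hR : R ∈ L) :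
    o2 (H R) ≤ centralizer (NN H V₂ R : Set G) := by
  rw [Subgroup.le_centralizer_iff]
  refine NN_le (Subgroup.le_centralizer_iff.1 (h.cent R hR)) ?_
  intro x hx
  rw [mem_normalizer_iff_cj, cj_centralizer, cj_eq_of_mem_normalizer (le_normalizer_o2 _ hx)]

theorem NN_le_cent_two {R : Subgroup G} (hR : R ∈ L) :
    NN H V₂ R ≤ centralizer (V₂ : Set G) :=
  (h.NN_le_o2 hR).trans (h.cent R hR)

theorem NN_le_cent_one {R : Subgroup G} (hR : R ∈ L) :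
    NN H V₂ R ≤ centralizer (V₁ : Set G) :=
  Subgroup.le_centralizer_iff.1 ((h.self R hR).trans (h.o2_le_cent_NN hR))

end

/-- An element centralising `V₁` lies in all `H R`. -/
theorem mem_H (hH : Loc H) (h : Side H V₁ V₂ L) {R : Subgroup G} (hR : R ∈ L) {x : G}
    (hx : x ∈ centralizer (V₁ : Set G)) : x ∈ H R :=
  hH.cen_le R (centralizer_le (SetLike.coe_subset_coe.2 (h.le R hR)) hx)

theorem norm_NN (hH : Loc H) (h : Side H V₁ V₂ L) {R : Subgroup G} (hR : R ∈ L) {x : G}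
    (hx : x ∈ centralizer (V₁ : Set G)) : x ∈ normalizer (NN H V₂ R : Set G) :=
  H_le_normalizer_NN V₂ R (h.mem_H hH hR hx)

theorem norm_FF (hH : Loc H) (h : Side H V₁ V₂ L) {x : G} (hx : x ∈ centralizer (V₁ : Set G)) :
    x ∈ normalizer (FF H L V₂ : Set G) := by
  rw [mem_normalizer_iff]
  intro y
  simp only [mem_FF]
  exact forall₂_congr fun R hR => mem_normalizer_iff.1 (h.norm_NN hH hR hx) y

/-- (0) `N_R ∩ N_{R'} ≤ F`. -/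
theorem inf_le_FF (hH : Loc H) (h : Side H V₁ V₂ L) {R R' : Subgroup G} (hR : R ∈ L) (hR' : R' ∈ L)
    (hne : R' ≠ R) : NN H V₂ R ⊓ NN H V₂ R' ≤ FF H L V₂ := by
  intro x hx
  rw [mem_FF]
  intro R'' hR''
  by_cases he : R'' = R
  · rw [he]
    exact hx.1
  obtain ⟨w, hw, -, hwR⟩ := h.tv R hR R' hR' R'' hR'' hne he
  have h2 : w * x * w⁻¹ = x := by
    rw [← mem_centralizer_iff.1 (h.o2_le_cent_NN hR hw) x hx.1]
    group
  have h3 : x ∈ cj w (NN H V₂ R') := by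
    rw [← h2]
    exact mem_map_of_mem _ hx.2
  have hwn : w ∈ normalizer (V₂ : Set G) := centralizer_le_normalizer _ (h.cent R hR hw)
  rwa [cj_NN_of hH hwn, hwR] at h3

/-- (2) of the paper, first half: `C_{N_{R₂}}(N_R) ≤ O₂(H R)`. -/
theorem le_o2_of_cent (hH : Loc H) {R₂ W R : Subgroup G} (hR₂ : R₂ ≤ V₂) (hR : R ≤ V₁)
    (hW : W = NN H V₁ R₂) (hW2 : IsPGroup 2 W) (hWc : W ≤ centralizer (V₁ : Set G)) :
    W ⊓ centralizer (NN H V₂ R : Set G) ≤ o2 (H R) := by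
  subst hW
  set F : Subgroup G := centralizer (NN H V₂ R : Set G) ⊓ H R with hF
  have hFq : F ≤ H R₂ := by
    refine inf_le_left.trans (le_trans ?_ (hH.cen_le R₂))
    exact centralizer_le (SetLike.coe_subset_coe.2 (hR₂.trans (le_NN V₂ R)))
  have hFn : F ≤ normalizer (NN H V₁ R₂ : Set G) := hFq.trans (H_le_normalizer_NN V₁ R₂)
  have h1 : NN H V₁ R₂ ⊓ F ≤ o2 F := by
    refine le_o2 inf_le_right (hW2.to_le inf_le_left) ?_
    intro x hx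
    rw [mem_normalizer_iff_cj, cj_inf, cj_eq_of_mem_normalizer (hFn hx),
      cj_eq_of_mem_normalizer (le_normalizer hx)]
  have h2 : H R ≤ normalizer (F : Set G) := by
    intro x hx
    rw [mem_normalizer_iff_cj, hF, cj_inf, cj_centralizer,
      cj_eq_of_mem_normalizer (H_le_normalizer_NN V₂ R hx),
      cj_eq_of_mem_normalizer (le_normalizer hx)]
  have h3 : o2 F ≤ o2 (H R) := by
    refine le_o2 ((o2_le F).trans inf_le_right) (isPGroup_o2 F) ?_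
    exact h2.trans (normalizer_le_normalizer_o2 F)
  intro x hx
  refine h3 (h1 ⟨hx.1, hx.2, ?_⟩)
  exact hH.cen_le R (centralizer_le (SetLike.coe_subset_coe.2 hR) (hWc hx.1))

end Side

/-! ### Both sides -/

/-- The set-up of THEOREM J. -/
structure Ctx (H : Subgroup G → Subgroup G) (V₁ V₂ : Subgroup G) (L₁ L₂ : Set (Subgroup G)) :
    Prop where
  loc : Loc H
  s1 : Side H V₁ V₂ L₁
  s2 : Side H V₂ V₁ L₂
  bot : FF H L₁ V₂ ⊓ FF H L₂ V₁ = ⊥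

namespace Ctx

variable {V₁ V₂ : Subgroup G} {L₁ L₂ : Set (Subgroup G)} (h : Ctx H V₁ V₂ L₁ L₂)

/-- `V₁ ≤ E`. -/
theorem le_EE : V₁ ≤ FF H L₂ V₁ := fun _ hx => mem_FF.2 fun _ _ => le_NN V₁ _ hx

include h

theorem symm : Ctx H V₂ V₁ L₂ L₁ := ⟨h.loc, h.s2, h.s1, by rw [inf_comm]; exact h.bot⟩

theorem mem_o2 {R R₂ : Subgroup G} {j : G} (hR : R ∈ L₁) (hR₂ : R₂ ∈ L₂) (hj : j ∈ NN H V₁ R₂)
    (hjc : j ∈ centralizer (NN H V₂ R : Set G)) : j ∈ o2 (H R) :=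
  Side.le_o2_of_cent h.loc (h.s2.le R₂ hR₂) (h.s1.le R hR) rfl
    ((isPGroup_o2 _).to_le (h.s2.NN_le_o2 hR₂)) (h.s2.NN_le_cent_two hR₂) ⟨hj, hjc⟩

/-- An element of `N_{R'}` centralised by some `w ∈ O₂(H R)` with `R'^w ≠ R'` is in `F`. -/
theorem mem_FF_of_fix {R R' R'' : Subgroup G} {w t : G} (hR : R ∈ L₁) (hR' : R' ∈ L₁)
    (hR'' : R'' ∈ L₁) (hne : R'' ≠ R') (hw : w ∈ o2 (H R)) (hwR : cj w R' = R'')
    (ht : t ∈ NN H V₂ R') (hwt : w * t * w⁻¹ = t) : t ∈ FF H L₁ V₂ := by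
  have h3 : t ∈ cj w (NN H V₂ R') := by
    rw [← hwt]
    exact mem_map_of_mem _ ht
  have hwn : w ∈ normalizer (V₂ : Set G) := centralizer_le_normalizer _ (h.s1.cent R hR hw)
  rw [cj_NN_of h.loc hwn, hwR] at h3
  exact h.s1.inf_le_FF h.loc hR' hR'' hne ⟨ht, h3⟩

/-- The core of (2) and (3): `t ∈ N_{R'} ∩ O₂(H R)`, `R' ≠ R`: some `t r'` is in `F`, `r' ∈ R'`. -/
theorem exists_mul {R R' : Subgroup G} {t : G} (hR : R ∈ L₁) (hR' : R' ∈ L₁) (hne : R' ≠ R)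
    (ht : t ∈ NN H V₂ R') (hto : t ∈ o2 (H R)) : ∃ r ∈ R', t * r ∈ FF H L₁ V₂ := by
  obtain ⟨R'', hR'', h1, h2⟩ := h.s1.three R hR R' hR'
  obtain ⟨w, hw, hwx, hwR⟩ := h.s1.tv R hR R' hR' R'' hR'' hne h1
  obtain ⟨r, hr, hrw⟩ := h.s1.onto R hR R' hR' w hw hwx (by rw [hwR]; exact h2) _ (hwx t hto)
  refine ⟨r⁻¹, inv_mem hr, ?_⟩
  refine h.mem_FF_of_fix hR hR' hR'' h2 hw hwR
    (mul_mem ht (h.s1.mem R' hR' (inv_mem hr))) ?_
  -- `w t w⁻¹ = c t`, `w r w⁻¹ = c r`, `c = [w, t] = [w, r]`; `t` commutes with `V₁`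
  have hrV : r ∈ V₁ := h.s1.le R' hR' hr
  have htr : r * t = t * r := mem_centralizer_iff.1 (h.s1.NN_le_cent_one hR' ht) r hrV
  have e1 : w * t * w⁻¹ = w * r * w⁻¹ * r⁻¹ * t := by
    rw [hrw]
    group
  have e2 : w * (t * r⁻¹) * w⁻¹ = w * t * w⁻¹ * (w * r * w⁻¹)⁻¹ := by group
  have h3 : w * r * w⁻¹ * r⁻¹ ∈ V₁ := by
    rw [hrw]
    exact h.s1.le R hR (hwx t hto)
  have h4 : w * r * w⁻¹ ∈ V₁ := by
    have := mul_mem h3 hrV
    simpa using this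
  have h5 : w * r * w⁻¹ * r⁻¹ * t = t * (w * r * w⁻¹ * r⁻¹) :=
    mem_centralizer_iff.1 (h.s1.NN_le_cent_one hR' ht) _ h3
  have h6 : r⁻¹ * (w * r * w⁻¹)⁻¹ = (w * r * w⁻¹)⁻¹ * r⁻¹ := by
    -- `V₁` is abelian: it is centralised by `N_{R'} ≥ R'`
    have h7 : r ∈ centralizer (V₁ : Set G) := h.s1.NN_le_cent_one hR' (h.s1.mem R' hR' hr)
    have h8 := mem_centralizer_iff.1 h7 _ h4
    rw [← mul_inv_rev, ← mul_inv_rev, h8]
  rw [e2, e1, h5]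
  calc t * (w * r * w⁻¹ * r⁻¹) * (w * r * w⁻¹)⁻¹
      = t * (w * r * w⁻¹) * (r⁻¹ * (w * r * w⁻¹)⁻¹) := by group
    _ = t * (w * r * w⁻¹) * ((w * r * w⁻¹)⁻¹ * r⁻¹) := by rw [h6]
    _ = t * r⁻¹ := by group

/-- (2) `E ∩ N_{R'} = R'`. -/
theorem two {R' : Subgroup G} {t : G} (hR' : R' ∈ L₁) (hL₂ : L₂.Nonempty)
    (htE : t ∈ FF H L₂ V₁) (ht : t ∈ NN H V₂ R') : t ∈ R' := by
  obtain ⟨R, hR, hne', -⟩ := h.s1.three R' hR' R' hR'
  have hne : R' ≠ R := hne'.symm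
  obtain ⟨R₂, hR₂⟩ := hL₂
  -- `t` centralises `N_R`
  have htc : t ∈ centralizer (NN H V₂ R : Set G) := by
    rw [mem_centralizer_iff]
    intro y hy
    have hyE : y ∈ normalizer (FF H L₂ V₁ : Set G) :=
      h.s2.norm_FF h.loc (h.s1.NN_le_cent_two hR hy)
    have hyN : y ∈ normalizer (NN H V₂ R' : Set G) :=
      h.s1.norm_NN h.loc hR' (h.s1.NN_le_cent_one hR hy)
    have htN : t ∈ normalizer (NN H V₂ R : Set G) :=
      h.s1.norm_NN h.loc hR (h.s1.NN_le_cent_one hR' ht)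
    have h1 : y * t * y⁻¹ * t⁻¹ ∈ FF H L₂ V₁ :=
      mul_mem ((mem_normalizer_iff.1 hyE t).1 htE) (inv_mem htE)
    have h2 : y * t * y⁻¹ * t⁻¹ ∈ NN H V₂ R' :=
      mul_mem ((mem_normalizer_iff.1 hyN t).1 ht) (inv_mem ht)
    have h3 : y * t * y⁻¹ * t⁻¹ ∈ NN H V₂ R := by
      have e : y * t * y⁻¹ * t⁻¹ = y * (t * y⁻¹ * t⁻¹) := by group
      rw [e]
      exact mul_mem hy ((mem_normalizer_iff.1 htN y⁻¹).1 (inv_mem hy))
    have h4 : y * t * y⁻¹ * t⁻¹ ∈ FF H L₁ V₂ ⊓ FF H L₂ V₁ :=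
      ⟨h.s1.inf_le_FF h.loc hR hR' hne ⟨h3, h2⟩, h1⟩
    rw [h.bot, mem_bot] at h4
    exact mul_inv_eq_iff_eq_mul.1 (mul_inv_eq_one.1 h4)
  have hto : t ∈ o2 (H R) := h.mem_o2 hR hR₂ (mem_FF.1 htE R₂ hR₂) htc
  obtain ⟨r, hr, hrF⟩ := h.exists_mul hR hR' hne ht hto
  have h5 : t * r ∈ FF H L₁ V₂ ⊓ FF H L₂ V₁ :=
    ⟨hrF, mul_mem htE (le_EE (h.s1.le R' hR' hr))⟩
  rw [h.bot, mem_bot] at h5
  rw [eq_inv_of_mul_eq_one_left h5]
  exact inv_mem hr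

/-- (3) `C_{N_R ∩ N_{R₂}}(N_{R'}) ≤ R R₂`. -/
theorem three {R R' R₂ : Subgroup G} {j : G} (hR : R ∈ L₁) (hR' : R' ∈ L₁) (hne : R ≠ R')
    (hR₂ : R₂ ∈ L₂) (hj : j ∈ NN H V₂ R) (hj' : j ∈ NN H V₁ R₂)
    (hjc : j ∈ centralizer (NN H V₂ R' : Set G)) : j ∈ R ⊔ R₂ := by
  have hjo : j ∈ o2 (H R') := h.mem_o2 hR' hR₂ hj' hjc
  obtain ⟨r, hr, hrF⟩ := h.exists_mul hR' hR hne hj hjo
  have h6 : j * r ∈ R₂ := h.symm.two hR₂ ⟨R, hR⟩ hrF
    (mul_mem hj' (le_NN V₁ R₂ (h.s1.le R hR hr)))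
  have e : j = j * r * r⁻¹ := by group
  rw [e]
  exact mul_mem (mem_sup_right h6) (mem_sup_left (inv_mem hr))

/-- (4) `[N_R ∩ N_{R₂}, N_{R'}] ≤ R₂`. -/
theorem four {R R' R₂ : Subgroup G} {j y : G} (hR : R ∈ L₁) (hR' : R' ∈ L₁) (hne : R' ≠ R)
    (hR₂ : R₂ ∈ L₂) (hj : j ∈ NN H V₂ R) (hj' : j ∈ NN H V₁ R₂) (hy : y ∈ NN H V₂ R') :
    j * y * j⁻¹ * y⁻¹ ∈ R₂ := by
  have hyN : y ∈ normalizer (NN H V₂ R : Set G) :=
    h.s1.norm_NN h.loc hR (h.s1.NN_le_cent_one hR' hy)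
  have hjN : j ∈ normalizer (NN H V₂ R' : Set G) :=
    h.s1.norm_NN h.loc hR' (h.s1.NN_le_cent_one hR hj)
  have hyq : y ∈ normalizer (NN H V₁ R₂ : Set G) :=
    h.s2.norm_NN h.loc hR₂ (h.s1.NN_le_cent_two hR' hy)
  have e : j * y * j⁻¹ * y⁻¹ = j * (y * j⁻¹ * y⁻¹) := by group
  have h1 : j * y * j⁻¹ * y⁻¹ ∈ NN H V₂ R := by
    rw [e]
    exact mul_mem hj ((mem_normalizer_iff.1 hyN j⁻¹).1 (inv_mem hj))
  have h2 : j * y * j⁻¹ * y⁻¹ ∈ NN H V₂ R' :=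
    mul_mem ((mem_normalizer_iff.1 hjN y).1 hy) (inv_mem hy)
  have h3 : j * y * j⁻¹ * y⁻¹ ∈ NN H V₁ R₂ := by
    rw [e]
    exact mul_mem hj' ((mem_normalizer_iff.1 hyq j⁻¹).1 (inv_mem hj'))
  exact h.symm.two hR₂ ⟨R, hR⟩ (h.s1.inf_le_FF h.loc hR hR' hne ⟨h1, h2⟩) h3

/-- **THEOREM J**, steps (0)–(4), all `q`: `N_R ∩ N_{R₂} = R R₂`, or some `x ∈ N_{R₂}` satisfies
`1 ≠ [x, N_R] ≤ R₂`. -/
theorem thmJ (htr : ∀ R ∈ L₁, ∀ R' ∈ L₁,
      ∃ l ∈ centralizer (V₂ : Set G) ⊓ normalizer (V₁ : Set G), cj l R' = R)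
    {R R₂ : Subgroup G} (hR : R ∈ L₁) (hR₂ : R₂ ∈ L₂) :
    NN H V₂ R ⊓ NN H V₁ R₂ = R ⊔ R₂ ∨
    ∃ x ∈ NN H V₁ R₂, (∀ y ∈ NN H V₂ R, x * y * x⁻¹ * y⁻¹ ∈ R₂) ∧
      ∃ y ∈ NN H V₂ R, x * y * x⁻¹ * y⁻¹ ≠ 1 := by
  by_cases hle : NN H V₂ R ⊓ NN H V₁ R₂ ≤ R ⊔ R₂
  · left
    refine le_antisymm hle (sup_le (le_inf (h.s1.mem R hR) ?_) (le_inf ?_ (h.s2.mem R₂ hR₂)))
    · exact (h.s1.le R hR).trans (le_NN V₁ R₂)
    · exact (h.s2.le R₂ hR₂).trans (le_NN V₂ R)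
  right
  obtain ⟨j, ⟨hj, hj'⟩, hj1⟩ := SetLike.not_le_iff_exists.1 hle
  obtain ⟨R', hR', hne, -⟩ := h.s1.three R hR R hR
  obtain ⟨l, ⟨hl, hl'⟩, hlp⟩ := htr R hR R' hR'
  have hlq : ∀ a ∈ R₂, l * a * l⁻¹ = a := by
    intro a ha
    rw [← mem_centralizer_iff.1 hl a (h.s2.le R₂ hR₂ ha)]
    group
  have hlR₂ : cj l R₂ = R₂ := by
    rw [← mem_normalizer_iff_cj]
    exact centralizer_le_normalizer _ (centralizer_le (SetLike.coe_subset_coe.2 (h.s2.le R₂ hR₂)) hl)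
  have hN : cj l (NN H V₂ R') = NN H V₂ R := by
    rw [cj_NN_of h.loc (centralizer_le_normalizer _ hl), hlp]
  have hNq : cj l (NN H V₁ R₂) = NN H V₁ R₂ := by rw [cj_NN_of h.loc hl', hlR₂]
  -- by (3), `j` does not centralise `N_{R'}`
  have hjc : ¬ j ∈ centralizer (NN H V₂ R' : Set G) := fun hjc =>
    hj1 (h.three hR hR' hne.symm hR₂ hj hj' hjc)
  refine ⟨l * j * l⁻¹, ?_, ?_, ?_⟩
  · rw [← hNq]
    exact mem_map_of_mem _ hj'
  · intro y hy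
    have hy' : l⁻¹ * y * l ∈ NN H V₂ R' := by
      rw [← mem_cj, hN]
      exact hy
    have e : l * j * l⁻¹ * y * (l * j * l⁻¹)⁻¹ * y⁻¹ =
        l * (j * (l⁻¹ * y * l) * j⁻¹ * (l⁻¹ * y * l)⁻¹) * l⁻¹ := by group
    have h7 := h.four hR hR' hne hR₂ hj hj' hy'
    rw [e, hlq _ h7]
    exact h7
  · by_contra hcon
    push Not at hcon
    apply hjc
    rw [mem_centralizer_iff]
    intro y hy
    have hy' : l * y * l⁻¹ ∈ NN H V₂ R := by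
      rw [← hN]
      exact mem_map_of_mem _ hy
    have h7 := hcon _ hy'
    have e : l * j * l⁻¹ * (l * y * l⁻¹) * (l * j * l⁻¹)⁻¹ * (l * y * l⁻¹)⁻¹ =
        l * (j * y * j⁻¹ * y⁻¹) * l⁻¹ := by group
    rw [e] at h7
    have h8 : j * y * j⁻¹ * y⁻¹ = 1 := by
      have h9 : l * (j * y * j⁻¹ * y⁻¹) = l := by simpa using mul_inv_eq_one.1 h7
      exact mul_eq_left.1 h9
    exact (mul_inv_eq_iff_eq_mul.1 (mul_inv_eq_one.1 h8)).symm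

end Ctx

/-! ### (1) `E ∩ F = 1` -/

theorem cj_FF (hH : Loc H) (g : G) (L : Set (Subgroup G)) (V₂ : Subgroup G) :
    cj g (FF H L V₂) = FF H {R | cj g⁻¹ R ∈ L} (cj g V₂) := by
  ext x
  rw [mem_cj, mem_FF, mem_FF]
  constructor
  · intro h R hR
    have h1 := h (cj g⁻¹ R) hR
    rwa [← mem_cj, cj_NN hH, cj_cj_inv] at h1
  · intro h R hR
    have h1 := h (cj g R) (by rw [Set.mem_ofPred_eq, cj_inv_cj]; exact hR)
    rwa [← cj_NN hH, mem_cj] at h1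

/-- (1) `E ∩ F = 1`: `S` permutes the pairs `(V₁, 𝓛₁)`, `(V₂, 𝓛₂)` and every nontrivial normal
subgroup of `S` contains some `v₁v₂`, `v_i ∈ V_i`, `v₂ ≠ 1`. -/
theorem EE_inf_FF (hH : Loc H) {V₁ V₂ S : Subgroup G} {L₁ L₂ : Set (Subgroup G)}
    (h1 : Side H V₁ V₂ L₁) (h2 : Side H V₂ V₁ L₂)
    (hmv : ∀ v ∈ V₂, v ≠ 1 → ∃ R ∈ L₂, ∃ w ∈ o2 (H R), w * v * w⁻¹ ≠ v)
    {R : Subgroup G} (hR : R ∈ L₁) (hS : o2 (H R) ≤ S)
    (hact : ∀ s ∈ S, (cj s V₁ = V₁ ∧ cj s V₂ = V₂ ∧ (∀ R, cj s⁻¹ R ∈ L₁ ↔ R ∈ L₁) ∧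
        (∀ R, cj s⁻¹ R ∈ L₂ ↔ R ∈ L₂)) ∨
      (cj s V₁ = V₂ ∧ cj s V₂ = V₁ ∧ (∀ R, cj s⁻¹ R ∈ L₁ ↔ R ∈ L₂) ∧
        (∀ R, cj s⁻¹ R ∈ L₂ ↔ R ∈ L₁)))
    (hz : ∀ X ≤ S, X ≠ ⊥ → S ≤ normalizer (X : Set G) →
      ∃ v₁ ∈ V₁, ∃ v₂ ∈ V₂, v₂ ≠ 1 ∧ v₁ * v₂ ∈ X) :
    FF H L₁ V₂ ⊓ FF H L₂ V₁ = ⊥ := by
  by_contra hne
  have hle : FF H L₁ V₂ ⊓ FF H L₂ V₁ ≤ S := fun x hx =>
    hS (h1.NN_le_o2 hR (mem_FF.1 hx.1 R hR))
  have hn : S ≤ normalizer ((FF H L₁ V₂ ⊓ FF H L₂ V₁ : Subgroup G) : Set G) := by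
    intro s hs
    rw [mem_normalizer_iff_cj, cj_inf, cj_FF hH, cj_FF hH]
    rcases hact s hs with ⟨e1, e2, e3, e4⟩ | ⟨e1, e2, e3, e4⟩
    · have e5 : {R | cj s⁻¹ R ∈ L₁} = L₁ := Set.ext e3
      have e6 : {R | cj s⁻¹ R ∈ L₂} = L₂ := Set.ext e4
      rw [e1, e2, e5, e6]
    · have e5 : {R | cj s⁻¹ R ∈ L₁} = L₂ := Set.ext e3
      have e6 : {R | cj s⁻¹ R ∈ L₂} = L₁ := Set.ext e4
      rw [e1, e2, e5, e6, inf_comm]
  obtain ⟨v₁, hv₁, v₂, hv₂, hv₂1, hzm⟩ := hz _ hle hne hn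
  obtain ⟨R₂, hR₂, w, hw, hw'⟩ := hmv v₂ hv₂ hv₂1
  have hwz : w * (v₁ * v₂) * w⁻¹ = v₁ * v₂ := by
    rw [← mem_centralizer_iff.1 (h2.o2_le_cent_NN hR₂ hw) _ (mem_FF.1 hzm.2 R₂ hR₂)]
    group
  have hwv : w * v₁ * w⁻¹ = v₁ := by
    rw [← mem_centralizer_iff.1 (h2.cent R₂ hR₂ hw) _ hv₁]
    group
  have e : w * (v₁ * v₂) * w⁻¹ = w * v₁ * w⁻¹ * (w * v₂ * w⁻¹) := by group
  rw [e, hwv] at hwz
  exact hw' (mul_left_cancel hwz)

/-! ### From one line to all lines -/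

/-- The facts at one line `R₀` and a group `Λ ≤ C(V₂) ∩ N(V₁)` transitive on the lines suffice. -/
theorem Side.of_line (hH : Loc H) {V₁ V₂ Λ R₀ : Subgroup G} {L : Set (Subgroup G)}
    (hΛ : Λ ≤ centralizer (V₂ : Set G) ⊓ normalizer (V₁ : Set G))
    (hΛL : ∀ l ∈ Λ, ∀ R ∈ L, cj l R ∈ L) (htr : ∀ R ∈ L, ∃ l ∈ Λ, cj l R₀ = R)
    (hle : ∀ R ∈ L, R ≤ V₁) (hthree : ∀ R ∈ L, ∀ R' ∈ L, ∃ R'' ∈ L, R'' ≠ R ∧ R'' ≠ R')
    (h1 : V₂ ≤ o2 (H R₀)) (h2 : o2 (H R₀) ≤ centralizer (V₂ : Set G)) (h3 : V₁ ≤ o2 (H R₀))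
    (h4 : ∀ R' ∈ L, ∀ R'' ∈ L, R' ≠ R₀ → R'' ≠ R₀ → ∃ w ∈ o2 (H R₀),
      (∀ x ∈ o2 (H R₀), w * x * w⁻¹ * x⁻¹ ∈ R₀) ∧ cj w R' = R'')
    (h5 : ∀ R' ∈ L, ∀ w ∈ o2 (H R₀), (∀ x ∈ o2 (H R₀), w * x * w⁻¹ * x⁻¹ ∈ R₀) →
      cj w R' ≠ R' → ∀ r ∈ R₀, ∃ r' ∈ R', w * r' * w⁻¹ * r'⁻¹ = r)
    (h6 : R₀ ≤ NN H V₂ R₀) : Side H V₁ V₂ L := by
  have key : ∀ R ∈ L, ∃ l ∈ Λ, cj l V₁ = V₁ ∧ cj l V₂ = V₂ ∧ cj l R₀ = R ∧
      o2 (H R) = cj l (o2 (H R₀)) := by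
    intro R hR
    obtain ⟨l, hl, e⟩ := htr R hR
    refine ⟨l, hl, cj_eq_of_mem_normalizer (hΛ hl).2,
      cj_eq_of_mem_normalizer (centralizer_le_normalizer _ (hΛ hl).1), e, ?_⟩
    rw [← e, ← hH.eqv]
    exact pCore_cj l _
  have conj : ∀ (l w x : G), l * w * l⁻¹ * x * (l * w * l⁻¹)⁻¹ * x⁻¹ =
      l * (w * (l⁻¹ * x * l) * w⁻¹ * (l⁻¹ * x * l)⁻¹) * l⁻¹ := fun l w x => by group
  refine ⟨hle, ?_, ?_, ?_, ?_, ?_, hthree, ?_⟩
  · intro R hR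
    obtain ⟨l, hl, e1, e2, e3, e4⟩ := key R hR
    rw [e4, ← e2]
    exact cj_mono l h1
  · intro R hR
    obtain ⟨l, hl, e1, e2, e3, e4⟩ := key R hR
    rw [e4, ← e2, ← cj_centralizer]
    exact cj_mono l h2
  · intro R hR
    obtain ⟨l, hl, e1, e2, e3, e4⟩ := key R hR
    rw [e4]
    nth_rewrite 1 [← e1]
    exact cj_mono l h3
  · intro R hR R' hR' R'' hR'' hne hne'
    obtain ⟨l, hl, e1, e2, e3, e4⟩ := key R hR
    have h7 : ∀ T : Subgroup G, T ≠ R → cj l⁻¹ T ≠ R₀ := by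
      intro T hT e
      apply hT
      rw [← e3, ← e, cj_cj_inv]
    obtain ⟨w, hw, hwx, hwR⟩ := h4 _ (hΛL l⁻¹ (inv_mem hl) R' hR') _
      (hΛL l⁻¹ (inv_mem hl) R'' hR'') (h7 R' hne) (h7 R'' hne')
    refine ⟨l * w * l⁻¹, by rw [e4]; exact mem_map_of_mem _ hw, ?_, ?_⟩
    · intro x hx
      rw [e4, mem_cj] at hx
      rw [conj, ← e3]
      exact mem_map_of_mem _ (hwx _ hx)
    · rw [← cj_cj, ← cj_cj, hwR, cj_cj_inv]
  · intro R hR R' hR' w hw hwx hne r hr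
    obtain ⟨l, hl, e1, e2, e3, e4⟩ := key R hR
    rw [e4, mem_cj] at hw
    rw [← e3, mem_cj] at hr
    have hwx' : ∀ x ∈ o2 (H R₀), l⁻¹ * w * l * x * (l⁻¹ * w * l)⁻¹ * x⁻¹ ∈ R₀ := by
      intro x hx
      have h8 := hwx (l * x * l⁻¹) (by rw [e4]; exact mem_map_of_mem _ hx)
      rw [← e3, mem_cj] at h8
      have e : l⁻¹ * (w * (l * x * l⁻¹) * w⁻¹ * (l * x * l⁻¹)⁻¹) * l =
          l⁻¹ * w * l * x * (l⁻¹ * w * l)⁻¹ * x⁻¹ := by group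
      rwa [e] at h8
    have hne' : cj (l⁻¹ * w * l) (cj l⁻¹ R') ≠ cj l⁻¹ R' := by
      intro e
      apply hne
      have h9 := congrArg (cj l) e
      rw [cj_cj, cj_cj, cj_cj_inv] at h9
      have e10 : l * (l⁻¹ * w * l) * l⁻¹ = w := by group
      rwa [e10] at h9
    obtain ⟨r', hr', e5⟩ := h5 _ (hΛL l⁻¹ (inv_mem hl) R' hR') _ hw hwx' hne' _ hr
    refine ⟨l * r' * l⁻¹, ?_, ?_⟩
    · rw [mem_cj] at hr'
      have e : l⁻¹⁻¹ * r' * l⁻¹ = l * r' * l⁻¹ := by group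
      rwa [e] at hr'
    · have e : w * (l * r' * l⁻¹) * w⁻¹ * (l * r' * l⁻¹)⁻¹ =
          l * (l⁻¹ * w * l * r' * (l⁻¹ * w * l)⁻¹ * r'⁻¹) * l⁻¹ := by group
      rw [e, e5]
      group
  · intro R hR
    obtain ⟨l, hl, e1, e2, e3, e4⟩ := key R hR
    have h7 : cj l R₀ ≤ cj l (NN H V₂ R₀) := cj_mono l h6
    rwa [cj_NN hH, e2, e3] at h7

end Cfsg.Agent.Omega.IId.ThmJQ

end

section


/-!
# THEOREM J (OMEGA, II.d; helper895 #13722, refereed by helper304 #13970)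

K-free; no `FF`-list, no `m₃`.  For a mutual pair `V = V₁ × V₂` (two four-groups), `p ∈ V₁#`,
`q ∈ V₂#`, put `N_p := ⟨V₂^{C_G(p)}⟩` (`NN V₂ p`) and `N_q := ⟨V₁^{C_G(q)}⟩` (`NN V₁ q`).

* `Side V₁ V₂` : the facts on the points `p` of `V₁`: `V₂ ≤ O₂(C(p))` centralises `O₂(C(p))`,
  `V₁ ≤ O₂(C(p)) ≤ N(V₁)`, some `w ∈ O₂(C(p))` does not centralise `V₁` and has
  `[w, O₂(C(p))] ≤ ⟨p⟩`, and `p ∈ N_p` (case B).
* `inf_le_FF` (0), `EE_inf_FF` (1), `two` (2), `three` (3), `four` (4).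
* `thmJ` : `N_p ∩ N_q = {1, p, q, pq}`, or some `x ∈ N_q` induces on `N_p` a nontrivial
  transvection with centre `q` (steps (0)–(4) of the paper).
* `Side.of_point` : the facts at one point and the transitivity on `V₁#` suffice.
-/

set_option autoImplicit false

namespace Cfsg.Agent.Omega.IId.ThmJ

open Subgroup Cfsg Cfsg.Agent.ZN Cfsg.Agent.ZN.ChoiceBase

universe u

variable {G : Type u} [Group G]

/-! ### The groups `N_p` -/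

/-- The centraliser of a point. -/
abbrev CC (p : G) : Subgroup G := centralizer ({p} : Set G)

/-- `N_p = ⟨U^{C_G(p)}⟩`. -/
def NN (U : Subgroup G) (p : G) : Subgroup G := ⨆ c : CC p, cj (c : G) U

theorem mem_CC {p x : G} : x ∈ CC p ↔ p * x = x * p := by
  rw [mem_centralizer_iff]
  exact ⟨fun h => h p rfl, fun h y hy => by rw [Set.mem_singleton_iff.1 hy]; exact h⟩

theorem cj_CC (g p : G) : cj g (CC p) = CC (g * p * g⁻¹) := by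
  ext x
  rw [mem_cj, mem_CC, mem_CC]
  constructor
  · intro h
    have e1 : g * p * g⁻¹ * x = g * (p * (g⁻¹ * x * g)) * g⁻¹ := by group
    rw [e1, h]
    group
  · intro h
    have e1 : p * (g⁻¹ * x * g) = g⁻¹ * (g * p * g⁻¹ * x) * g := by group
    rw [e1, h]
    group

theorem centralizer_le_CC {V : Subgroup G} {p : G} (hp : p ∈ V) :
    centralizer (V : Set G) ≤ CC p := fun _ hx => mem_CC.2 (mem_centralizer_iff.1 hx p hp)

theorem le_NN (U : Subgroup G) (p : G) : U ≤ NN U p := by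
  have h : cj ((1 : CC p) : G) U ≤ NN U p := le_iSup (fun c : CC p => cj (c : G) U) 1
  rwa [Subgroup.coe_one, cj_one] at h

theorem cj_NN (g : G) (U : Subgroup G) (p : G) : cj g (NN U p) = NN (cj g U) (g * p * g⁻¹) := by
  apply le_antisymm
  · have h1 : cj g (NN U p) = ⨆ c : CC p, cj g (cj (c : G) U) := Subgroup.map_iSup _ _
    rw [h1]
    refine iSup_le fun c => ?_
    have hc : g * (c : G) * g⁻¹ ∈ CC (g * p * g⁻¹) := by
      rw [← cj_CC, mem_cj]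
      have e : g⁻¹ * (g * (c : G) * g⁻¹) * g = c := by group
      rw [e]
      exact c.2
    have h2 := le_iSup (fun c : CC (g * p * g⁻¹) => cj (c : G) (cj g U)) ⟨_, hc⟩
    have e : cj (g * (c : G) * g⁻¹) (cj g U) = cj g (cj (c : G) U) := by
      rw [cj_cj, cj_cj]
      have e2 : g * (c : G) * g⁻¹ * g = g * c := by group
      rw [e2]
    rw [← e]
    exact h2
  · refine iSup_le fun c => ?_
    obtain ⟨c, hc0⟩ := c
    have hc : g⁻¹ * c * g ∈ CC p := by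
      rw [← cj_CC, mem_cj] at hc0
      exact hc0
    have h2 := cj_mono g (le_iSup (fun c : CC p => cj (c : G) U) ⟨_, hc⟩)
    have e : cj g (cj (g⁻¹ * c * g) U) = cj c (cj g U) := by
      rw [cj_cj, cj_cj]
      have e2 : g * (g⁻¹ * c * g) = c * g := by group
      rw [e2]
    rw [← e]
    exact h2

/-- An element of `C(p)` normalises `N_p`. -/
theorem CC_le_normalizer_NN (U : Subgroup G) (p : G) : CC p ≤ normalizer (NN U p : Set G) := by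
  intro x hx
  rw [mem_normalizer_iff_cj]
  have h1 : cj x (NN U p) = ⨆ c : CC p, cj x (cj (c : G) U) := Subgroup.map_iSup _ _
  rw [h1]
  apply le_antisymm
  · refine iSup_le fun c => ?_
    rw [cj_cj]
    exact le_iSup (fun c : CC p => cj (c : G) U) (⟨x, hx⟩ * c)
  · refine iSup_le fun c => ?_
    have h2 := le_iSup (fun c : CC p => cj x (cj (c : G) U)) (⟨x, hx⟩⁻¹ * c)
    have e : cj x (cj (((⟨x, hx⟩⁻¹ * c : CC p)) : G) U) = cj (c : G) U := by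
      rw [cj_cj]
      congr 2
      simp
    rw [← e]
    exact h2

theorem NN_le {U K : Subgroup G} {p : G} (hU : U ≤ K) (hK : CC p ≤ normalizer (K : Set G)) :
    NN U p ≤ K := by
  refine iSup_le fun c => ?_
  have h1 := cj_mono (c : G) hU
  rwa [cj_eq_of_mem_normalizer (hK c.2)] at h1

theorem cj_NN_of {g p : G} {U : Subgroup G} (hU : g ∈ normalizer (U : Set G)) :
    cj g (NN U p) = NN U (g * p * g⁻¹) := by
  rw [cj_NN, cj_eq_of_mem_normalizer hU]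

/-! ### Four-groups -/

theorem four_cases {V : Subgroup G} (hc : Nat.card V = 4) (h2 : ∀ x ∈ V, x * x = 1) {p p' : G}
    (hp : p ∈ V) (hp1 : p ≠ 1) (hp' : p' ∈ V) (hp1' : p' ≠ 1) (hne : p ≠ p') {x : G}
    (hx : x ∈ V) : x = 1 ∨ x = p ∨ x = p' ∨ x = p * p' := by
  classical
  have hpp : p⁻¹ = p := inv_eq_of_mul_eq_one_left (h2 p hp)
  have e1 : (1 : G) ≠ p * p' := fun e => hne (by
    have := eq_inv_of_mul_eq_one_right e.symm
    rw [this, hpp])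
  have e2 : p ≠ p * p' := fun e => hp1' (mul_eq_left.1 e.symm)
  have e3 : p' ≠ p * p' := fun e => hp1 (mul_eq_right.1 e.symm)
  have hcard : ({1, p, p', p * p'} : Finset G).card = 4 := by
    rw [Finset.card_insert_of_notMem, Finset.card_insert_of_notMem, Finset.card_insert_of_notMem,
      Finset.card_singleton]
    · simpa using e3
    · simp only [Finset.mem_insert, Finset.mem_singleton, not_or]
      exact ⟨hne, e2⟩
    · simp only [Finset.mem_insert, Finset.mem_singleton, not_or]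
      exact ⟨hp1.symm, hp1'.symm, e1⟩
  have hsub : (({1, p, p', p * p'} : Finset G) : Set G) ⊆ (V : Set G) := by
    intro y hy
    simp only [Finset.coe_insert, Finset.coe_singleton, Set.mem_insert_iff,
      Set.mem_singleton_iff] at hy
    rcases hy with rfl | rfl | rfl | rfl
    · exact V.one_mem
    · exact hp
    · exact hp'
    · exact V.mul_mem hp hp'
  have hfin : (V : Set G).Finite := by
    have : Finite V := Nat.finite_of_card_ne_zero (by rw [hc]; norm_num)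
    exact Set.toFinite _
  have heq : (({1, p, p', p * p'} : Finset G) : Set G) = (V : Set G) := by
    refine Set.eq_of_subset_of_ncard_le hsub ?_ hfin
    rw [Set.ncard_coe_finset, hcard]
    exact hc.le
  have hx' : x ∈ (({1, p, p', p * p'} : Finset G) : Set G) := by rw [heq]; exact hx
  simpa only [Finset.coe_insert, Finset.coe_singleton, Set.mem_insert_iff,
      Set.mem_singleton_iff] using hx'

theorem four_exists {V : Subgroup G} (hc : Nat.card V = 4) (p : G) :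
    ∃ p' ∈ V, p' ≠ 1 ∧ p ≠ p' := by
  classical
  by_contra hcon
  push Not at hcon
  have hsub : (V : Set G) ⊆ (({1, p} : Finset G) : Set G) := by
    intro y hy
    by_cases h1 : y = 1
    · simp [h1]
    · simp [hcon y hy h1]
  have h1 := Set.ncard_le_ncard hsub (Finset.finite_toSet _)
  rw [Set.ncard_coe_finset] at h1
  have h2 : (V : Set G).ncard = 4 := hc
  have h3 : ({1, p} : Finset G).card ≤ 2 := Finset.card_le_two
  omega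

/-! ### The facts on one side -/

/-- The facts on the points of `V₁` (see the header). -/
structure Side (V₁ V₂ : Subgroup G) : Prop where
  two : ∀ x ∈ V₁, x * x = 1
  card : Nat.card V₁ = 4
  in_o2 : ∀ p ∈ V₁, p ≠ 1 → V₂ ≤ o2 (CC p)
  cent : ∀ p ∈ V₁, p ≠ 1 → o2 (CC p) ≤ centralizer (V₂ : Set G)
  self : ∀ p ∈ V₁, p ≠ 1 → V₁ ≤ o2 (CC p)
  norm : ∀ p ∈ V₁, p ≠ 1 → o2 (CC p) ≤ normalizer (V₁ : Set G)
  tv : ∀ p ∈ V₁, p ≠ 1 → ∃ w ∈ o2 (CC p), w ∉ centralizer (V₁ : Set G) ∧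
    ∀ x ∈ o2 (CC p), w * x * w⁻¹ * x⁻¹ = 1 ∨ w * x * w⁻¹ * x⁻¹ = p
  mem : ∀ p ∈ V₁, p ≠ 1 → p ∈ NN V₂ p

/-- `F = ⋂ N_p`, `p ∈ V₁#`. -/
def FF (V₁ V₂ : Subgroup G) : Subgroup G := ⨅ (p : G) (_ : p ∈ V₁) (_ : p ≠ 1), NN V₂ p

theorem mem_FF {V₁ V₂ : Subgroup G} {x : G} :
    x ∈ FF V₁ V₂ ↔ ∀ p ∈ V₁, p ≠ 1 → x ∈ NN V₂ p := by
  simp only [FF, mem_iInf]

namespace Side

variable {V₁ V₂ : Subgroup G} (h : Side V₁ V₂)

include h

theorem inv {p : G} (hp : p ∈ V₁) : p⁻¹ = p := inv_eq_of_mul_eq_one_left (h.two p hp)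

theorem comm {p p' : G} (hp : p ∈ V₁) (hp' : p' ∈ V₁) : p * p' = p' * p := by
  have h1 : (p * p')⁻¹ = p * p' := h.inv (V₁.mul_mem hp hp')
  rw [← h1, mul_inv_rev, h.inv hp, h.inv hp']

/-- `p'' = p p'` is another point of `V₁`. -/
theorem third {p p' : G} (hp : p ∈ V₁) (hne : p ≠ p') : p * p' ≠ 1 := fun e => hne (by
  rw [eq_inv_of_mul_eq_one_right e, h.inv hp])

theorem cases {p p' : G} (hp : p ∈ V₁) (hp1 : p ≠ 1) (hp' : p' ∈ V₁) (hp1' : p' ≠ 1)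
    (hne : p ≠ p') {x : G} (hx : x ∈ V₁) : x = 1 ∨ x = p ∨ x = p' ∨ x = p * p' :=
  four_cases h.card h.two hp hp1 hp' hp1' hne hx

theorem NN_le_o2 {p : G} (hp : p ∈ V₁) (hp1 : p ≠ 1) : NN V₂ p ≤ o2 (CC p) :=
  NN_le (h.in_o2 p hp hp1) (le_normalizer_o2 _)

/-- `O₂(C(p))` centralises `N_p`. -/
theorem o2_le_cent_NN {p : G} (hp : p ∈ V₁) (hp1 : p ≠ 1) :
    o2 (CC p) ≤ centralizer (NN V₂ p : Set G) := by
  rw [Subgroup.le_centralizer_iff]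
  refine NN_le (Subgroup.le_centralizer_iff.1 (h.cent p hp hp1)) ?_
  intro x hx
  rw [mem_normalizer_iff_cj, cj_centralizer, cj_eq_of_mem_normalizer (le_normalizer_o2 _ hx)]

theorem NN_le_cent_two {p : G} (hp : p ∈ V₁) (hp1 : p ≠ 1) :
    NN V₂ p ≤ centralizer (V₂ : Set G) :=
  (h.NN_le_o2 hp hp1).trans (h.cent p hp hp1)

theorem NN_le_cent_one {p : G} (hp : p ∈ V₁) (hp1 : p ≠ 1) :
    NN V₂ p ≤ centralizer (V₁ : Set G) :=
  Subgroup.le_centralizer_iff.1 ((h.self p hp hp1).trans (h.o2_le_cent_NN hp hp1))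

theorem le_cent : V₂ ≤ centralizer (V₁ : Set G) := by
  obtain ⟨p, hp, hp1, -⟩ := four_exists h.card 1
  exact (le_NN V₂ p).trans (h.NN_le_cent_one hp hp1)

/-- An element of `O₂(C(p))` not centralising `V₁` swaps the two other points. -/
theorem swap {p p' w : G} (hp : p ∈ V₁) (hp1 : p ≠ 1) (hp' : p' ∈ V₁) (hp1' : p' ≠ 1)
    (hne : p ≠ p') (hw : w ∈ o2 (CC p)) (hw' : w ∉ centralizer (V₁ : Set G)) :
    w * p' * w⁻¹ = p * p' := by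
  have hwn := h.norm p hp hp1 hw
  have hwp : w * p * w⁻¹ = p := by
    rw [← mem_CC.1 (o2_le _ hw)]
    group
  have h1 : w * p' * w⁻¹ ∈ V₁ := (mem_normalizer_iff.1 hwn p').1 hp'
  rcases h.cases hp hp1 hp' hp1' hne h1 with e | e | e | e
  · exact absurd (by simpa using e) hp1'
  · exfalso
    apply hne
    have h2 : w * p' * w⁻¹ = w * p * w⁻¹ := by rw [e, hwp]
    simpa using h2.symm
  · exfalso
    apply hw'
    rw [mem_centralizer_iff]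
    have hcp : p * w = w * p := mem_CC.1 (o2_le _ hw)
    have hcp' : p' * w = w * p' := by
      have := congrArg (· * w) e
      simpa using this.symm
    intro y hy
    rcases h.cases hp hp1 hp' hp1' hne hy with rfl | rfl | rfl | rfl
    · simp
    · exact hcp
    · exact hcp'
    · rw [mul_assoc, hcp', ← mul_assoc, hcp, mul_assoc]
  · exact e

/-- (0) `N_p ∩ N_p' ≤ F`. -/
theorem inf_le_FF {p p' : G} (hp : p ∈ V₁) (hp1 : p ≠ 1) (hp' : p' ∈ V₁) (hp1' : p' ≠ 1)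
    (hne : p ≠ p') : NN V₂ p ⊓ NN V₂ p' ≤ FF V₁ V₂ := by
  intro x hx
  rw [mem_FF]
  intro r hr hr1
  obtain ⟨w, hw, hw', -⟩ := h.tv p hp hp1
  have h1 : x ∈ NN V₂ (p * p') := by
    have h2 : w * x * w⁻¹ = x := by
      rw [← mem_centralizer_iff.1 (h.o2_le_cent_NN hp hp1 hw) x hx.1]
      group
    have h3 : x ∈ cj w (NN V₂ p') := by
      rw [← h2]
      exact mem_map_of_mem _ hx.2
    have hwn : w ∈ normalizer (V₂ : Set G) := centralizer_le_normalizer _ (h.cent p hp hp1 hw)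
    rwa [cj_NN_of hwn, h.swap hp hp1 hp' hp1' hne hw hw'] at h3
  rcases h.cases hp hp1 hp' hp1' hne hr with rfl | rfl | rfl | rfl
  · exact absurd rfl hr1
  · exact hx.1
  · exact hx.2
  · exact h1

omit h in
/-- `x` centralising `V₁` normalises `N_p`. -/
theorem norm_NN {p x : G} (hp : p ∈ V₁) (hx : x ∈ centralizer (V₁ : Set G)) :
    x ∈ normalizer (NN V₂ p : Set G) :=
  CC_le_normalizer_NN V₂ p (centralizer_le_CC hp hx)

omit h in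
theorem norm_FF {x : G} (hx : x ∈ centralizer (V₁ : Set G)) :
    x ∈ normalizer (FF V₁ V₂ : Set G) := by
  rw [mem_normalizer_iff]
  intro y
  simp only [mem_FF]
  exact forall₃_congr fun p hp _ => mem_normalizer_iff.1 (norm_NN hp hx) y

omit h in
/-- (2) of the paper, first half: `C_{N_q}(N_p) ≤ O₂(C(p))`. -/
theorem le_o2_of_cent {W : Subgroup G} {p q : G} (hp : p ∈ V₁) (hq : q ∈ V₂)
    (hW : W = NN V₁ q) (hW2 : IsPGroup 2 W) (hWc : W ≤ centralizer (V₁ : Set G)) :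
    W ⊓ centralizer (NN V₂ p : Set G) ≤ o2 (CC p) := by
  subst hW
  set F : Subgroup G := centralizer (NN V₂ p : Set G) ⊓ CC p with hF
  have hFq : F ≤ CC q := inf_le_left.trans (centralizer_le_CC (le_NN V₂ p hq))
  have hFn : F ≤ normalizer (NN V₁ q : Set G) := hFq.trans (CC_le_normalizer_NN V₁ q)
  have h1 : NN V₁ q ⊓ F ≤ o2 F := by
    refine le_o2 inf_le_right (hW2.to_le inf_le_left) ?_
    intro x hx
    rw [mem_normalizer_iff_cj, cj_inf, cj_eq_of_mem_normalizer (hFn hx),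
      cj_eq_of_mem_normalizer (le_normalizer hx)]
  have h2 : CC p ≤ normalizer (F : Set G) := by
    intro x hx
    rw [mem_normalizer_iff_cj, hF, cj_inf, cj_centralizer,
      cj_eq_of_mem_normalizer (CC_le_normalizer_NN V₂ p hx),
      cj_eq_of_mem_normalizer (le_normalizer hx)]
  have h3 : o2 F ≤ o2 (CC p) := by
    refine le_o2 ((o2_le F).trans inf_le_right) (isPGroup_o2 F) ?_
    exact h2.trans (normalizer_le_normalizer_o2 F)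
  intro x hx
  exact h3 (h1 ⟨hx.1, hx.2, centralizer_le_CC hp (hWc hx.1)⟩)

end Side

/-! ### Both sides -/

/-- The set-up of THEOREM J. -/
structure Ctx (V₁ V₂ : Subgroup G) : Prop where
  s1 : Side V₁ V₂
  s2 : Side V₂ V₁
  bot : FF V₁ V₂ ⊓ FF V₂ V₁ = ⊥

namespace Ctx

variable {V₁ V₂ : Subgroup G} (h : Ctx V₁ V₂)

include h

theorem symm : Ctx V₂ V₁ := ⟨h.s2, h.s1, by rw [inf_comm]; exact h.bot⟩

/-- The other side acts. -/
theorem mem_o2 {p q j : G} (hp : p ∈ V₁) (hq : q ∈ V₂) (hq1 : q ≠ 1)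
    (hj : j ∈ NN V₁ q) (hjc : j ∈ centralizer (NN V₂ p : Set G)) : j ∈ o2 (CC p) :=
  Side.le_o2_of_cent hp hq rfl ((isPGroup_o2 _).to_le (h.s2.NN_le_o2 hq hq1))
    (h.s2.NN_le_cent_two hq hq1) ⟨hj, hjc⟩

omit h in
/-- `V₁ ≤ E`. -/
theorem le_EE : V₁ ≤ FF V₂ V₁ := fun _ hx => mem_FF.2 fun q _ _ => le_NN V₁ q hx

omit h in
/-- A `w ∈ O₂(C(p))` fixes `E = ⋂ N_q`. -/
theorem cent_norm_EE {x : G} (hx : x ∈ centralizer (V₂ : Set G)) :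
    x ∈ normalizer (FF V₂ V₁ : Set G) := Side.norm_FF hx

/-- An element of `N_{p'}` centralised by `w` (which moves `p'`) is in `F`. -/
theorem mem_FF_of_fix {p p' w t : G} (hp : p ∈ V₁) (hp1 : p ≠ 1) (hp' : p' ∈ V₁) (hp1' : p' ≠ 1)
    (hne : p ≠ p') (hw : w ∈ o2 (CC p)) (hw' : w ∉ centralizer (V₁ : Set G))
    (ht : t ∈ NN V₂ p') (hwt : w * t * w⁻¹ = t) : t ∈ FF V₁ V₂ := by
  have h3 : t ∈ cj w (NN V₂ p') := by
    rw [← hwt]
    exact mem_map_of_mem _ ht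
  have hwn : w ∈ normalizer (V₂ : Set G) := centralizer_le_normalizer _ (h.s1.cent p hp hp1 hw)
  rw [cj_NN_of hwn, h.s1.swap hp hp1 hp' hp1' hne hw hw'] at h3
  refine h.s1.inf_le_FF hp' hp1' (V₁.mul_mem hp hp') (h.s1.third hp hne) ?_ ⟨ht, h3⟩
  intro e
  exact hp1 (mul_eq_right.1 e.symm)

/-- (2) `E ∩ N_{p'} = ⟨p'⟩`. -/
theorem two {p' t : G} (hp' : p' ∈ V₁) (hp1' : p' ≠ 1) (htE : t ∈ FF V₂ V₁)
    (ht : t ∈ NN V₂ p') : t = 1 ∨ t = p' := by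
  obtain ⟨p, hp, hp1, hne'⟩ := four_exists h.s1.card p'
  have hne : p ≠ p' := hne'.symm
  obtain ⟨q, hq, hq1, -⟩ := four_exists h.s2.card 1
  -- `t` centralises `N_p`
  have htc : t ∈ centralizer (NN V₂ p : Set G) := by
    rw [mem_centralizer_iff]
    intro y hy
    have hyE : y ∈ normalizer (FF V₂ V₁ : Set G) :=
      cent_norm_EE (h.s1.NN_le_cent_two hp hp1 hy)
    have hyN : y ∈ normalizer (NN V₂ p' : Set G) :=
      Side.norm_NN hp' (h.s1.NN_le_cent_one hp hp1 hy)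
    have htN : t ∈ normalizer (NN V₂ p : Set G) :=
      Side.norm_NN hp (h.s1.NN_le_cent_one hp' hp1' ht)
    have h1 : y * t * y⁻¹ * t⁻¹ ∈ FF V₂ V₁ :=
      mul_mem ((mem_normalizer_iff.1 hyE t).1 htE) (inv_mem htE)
    have h2 : y * t * y⁻¹ * t⁻¹ ∈ NN V₂ p' :=
      mul_mem ((mem_normalizer_iff.1 hyN t).1 ht) (inv_mem ht)
    have h3 : y * t * y⁻¹ * t⁻¹ ∈ NN V₂ p := by
      have e : y * t * y⁻¹ * t⁻¹ = y * (t * y⁻¹ * t⁻¹) := by group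
      rw [e]
      exact mul_mem hy ((mem_normalizer_iff.1 htN y⁻¹).1 (inv_mem hy))
    have h4 : y * t * y⁻¹ * t⁻¹ ∈ FF V₁ V₂ ⊓ FF V₂ V₁ :=
      ⟨h.s1.inf_le_FF hp hp1 hp' hp1' hne ⟨h3, h2⟩, h1⟩
    rw [h.bot, mem_bot] at h4
    exact mul_inv_eq_iff_eq_mul.1 (mul_inv_eq_one.1 h4)
  have hto : t ∈ o2 (CC p) := h.mem_o2 hp hq hq1 (mem_FF.1 htE q hq hq1) htc
  obtain ⟨w, hw, hw', hwx⟩ := h.s1.tv p hp hp1
  -- a fixed element is trivial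
  have key : ∀ u ∈ FF V₂ V₁, u ∈ NN V₂ p' → w * u * w⁻¹ = u → u = 1 := by
    intro u huE hu huw
    have h5 : u ∈ FF V₁ V₂ ⊓ FF V₂ V₁ :=
      ⟨h.mem_FF_of_fix hp hp1 hp' hp1' hne hw hw' hu huw, huE⟩
    rwa [h.bot, mem_bot] at h5
  rcases hwx t hto with e | e
  · left
    exact key t htE ht (mul_inv_eq_one.1 e)
  · right
    have e1 : w * t * w⁻¹ = p * t := mul_inv_eq_iff_eq_mul.1 e
    have htp : p * t = t * p := mem_CC.1 (o2_le _ hto)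
    have e2 : w * (t * p') * w⁻¹ = t * p' := by
      have e3 : w * (t * p') * w⁻¹ = w * t * w⁻¹ * (w * p' * w⁻¹) := by group
      rw [e3, e1, h.s1.swap hp hp1 hp' hp1' hne hw hw', htp, mul_assoc, ← mul_assoc p p p',
        h.s1.two p hp, one_mul]
    have h6 := key (t * p') (mul_mem htE (le_EE hp')) (mul_mem ht (h.s1.mem p' hp' hp1')) e2
    rw [eq_inv_of_mul_eq_one_left h6, h.s1.inv hp']

/-- (3) `C_{N_p ∩ N_q}(N_{p'}) ≤ {1, p, q, pq}`. -/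
theorem three {p p' q j : G} (hp : p ∈ V₁) (hp1 : p ≠ 1) (hp' : p' ∈ V₁) (hp1' : p' ≠ 1)
    (hne : p' ≠ p) (hq : q ∈ V₂) (hq1 : q ≠ 1) (hj : j ∈ NN V₂ p) (hj' : j ∈ NN V₁ q)
    (hjc : j ∈ centralizer (NN V₂ p' : Set G)) : j = 1 ∨ j = p ∨ j = q ∨ j = p * q := by
  have hjo : j ∈ o2 (CC p') := h.mem_o2 hp' hq hq1 hj' hjc
  obtain ⟨w, hw, hw', hwx⟩ := h.s1.tv p' hp' hp1'
  have key : ∀ u ∈ NN V₂ p, u ∈ NN V₁ q → w * u * w⁻¹ = u → u = 1 ∨ u = q := by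
    intro u hu hu' huw
    exact h.symm.two hq hq1 (h.mem_FF_of_fix hp' hp1' hp hp1 hne hw hw' hu huw) hu'
  rcases hwx j hjo with e | e
  · rcases key j hj hj' (mul_inv_eq_one.1 e) with e | e
    · exact Or.inl e
    · exact Or.inr (Or.inr (Or.inl e))
  · have e1 : w * j * w⁻¹ = p' * j := mul_inv_eq_iff_eq_mul.1 e
    have hjp : p' * j = j * p' := mem_CC.1 (o2_le _ hjo)
    have e2 : w * (j * p) * w⁻¹ = j * p := by
      have e3 : w * (j * p) * w⁻¹ = w * j * w⁻¹ * (w * p * w⁻¹) := by group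
      rw [e3, e1, h.s1.swap hp' hp1' hp hp1 hne hw hw', hjp, mul_assoc, ← mul_assoc p' p' p,
        h.s1.two p' hp', one_mul]
    have hpp : p * p = 1 := h.s1.two p hp
    have h6 := key (j * p) (mul_mem hj (h.s1.mem p hp hp1)) (mul_mem hj' (le_NN V₁ q hp)) e2
    rcases h6 with e | e
    · right; left
      rw [eq_inv_of_mul_eq_one_left e, h.s1.inv hp]
    · right; right; right
      have e4 : j = q * p := by rw [← e, mul_assoc, hpp, mul_one]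
      rw [e4]
      exact (mem_centralizer_iff.1 (h.s1.le_cent hq) p hp).symm

/-- (4) `[N_p ∩ N_q, N_{p'}] ≤ ⟨q⟩`. -/
theorem four {p p' q j y : G} (hp : p ∈ V₁) (hp1 : p ≠ 1) (hp' : p' ∈ V₁) (hp1' : p' ≠ 1)
    (hne : p' ≠ p) (hq : q ∈ V₂) (hq1 : q ≠ 1) (hj : j ∈ NN V₂ p) (hj' : j ∈ NN V₁ q)
    (hy : y ∈ NN V₂ p') : j * y * j⁻¹ * y⁻¹ = 1 ∨ j * y * j⁻¹ * y⁻¹ = q := by
  have hyN : y ∈ normalizer (NN V₂ p : Set G) :=
    Side.norm_NN hp (h.s1.NN_le_cent_one hp' hp1' hy)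
  have hjN : j ∈ normalizer (NN V₂ p' : Set G) :=
    Side.norm_NN hp' (h.s1.NN_le_cent_one hp hp1 hj)
  have hyq : y ∈ normalizer (NN V₁ q : Set G) :=
    Side.norm_NN hq (h.s1.NN_le_cent_two hp' hp1' hy)
  have e : j * y * j⁻¹ * y⁻¹ = j * (y * j⁻¹ * y⁻¹) := by group
  have h1 : j * y * j⁻¹ * y⁻¹ ∈ NN V₂ p := by
    rw [e]
    exact mul_mem hj ((mem_normalizer_iff.1 hyN j⁻¹).1 (inv_mem hj))
  have h2 : j * y * j⁻¹ * y⁻¹ ∈ NN V₂ p' :=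
    mul_mem ((mem_normalizer_iff.1 hjN y).1 hy) (inv_mem hy)
  have h3 : j * y * j⁻¹ * y⁻¹ ∈ NN V₁ q := by
    rw [e]
    exact mul_mem hj' ((mem_normalizer_iff.1 hyq j⁻¹).1 (inv_mem hj'))
  exact h.symm.two hq hq1 (h.s1.inf_le_FF hp hp1 hp' hp1' hne.symm ⟨h1, h2⟩) h3

/-- **THEOREM J**, steps (0)–(4): `N_p ∩ N_q = {1, p, q, pq}`, or some `x ∈ N_q` acts on `N_p` as a
nontrivial transvection with centre `q`. -/
theorem thmJ (htr : ∀ p ∈ V₁, p ≠ 1 → ∀ p' ∈ V₁, p' ≠ 1 →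
      ∃ l ∈ centralizer (V₂ : Set G) ⊓ normalizer (V₁ : Set G), l * p' * l⁻¹ = p)
    {p q : G} (hp : p ∈ V₁) (hp1 : p ≠ 1) (hq : q ∈ V₂) (hq1 : q ≠ 1) :
    (∀ j ∈ NN V₂ p, j ∈ NN V₁ q → j = 1 ∨ j = p ∨ j = q ∨ j = p * q) ∨
    ∃ x ∈ NN V₁ q, (∀ y ∈ NN V₂ p, x * y * x⁻¹ * y⁻¹ = 1 ∨ x * y * x⁻¹ * y⁻¹ = q) ∧
      ∃ y ∈ NN V₂ p, x * y * x⁻¹ * y⁻¹ = q := by
  by_contra hcon
  push Not at hcon
  obtain ⟨⟨j, hj, hj', hj1, hj2, hj3, hj4⟩, hno⟩ := hcon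
  obtain ⟨p', hp', hp1', hne⟩ := four_exists h.s1.card p
  obtain ⟨l, ⟨hl, hl'⟩, hlp⟩ := htr p hp hp1 p' hp' hp1'
  have hlq : l * q * l⁻¹ = q := by
    rw [← mem_centralizer_iff.1 hl q hq]
    group
  have hN : cj l (NN V₂ p') = NN V₂ p := by
    rw [cj_NN_of (centralizer_le_normalizer _ hl), hlp]
  have hNq : cj l (NN V₁ q) = NN V₁ q := by rw [cj_NN_of hl', hlq]
  have hx : l * j * l⁻¹ ∈ NN V₁ q := by
    rw [← hNq]
    exact mem_map_of_mem _ hj'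
  have hall : ∀ y ∈ NN V₂ p, l * j * l⁻¹ * y * (l * j * l⁻¹)⁻¹ * y⁻¹ = 1 ∨
      l * j * l⁻¹ * y * (l * j * l⁻¹)⁻¹ * y⁻¹ = q := by
    intro y hy
    have hy' : l⁻¹ * y * l ∈ NN V₂ p' := by
      rw [← mem_cj, hN]
      exact hy
    have e : l * j * l⁻¹ * y * (l * j * l⁻¹)⁻¹ * y⁻¹ =
        l * (j * (l⁻¹ * y * l) * j⁻¹ * (l⁻¹ * y * l)⁻¹) * l⁻¹ := by group
    rw [e]
    rcases h.four hp hp1 hp' hp1' hne.symm hq hq1 hj hj' hy' with e1 | e1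
    · left
      rw [e1]
      group
    · right
      rw [e1, hlq]
  -- by (3), `j` does not centralise `N_{p'}`
  have hjc : ¬ j ∈ centralizer (NN V₂ p' : Set G) := by
    intro hjc
    rcases h.three hp hp1 hp' hp1' hne.symm hq hq1 hj hj' hjc with e | e | e | e
    · exact hj1 e
    · exact hj2 e
    · exact hj3 e
    · exact hj4 e
  apply hjc
  rw [mem_centralizer_iff]
  intro y hy
  have hy' : l * y * l⁻¹ ∈ NN V₂ p := by
    rw [← hN]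
    exact mem_map_of_mem _ hy
  have h7 := (hall _ hy').resolve_right (hno _ hx hall _ hy')
  have e : l * j * l⁻¹ * (l * y * l⁻¹) * (l * j * l⁻¹)⁻¹ * (l * y * l⁻¹)⁻¹ =
      l * (j * y * j⁻¹ * y⁻¹) * l⁻¹ := by group
  rw [e] at h7
  have h8 : j * y * j⁻¹ * y⁻¹ = 1 := by
    have h9 : l * (j * y * j⁻¹ * y⁻¹) = l := by simpa using mul_inv_eq_one.1 h7
    exact mul_eq_left.1 h9
  exact (mul_inv_eq_iff_eq_mul.1 (mul_inv_eq_one.1 h8)).symm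

end Ctx

/-! ### (1) `E ∩ F = 1` -/

theorem cj_FF (g : G) (V₁ V₂ : Subgroup G) : cj g (FF V₁ V₂) = FF (cj g V₁) (cj g V₂) := by
  ext x
  rw [mem_cj, mem_FF, mem_FF]
  constructor
  · intro h p hp hp1
    have h1 := h (g⁻¹ * p * g) (mem_cj.1 hp) (fun e => hp1 (by
      have : p = g * (g⁻¹ * p * g) * g⁻¹ := by group
      rw [this, e]; group))
    rw [← mem_cj, cj_NN] at h1
    have e : g * (g⁻¹ * p * g) * g⁻¹ = p := by group
    rwa [e] at h1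
  · intro h p hp hp1
    have h1 := h (g * p * g⁻¹) (mem_map_of_mem _ hp) (fun e => hp1 (by
      have : p = g⁻¹ * (g * p * g⁻¹) * g := by group
      rw [this, e]; group))
    rwa [← cj_NN, mem_cj] at h1

/-- (1) `E ∩ F = 1`: a Sylow 2-subgroup `S` permutes `{V₁, V₂}` and `v₁v₂` lies in every nontrivial
normal subgroup of `S`. -/
theorem EE_inf_FF {V₁ V₂ S : Subgroup G} (h1 : Side V₁ V₂) (h2 : Side V₂ V₁) {v₁ v₂ : G}
    (hv₁ : v₁ ∈ V₁) (hv₁1 : v₁ ≠ 1) (hv₂ : v₂ ∈ V₂) (hv₂1 : v₂ ≠ 1) (hS : o2 (CC v₁) ≤ S)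
    (hact : ∀ s ∈ S, (cj s V₁ = V₁ ∧ cj s V₂ = V₂) ∨ (cj s V₁ = V₂ ∧ cj s V₂ = V₁))
    (hz : ∀ X ≤ S, X ≠ ⊥ → S ≤ normalizer (X : Set G) → v₁ * v₂ ∈ X) :
    FF V₁ V₂ ⊓ FF V₂ V₁ = ⊥ := by
  by_contra hne
  have hle : FF V₁ V₂ ⊓ FF V₂ V₁ ≤ S := fun x hx =>
    hS (h1.NN_le_o2 hv₁ hv₁1 (mem_FF.1 hx.1 v₁ hv₁ hv₁1))
  have hn : S ≤ normalizer ((FF V₁ V₂ ⊓ FF V₂ V₁ : Subgroup G) : Set G) := by
    intro s hs
    rw [mem_normalizer_iff_cj, cj_inf, cj_FF, cj_FF]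
    rcases hact s hs with ⟨e1, e2⟩ | ⟨e1, e2⟩
    · rw [e1, e2]
    · rw [e1, e2, inf_comm]
  have hzm := hz _ hle hne hn
  obtain ⟨q, hq, hq1, hne2⟩ := four_exists h2.card v₂
  obtain ⟨w, hw, hw', -⟩ := h2.tv q hq hq1
  have hwz : w * (v₁ * v₂) * w⁻¹ = v₁ * v₂ := by
    rw [← mem_centralizer_iff.1 (h2.o2_le_cent_NN hq hq1 hw) _ (mem_FF.1 hzm.2 q hq hq1)]
    group
  have hwv : w * v₁ * w⁻¹ = v₁ := by
    rw [← mem_centralizer_iff.1 (h2.cent q hq hq1 hw) _ hv₁]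
    group
  have hws := h2.swap hq hq1 hv₂ hv₂1 hne2.symm hw hw'
  have e : w * (v₁ * v₂) * w⁻¹ = w * v₁ * w⁻¹ * (w * v₂ * w⁻¹) := by group
  rw [e, hwv, hws] at hwz
  exact hq1 (mul_eq_right.1 (mul_left_cancel hwz))

/-! ### From one point to all points -/

/-- The facts at one point `v₁` and transitivity on `V₁#` suffice. -/
theorem Side.of_point {V₁ V₂ : Subgroup G} {v₁ : G}
    (htwo : ∀ x ∈ V₁, x * x = 1) (hcard : Nat.card V₁ = 4)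
    (htr : ∀ p ∈ V₁, p ≠ 1 → ∃ l ∈ centralizer (V₂ : Set G) ⊓ normalizer (V₁ : Set G),
      l * v₁ * l⁻¹ = p)
    (h1 : V₂ ≤ o2 (CC v₁)) (h2 : o2 (CC v₁) ≤ centralizer (V₂ : Set G))
    (h3 : V₁ ≤ o2 (CC v₁)) (h4 : o2 (CC v₁) ≤ normalizer (V₁ : Set G))
    (h5 : ∃ w ∈ o2 (CC v₁), w ∉ centralizer (V₁ : Set G) ∧
      ∀ x ∈ o2 (CC v₁), w * x * w⁻¹ * x⁻¹ = 1 ∨ w * x * w⁻¹ * x⁻¹ = v₁)
    (h6 : v₁ ∈ NN V₂ v₁) : Side V₁ V₂ := by
  have key : ∀ p ∈ V₁, p ≠ 1 → ∃ l : G, cj l V₁ = V₁ ∧ cj l V₂ = V₂ ∧ l * v₁ * l⁻¹ = p ∧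
      o2 (CC p) = cj l (o2 (CC v₁)) := by
    intro p hp hp1
    obtain ⟨l, ⟨hl, hl'⟩, e⟩ := htr p hp hp1
    refine ⟨l, cj_eq_of_mem_normalizer hl',
      cj_eq_of_mem_normalizer (centralizer_le_normalizer _ hl), e, ?_⟩
    rw [← e, ← cj_CC]
    exact pCore_cj l _
  refine ⟨htwo, hcard, ?_, ?_, ?_, ?_, ?_, ?_⟩
  · intro p hp hp1
    obtain ⟨l, e1, e2, e3, e4⟩ := key p hp hp1
    rw [e4, ← e2]
    exact cj_mono l h1
  · intro p hp hp1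
    obtain ⟨l, e1, e2, e3, e4⟩ := key p hp hp1
    rw [e4, ← e2, ← cj_centralizer]
    exact cj_mono l h2
  · intro p hp hp1
    obtain ⟨l, e1, e2, e3, e4⟩ := key p hp hp1
    rw [e4]
    nth_rewrite 1 [← e1]
    exact cj_mono l h3
  · intro p hp hp1
    obtain ⟨l, e1, e2, e3, e4⟩ := key p hp hp1
    rw [e4, ← e1, ← cj_normalizer]
    exact cj_mono l h4
  · intro p hp hp1
    obtain ⟨l, e1, e2, e3, e4⟩ := key p hp hp1
    obtain ⟨w, hw, hw', hwx⟩ := h5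
    refine ⟨l * w * l⁻¹, by rw [e4]; exact mem_map_of_mem _ hw, ?_, ?_⟩
    · intro hc
      apply hw'
      rw [← e1, ← cj_centralizer, mem_cj] at hc
      have e : l⁻¹ * (l * w * l⁻¹) * l = w := by group
      rwa [e] at hc
    · intro x hx
      rw [e4, mem_cj] at hx
      have e : l * w * l⁻¹ * x * (l * w * l⁻¹)⁻¹ * x⁻¹ =
          l * (w * (l⁻¹ * x * l) * w⁻¹ * (l⁻¹ * x * l)⁻¹) * l⁻¹ := by group
      rw [e]
      rcases hwx _ hx with e5 | e5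
      · left
        rw [e5]
        group
      · right
        rw [e5, e3]
  · intro p hp hp1
    obtain ⟨l, e1, e2, e3, e4⟩ := key p hp hp1
    have h7 : l * v₁ * l⁻¹ ∈ cj l (NN V₂ v₁) := mem_map_of_mem _ h6
    rwa [cj_NN, e2, e3] at h7

end Cfsg.Agent.Omega.IId.ThmJ

end
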