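import Cfsg.Agent.Mrg.Omega.IId.LineAct
import Cfsg.Agent.Mrg.Omega.IId.ThmJQ
import Cfsg.Agent.Mrg.Omega.IId.Match


/-!
# II.d, CASE 1, all `q`: the set-up of THEOREM J from a mutual pair (helper612 #13524 (b), #13793; helper895 #13722)

`M : NatK F S P (zl S P) ⊥ 2`, `stab M i` a Sylow 2-subgroup of `N_G(line M i)`.

* `exists_fixed_mod` : a 2-group acting on `B/A ≠ 1`;
* `KR R = {g ∈ C_G(R) | [O₂(N_G(R)), g] ≤ R}`, `KR_le_o2`;
* `o2_le_stab`, `o2_cent_line`, `comm_fac`, `fac_le_KR`, `other` : `O₂(N_G(line M i)) ≤ stab M i`, it centralises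
  `line M i` and `fac M i / line M i` and `fac M j`; `fac M i, fac M j ≤ O₂(N_G(line M i))`;
* `supply` : the partner supplies the full transvection group;
* `side` : `ThmJQ.Side`, from the supply;
* `Side.cj` : conjugation;
* `ctx_of`, `ctx_of_pair` : `ThmJQ.Ctx`, or the two groups `N_R`, `N_{R₂}` commute.
-/

set_option autoImplicit false
set_option linter.unusedSectionVars false

namespace Cfsg.Agent.Omega.IId.SideOf

open Subgroup Cfsg Cfsg.Agent.ZN Cfsg.Agent.ZN.ChoiceBase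
open Cfsg.Agent.Omega.MinPar Cfsg.Agent.Omega.FFThm Cfsg.Agent.Omega.IId.Lns
open Cfsg.Agent.MinSimple.VModule (o2_isPGroup)
open Cfsg.Agent.MinSimple.Basic
open Cfsg.Agent.Omega.IId.Two (le_normalizer_of)
open Cfsg.Agent.Lib.SL2Mat
open Cfsg.Agent.Omega.NatPair (ap)
open Cfsg.Agent.Omega.IId.ThmJQ (Side NN FF Loc Ctx loc_normalizer)

universe u

variable {G : Type u} [Group G]

/-! ### Generalities -/

/-- A 2-group acting on `B / A ≠ 1` has a nontrivial fixed point. -/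
theorem exists_fixed_mod [Finite G] {A B T : Subgroup G} (hne : ¬ B ≤ A)
    (hBA : B ≤ normalizer (A : Set G)) (hB2 : IsPGroup 2 B) (hT2 : IsPGroup 2 T)
    (hTA : T ≤ normalizer (A : Set G)) (hTB : T ≤ normalizer (B : Set G)) :
    ∃ b ∈ B, b ∉ A ∧ ∀ t ∈ T, t * b * t⁻¹ * b⁻¹ ∈ A := by
  set K := normalizer (A : Set G) with hK
  have nA : (A.subgroupOf K).Normal := normal_subgroupOf_of_le_normalizer le_rfl
  set π := QuotientGroup.mk' (A.subgroupOf K) with hπ
  have hker : ∀ x : K, π x = 1 ↔ (x : G) ∈ A := fun x => QuotientGroup.eq_one_iff x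
  have h1 : IsPGroup 2 ((B.subgroupOf K).map π) :=
    (hB2.comap_of_injective K.subtype K.subtype_injective).map π
  have h2 : IsPGroup 2 ((T.subgroupOf K).map π) :=
    (hT2.comap_of_injective K.subtype K.subtype_injective).map π
  have h3 : (B.subgroupOf K).map π ≠ ⊥ := by
    intro h
    apply hne
    intro b hb
    have h4 : π ⟨b, hBA hb⟩ ∈ (B.subgroupOf K).map π := ⟨_, hb, rfl⟩
    rw [h, mem_bot] at h4
    exact (hker _).1 h4
  have h4 : (T.subgroupOf K).map π ≤ normalizer (((B.subgroupOf K).map π : Subgroup _) : Set _) := by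
    apply le_normalizer_of
    rintro _ ⟨t, ht, rfl⟩ _ ⟨b, hb, rfl⟩
    refine ⟨t * b * t⁻¹, ?_, by simp⟩
    exact (mem_normalizer_iff.1 (hTB ht) (b : G)).1 hb
  obtain ⟨v, hv, hv1, hvt⟩ := Half.exists_fixed h1 h3 h2 h4
  obtain ⟨b, hb, rfl⟩ := hv
  refine ⟨b, hb, fun h => hv1 ((hker b).2 h), fun t ht => ?_⟩
  have h5 := hvt (π ⟨t, hTA ht⟩) ⟨_, ht, rfl⟩
  have h6 : π (⟨t, hTA ht⟩ * b * ⟨t, hTA ht⟩⁻¹ * b⁻¹) = 1 := by
    rw [map_mul, map_mul, map_mul, map_inv, map_inv, h5, mul_inv_cancel]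
  exact (hker _).1 h6

/-- `{g ∈ C_G(R) | [O₂(N_G(R)), g] ≤ R}`. -/
def KR (R : Subgroup G) : Subgroup G where
  carrier := {g | g ∈ centralizer (R : Set G) ∧ ∀ x ∈ ZN.o2 (normalizer (R : Set G)), g * x * g⁻¹ * x⁻¹ ∈ R}
  one_mem' := ⟨one_mem _, fun x _ => by
    have e : (1 : G) * x * 1⁻¹ * x⁻¹ = 1 := by group
    rw [e]; exact one_mem _⟩
  mul_mem' := by
    rintro a b ⟨ha, ha'⟩ ⟨hb, hb'⟩
    refine ⟨mul_mem ha hb, fun x hx => ?_⟩
    have h1 : ∀ y ∈ R, a * y * a⁻¹ = y := by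
      intro y hy
      rw [← mem_centralizer_iff.1 ha y hy, mul_inv_cancel_right]
    have e : a * b * x * (a * b)⁻¹ * x⁻¹ = (a * (b * x * b⁻¹ * x⁻¹) * a⁻¹) * (a * x * a⁻¹ * x⁻¹) := by
      group
    rw [e, h1 _ (hb' x hx)]
    exact mul_mem (hb' x hx) (ha' x hx)
  inv_mem' := by
    rintro a ⟨ha, ha'⟩
    refine ⟨inv_mem ha, fun x hx => ?_⟩
    have h1 : ∀ y ∈ R, a⁻¹ * y * a = y := by
      intro y hy
      rw [mul_assoc, mem_centralizer_iff.1 ha y hy, inv_mul_cancel_left]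
    have e : a⁻¹ * x * a⁻¹⁻¹ * x⁻¹ = a⁻¹ * (a * x * a⁻¹ * x⁻¹)⁻¹ * a := by group
    rw [e, h1 _ (inv_mem (ha' x hx))]
    exact inv_mem (ha' x hx)

theorem mem_KR {R : Subgroup G} {g : G} : g ∈ KR R ↔
    g ∈ centralizer (R : Set G) ∧ ∀ x ∈ ZN.o2 (normalizer (R : Set G)), g * x * g⁻¹ * x⁻¹ ∈ R := Iff.rfl

theorem KR_le (R : Subgroup G) : KR R ≤ normalizer (R : Set G) := fun _ h =>
  centralizer_le_normalizer _ h.1

theorem le_normalizer_KR (R : Subgroup G) : normalizer (R : Set G) ≤ normalizer (KR R : Set G) := by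
  apply le_normalizer_of
  intro c hc g hg
  refine ⟨?_, fun x hx => ?_⟩
  · rw [mem_centralizer_iff]
    intro y hy
    have h1 := (mem_normalizer_iff.1 (inv_mem hc) y).1 hy
    have h2 := mem_centralizer_iff.1 hg.1 _ h1
    calc y * (c * g * c⁻¹) = c * (c⁻¹ * y * c⁻¹⁻¹ * g) * c⁻¹ := by group
      _ = c * g * c⁻¹ * y := by rw [h2]; group
  · have h1 : c⁻¹ * x * c ∈ ZN.o2 (normalizer (R : Set G)) := by
      have := (mem_normalizer_iff.1 (inv_mem (le_normalizer_o2 (normalizer (R : Set G)) hc)) x).1 hx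
      rwa [inv_inv] at this
    have h2 := hg.2 _ h1
    have h3 := (mem_normalizer_iff.1 hc _).1 h2
    have e : c * g * c⁻¹ * x * (c * g * c⁻¹)⁻¹ * x⁻¹ =
        c * (g * (c⁻¹ * x * c) * g⁻¹ * (c⁻¹ * x * c)⁻¹) * c⁻¹ := by group
    rw [e]
    exact h3

theorem isPGroup_of_sq {R : Subgroup G} (hs : ∀ x ∈ R, x * x = 1) : IsPGroup 2 R := by
  rintro ⟨x, hx⟩
  refine ⟨1, Subtype.ext ?_⟩
  change x ^ 2 ^ 1 = 1
  rw [pow_one, pow_two, hs x hx]

/-- `KR R` is a normal 2-subgroup of `N_G(R)`. -/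
theorem KR_le_o2 [Finite G] (hG : IsCharacteristicTwoType G) {R : Subgroup G} (hR1 : R ≠ ⊥)
    (hs : ∀ x ∈ R, x * x = 1) : KR R ≤ ZN.o2 (normalizer (R : Set G)) := by
  refine le_o2 (KR_le R) ?_ (le_normalizer_KR R)
  rintro ⟨g, hg⟩
  have h1 : g * g ∈ ZN.o2 (normalizer (R : Set G)) := by
    refine char2_normalizer hG (isPGroup_of_sq hs) hR1
      ⟨mul_mem (KR_le R hg) (KR_le R hg), mem_centralizer_iff.2 fun x hx => ?_⟩
    have hc := hg.2 x hx
    have h3 : g * (g * x * g⁻¹ * x⁻¹) * g⁻¹ = g * x * g⁻¹ * x⁻¹ := by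
      rw [← mem_centralizer_iff.1 hg.1 _ hc, mul_inv_cancel_right]
    have h2 : g * g * x * (g * g)⁻¹ = x := by
      calc g * g * x * (g * g)⁻¹ = g * (g * x * g⁻¹ * x⁻¹) * g⁻¹ * (g * x * g⁻¹ * x⁻¹) * x := by group
        _ = x := by rw [h3, hs _ hc, one_mul]
    calc x * (g * g) = g * g * x * (g * g)⁻¹ * (g * g) := by rw [h2]
      _ = g * g * x := by group
  obtain ⟨k, hk⟩ := (o2_isPGroup (normalizer (R : Set G))) ⟨g * g, h1⟩
  refine ⟨k + 1, Subtype.ext ?_⟩
  have h2 : (g * g) ^ 2 ^ k = 1 := congrArg Subtype.val hk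
  change g ^ 2 ^ (k + 1) = 1
  rw [pow_succ, mul_comm, pow_mul, pow_two, h2]

/-- `O₂(L₂ So)` centralises `V₂`. -/
theorem o2_le_cent [Finite G] {S : Sylow 2 G} {So V₁ V₂ L₁ L₂ : Subgroup G}
    (h : Two (S : Subgroup G) So V₁ V₂ L₁ L₂) : ZN.o2 (L₂ ⊔ So) ≤ centralizer (V₂ : Set G) := by
  have hSo2 : IsPGroup 2 So := S.isPGroup'.to_le h.SoS
  have hV2 : IsPGroup 2 V₂ := hSo2.to_le h.V2So
  have hne : V₂ ≠ ⊥ := by
    intro h0
    have h1 := h.big2
    rw [h0, card_bot] at h1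
    omega
  have h1 : L₂ ⊔ So ≤ normalizer ((V₂ ⊓ centralizer (ZN.o2 (L₂ ⊔ So) : Set G) : Subgroup G) : Set G) := by
    refine Half.le_normalizer_inf h.le_norm ?_
    apply le_normalizer_of
    intro k hk v hv
    rw [mem_centralizer_iff] at hv ⊢
    intro y hy
    have h2 := (mem_normalizer_iff.1 (inv_mem (le_normalizer_o2 _ hk)) y).1 hy
    have h3 := hv _ h2
    rw [inv_inv] at h3
    calc y * (k * v * k⁻¹) = k * (k⁻¹ * y * k * v) * k⁻¹ := by group
      _ = k * (v * (k⁻¹ * y * k)) * k⁻¹ := by rw [h3]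
      _ = k * v * k⁻¹ * y := by group
  obtain ⟨v, hv, hv1, hvc⟩ := Half.exists_fixed hV2 hne (o2_isPGroup (L₂ ⊔ So))
    ((o2_le _).trans h.le_norm)
  rcases h.irr _ inf_le_left h1 with h2 | h2
  · exfalso
    have h3 : v ∈ V₂ ⊓ centralizer (ZN.o2 (L₂ ⊔ So) : Set G) := by
      refine ⟨hv, mem_centralizer_iff.2 fun y hy => ?_⟩
      exact mul_inv_eq_iff_eq_mul.1 (hvc y hy)
    rw [h2, mem_bot] at h3
    exact hv1 h3
  · intro x hx
    rw [mem_centralizer_iff]
    intro y hy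
    rw [SetLike.mem_coe, ← h2] at hy
    exact (mem_centralizer_iff.1 hy.2 x hx).symm

/-! ### `O₂(N_G(R))` -/

section one

variable [Finite G] {F : Type} [Field F] [Finite F] [CharP F 2] {P : Subgroup G}
  (hc : IsCharacteristicTwoType G) {S : Sylow 2 G} (hP : IsParS (S : Subgroup G) P)
  (M : NatK F (S : Subgroup G) P (zl (S : Subgroup G) P) ⊥ 2) {i j : Fin 2} (hij : i ≠ j)
  (hd : ¬ 2 ∣ (stab M i).relIndex (normalizer (line M i : Set G)))

theorem line_sq {F : Type} [Field F] [CharP F 2] {S P : Subgroup G} {k : ℕ} (M : NatK F S P (zl S P) ⊥ k)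
    (i : Fin k) : ∀ x ∈ line M i, x * x = 1 := fun _ hx => sq M (fac_le M i (line_le M i hx))

theorem stab_isPGroup : IsPGroup 2 (stab M i) := S.isPGroup'.to_le (stab_le M i)

include hd in
/-- `O₂(N_G(R)) ≤ S₁`. -/
theorem o2_le_stab : ZN.o2 (normalizer (line M i : Set G)) ≤ stab M i :=
  MinSimple.VModule.o2_le_of_sylow (stab_isPGroup M) hd

include hc hP hij hd in
/-- `V₂ ≤ Z(O₂(N_G(R)))`. -/
theorem other : fac M j ≤ ZN.o2 (normalizer (line M i : Set G)) ∧
    ZN.o2 (normalizer (line M i : Set G)) ≤ centralizer (fac M j : Set G) := by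
  have hSP : (S : Subgroup G) ≤ P := hP.isLoc.le
  have h2 := two_of hc hP M hij
  have hLH : grp M {j} ⊔ stab M i ≤ normalizer (line M i : Set G) := by
    refine sup_le ?_ (stab_normalizes_line M hSP i)
    refine le_trans (fun l hl => ?_) (centralizer_le_normalizer (line M i : Set G))
    rw [mem_centralizer_iff]
    intro v hv
    exact (h2.L21 l hl v (line_le M i hv)).symm
  have h3 : ZN.o2 (normalizer (line M i : Set G)) ≤ ZN.o2 (grp M {j} ⊔ stab M i) :=
    o2_normal_le_o2 ((o2_le_stab M hd).trans le_sup_right) hLH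
  have h4 := h3.trans (o2_le_cent h2)
  refine ⟨fun v hv => ?_, h4⟩
  refine char2_normalizer hc (isPGroup_of_sq (line_sq M i)) (line_ne_bot i) ⟨?_, ?_⟩
  · exact hLH (mem_sup_right (h2.V2So hv))
  · refine mem_centralizer_iff.2 ?_
    intro x hx
    exact (mem_centralizer_iff.1 (h4 hx) v hv).symm

include hP hd in
/-- `O₂(N_G(R))` centralises `R`. -/
theorem o2_cent_line : ZN.o2 (normalizer (line M i : Set G)) ≤ centralizer (line M i : Set G) := by
  obtain ⟨r, hr, hr1, hrt⟩ := Half.exists_fixed (V := line M i) (isPGroup_of_sq (line_sq M i))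
    (line_ne_bot i) (o2_isPGroup (normalizer (line M i : Set G))) (o2_le _)
  intro x hx
  rw [mem_centralizer_iff]
  intro r' hr'
  by_cases hr1' : r' = 1
  · rw [hr1', one_mul, mul_one]
  obtain ⟨g, -, hg, rfl⟩ := exists_tor M hr hr' hr1 hr1'
  have h1 : g⁻¹ * x * g ∈ ZN.o2 (normalizer (line M i : Set G)) := by
    have := (mem_normalizer_iff.1 (inv_mem (le_normalizer_o2 _ hg)) x).1 hx
    rwa [inv_inv] at this
  have h2 := hrt _ h1
  calc g * r * g⁻¹ * x = g * (g⁻¹ * x * g * r * (g⁻¹ * x * g)⁻¹) * g⁻¹ * x := by rw [h2]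
    _ = x * (g * r * g⁻¹) := by group

include hc hP hd in
/-- `O₂(N_G(R))` centralises `V₁/R`. -/
theorem comm_fac : ∀ v ∈ fac M i, ∀ x ∈ ZN.o2 (normalizer (line M i : Set G)),
    x * v * x⁻¹ * v⁻¹ ∈ line M i := by
  have hSP : (S : Subgroup G) ≤ P := hP.isLoc.le
  have hQ := o2_le_stab M hd
  have hV2 : IsPGroup 2 (fac M i) := isPGroup_of_sq fun x hx => sq M (fac_le M i hx)
  have hab : ∀ x ∈ fac M i, ∀ y ∈ fac M i, x * y = y * x := fun x hx y hy =>
    comm M (fac_le M i hx) (fac_le M i hy)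
  have hne : ¬ fac M i ≤ line M i := by
    intro h
    obtain ⟨v, hv, hev⟩ := exists_fac M i ![0, 1]
    have h1 := ((mem_line M).1 (h hv)).2
    rw [hev] at h1
    simp at h1
  have hn : fac M i ≤ normalizer (line M i : Set G) := by
    apply le_normalizer_of
    intro k hk v hv
    rw [hab k hk v (line_le M i hv), mul_inv_cancel_right]
    exact hv
  obtain ⟨b, hb, hb1, hbt⟩ := exists_fixed_mod hne hn hV2
    (o2_isPGroup (normalizer (line M i : Set G))) (o2_le _) (hQ.trans (stab_normalizes M i))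
  intro v hv x hx
  by_cases hvl : v ∈ line M i
  · have h1 := (mem_normalizer_iff.1 (o2_le _ hx) v).1 hvl
    exact mul_mem h1 (inv_mem hvl)
  obtain ⟨g, hg0, hg, hgv⟩ := exists_torus' hb hv hb1 hvl
  -- `g b g⁻¹ = v r`
  set r := v⁻¹ * (g * b * g⁻¹) with hr
  have h1 : g⁻¹ * x * g ∈ ZN.o2 (normalizer (line M i : Set G)) := by
    have := (mem_normalizer_iff.1 (inv_mem (le_normalizer_o2 _ hg)) x).1 hx
    rwa [inv_inv] at this
  have h2 := (mem_normalizer_iff.1 hg _).1 (hbt _ h1)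
  have e1 : g * (g⁻¹ * x * g * b * (g⁻¹ * x * g)⁻¹ * b⁻¹) * g⁻¹ =
      x * (g * b * g⁻¹) * x⁻¹ * (g * b * g⁻¹)⁻¹ := by group
  have e2 : g * b * g⁻¹ = v * r := by rw [hr]; group
  rw [e1, e2] at h2
  -- `[x, v r] = x v x⁻¹ (x r x⁻¹) r⁻¹ v⁻¹`
  have h3 : x * r * x⁻¹ ∈ line M i := (mem_normalizer_iff.1 (o2_le _ hx) r).1 hgv
  have h4 : x * r * x⁻¹ * r⁻¹ ∈ line M i := mul_mem h3 (inv_mem hgv)
  have e3 : x * (v * r) * x⁻¹ * (v * r)⁻¹ = x * v * x⁻¹ * v⁻¹ * (v * (x * r * x⁻¹ * r⁻¹) * v⁻¹) := by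
    group
  have e4 : v * (x * r * x⁻¹ * r⁻¹) * v⁻¹ = x * r * x⁻¹ * r⁻¹ := by
    rw [hab v hv _ (line_le M i h4), mul_inv_cancel_right]
  rw [e3, e4] at h2
  exact (mul_mem_cancel_right h4).1 h2

include hc hP hd in
/-- `V₁ ≤ KR R`. -/
theorem fac_le_KR : fac M i ≤ KR (line M i) := by
  intro v hv
  refine ⟨?_, fun x hx => ?_⟩
  · rw [mem_centralizer_iff]
    intro r hr
    exact comm M (fac_le M i (line_le M i hr)) (fac_le M i hv)
  · have h1 := comm_fac hc hP M hd v hv x hx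
    have e : v * x * v⁻¹ * x⁻¹ = (x * v * x⁻¹ * v⁻¹)⁻¹ := by group
    rw [e]
    exact inv_mem h1

include hc hP hd in
theorem KR_le_o2' : KR (line M i) ≤ ZN.o2 (normalizer (line M i : Set G)) :=
  KR_le_o2 hc (line_ne_bot i) (line_sq M i)

include hc hP hd in
theorem fac_le_o2 : fac M i ≤ ZN.o2 (normalizer (line M i : Set G)) :=
  (fac_le_KR hc hP M hd).trans (KR_le_o2' hc hP M hd)

include hc hP hd in
/-- The elements of `O₂(N_G(R))` act on `V₁` as `up b`. -/
theorem o2_up {w : G} (hw : w ∈ ZN.o2 (normalizer (line M i : Set G))) :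
    ∃ b : F, ∀ v ∈ fac M i, M.e (w * v * w⁻¹) i = ap (up b) (M.e v i) := by
  refine exists_up (hP.isLoc.le ((o2_le_stab M hd).trans (stab_le M i) hw)) (fun r hr => ?_)
    fun v hv => comm_fac hc hP M hd v hv w hw
  rw [← mem_centralizer_iff.1 (o2_cent_line hP M hd hw) r hr, mul_inv_cancel_right]

end one

/-! ### The side -/

section side

variable [Finite G] {F : Type} [Field F] [Finite F] [CharP F 2] {P : Subgroup G}
  (hc : IsCharacteristicTwoType G) {S : Sylow 2 G} (hP : IsParS (S : Subgroup G) P)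
  (M : NatK F (S : Subgroup G) P (zl (S : Subgroup G) P) ⊥ 2) {i j : Fin 2} (hij : i ≠ j)
  (hd : ¬ 2 ∣ (stab M i).relIndex (normalizer (line M i : Set G)))

/-- `H R = N_G(R)`. -/
abbrev nrm (R : Subgroup G) : Subgroup G := normalizer (R : Set G)

/-- `KR R` induces the full transvection group with centre `R` on `V₁`. -/
def Full (M : NatK F (S : Subgroup G) P (zl (S : Subgroup G) P) ⊥ 2) (i : Fin 2) : Prop :=
  ∀ b : F, ∃ w ∈ KR (line M i), ∀ v ∈ fac M i, M.e (w * v * w⁻¹) i = ap (up b) (M.e v i)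

include hc hP hij hd in
/-- **The structure `Side`.** -/
theorem side (hK : Full M i) (hm : line M i ≤ NN nrm (fac M j) (line M i)) :
    Side nrm (fac M i) (fac M j) (lns M i) := by
  have hSP : (S : Subgroup G) ≤ P := hP.isLoc.le
  have h2 := two_of hc hP M hij
  obtain ⟨h3, h4⟩ := other hc hP M hij hd
  refine ThmJQ.Side.of_line (Λ := grp M {i}) loc_normalizer (le_inf ?_ (grp_normalizes M {i} {i}))
    (fun l hl R hR => cj_mem_lns hR hl) (fun R hR => hR) (fun R hR => lns_le hR)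
    (fun R hR R' hR' => exists_third_lns hR hR') h3 h4 (fac_le_o2 hc hP M hd) ?_ ?_ hm
  · intro l hl
    rw [mem_centralizer_iff]
    intro v hv
    exact (h2.L12 l hl v hv).symm
  · intro R' hR' R'' hR'' hne hne'
    obtain ⟨c, hcc⟩ := exists_coef hR' hne
    obtain ⟨c', hcc'⟩ := exists_coef hR'' hne'
    obtain ⟨w, hw, hwb⟩ := hK (c' - c)
    refine ⟨w, KR_le_o2' hc hP M hd hw, fun x hx => hw.2 x hx, ?_⟩
    have hwn : w ∈ normalizer (fac M i : Set G) :=
      stab_normalizes M i (o2_le_stab M hd (KR_le_o2' hc hP M hd hw))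
    have key : ∀ v ∈ fac M i, (v ∈ R' ↔ w * v * w⁻¹ ∈ R'') := by
      intro v hv
      have hv' := (mem_normalizer_iff.1 hwn v).1 hv
      rw [hcc, hcc', hwb v hv, NatPair.ap_zero', NatPair.ap_one', up_00, up_01, up_10, up_11]
      constructor
      · rintro ⟨-, h5⟩
        exact ⟨hv', by rw [h5]; ring⟩
      · rintro ⟨-, h5⟩
        exact ⟨hv, by linear_combination h5⟩
    ext x
    rw [mem_cj]
    constructor
    · intro hx
      have h5 := (key _ (lns_le hR' hx)).1 hx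
      have e : w * (w⁻¹ * x * w) * w⁻¹ = x := by group
      rwa [e] at h5
    · intro hx
      have h5 : w⁻¹ * x * w ∈ fac M i := by
        have := (mem_normalizer_iff.1 (inv_mem hwn) x).1 (lns_le hR'' hx)
        rwa [inv_inv] at this
      refine (key _ h5).2 ?_
      have e : w * (w⁻¹ * x * w) * w⁻¹ = x := by group
      rwa [e]
  · intro R' hR' w hw _ hne r hr
    have hwl : w ∈ normalizer (line M i : Set G) := o2_le _ hw
    have hne' : R' ≠ line M i := by
      rintro rfl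
      exact hne (cj_eq_of_mem_normalizer hwl)
    obtain ⟨c, hcc⟩ := exists_coef hR' hne'
    obtain ⟨b, hb⟩ := o2_up hc hP M hd hw
    have hwn : w ∈ normalizer (fac M i : Set G) := stab_normalizes M i (o2_le_stab M hd hw)
    have hb0 : b ≠ 0 := by
      rintro rfl
      apply hne
      have h5 : ∀ v ∈ fac M i, w * v * w⁻¹ = v := by
        intro v hv
        refine ext_fac M ((mem_normalizer_iff.1 hwn v).1 hv) hv ?_
        rw [hb v hv, up_zero, NatPair.ap_one]
      ext x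
      rw [mem_cj]
      have h6 : ∀ x ∈ fac M i, w⁻¹ * x * w = x := by
        intro x hx
        calc w⁻¹ * x * w = w⁻¹ * (w * x * w⁻¹) * w := by rw [h5 x hx]
          _ = x := by group
      constructor
      · intro hx
        have h7 := h5 _ (lns_le hR' hx)
        have e : w * (w⁻¹ * x * w) * w⁻¹ = x := by group
        rw [e] at h7
        rwa [← h7] at hx
      · intro hx
        rwa [h6 x (lns_le hR' hx)]
    obtain ⟨r', hr', her'⟩ := exists_fac M i ![c * (M.e r i 0 / b), M.e r i 0 / b]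
    refine ⟨r', (hcc r').2 ⟨hr', by rw [her']; rfl⟩, ?_⟩
    have h5 := (mem_normalizer_iff.1 hwn r').1 hr'
    refine ext_fac M (mul_mem h5 (inv_mem hr')) (line_le M i hr) ?_
    rw [M.mul _ h5.1 _ (inv_mem hr'.1), e_inv M hr'.1, Pi.add_apply, Pi.neg_apply, hb r' hr', her']
    apply NatPair.ext2
    · rw [Pi.add_apply, Pi.neg_apply, NatPair.ap_zero', up_00, up_01]
      simp only [Matrix.cons_val_zero, Matrix.cons_val_one]
      field_simp
      ring
    · rw [Pi.add_apply, Pi.neg_apply, NatPair.ap_one', up_10, up_11, ((mem_line M).1 hr).2]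
      simp only [Matrix.cons_val_zero, Matrix.cons_val_one]
      ring

end side

/-! ### Conjugation of sides -/

theorem cj_eq_iff {g : G} {A B : Subgroup G} : cj g A = B ↔ A = cj g⁻¹ B := by
  constructor
  · rintro rfl
    rw [cj_inv_cj]
  · rintro rfl
    rw [cj_cj_inv]

/-- Conjugate of a `Side`. -/
theorem side_cj {H : Subgroup G → Subgroup G} (hH : Loc H) {V₁ V₂ : Subgroup G} {L : Set (Subgroup G)}
    (h : Side H V₁ V₂ L) (g : G) : Side H (cj g V₁) (cj g V₂) ((cj g) '' L) := by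
  have ho : ∀ R, ZN.o2 (H (cj g R)) = cj g (ZN.o2 (H R)) := fun R => by
    rw [← hH.eqv]
    exact pCore_cj g _
  have conj : ∀ (w x : G), g * w * g⁻¹ * (g * x * g⁻¹) * (g * w * g⁻¹)⁻¹ * (g * x * g⁻¹)⁻¹ =
      g * (w * x * w⁻¹ * x⁻¹) * g⁻¹ := fun w x => by group
  have inj : ∀ {A B : Subgroup G}, cj g A = cj g B → A = B := by
    intro A B e
    have := congrArg (cj g⁻¹) e
    rwa [cj_inv_cj, cj_inv_cj] at this
  refine ⟨?_, ?_, ?_, ?_, ?_, ?_, ?_, ?_⟩
  · rintro _ ⟨R, hR, rfl⟩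
    exact cj_mono g (h.le R hR)
  · rintro _ ⟨R, hR, rfl⟩
    rw [ho]
    exact cj_mono g (h.in_o2 R hR)
  · rintro _ ⟨R, hR, rfl⟩
    rw [ho, ← cj_centralizer]
    exact cj_mono g (h.cent R hR)
  · rintro _ ⟨R, hR, rfl⟩
    rw [ho]
    exact cj_mono g (h.self R hR)
  · rintro _ ⟨R, hR, rfl⟩ _ ⟨R', hR', rfl⟩ _ ⟨R'', hR'', rfl⟩ hne hne'
    obtain ⟨w, hw, h1, h2⟩ := h.tv R hR R' hR' R'' hR'' (fun e => hne (by rw [e])) (fun e => hne' (by rw [e]))
    refine ⟨g * w * g⁻¹, ?_, ?_, ?_⟩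
    · rw [ho]
      exact ⟨w, hw, rfl⟩
    · intro x hx
      rw [ho, mem_cj] at hx
      have e : x = g * (g⁻¹ * x * g) * g⁻¹ := by group
      rw [e, conj]
      exact ⟨_, h1 _ hx, rfl⟩
    · rw [cj_cj, ← h2, cj_cj]
      congr 1
      group
  · rintro _ ⟨R, hR, rfl⟩ _ ⟨R', hR', rfl⟩ w hw hwx hne r hr
    rw [ho, mem_cj] at hw
    rw [mem_cj] at hr
    have h1 : ∀ x ∈ ZN.o2 (H R), g⁻¹ * w * g * x * (g⁻¹ * w * g)⁻¹ * x⁻¹ ∈ R := by
      intro x hx
      have h1 := hwx (g * x * g⁻¹) (by rw [ho]; exact ⟨x, hx, rfl⟩)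
      rw [mem_cj] at h1
      have e : g⁻¹ * (w * (g * x * g⁻¹) * w⁻¹ * (g * x * g⁻¹)⁻¹) * g =
          g⁻¹ * w * g * x * (g⁻¹ * w * g)⁻¹ * x⁻¹ := by group
      rwa [e] at h1
    have h2 : cj (g⁻¹ * w * g) R' ≠ R' := by
      intro e
      apply hne
      nth_rewrite 2 [← e]
      rw [cj_cj, cj_cj]
      congr 1
      group
    obtain ⟨r', hr', e⟩ := h.onto R hR R' hR' (g⁻¹ * w * g) hw h1 h2 _ hr
    refine ⟨g * r' * g⁻¹, ⟨r', hr', rfl⟩, ?_⟩
    have e2 : w * (g * r' * g⁻¹) * w⁻¹ * (g * r' * g⁻¹)⁻¹ =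
        g * (g⁻¹ * w * g * r' * (g⁻¹ * w * g)⁻¹ * r'⁻¹) * g⁻¹ := by group
    rw [e2, e]
    group
  · rintro _ ⟨R, hR, rfl⟩ _ ⟨R', hR', rfl⟩
    obtain ⟨R'', hR'', h1, h2⟩ := h.three R hR R' hR'
    exact ⟨cj g R'', ⟨R'', hR'', rfl⟩, fun e => h1 (inj e), fun e => h2 (inj e)⟩
  · rintro _ ⟨R, hR, rfl⟩
    rw [← ThmJQ.cj_NN hH]
    exact cj_mono g (h.mem R hR)

/-! ### Both sides -/

/-- A nontrivial normal subgroup of a 2-group meets the centre. -/
theorem exists_zc [Finite G] {S X : Subgroup G} (hS : IsPGroup 2 S) (hX : X ≤ S) (hX1 : X ≠ ⊥)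
    (hn : S ≤ normalizer (X : Set G)) : ∃ z ∈ X, z ≠ 1 ∧ z ∈ zc S := by
  have hX2 : IsPGroup 2 X := hS.to_le hX
  obtain ⟨z, hz, hz1, hzS⟩ := Half.exists_fixed (V := zc X) (hX2.to_le (zc_le X)) (ZN.zc_ne_bot hX2 hX1) hS
    (hn.trans (normalizer_le_normalizer_zc X))
  have hz' := ZN.mem_zc.1 hz
  exact ⟨z, hz'.1, hz1, ZN.mem_zc.2 ⟨hX hz'.1, fun y hy => mul_inv_eq_iff_eq_mul.1 (hzS y hy), hz'.2.2⟩⟩

/-- A 2-subgroup is not bigger than a Sylow 2-subgroup. -/
theorem card_dvd_of [Finite G] {T U H : Subgroup G} (hT : T ≤ H) (hTs : ¬ 2 ∣ T.relIndex H)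
    (hU2 : IsPGroup 2 U) (hU : U ≤ H) : Nat.card U ∣ Nat.card T := by
  have : Fact (Nat.Prime 2) := ⟨Nat.prime_two⟩
  have h1 := Half.card_mul_relIndex hT
  have h2 : Nat.card U ∣ Nat.card H := card_dvd_of_le hU
  rw [← h1] at h2
  obtain ⟨n, hn⟩ := IsPGroup.iff_card.mp hU2
  refine Nat.Coprime.dvd_of_dvd_mul_right ?_ h2
  rw [hn]
  exact Nat.Coprime.pow_left n ((Nat.prime_two.coprime_iff_not_dvd).2 hTs)

section both

variable [Finite G] {F : Type} [Field F] [Finite F] [CharP F 2] {P : Subgroup G}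
  (hc : IsCharacteristicTwoType G) {S : Sylow 2 G} (hP : IsParS (S : Subgroup G) P)
  (M : NatK F (S : Subgroup G) P (zl (S : Subgroup G) P) ⊥ 2) {i j : Fin 2} (hij : i ≠ j)
  (hd : ¬ 2 ∣ (stab M i).relIndex (normalizer (line M i : Set G)))

/-- An element of `S` outside `stab M i` swaps the lines. -/
theorem swap_line {S P : Subgroup G} (M : NatK F S P (zl S P) ⊥ 2) {i j : Fin 2} (hij : i ≠ j) (hSP : S ≤ P)
    {s : G} (hs : s ∈ S) (hn : s ∉ stab M i) : cj s (line M i) = line M j := by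
  rw [conj_line M hSP hs]
  have h1 := swap_fac M hSP hij hs hn
  rw [(sg_eq_iff M (hSP hs)).2 h1]

include hP hij hd in
theorem syl_other : ¬ 2 ∣ (stab M j).relIndex (normalizer (line M j : Set G)) := by
  have hSP : (S : Subgroup G) ≤ P := hP.isLoc.le
  obtain ⟨s, hs, hn⟩ : ∃ s ∈ (S : Subgroup G), s ∉ stab M i := by
    have h2 := card_stab M hSP i
    exact Two.exists_not_mem (stab_le M i) h2
  have h1 := swap_line M hij hSP hs hn
  have h2 : cj s (stab M i) = stab M j := by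
    rw [conj_stab M hSP hs, (sg_eq_iff M (hSP hs)).2 (swap_fac M hSP hij hs hn)]
  rw [← h1, ← h2, ← cj_normalizer]
  intro h
  apply hd
  have e : (cj s (stab M i)).relIndex (cj s (normalizer (line M i : Set G))) =
      (stab M i).relIndex (normalizer (line M i : Set G)) := by
    have h3 : stab M i ≤ normalizer (line M i : Set G) := stab_normalizes_line M hSP i
    have h4 := Half.card_mul_relIndex h3
    have h5 := Half.card_mul_relIndex (cj_mono s h3)
    rw [card_cj, card_cj, ← h4] at h5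
    exact Nat.eq_of_mul_eq_mul_left Nat.card_pos h5
  rwa [e] at h

include hP hij in
/-- `s` maps the lines of `V₁` to the lines of `V₂`. -/
theorem image_lns {s : G} (hs : s ∈ (S : Subgroup G)) (hn : s ∉ stab M i) :
    (cj s) '' (lns M i) = lns M j := by
  have hSP : (S : Subgroup G) ≤ P := hP.isLoc.le
  have h1 : sg M (hSP hs) i = j := (sg_eq_iff M (hSP hs)).2 (swap_fac M hSP hij hs hn)
  have hn' : s⁻¹ ∉ stab M j := by
    rw [← stab_eq M hSP hij]
    exact fun h => hn (inv_mem_iff.1 h)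
  have h2 : sg M (hSP (inv_mem hs)) j = i :=
    (sg_eq_iff M (hSP (inv_mem hs))).2 (swap_fac M hSP hij.symm (inv_mem hs) hn')
  ext X
  constructor
  · rintro ⟨Y, hY, rfl⟩
    have := cj_lns hSP hs hY
    rwa [h1] at this
  · intro hX
    have := cj_lns hSP (inv_mem hs) hX
    rw [h2] at this
    exact ⟨_, this, cj_cj_inv s X⟩

include hc hP hij hd in
/-- **THEOREM J applies, or `N_R` and `N_{R₂}` commute.** -/
theorem ctx_of (hK : Full M i) :
    (∀ x ∈ NN nrm (fac M j) (line M i), ∀ y ∈ NN nrm (fac M i) (line M j), x * y = y * x) ∨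
    Ctx nrm (fac M i) (fac M j) (lns M i) (lns M j) := by
  have hSP : (S : Subgroup G) ≤ P := hP.isLoc.le
  have hV : zl (S : Subgroup G) P ≤ (S : Subgroup G) := zl_le_sylow hc S hP.isLoc
  have hd' := syl_other hP M hij hd
  obtain ⟨s, hs, hn⟩ : ∃ s ∈ (S : Subgroup G), s ∉ stab M i :=
    Two.exists_not_mem (stab_le M i) (card_stab M hSP i)
  have hn' : s ∉ stab M j := by rwa [← stab_eq M hSP hij]
  by_cases hcomm : ∀ x ∈ NN nrm (fac M j) (line M i), ∀ y ∈ NN nrm (fac M i) (line M j), x * y = y * x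
  · exact Or.inl hcomm
  right
  set N₁ := NN nrm (fac M j) (line M i) with hN₁
  set N₂ := NN nrm (fac M i) (line M j) with hN₂
  have n1 : N₁ ≤ ZN.o2 (normalizer (line M i : Set G)) :=
    ThmJQ.NN_le (other hc hP M hij hd).1 (le_normalizer_o2 _)
  have n2 : N₂ ≤ ZN.o2 (normalizer (line M j : Set G)) :=
    ThmJQ.NN_le (other hc hP M hij.symm hd').1 (le_normalizer_o2 _)
  have s1 : N₁ ≤ stab M i := n1.trans (o2_le_stab M hd)
  have s2 : N₂ ≤ stab M i := by
    have := n2.trans (o2_le_stab M hd')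
    rwa [← stab_eq M hSP hij] at this
  have t1 : stab M i ≤ normalizer (N₁ : Set G) :=
    (stab_normalizes_line M hSP i).trans (ThmJQ.H_le_normalizer_NN (H := nrm) _ _)
  have t2 : stab M i ≤ normalizer (N₂ : Set G) := by
    have := (stab_normalizes_line M hSP j).trans (ThmJQ.H_le_normalizer_NN (H := nrm) (fac M i) _)
    rwa [← stab_eq M hSP hij] at this
  -- the commutator
  have hI1 : ⁅N₁, N₂⁆ ≤ N₁ := commutator_le.2 fun x hx y hy => by
    rw [commutatorElement_def]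
    have h3 := (mem_normalizer_iff.1 (t1 (s2 hy)) x⁻¹).1 (inv_mem hx)
    have e : x * y * x⁻¹ * y⁻¹ = x * (y * x⁻¹ * y⁻¹) := by group
    rw [e]
    exact mul_mem hx h3
  have hI0 : ⁅N₁, N₂⁆ ≠ ⊥ := by
    intro h
    apply hcomm
    rw [commutator_eq_bot_iff_le_centralizer] at h
    intro x hx y hy
    exact (mem_centralizer_iff.1 (h hx) y hy).symm
  have hSI : (S : Subgroup G) ≤ normalizer ((⁅N₁, N₂⁆ : Subgroup G) : Set G) := by
    intro t ht
    rw [mem_normalizer_iff_cj]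
    have e : cj t ⁅N₁, N₂⁆ = ⁅cj t N₁, cj t N₂⁆ := Subgroup.map_commutator _ _ _
    rw [e]
    by_cases hts : t ∈ stab M i
    · rw [cj_eq_of_mem_normalizer (t1 hts), cj_eq_of_mem_normalizer (t2 hts)]
    · have hts' : t ∉ stab M j := by rwa [← stab_eq M hSP hij]
      rw [hN₁, hN₂, ThmJQ.cj_NN loc_normalizer, ThmJQ.cj_NN loc_normalizer, swap_fac M hSP hij ht hts,
        swap_fac M hSP hij.symm ht hts', swap_line M hij hSP ht hts, swap_line M hij.symm hSP ht hts',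
        commutator_comm]
  obtain ⟨z, hzI, hz1, hzS⟩ := exists_zc S.isPGroup' (hI1.trans (s1.trans (stab_le M i))) hI0 hSI
  have hz := ZN.mem_zc.1 hzS
  have hzV : z ∈ zl (S : Subgroup G) P := ChoiceSit.zc_le_zl _ _ hzS
  obtain ⟨a, ha, b, hb, hab⟩ := exists_comp2 M hij hzV
  have hea : M.e a i = M.e z i := by
    rw [hab, M.mul a ha.1 b hb.1, Pi.add_apply, hb.2 i hij, add_zero]
  have ha1 : a ≠ 1 := by
    intro h
    apply hz1
    refine eq_one_of_cent M hzV hz.2.1 (i := i) ?_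
    rw [← hea, h, e_one]
    rfl
  have hal : a ∈ line M i := fix_le_line M hSP ha fun t ht =>
    component_cent M hSP hzV ha hea ht (hz.2.1 t ht.1)
  have haN : a ∈ N₁ := by
    have h3 : z ∈ N₁ := hI1 hzI
    have h4 : b ∈ N₁ := ThmJQ.le_NN _ _ hb
    rw [hab] at h3
    exact (mul_mem_cancel_right h4).1 h3
  have hm : line M i ≤ N₁ := by
    intro r hr
    by_cases hr1 : r = 1
    · rw [hr1]; exact one_mem _
    obtain ⟨g, -, hg, rfl⟩ := exists_tor M hal hr ha1 hr1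
    exact (mem_normalizer_iff.1 (ThmJQ.H_le_normalizer_NN (H := nrm) (fac M j) (line M i) hg) a).1 haN
  have side1 := side hc hP M hij hd hK hm
  have side2 : Side nrm (fac M j) (fac M i) (lns M j) := by
    have := side_cj loc_normalizer side1 s
    rwa [swap_fac M hSP hij hs hn, swap_fac M hSP hij.symm hs hn', image_lns hP M hij hs hn] at this
  refine ⟨loc_normalizer, side1, side2, ?_⟩
  refine ThmJQ.EE_inf_FF (S := (S : Subgroup G)) loc_normalizer side1 side2 ?_ (line_mem_lns i)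
    ((o2_le_stab M hd).trans (stab_le M i)) ?_ ?_
  · intro v hv hv1
    obtain ⟨X, hX, hvX⟩ := exists_mem_lns hv
    obtain ⟨Y, hY, hYX, -⟩ := exists_third_lns hX hX
    obtain ⟨Z, hZ, hZX, hZY⟩ := exists_third_lns hX hY
    obtain ⟨w, hw, -, hwX⟩ := side2.tv Y hY X hX Z hZ hYX.symm hZY
    refine ⟨Y, hY, w, hw, fun e => hv1 ?_⟩
    refine lns_inf hZ hX hZX ?_ hvX
    rw [← hwX, ← e]
    exact ⟨v, hvX, rfl⟩
  · intro t ht
    by_cases hts : t ∈ stab M i
    · left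
      have hts' : t ∈ stab M j := by rwa [← stab_eq M hSP hij]
      have key : ∀ {l : Fin 2}, t ∈ stab M l → ∀ R, cj t⁻¹ R ∈ lns M l ↔ R ∈ lns M l := by
        intro l hl R
        refine ⟨fun h => ?_, fun h => cj_stab_lns hSP (inv_mem hl) h⟩
        have := cj_stab_lns hSP hl h
        rwa [cj_cj_inv] at this
      exact ⟨cj_eq_of_mem_normalizer (stab_normalizes M i hts),
        cj_eq_of_mem_normalizer (stab_normalizes M j hts'), key hts, key hts'⟩
    · right
      have hts' : t ∉ stab M j := by rwa [← stab_eq M hSP hij]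
      have i1 := image_lns hP M hij ht hts
      have i2 := image_lns hP M hij.symm ht hts'
      have key : ∀ {A B : Set (Subgroup G)}, (cj t) '' A = B → ∀ R, cj t⁻¹ R ∈ A ↔ R ∈ B := by
        rintro A B rfl R
        refine ⟨fun h => ⟨_, h, cj_cj_inv t R⟩, ?_⟩
        rintro ⟨Y, hY, rfl⟩
        rwa [cj_inv_cj]
      exact ⟨swap_fac M hSP hij ht hts, swap_fac M hSP hij.symm ht hts', key i1, key i2⟩
  · intro X hX hX1 hXS
    obtain ⟨z, hzX, hz1, hzS⟩ := exists_zc S.isPGroup' hX hX1 hXS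
    have hz := ZN.mem_zc.1 hzS
    have hzV : z ∈ zl (S : Subgroup G) P := ChoiceSit.zc_le_zl _ _ hzS
    obtain ⟨a, ha, b, hb, hab⟩ := exists_comp2 M hij hzV
    refine ⟨a, ha, b, hb, fun h => hz1 ?_, by rwa [← hab]⟩
    refine eq_one_of_cent M hzV hz.2.1 (i := j) ?_
    rw [hab, h, mul_one]
    exact ha.2 j hij.symm

end both

/-! ### The partner -/

section partner

variable [Finite G] {F F' : Type} [Field F] [Finite F] [CharP F 2] [Field F'] [Finite F'] [CharP F' 2]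
  {P P' : Subgroup G} (hc : IsCharacteristicTwoType G) {S S' : Sylow 2 G} (hp : Pair S S' P P')
  (hT : NoOver (zl (S : Subgroup G) P) P) (hT' : NoOver (zl (S' : Subgroup G) P') P')
  (M : NatK F (S : Subgroup G) P (zl (S : Subgroup G) P) ⊥ 2) {k' : ℕ}
  (M' : NatK F' (S' : Subgroup G) P' (zl (S' : Subgroup G) P') ⊥ k') (hk' : 1 ≤ k') (hk2 : k' ≤ 2)
  {i : Fin 2} (hi : ⁅zl (S : Subgroup G) P, zl (S' : Subgroup G) P'⁆ = line M i)
  (hd : ¬ 2 ∣ (stab M i).relIndex (normalizer (line M i : Set G)))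

include hc hp hT hT' hk' hi hk2 hd in
/-- The partner has two factors, `R` is a line of one of them, and its stabiliser in `S'` is a Sylow 2-subgroup of
`N_G(R)`. -/
theorem partner : k' = 2 ∧ ∃ j : Fin k', line M i = line M' j ∧
    ¬ 2 ∣ (stab M' j).relIndex (normalizer (line M' j : Set G)) ∧ ∀ v ∈ fac M i, M.e v i 1 ≠ 0 →
      ∃ c : Fin k' → F', c j ≠ 0 ∧ (∀ l, l ≠ j → c l = 0) ∧
        ActsSL M'.e (zl (S' : Subgroup G) P') ⊥ v fun l => up (c l) := by
  obtain ⟨I, hI⟩ := exists_ind M hp.le (hp.off hc hT')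
  obtain ⟨I', hI'⟩ := exists_ind M' hp.le' (hp.symm.off hc hT)
  have hVP : zl (S' : Subgroup G) P' ≤ P := hp.le.trans hp.star.le
  have hVP' : zl (S : Subgroup G) P ≤ P' := hp.le'.trans hp.star'.le
  have hcomm := hI.commutator_eq hVP
  have hiI : i ∈ I := by
    by_contra h
    obtain ⟨v, hv, hev⟩ := exists_fac M i ![1, 0]
    have h1 : v ∈ line M i := (mem_line M).2 ⟨hv, by rw [hev]; rfl⟩
    rw [← hi, hcomm] at h1
    have h2 := h1.1.2 i h
    rw [hev] at h2
    have := congrFun h2 0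
    simp at this
  obtain ⟨j, -, hl, hact⟩ := exists_match hI hI' hVP hVP' hk' hiI
  have hSP : (S : Subgroup G) ≤ P := hp.star.isLoc.le
  have hSP' : (S' : Subgroup G) ≤ P' := hp.star'.isLoc.le
  have h1 : stab M' j ≤ normalizer (line M i : Set G) := by
    rw [hl]
    exact stab_normalizes_line M' hSP' j
  have h2 : stab M i ≤ normalizer (line M i : Set G) := stab_normalizes_line M hSP i
  have h3 := card_dvd_of h2 hd (S'.isPGroup'.to_le (stab_le M' j)) h1
  have h4 := card_stab M hSP i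
  have h5 := card_stab M' hSP' j
  have h6 : Nat.card (S : Subgroup G) = Nat.card (S' : Subgroup G) := by
    have : Fact (Nat.Prime 2) := ⟨Nat.prime_two⟩
    rw [S.card_eq_multiplicity, S'.card_eq_multiplicity]
  have h7 := Nat.le_of_dvd Nat.card_pos h3
  have h8 : 0 < Nat.card (stab M i) := Nat.card_pos
  have hk : k' = 2 := by
    refine le_antisymm hk2 ?_
    by_contra h
    have hk1 : k' = 1 := by omega
    have h9 : k' * Nat.card (stab M' j) = 1 * Nat.card (stab M' j) := congrArg (· * _) hk1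
    omega
  refine ⟨hk, j, hl, ?_, hact⟩
  have h9 : Nat.card (stab M' j) = Nat.card (stab M i) := by
    have h9 : k' * Nat.card (stab M' j) = 2 * Nat.card (stab M' j) := congrArg (· * _) hk
    omega
  rw [← hl]
  have e1 := Half.card_mul_relIndex h1
  have e2 := Half.card_mul_relIndex h2
  rw [h9, ← e2] at e1
  rwa [Nat.eq_of_mul_eq_mul_left h8 e1]

include hc hp hT hT' M' hk' hi hk2 hd in
/-- **Supply**: `KR R` induces the full transvection group with centre `R` on `V₁`. -/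
theorem supply : Full M i := by
  obtain ⟨hk, j, hl, hd', hact⟩ := partner hc hp hT hT' M M' hk' hk2 hi hd
  subst hk
  obtain ⟨I, hI⟩ := exists_ind M hp.le (hp.off hc hT')
  have hVP : zl (S' : Subgroup G) P' ≤ P := hp.le.trans hp.star.le
  have hcomm := hI.commutator_eq hVP
  have hiI : i ∈ I := by
    by_contra h
    obtain ⟨v, hv, hev⟩ := exists_fac M i ![1, 0]
    have h1 : v ∈ line M i := (mem_line M).2 ⟨hv, by rw [hev]; rfl⟩
    rw [← hi, hcomm] at h1
    have h2 := h1.1.2 i h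
    rw [hev] at h2
    have := congrFun h2 0
    simp at this
  classical
  intro b
  obtain ⟨a, ha, haact⟩ := hI.ex (Function.update 0 i b) fun m hm => by
    rw [Function.update_of_ne (by rintro rfl; exact hm hiI)]
    rfl
  obtain ⟨l, hjl⟩ : ∃ l : Fin 2, j ≠ l := by
    obtain ⟨l, hl⟩ := exists_ne j
    exact ⟨l, hl.symm⟩
  obtain ⟨a₁, ha₁, a₂, ha₂, e⟩ := exists_comp2 M' hjl ha
  refine ⟨a₁, ?_, fun v hv => ?_⟩
  · rw [hl]
    exact fac_le_KR hc hp.star' M' hd' ha₁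
  -- `a₂` centralises `fac M i`
  have h1 : v * a₂ = a₂ * v := by
    by_cases hv1 : M.e v i 1 = 0
    · have hvl : v ∈ line M i := (mem_line M).2 ⟨hv, hv1⟩
      rw [hl] at hvl
      exact comm M' (fac_le M' j (line_le M' j hvl)) ha₂.1
    · obtain ⟨c, -, hc0, hcact⟩ := hact v hv hv1
      have h2 : v * a₂ * v⁻¹ = a₂ := by
        refine e_inj M' (cj_mem (hp.le'.trans hp.star'.le hv.1) ha₂.1) ha₂.1 (funext fun m => ?_)
        rw [hcact.1 a₂ ha₂.1 m]
        change ap (up (c m)) _ = _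
        by_cases hm : m = l
        · rw [hm, hc0 l hjl.symm, up_zero, NatPair.ap_one]
        · rw [ha₂.2 m hm]
          apply NatPair.ext2 <;> simp [NatPair.ap_zero', NatPair.ap_one']
      exact mul_inv_eq_iff_eq_mul.1 h2
  have h2 : a₁ * v * a₁⁻¹ = a * v * a⁻¹ := by
    rw [e]
    calc a₁ * v * a₁⁻¹ = a₁ * (v * a₂) * a₂⁻¹ * a₁⁻¹ := by group
      _ = a₁ * a₂ * v * (a₁ * a₂)⁻¹ := by rw [h1]; group
  rw [h2, haact.1 v hv.1 i]
  simp only [Function.update_self]

include hc hp hT hT' M' hk' hi hk2 hd in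
/-- **THEOREM J applies, or `N_R` and `N_{R₂}` commute**, for a mutual pair. -/
theorem ctx_of_pair {j : Fin 2} (hij : i ≠ j) :
    (∀ x ∈ NN nrm (fac M j) (line M i), ∀ y ∈ NN nrm (fac M i) (line M j), x * y = y * x) ∨
    Ctx nrm (fac M i) (fac M j) (lns M i) (lns M j) :=
  ctx_of hc hp.star M hij hd (supply hc hp hT hT' M M' hk' hk2 hi hd)

end partner

/-- **THEOREM J applies, or `N_R` and `N_{R₂}` commute**, in the frame of `WrMain4`. -/
theorem ctx_of_hyp {K : Frame.Cls.{u}} [Finite G] {S S' : Sylow 2 G} (hH : Hyp K S) {P P' : Subgroup G}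
    (hp : Pair S S' P P') {F F' : Type} [Field F] [Finite F] [CharP F 2] [Field F'] [Finite F'] [CharP F' 2]
    {k' : ℕ} (M : NatK F (S : Subgroup G) P (zl (S : Subgroup G) P) ⊥ 2)
    (M' : NatK F' (S' : Subgroup G) P' (zl (S' : Subgroup G) P') ⊥ k') (hk' : 1 ≤ k') (hk2 : k' ≤ 2) {i : Fin 2}
    (hi : ⁅zl (S : Subgroup G) P, zl (S' : Subgroup G) P'⁆ = line M i)
    (hd : ¬ 2 ∣ (stab M i).relIndex (normalizer (line M i : Set G))) {j : Fin 2} (hij : i ≠ j) :
    (∀ x ∈ NN nrm (fac M j) (line M i), ∀ y ∈ NN nrm (fac M i) (line M j), x * y = y * x) ∨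
    Ctx nrm (fac M i) (fac M j) (lns M i) (lns M j) :=
  ctx_of_pair hH.ctx.char2 hp (hH.typed' hp).1.noOver (hH.typed' hp).2.noOver M M' hk' hk2 hi hd hij

/-- The lines of a factor are conjugate under `C(V₂) ∩ N(V₁)` (hypothesis of `ThmJQ.Ctx.thmJ`). -/
theorem lns_trans {F : Type} [Field F] {S P : Subgroup G} (M : NatK F S P (zl S P) ⊥ 2) {i j : Fin 2}
    (hij : i ≠ j) : ∀ R ∈ lns M i, ∀ R' ∈ lns M i,
      ∃ l ∈ centralizer (fac M j : Set G) ⊓ normalizer (fac M i : Set G), cj l R' = R := by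
  rintro _ ⟨g, hg, rfl⟩ _ ⟨h, hh, rfl⟩
  have hle : grp M {i} ≤ centralizer (fac M j : Set G) ⊓ normalizer (fac M i : Set G) :=
    le_inf (grp_le_centralizer M (by simpa using hij)) (grp_normalizes M {i} {i})
  refine ⟨g * h⁻¹, hle (mul_mem hg (inv_mem hh)), ?_⟩
  rw [cj_cj]
  congr 1
  group

end Cfsg.Agent.Omega.IId.SideOf
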