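import Cfsg.Agent.Mrg.Omega.FFMutual
import Cfsg.Agent.Lib.ProductSet
import Cfsg.Agent.Lib.SylowNormalInf
import Cfsg.Agent.Mrg.Omega.Half.Basic

section


/-!
# The factors of `V = V_P` in the case of `k` natural `SL₂(F)`-modules, `C_V(O²(P)) = 1`

`M : NatK F S P (zl S P) ⊥ k`, `V = zl S P`.

* `part M I` : the sum of the factors with index in `I`; `fac M i = part M {i}`; `line M I` : the elements of
  `part M I` with all coordinates in the line `{x | x 1 = 0}`;
* `grp M I` : the elements of `P` which act on `V` as elements of `SL₂(F)^I`;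
* `σ M g` : the permutation of the factors induced by `g ∈ P`; `conj_part`;
* `stab M i` : the normaliser of `fac M i` in `S`.
-/

set_option autoImplicit false

namespace Cfsg.Agent.Omega.IId

open Subgroup Cfsg Cfsg.Agent.ZN Cfsg.Agent.ZN.ChoiceBase
open Cfsg.Agent.Omega.MinPar Cfsg.Agent.Omega.FFThm
open Cfsg.Agent.MinSimple.VModule (le_normalizer_zl)
open Cfsg.Agent.Lib.SL2Mat
open Cfsg.Agent.Omega.NatPair (ap ap_mul ap_one ap_inv_ap ap_ap_inv exists_ap ap_add)

universe u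

variable {G : Type u} [Group G] {F : Type} [Field F] {S P : Subgroup G} {k : ℕ}
  (M : NatK F S P (zl S P) ⊥ k)

/-! ### Coordinates -/

theorem cj_mem {g v : G} (hg : g ∈ P) (hv : v ∈ zl S P) : g * v * g⁻¹ ∈ zl S P :=
  (mem_normalizer_iff.mp (le_normalizer_zl S P hg) v).mp hv

theorem cj_mem' {g v : G} (hg : g ∈ P) (hv : v ∈ zl S P) : g⁻¹ * v * g ∈ zl S P := by
  have := cj_mem (inv_mem hg) hv
  rwa [inv_inv] at this

include M in
theorem e_one : M.e 1 = 0 := by
  have := M.mul 1 (one_mem _) 1 (one_mem _)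
  rw [mul_one] at this
  exact left_eq_add.1 this

theorem e_inv {v : G} (hv : v ∈ zl S P) : M.e v⁻¹ = - M.e v := by
  have := M.mul v⁻¹ (inv_mem hv) v hv
  rw [inv_mul_cancel, e_one] at this
  exact eq_neg_of_add_eq_zero_left this.symm

theorem e_eq_zero {v : G} (hv : v ∈ zl S P) : M.e v = 0 ↔ v = 1 := by
  rw [M.ker v hv, mem_bot]

theorem e_inj {v w : G} (hv : v ∈ zl S P) (hw : w ∈ zl S P) (h : M.e v = M.e w) : v = w := by
  have h1 : M.e (v * w⁻¹) = 0 := by
    rw [M.mul v hv _ (inv_mem hw), e_inv M hw, h, add_neg_cancel]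
  exact mul_inv_eq_one.1 ((e_eq_zero M (mul_mem hv (inv_mem hw))).1 h1)

include M in
theorem comm {v w : G} (hv : v ∈ zl S P) (hw : w ∈ zl S P) : v * w = w * v :=
  e_inj M (mul_mem hv hw) (mul_mem hw hv) (by rw [M.mul v hv w hw, M.mul w hw v hv, add_comm])

include M in
theorem sq [CharP F 2] {v : G} (hv : v ∈ zl S P) : v * v = 1 := by
  rw [← e_eq_zero M (mul_mem hv hv), M.mul v hv v hv]
  funext i j
  exact CharTwo.add_self_eq_zero _

/-! ### Parts -/

/-- The sum of the factors with index in `I`. -/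
def part (I : Set (Fin k)) : Subgroup G where
  carrier := {v | v ∈ zl S P ∧ ∀ i, i ∉ I → M.e v i = 0}
  one_mem' := ⟨one_mem _, fun i _ => by rw [e_one]; rfl⟩
  mul_mem' := by
    rintro a b ⟨ha, ha'⟩ ⟨hb, hb'⟩
    exact ⟨mul_mem ha hb, fun i hi => by rw [M.mul a ha b hb, Pi.add_apply, ha' i hi, hb' i hi, add_zero]⟩
  inv_mem' := by
    rintro a ⟨ha, ha'⟩
    exact ⟨inv_mem ha, fun i hi => by rw [e_inv M ha, Pi.neg_apply, ha' i hi, neg_zero]⟩

theorem mem_part {I : Set (Fin k)} {v : G} : v ∈ part M I ↔ v ∈ zl S P ∧ ∀ i, i ∉ I → M.e v i = 0 := Iff.rfl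

/-- The `i`-th factor. -/
def fac (i : Fin k) : Subgroup G := part M {i}

theorem mem_fac {i : Fin k} {v : G} : v ∈ fac M i ↔ v ∈ zl S P ∧ ∀ j, j ≠ i → M.e v j = 0 := Iff.rfl

theorem part_le (I : Set (Fin k)) : part M I ≤ zl S P := fun _ h => h.1

theorem fac_le (i : Fin k) : fac M i ≤ zl S P := part_le M _

theorem part_mono {I J : Set (Fin k)} (h : I ⊆ J) : part M I ≤ part M J :=
  fun _ hv => ⟨hv.1, fun i hi => hv.2 i fun h1 => hi (h h1)⟩

theorem part_inf (I J : Set (Fin k)) : part M I ⊓ part M J = part M (I ∩ J) := by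
  ext v
  constructor
  · rintro ⟨h1, h2⟩
    refine ⟨h1.1, fun i hi => ?_⟩
    by_cases h3 : i ∈ I
    · exact h2.2 i fun h4 => hi ⟨h3, h4⟩
    · exact h1.2 i h3
  · rintro ⟨h1, h2⟩
    exact ⟨⟨h1, fun i hi => h2 i fun h3 => hi h3.1⟩, ⟨h1, fun i hi => h2 i fun h3 => hi h3.2⟩⟩

theorem part_empty : part M ∅ = ⊥ := by
  rw [eq_bot_iff]
  rintro v ⟨h1, h2⟩
  rw [mem_bot, ← e_eq_zero M h1]
  funext i
  exact h2 i (Set.notMem_empty i)

theorem part_univ : part M Set.univ = zl S P := by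
  ext v
  exact ⟨fun h => h.1, fun h => ⟨h, fun i hi => (hi (Set.mem_univ i)).elim⟩⟩

/-- A vector with given coordinates. -/
theorem exists_vec (x : Fin k → Fin 2 → F) : ∃ v ∈ zl S P, M.e v = x := M.surj x

open Classical in
/-- The components of `v`. -/
theorem exists_comp {v : G} (hv : v ∈ zl S P) (I : Set (Fin k)) :
    ∃ a ∈ part M I, ∃ b ∈ part M Iᶜ, v = a * b := by
  obtain ⟨a, ha, hea⟩ := M.surj fun i => if i ∈ I then M.e v i else 0
  have he : ∀ i, M.e a i = if i ∈ I then M.e v i else 0 := fun i => congrFun hea i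
  refine ⟨a, ⟨ha, fun i hi => by rw [he, if_neg hi]⟩, a⁻¹ * v, ⟨mul_mem (inv_mem ha) hv, fun i hi => ?_⟩, by group⟩
  have hi' : i ∈ I := not_not.1 hi
  rw [M.mul _ (inv_mem ha) _ hv, e_inv M ha, Pi.add_apply, Pi.neg_apply, he, if_pos hi', neg_add_cancel]

theorem part_sup (I : Set (Fin k)) : part M I ⊔ part M Iᶜ = zl S P := by
  refine le_antisymm (sup_le (part_le M _) (part_le M _)) fun v hv => ?_
  obtain ⟨a, ha, b, hb, rfl⟩ := exists_comp M hv I
  exact mul_mem_sup ha hb

theorem fac_inf {i j : Fin k} (h : i ≠ j) : fac M i ⊓ fac M j = ⊥ := by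
  rw [fac, fac, part_inf, ← part_empty M]
  congr 1
  ext x
  simp only [Set.mem_inter_iff, Set.mem_singleton_iff, Set.mem_empty_iff_false, iff_false, not_and]
  rintro rfl
  exact h

theorem ext_fac {i : Fin k} {v w : G} (hv : v ∈ fac M i) (hw : w ∈ fac M i) (h : M.e v i = M.e w i) : v = w := by
  refine e_inj M hv.1 hw.1 (funext fun j => ?_)
  by_cases hj : j = i
  · rw [hj, h]
  · rw [hv.2 j hj, hw.2 j hj]

theorem fac_eq_one {i : Fin k} {v : G} (hv : v ∈ fac M i) : M.e v i = 0 ↔ v = 1 := by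
  refine ⟨fun h => ext_fac M hv (one_mem _) (by rw [h, e_one]; rfl), fun h => ?_⟩
  rw [h, e_one]
  rfl

open Classical in
theorem exists_fac (i : Fin k) (x : Fin 2 → F) : ∃ v ∈ fac M i, M.e v i = x := by
  obtain ⟨v, hv, h⟩ := M.surj (Pi.single i x)
  exact ⟨v, ⟨hv, fun j hj => by rw [h, Pi.single_eq_of_ne hj]⟩, by rw [h, Pi.single_eq_same]⟩

theorem fac_ne_bot (i : Fin k) : fac M i ≠ ⊥ := by
  obtain ⟨v, hv, h⟩ := exists_fac M i ![1, 0]
  intro h0
  rw [h0, mem_bot] at hv
  rw [hv, e_one] at h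
  have := congrFun h 0
  simp at this

/-- The coordinate on a factor. -/
noncomputable def facEquiv (i : Fin k) : fac M i ≃ (Fin 2 → F) :=
  Equiv.ofBijective (fun v => M.e v i) ⟨fun v w h => Subtype.ext (ext_fac M v.2 w.2 h), fun x => by
    obtain ⟨v, hv, h⟩ := exists_fac M i x
    exact ⟨⟨v, hv⟩, h⟩⟩

theorem card_fac (i : Fin k) : Nat.card (fac M i) = Nat.card F ^ 2 := by
  rw [Nat.card_congr (facEquiv M i), Nat.card_fun]
  simp

/-! ### The group `SL₂(F)^I` -/

theorem acts_one : ActsSL M.e (zl S P) ⊥ 1 1 := by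
  refine ⟨fun v _ i => ?_, fun d _ => ?_⟩
  · have e : (1 : G) * v * 1⁻¹ = v := by group
    rw [e, Pi.one_apply, ap_one]
  · rw [one_mul, mul_one]

variable {M}

theorem acts_mul {g h : G} (hh : h ∈ P) {A B : Fin k → Matrix.SpecialLinearGroup (Fin 2) F}
    (h1 : ActsSL M.e (zl S P) ⊥ g A) (h2 : ActsSL M.e (zl S P) ⊥ h B) :
    ActsSL M.e (zl S P) ⊥ (g * h) (A * B) := by
  refine ⟨fun v hv i => ?_, fun d hd => ?_⟩
  · have e : g * h * v * (g * h)⁻¹ = g * (h * v * h⁻¹) * g⁻¹ := by group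
    rw [e, h1.1 _ (cj_mem hh hv) i, h2.1 v hv i, Pi.mul_apply, ap_mul]
  · rw [mem_bot] at hd
    rw [hd]
    group

theorem acts_inv {g : G} (hg : g ∈ P) {A : Fin k → Matrix.SpecialLinearGroup (Fin 2) F}
    (h1 : ActsSL M.e (zl S P) ⊥ g A) : ActsSL M.e (zl S P) ⊥ g⁻¹ A⁻¹ := by
  refine ⟨fun v hv i => ?_, fun d hd => ?_⟩
  · have h2 := h1.1 _ (cj_mem (inv_mem hg) hv) i
    have e : g * (g⁻¹ * v * g⁻¹⁻¹) * g⁻¹ = v := by group
    rw [e] at h2
    rw [h2, Pi.inv_apply, ap_inv_ap]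
  · rw [mem_bot] at hd
    rw [hd]
    group

variable (M)

/-- The elements of `P` which act on `V` as elements of `SL₂(F)^I`. -/
def grp (I : Set (Fin k)) : Subgroup G where
  carrier := {g | g ∈ P ∧ ∃ A : Fin k → Matrix.SpecialLinearGroup (Fin 2) F,
    ActsSL M.e (zl S P) ⊥ g A ∧ ∀ i, i ∉ I → A i = 1}
  one_mem' := ⟨one_mem _, 1, acts_one M, fun _ _ => rfl⟩
  mul_mem' := by
    rintro a b ⟨ha, A, hA, hA'⟩ ⟨hb, B, hB, hB'⟩
    exact ⟨mul_mem ha hb, A * B, acts_mul hb hA hB, fun i hi => by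
      rw [Pi.mul_apply, hA' i hi, hB' i hi, mul_one]⟩
  inv_mem' := by
    rintro a ⟨ha, A, hA, hA'⟩
    exact ⟨inv_mem ha, A⁻¹, acts_inv ha hA, fun i hi => by rw [Pi.inv_apply, hA' i hi, inv_one]⟩

theorem mem_grp {I : Set (Fin k)} {g : G} : g ∈ grp M I ↔ g ∈ P ∧
    ∃ A : Fin k → Matrix.SpecialLinearGroup (Fin 2) F, ActsSL M.e (zl S P) ⊥ g A ∧ ∀ i, i ∉ I → A i = 1 := Iff.rfl

theorem grp_le (I : Set (Fin k)) : grp M I ≤ P := fun _ h => h.1

theorem grp_mono {I J : Set (Fin k)} (h : I ⊆ J) : grp M I ≤ grp M J :=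
  fun _ ⟨h1, A, h2, h3⟩ => ⟨h1, A, h2, fun i hi => h3 i fun h4 => hi (h h4)⟩

/-- `SL₂(F)^I` centralises the factors outside `I`. -/
theorem grp_comm {I J : Set (Fin k)} (hIJ : Disjoint I J) {g v : G} (hg : g ∈ grp M I) (hv : v ∈ part M J) :
    g * v = v * g := by
  obtain ⟨hgP, A, hA, hA'⟩ := hg
  have h1 : g * v * g⁻¹ = v := by
    refine e_inj M (cj_mem hgP hv.1) hv.1 (funext fun i => ?_)
    rw [hA.1 v hv.1 i]
    by_cases hi : i ∈ I
    · have h2 : i ∉ J := fun h => Set.disjoint_left.1 hIJ hi h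
      rw [hv.2 i h2]
      apply NatPair.ext2 <;> simp [NatPair.ap_zero', NatPair.ap_one']
    · rw [hA' i hi, ap_one]
  calc g * v = g * v * g⁻¹ * g := by group
    _ = v * g := by rw [h1]

theorem grp_le_centralizer {I J : Set (Fin k)} (hIJ : Disjoint I J) :
    grp M I ≤ centralizer (part M J : Set G) := by
  intro g hg
  rw [mem_centralizer_iff]
  intro v hv
  exact (grp_comm M hIJ hg hv).symm

theorem grp_normalizes (I J : Set (Fin k)) : grp M I ≤ normalizer (part M J : Set G) := by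
  have key : ∀ g ∈ grp M I, ∀ v ∈ part M J, g * v * g⁻¹ ∈ part M J := by
    rintro g ⟨hgP, A, hA, -⟩ v ⟨hv, hv'⟩
    refine ⟨cj_mem hgP hv, fun i hi => ?_⟩
    rw [hA.1 v hv i, hv' i hi]
    apply NatPair.ext2 <;> simp [NatPair.ap_zero', NatPair.ap_one']
  intro g hg
  rw [mem_normalizer_iff]
  intro v
  refine ⟨key g hg v, fun h => ?_⟩
  have h1 := key g⁻¹ (inv_mem hg) _ h
  have e : g⁻¹ * (g * v * g⁻¹) * g⁻¹⁻¹ = v := by group
  rwa [e] at h1

open Classical in
/-- `SL₂(F)^{i}` is transitive on the nontrivial elements of `fac M i`. -/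
theorem exists_grp {i : Fin k} {v w : G} (hv : v ∈ fac M i) (hw : w ∈ fac M i) (hv1 : v ≠ 1) (hw1 : w ≠ 1) :
    ∃ g ∈ grp M {i}, g * v * g⁻¹ = w := by
  obtain ⟨A, hA⟩ := exists_ap (mt (fac_eq_one M hv).1 hv1) (mt (fac_eq_one M hw).1 hw1)
  obtain ⟨g, hg, h1⟩ := M.lift (Function.update 1 i A)
  have hg' : g ∈ grp M {i} := ⟨hg, _, h1, fun j hj => Function.update_of_ne hj _ _⟩
  refine ⟨g, hg', ext_fac M ((mem_normalizer_iff.1 (grp_normalizes M {i} {i} hg') v).1 hv) hw ?_⟩
  rw [h1.1 v hv.1 i, Function.update_self, hA]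

/-- `fac M i` is an irreducible `SL₂(F)^{i}`-module. -/
theorem fac_irreducible {i : Fin k} {X : Subgroup G} (hX : X ≤ fac M i)
    (hn : grp M {i} ≤ normalizer (X : Set G)) : X = ⊥ ∨ X = fac M i := by
  by_cases h : X = ⊥
  · exact Or.inl h
  · right
    obtain ⟨x, hx, hx1⟩ : ∃ x ∈ X, x ≠ 1 := by
      by_contra hcon
      push Not at hcon
      exact h ((eq_bot_iff_forall X).2 hcon)
    refine le_antisymm hX fun v hv => ?_
    by_cases hv1 : v = 1
    · rw [hv1]; exact one_mem _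
    · obtain ⟨g, hg, h1⟩ := exists_grp M (hX hx) hv hx1 hv1
      rw [← h1]
      exact (mem_normalizer_iff.1 (hn hg) _).1 hx

theorem fac_inf_centralizer (i : Fin k) : fac M i ⊓ centralizer (grp M {i} : Set G) = ⊥ := by
  rw [eq_bot_iff]
  rintro v ⟨hv, hc⟩
  rw [mem_bot]
  by_contra hv1
  -- move `v` to another vector
  obtain ⟨w, hw, hw1, hwv⟩ : ∃ w ∈ fac M i, w ≠ 1 ∧ w ≠ v := by
    obtain ⟨a, ha, hea⟩ := exists_fac M i ![1, 0]
    obtain ⟨b, hb, heb⟩ := exists_fac M i ![0, 1]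
    by_cases h : a = v
    · refine ⟨b, hb, fun h1 => ?_, fun h1 => ?_⟩
      · rw [h1, e_one] at heb
        have := congrFun heb 1
        simp at this
      · rw [h1, ← h, hea] at heb
        have := congrFun heb 0
        simp at this
    · refine ⟨a, ha, fun h1 => ?_, h⟩
      rw [h1, e_one] at hea
      have := congrFun hea 0
      simp at this
  obtain ⟨g, hg, h1⟩ := exists_grp M hv hw hv1 hw1
  have h2 := mem_centralizer_iff.1 hc g hg
  apply hwv
  rw [← h1, h2]
  group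

/-! ### The permutation of the factors -/

/-- The permutation of the factors induced by `g ∈ P`. -/
noncomputable def sg {g : G} (hg : g ∈ P) : Equiv.Perm (Fin k) := (M.perm g hg).choose

theorem sg_spec {g : G} (hg : g ∈ P) {v : G} (hv : v ∈ zl S P) (i : Fin k) :
    M.e (g * v * g⁻¹) (sg M hg i) = 0 ↔ M.e v i = 0 := (M.perm g hg).choose_spec v hv i

theorem mem_part_conj {g : G} (hg : g ∈ P) {I : Set (Fin k)} {v : G} (hv : v ∈ zl S P) :
    g * v * g⁻¹ ∈ part M (sg M hg '' I) ↔ v ∈ part M I := by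
  constructor
  · rintro ⟨-, h⟩
    refine ⟨hv, fun i hi => ?_⟩
    rw [← sg_spec M hg hv i]
    exact h _ fun ⟨j, hj, hij⟩ => hi ((sg M hg).injective hij ▸ hj)
  · rintro ⟨-, h⟩
    refine ⟨cj_mem hg hv, fun i hi => ?_⟩
    obtain ⟨j, rfl⟩ := (sg M hg).surjective i
    rw [sg_spec M hg hv j]
    exact h j fun hj => hi ⟨j, hj, rfl⟩

theorem conj_part {g : G} (hg : g ∈ P) (I : Set (Fin k)) : cj g (part M I) = part M (sg M hg '' I) := by
  ext w
  rw [mem_cj]
  constructor
  · intro h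
    have h1 := (mem_part_conj M hg (I := I) h.1).2 h
    have e : g * (g⁻¹ * w * g) * g⁻¹ = w := by group
    rwa [e] at h1
  · intro h
    have hv : g⁻¹ * w * g ∈ zl S P := cj_mem' hg h.1
    have e : g * (g⁻¹ * w * g) * g⁻¹ = w := by group
    exact (mem_part_conj M hg hv).1 (by rwa [e])

theorem conj_fac {g : G} (hg : g ∈ P) (i : Fin k) : cj g (fac M i) = fac M (sg M hg i) := by
  rw [fac, conj_part M hg, Set.image_singleton, fac]

theorem fac_inj {i j : Fin k} (h : fac M i = fac M j) : i = j := by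
  by_contra hne
  have h1 := fac_inf M hne
  rw [← h, inf_idem] at h1
  exact fac_ne_bot M i h1

theorem sg_eq_iff {g : G} (hg : g ∈ P) {i j : Fin k} : sg M hg i = j ↔ cj g (fac M i) = fac M j := by
  rw [conj_fac M hg]
  exact ⟨fun h => by rw [h], fun h => fac_inj M h⟩

theorem ker_inj {i j : Fin k} (h : ∀ v ∈ zl S P, M.e v j = 0 → M.e v i = 0) : i = j := by
  by_contra hne
  obtain ⟨v, hv, h1⟩ := exists_fac M i ![1, 0]
  have h2 := h v hv.1 (hv.2 j (Ne.symm hne))
  rw [h1] at h2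
  have := congrFun h2 0
  simp at this

/-- `S` is transitive on the factors. -/
theorem exists_trans (hSP : S ≤ P) (i j : Fin k) : ∃ t ∈ S, cj t (fac M i) = fac M j := by
  obtain ⟨t, ht, h1⟩ := M.trans i j
  refine ⟨t, ht, ?_⟩
  rw [conj_fac M (hSP ht)]
  congr 1
  refine ker_inj M fun w hw hj => ?_
  have hv : t⁻¹ * w * t ∈ zl S P := cj_mem' (hSP ht) hw
  have e : t * (t⁻¹ * w * t) * t⁻¹ = w := by group
  have h2 := h1 _ hv
  have h3 := sg_spec M (hSP ht) hv i
  rw [e] at h2 h3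
  exact h3.2 (h2.1 hj)

theorem mem_normalizer_part_iff {g : G} (hg : g ∈ P) {I : Set (Fin k)} :
    g ∈ normalizer (part M I : Set G) ↔ sg M hg '' I = I := by
  rw [mem_normalizer_iff_cj, conj_part M hg]
  constructor
  · intro h
    ext i
    -- the index set is determined by the part
    have key : ∀ J : Set (Fin k), i ∈ J ↔ fac M i ≤ part M J := by
      intro J
      constructor
      · intro hi
        exact part_mono M (Set.singleton_subset_iff.2 hi)
      · intro hle
        by_contra hi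
        obtain ⟨v, hv, h1⟩ := exists_fac M i ![1, 0]
        have h2 := (hle hv).2 i hi
        rw [h1] at h2
        have := congrFun h2 0
        simp at this
    rw [key, key, h]
  · intro h
    rw [h]

theorem mem_normalizer_fac_iff {g : G} (hg : g ∈ P) {i : Fin k} :
    g ∈ normalizer (fac M i : Set G) ↔ sg M hg i = i := by
  rw [fac, mem_normalizer_part_iff M hg, Set.image_singleton, Set.singleton_eq_singleton_iff]

theorem normalizer_part_compl {g : G} (hg : g ∈ P) {I : Set (Fin k)} (h : g ∈ normalizer (part M I : Set G)) :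
    g ∈ normalizer (part M Iᶜ : Set G) := by
  rw [mem_normalizer_part_iff M hg] at h ⊢
  rw [Set.image_compl_eq (sg M hg).bijective, h]

/-- Conjugation of the groups `grp M I`. -/
theorem conj_grp {g : G} (hg : g ∈ P) (I : Set (Fin k)) : cj g (grp M I) = grp M (sg M hg '' I) := by
  have key : ∀ {g : G} (hg : g ∈ P) (I : Set (Fin k)), cj g (grp M I) ≤ grp M (sg M hg '' I) := by
    rintro g hg I _ ⟨h, ⟨hh, A, hA, hA'⟩, rfl⟩
    change g * h * g⁻¹ ∈ _
    obtain ⟨B, hB⟩ := M.norm g hg h hh A hA.1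
    refine ⟨mul_mem (mul_mem hg hh) (inv_mem hg), B, ⟨hB, fun d hd => ?_⟩, fun j hj => ?_⟩
    · rw [mem_bot] at hd
      rw [hd]
      group
    · obtain ⟨i, rfl⟩ := (sg M hg).surjective j
      have hi : i ∉ I := fun h1 => hj ⟨i, h1, rfl⟩
      refine NatPair.ap_inj fun x => ?_
      obtain ⟨w, hw, hwx⟩ := exists_fac M (sg M hg i) x
      -- `w` is the conjugate of an element of `fac M i`, which is centralised by `h`
      have hv : g⁻¹ * w * g ∈ fac M i := by
        rw [← mem_cj, conj_fac M hg]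
        exact hw
      have h1 := grp_comm M (Set.disjoint_singleton_right.2 hi) (⟨hh, A, hA, hA'⟩ : h ∈ grp M I) hv
      have h2 := hB w hw.1 (sg M hg i)
      have e : g * h * g⁻¹ * w * (g * h * g⁻¹)⁻¹ = g * (h * (g⁻¹ * w * g)) * h⁻¹ * g⁻¹ := by group
      rw [e, h1] at h2
      have e2 : g * (g⁻¹ * w * g * h) * h⁻¹ * g⁻¹ = w := by group
      rw [e2, hwx] at h2
      rw [← h2, ap_one]
  refine le_antisymm (key hg I) fun h hh => ?_
  rw [mem_cj]
  have h1 := key (inv_mem hg) (sg M hg '' I)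
  have h2 : sg M (inv_mem hg) '' (sg M hg '' I) = I := by
    have h3 : sg M (inv_mem hg) = (sg M hg).symm := by
      ext i : 1
      obtain ⟨j, rfl⟩ := (sg M hg).surjective i
      rw [Equiv.symm_apply_apply, sg_eq_iff, ← conj_fac M hg j, cj_inv_cj]
    rw [h3]
    exact (sg M hg).symm_image_image I
  rw [h2] at h1
  have h4 := h1 ⟨h, hh, rfl⟩
  change g⁻¹ * h * g⁻¹⁻¹ ∈ _ at h4
  rwa [inv_inv] at h4

theorem normalizer_grp {g : G} (hg : g ∈ P) {I : Set (Fin k)} (h : g ∈ normalizer (part M I : Set G)) :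
    g ∈ normalizer (grp M I : Set G) := by
  rw [mem_normalizer_iff_cj, conj_grp M hg, (mem_normalizer_part_iff M hg).1 h]

/-! ### The stabiliser of a factor -/

/-- The normaliser of `fac M i` in `S`. -/
def stab (i : Fin k) : Subgroup G := S ⊓ normalizer (fac M i : Set G)

theorem stab_le (i : Fin k) : stab M i ≤ S := inf_le_left

theorem stab_normalizes (i : Fin k) : stab M i ≤ normalizer (fac M i : Set G) := inf_le_right

theorem stab_normalizes_compl (hSP : S ≤ P) (i : Fin k) : stab M i ≤ normalizer (part M {i}ᶜ : Set G) :=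
  fun _ h => normalizer_part_compl M (hSP h.1) h.2

theorem stab_normalizes_grp (hSP : S ≤ P) (i : Fin k) : stab M i ≤ normalizer (grp M {i} : Set G) :=
  fun _ h => normalizer_grp M (hSP h.1) h.2

theorem stab_normalizes_grp_compl (hSP : S ≤ P) (i : Fin k) : stab M i ≤ normalizer (grp M {i}ᶜ : Set G) :=
  fun _ h => normalizer_grp M (hSP h.1) (normalizer_part_compl M (hSP h.1) h.2)

/-- The index of the stabiliser of a factor. -/
theorem relIndex_stab {X : Subgroup G} (hXP : X ≤ P) (hSX : S ≤ X) (i : Fin k) :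
    (X ⊓ normalizer (fac M i : Set G)).relIndex X = k := by
  rw [inf_relIndex_left]
  let f : X → Fin k := fun x => sg M (hXP x.2) i
  have hf : Function.Surjective f := by
    intro j
    obtain ⟨t, ht, h1⟩ := exists_trans M (hSX.trans hXP) i j
    refine ⟨⟨t, hSX ht⟩, ?_⟩
    exact (sg_eq_iff M _).2 h1
  have hff : ∀ x y : X, f x = f y ↔ (x⁻¹ * y : X) ∈ (normalizer (fac M i : Set G)).subgroupOf X := by
    intro x y
    have h1 : f x = f y ↔ cj (x : G) (fac M i) = cj (y : G) (fac M i) := by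
      rw [conj_fac M (hXP x.2), conj_fac M (hXP y.2)]
      exact ⟨fun h => by rw [show sg M (hXP x.2) i = sg M (hXP y.2) i from h], fun h => fac_inj M h⟩
    rw [h1, mem_subgroupOf, mem_normalizer_iff_cj]
    change _ ↔ cj ((x : G)⁻¹ * y) _ = _
    rw [← cj_cj]
    constructor
    · intro h
      rw [← h, cj_inv_cj]
    · intro h
      have := congrArg (cj (x : G)) h
      rw [cj_cj_inv] at this
      exact this.symm
  let q : X ⧸ ((normalizer (fac M i : Set G)).subgroupOf X) → Fin k :=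
    fun z => Quotient.liftOn' z f fun x y hxy => (hff x y).2 (QuotientGroup.leftRel_apply.1 hxy)
  have hq : Function.Bijective q := by
    constructor
    · intro z w
      induction z using QuotientGroup.induction_on with | _ x =>
      induction w using QuotientGroup.induction_on with | _ y =>
      intro h
      exact QuotientGroup.eq.2 ((hff x y).1 h)
    · intro j
      obtain ⟨x, hx⟩ := hf j
      exact ⟨(QuotientGroup.mk x : X ⧸ ((normalizer (fac M i : Set G)).subgroupOf X)), hx⟩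
  rw [relIndex, index, Nat.card_congr (Equiv.ofBijective q hq), Nat.card_fin]

theorem card_stab (hSP : S ≤ P) (i : Fin k) : Nat.card S = k * Nat.card (stab M i) := by
  have h1 := relIndex_stab M hSP le_rfl i
  have h2 := Lib.SylowNormalInf.card_mul_relIndex (S ⊓ normalizer (fac M i : Set G)) S inf_le_left
  rw [h1] at h2
  rw [← h2, mul_comm]
  rfl

/-- The stabiliser of a factor in `S` is a Sylow 2-subgroup of the stabiliser in `P`. -/
theorem not_dvd_stab [Finite G] (hSP : S ≤ P) (hSyl : ¬ 2 ∣ S.relIndex P) (i : Fin k) {L : Subgroup G}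
    (h1 : stab M i ≤ L) (h2 : L ≤ P) (h3 : L ≤ normalizer (fac M i : Set G)) : ¬ 2 ∣ (stab M i).relIndex L := by
  have e1 := card_stab M hSP i
  have e2 := Lib.SylowNormalInf.card_mul_relIndex (P ⊓ normalizer (fac M i : Set G)) P inf_le_left
  rw [relIndex_stab M le_rfl hSP i] at e2
  have e3 := Lib.SylowNormalInf.card_mul_relIndex S P hSP
  have hle : stab M i ≤ P ⊓ normalizer (fac M i : Set G) := inf_le_inf_right _ hSP
  have e4 := Lib.SylowNormalInf.card_mul_relIndex _ _ hle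
  have hk : 0 < k := Fin.pos i
  have hs : 0 < Nat.card (stab M i) := Nat.card_pos
  have e5 : (stab M i).relIndex (P ⊓ normalizer (fac M i : Set G)) = S.relIndex P := by
    have h4 : Nat.card (stab M i) * (stab M i).relIndex (P ⊓ normalizer (fac M i : Set G)) * k =
        Nat.card (stab M i) * S.relIndex P * k := by
      rw [e4, e2, ← e3, e1]
      ring
    exact Nat.eq_of_mul_eq_mul_left hs (Nat.eq_of_mul_eq_mul_right hk h4)
  intro h5
  apply hSyl
  rw [← e5]
  exact h5.trans (Dvd.intro _ (relIndex_mul_relIndex _ _ _ h1 (le_inf h2 h3)))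

/-! ### Central elements of `S` -/

/-- An element of `V` centralised by `S` with a trivial coordinate is trivial. -/
theorem eq_one_of_cent {z : G} (hz : z ∈ zl S P) (hc : ∀ s ∈ S, s * z = z * s) {i : Fin k}
    (h0 : M.e z i = 0) : z = 1 := by
  rw [← e_eq_zero M hz]
  funext j
  obtain ⟨t, ht, h1⟩ := M.trans i j
  have h2 := (h1 z hz).2 h0
  have e : t * z * t⁻¹ = z := by rw [hc t ht]; group
  rwa [e] at h2

open Classical in
/-- The component of `v` in the factor `i`. -/
theorem exists_component {v : G} (hv : v ∈ zl S P) (i : Fin k) :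
    ∃ a ∈ fac M i, M.e a i = M.e v i ∧ a⁻¹ * v ∈ part M {i}ᶜ := by
  obtain ⟨a, ha, h1⟩ := exists_fac M i (M.e v i)
  refine ⟨a, ha, h1, mul_mem (inv_mem ha.1) hv, fun j hj => ?_⟩
  have hj' : j = i := by simpa using hj
  rw [hj', M.mul _ (inv_mem ha.1) _ hv, e_inv M ha.1, Pi.add_apply, Pi.neg_apply, h1, neg_add_cancel]

/-- The component in the factor `i` of an element of `V` centralised by a subgroup of `S` normalising the
factor is centralised too. -/
theorem component_cent (hSP : S ≤ P) {z a t : G} {i : Fin k} (hz : z ∈ zl S P) (ha : a ∈ fac M i)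
    (h1 : M.e a i = M.e z i) (ht : t ∈ stab M i) (hc : t * z = z * t) : t * a = a * t := by
  have hb : a⁻¹ * z ∈ part M {i}ᶜ := by
    refine ⟨mul_mem (inv_mem ha.1) hz, fun j hj => ?_⟩
    have hj' : j = i := by simpa using hj
    rw [hj', M.mul _ (inv_mem ha.1) _ hz, e_inv M ha.1, Pi.add_apply, Pi.neg_apply, h1, neg_add_cancel]
  have h2 : t * a * t⁻¹ ∈ fac M i := (mem_normalizer_iff.1 ht.2 a).1 ha
  have h3 : t * (a⁻¹ * z) * t⁻¹ ∈ part M {i}ᶜ :=
    (mem_normalizer_iff.1 (stab_normalizes_compl M hSP i ht) _).1 hb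
  have h4 : t * a * t⁻¹ = a := by
    refine ext_fac M h2 ha ?_
    have e : t * (a⁻¹ * z) * t⁻¹ = (t * a * t⁻¹)⁻¹ * (t * z * t⁻¹) := by group
    have e2 : t * z * t⁻¹ = z := by rw [hc]; group
    rw [e, e2] at h3
    have h5 := h3.2 i (by simp)
    rw [M.mul _ (inv_mem h2.1) _ hz, e_inv M h2.1, Pi.add_apply, Pi.neg_apply, neg_add_eq_zero] at h5
    rw [h5, h1]
  calc t * a = t * a * t⁻¹ * t := by group
    _ = a * t := by rw [h4]

end Cfsg.Agent.Omega.IId

end

section


/-!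
# Lines and the commutator of a mutual pair

`M : NatK F S P (zl S P) ⊥ k`, `V = zl S P`.

* `lines M I` : the elements of `part M I` with all coordinates in the line `{x | x 1 = 0}`; `line M i`;
* `Full M A I` : `A` induces on `V` the full group of upper unitriangular elements of `SL₂(F)^I`;
* `exists_full` : an offender in `S` is of this kind (`NatK.off`);
* `commutator_eq` : `[V, A] = lines M I`, of order `q ^ |I|`;
* `eq_line` : if `|[V, A]| = q`, then `[V, A]` is a line.
-/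

set_option autoImplicit false

namespace Cfsg.Agent.Omega.IId

open Subgroup Cfsg Cfsg.Agent.ZN Cfsg.Agent.ZN.ChoiceBase
open Cfsg.Agent.Omega.MinPar Cfsg.Agent.Omega.FFThm
open Cfsg.Agent.MinSimple.VModule (le_normalizer_zl)
open Cfsg.Agent.Lib.SL2Mat
open Cfsg.Agent.Omega.NatPair (ap ap_mul ap_one ap_inv_ap ap_ap_inv exists_ap ap_add)
open scoped commutatorElement

universe u

variable {G : Type u} [Group G] {F : Type} [Field F] {S P : Subgroup G} {k : ℕ}
  (M : NatK F S P (zl S P) ⊥ k)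

/-- The elements of `part M I` with all coordinates in the line `{x | x 1 = 0}`. -/
def lines (I : Set (Fin k)) : Subgroup G where
  carrier := {v | v ∈ part M I ∧ ∀ i, M.e v i 1 = 0}
  one_mem' := ⟨one_mem _, fun i => by rw [e_one]; rfl⟩
  mul_mem' := by
    rintro a b ⟨ha, ha'⟩ ⟨hb, hb'⟩
    exact ⟨mul_mem ha hb, fun i => by
      rw [M.mul a ha.1 b hb.1, Pi.add_apply, Pi.add_apply, ha' i, hb' i, add_zero]⟩
  inv_mem' := by
    rintro a ⟨ha, ha'⟩
    exact ⟨inv_mem ha, fun i => by rw [e_inv M ha.1, Pi.neg_apply, Pi.neg_apply, ha' i, neg_zero]⟩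

theorem mem_lines {I : Set (Fin k)} {v : G} : v ∈ lines M I ↔ v ∈ part M I ∧ ∀ i, M.e v i 1 = 0 := Iff.rfl

theorem lines_le (I : Set (Fin k)) : lines M I ≤ part M I := fun _ h => h.1

theorem lines_mono {I J : Set (Fin k)} (h : I ⊆ J) : lines M I ≤ lines M J :=
  fun _ hv => ⟨part_mono M h hv.1, hv.2⟩

/-- The line of the factor `i`. -/
def line (i : Fin k) : Subgroup G := lines M {i}

theorem mem_line {i : Fin k} {v : G} : v ∈ line M i ↔ v ∈ fac M i ∧ M.e v i 1 = 0 := by
  refine ⟨fun h => ⟨h.1, h.2 i⟩, fun h => ⟨h.1, fun j => ?_⟩⟩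
  by_cases hj : j = i
  · rw [hj]; exact h.2
  · rw [h.1.2 j hj]; rfl

theorem line_le (i : Fin k) : line M i ≤ fac M i := lines_le M _

open Classical in
theorem exists_lines (I : Set (Fin k)) (x : Fin k → F) (hx : ∀ i, i ∉ I → x i = 0) :
    ∃ v ∈ lines M I, ∀ i, M.e v i 0 = x i := by
  obtain ⟨v, hv, h⟩ := M.surj fun i => ![x i, 0]
  refine ⟨v, ⟨⟨hv, fun i hi => ?_⟩, fun i => ?_⟩, fun i => ?_⟩
  · rw [h]
    apply NatPair.ext2
    · exact hx i hi
    · rfl
  · rw [h]; rfl
  · rw [h]; rfl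

open Classical in
/-- `|lines M I| = q ^ |I|`. -/
theorem card_lines [Finite F] (I : Set (Fin k)) : Nat.card (lines M I) = Nat.card F ^ Nat.card I := by
  have h1 : Function.Bijective fun (v : lines M I) (i : I) => M.e v i 0 := by
    constructor
    · intro v w h
      refine Subtype.ext (e_inj M v.2.1.1 w.2.1.1 (funext fun i => ?_))
      by_cases hi : i ∈ I
      · apply NatPair.ext2
        · exact congrFun h ⟨i, hi⟩
        · rw [v.2.2 i, w.2.2 i]
      · rw [v.2.1.2 i hi, w.2.1.2 i hi]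
    · intro x
      obtain ⟨v, hv, h⟩ := exists_lines M I (fun i => if hi : i ∈ I then x ⟨i, hi⟩ else 0)
        fun i hi => dif_neg hi
      refine ⟨⟨v, hv⟩, funext fun i => ?_⟩
      have h2 := h i
      rw [dif_pos i.2] at h2
      exact h2
  rw [Nat.card_congr (Equiv.ofBijective _ h1), Nat.card_fun]

theorem card_line [Finite F] (i : Fin k) : Nat.card (line M i) = Nat.card F := by
  rw [line, card_lines]
  simp

/-- `A` induces on `V` the full group of upper unitriangular elements of `SL₂(F)^I`. -/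
structure Ind (A : Subgroup G) (I : Set (Fin k)) : Prop where
  act : ∀ a ∈ A, ∃ b : Fin k → F, (∀ i, i ∉ I → b i = 0) ∧ ActsSL M.e (zl S P) ⊥ a fun i => up (b i)
  ex : ∀ b : Fin k → F, (∀ i, i ∉ I → b i = 0) → ∃ a ∈ A, ActsSL M.e (zl S P) ⊥ a fun i => up (b i)

theorem exists_ind {A : Subgroup G} (hA : A ≤ S) (hoff : Off (zl S P) A) : ∃ I : Set (Fin k), Ind M A I := by
  obtain ⟨I, h1, h2⟩ := M.off A hA hoff
  exact ⟨I, h1, h2⟩

variable {M}

/-- The coordinates of a commutator. -/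
theorem e_comm {v a : G} (hv : v ∈ zl S P) (ha : a ∈ P) {b : Fin k → F}
    (h : ActsSL M.e (zl S P) ⊥ a fun i => up (b i)) (i : Fin k) :
    ⁅v, a⁆ ∈ zl S P ∧ M.e ⁅v, a⁆ i 0 = - (b i * M.e v i 1) ∧ M.e ⁅v, a⁆ i 1 = 0 := by
  have e : ⁅v, a⁆ = v * (a * v⁻¹ * a⁻¹) := by rw [commutatorElement_def]; group
  have h1 : a * v⁻¹ * a⁻¹ ∈ zl S P := cj_mem ha (inv_mem hv)
  have h2 := h.1 _ (inv_mem hv) i
  rw [e, M.mul v hv _ h1, Pi.add_apply, Pi.add_apply, Pi.add_apply, h2, e_inv M hv, NatPair.ap_zero',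
    NatPair.ap_one']
  refine ⟨mul_mem hv h1, ?_, ?_⟩
  · simp only [up_00, up_01, Pi.neg_apply]
    ring
  · simp only [up_10, up_11, Pi.neg_apply]
    ring

open Classical in
/-- `[V, A] = lines M I`. -/
theorem Ind.commutator_eq {A : Subgroup G} {I : Set (Fin k)} (h : Ind M A I) (hA : A ≤ P) :
    ⁅zl S P, A⁆ = lines M I := by
  refine le_antisymm ?_ ?_
  · rw [commutator_le]
    intro v hv a ha
    obtain ⟨b, hb, h1⟩ := h.act a ha
    refine ⟨⟨(mul_mem hv (cj_mem (hA ha) (inv_mem hv)) : v * (a * v⁻¹ * a⁻¹) ∈ zl S P) |> fun h2 => ?_,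
      fun i hi => ?_⟩, fun i => (e_comm hv (hA ha) h1 i).2.2⟩
    · have e : ⁅v, a⁆ = v * (a * v⁻¹ * a⁻¹) := by rw [commutatorElement_def]; group
      rw [e]; exact h2
    · apply NatPair.ext2
      · rw [(e_comm hv (hA ha) h1 i).2.1, hb i hi]
        simp
      · exact (e_comm hv (hA ha) h1 i).2.2
  · intro w hw
    obtain ⟨v, hv, hev⟩ := M.surj fun i => if i ∈ I then ![0, 1] else 0
    have hev' : ∀ i, M.e v i = if i ∈ I then ![0, 1] else 0 := fun i => congrFun hev i
    obtain ⟨a, ha, h1⟩ := h.ex (fun i => - M.e w i 0) fun i hi => by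
      rw [hw.1.2 i hi]; simp
    have e : w = ⁅v, a⁆ := by
      by_cases hk : k = 0
      · subst hk
        refine e_inj M hw.1.1 ?_ (funext fun i => i.elim0)
        have e : ⁅v, a⁆ = v * (a * v⁻¹ * a⁻¹) := by rw [commutatorElement_def]; group
        rw [e]
        exact mul_mem hv (cj_mem (hA ha) (inv_mem hv))
      · have i0 : Fin k := ⟨0, Nat.pos_of_ne_zero hk⟩
        refine e_inj M hw.1.1 (e_comm hv (hA ha) h1 i0).1 (funext fun i => ?_)
        obtain ⟨-, h2, h3⟩ := e_comm hv (hA ha) h1 i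
        apply NatPair.ext2
        · rw [h2, hev']
          by_cases hi : i ∈ I
          · rw [if_pos hi]
            simp
          · rw [if_neg hi, hw.1.2 i hi]
            simp
        · rw [h3, hw.2 i]
    rw [e]
    exact commutator_mem_commutator hv ha

/-- If `|[V, A]| = q`, then `[V, A]` is a line. -/
theorem Ind.eq_line [Finite F] {A : Subgroup G} {I : Set (Fin k)} (h : Ind M A I) (hA : A ≤ P)
    (hc : Nat.card ↥⁅zl S P, A⁆ = Nat.card F) : ∃ i, I = {i} ∧ ⁅zl S P, A⁆ = line M i := by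
  have h1 := h.commutator_eq hA
  rw [h1, card_lines] at hc
  have hq : 1 < Nat.card F := Finite.one_lt_card
  have h2 : Nat.card I = 1 := by
    have : Nat.card F ^ Nat.card I = Nat.card F ^ 1 := by rw [hc, pow_one]
    exact Nat.pow_right_injective hq this
  obtain ⟨hs, hne⟩ := Nat.card_eq_one_iff_unique.1 h2
  obtain ⟨i, hi⟩ := hne
  have h3 : I = {i} := by
    ext j
    exact ⟨fun hj => congrArg Subtype.val (Subsingleton.elim (⟨j, hj⟩ : I) ⟨i, hi⟩), fun hj => by rw [hj]; exact hi⟩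
  exact ⟨i, h3, by rw [h1, h3]; rfl⟩

end Cfsg.Agent.Omega.IId

end

section


/-!
# `k = 2` natural factors: the structure `Two`

`M : NatK F S P (zl S P) ⊥ 2`, `P ∈ P*(S)`: the factors `fac M i`, `fac M j`, `i ≠ j`, the groups `grp M {i}`,
`grp M {j}` and `stab M i` form a `Two`.
-/

set_option autoImplicit false

namespace Cfsg.Agent.Omega.IId

open Subgroup Cfsg Cfsg.Agent.ZN Cfsg.Agent.ZN.ChoiceBase
open Cfsg.Agent.Omega.MinPar Cfsg.Agent.Omega.FFThm
open Cfsg.Agent.MinSimple.VModule (le_normalizer_zl)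
open Cfsg.Agent.Lib.SL2Mat

universe u

variable {G : Type u} [Group G] {F : Type} [Field F] {P : Subgroup G}

theorem compl_eq {i j : Fin 2} (h : i ≠ j) : ({i}ᶜ : Set (Fin 2)) = {j} := by
  ext x
  simp only [Set.mem_compl_iff, Set.mem_singleton_iff]
  omega

section two

variable {S : Subgroup G} (M : NatK F S P (zl S P) ⊥ 2)

theorem stab_normalizes' (hSP : S ≤ P) {i j : Fin 2} (h : i ≠ j) :
    stab M i ≤ normalizer (fac M j : Set G) := by
  have := stab_normalizes_compl M hSP i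
  rwa [compl_eq h] at this

theorem sup_fac {i j : Fin 2} (h : i ≠ j) : fac M i ⊔ fac M j = zl S P := by
  have := part_sup M {i}
  rwa [compl_eq h] at this

theorem stab_eq (hSP : S ≤ P) {i j : Fin 2} (h : i ≠ j) : stab M i = stab M j :=
  le_antisymm (le_inf (stab_le M i) (stab_normalizes' M hSP h))
    (le_inf (stab_le M j) (stab_normalizes' M hSP h.symm))

/-- An element of `S` which does not normalise `fac M i` swaps the factors. -/
theorem swap_fac (hSP : S ≤ P) {i j : Fin 2} (h : i ≠ j) {s : G} (hs : s ∈ S) (hn : s ∉ stab M i) :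
    cj s (fac M i) = fac M j := by
  have h1 : sg M (hSP hs) i ≠ i := by
    intro h1
    apply hn
    exact ⟨hs, (mem_normalizer_fac_iff M (hSP hs)).2 h1⟩
  rw [conj_fac M (hSP hs)]
  congr 1
  omega

/-- The component of an element of `V` in the factor `i`: the other component is in `fac M j`. -/
theorem exists_comp2 {i j : Fin 2} (h : i ≠ j) {v : G} (hv : v ∈ zl S P) :
    ∃ a ∈ fac M i, ∃ b ∈ fac M j, v = a * b := by
  obtain ⟨a, ha, -, h2⟩ := exists_component M hv i
  rw [compl_eq h] at h2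
  exact ⟨a, ha, a⁻¹ * v, h2, by group⟩

end two

/-- **The structure `Two`.** -/
theorem two_of [Finite G] [Finite F] [CharP F 2] (hc : IsCharacteristicTwoType G) {S : Sylow 2 G}
    (hP : IsParS (S : Subgroup G) P) (M : NatK F (S : Subgroup G) P (zl (S : Subgroup G) P) ⊥ 2)
    {i j : Fin 2} (hij : i ≠ j) :
    Two (S : Subgroup G) (stab M i) (fac M i) (fac M j) (grp M {i}) (grp M {j}) := by
  have hSP : (S : Subgroup G) ≤ P := hP.isLoc.le
  have hV : zl (S : Subgroup G) P ≤ (S : Subgroup G) := zl_le_sylow hc S hP.isLoc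
  have hVab : ∀ x ∈ zl (S : Subgroup G) P, ∀ y ∈ zl (S : Subgroup G) P, x * y = y * x :=
    fun x hx y hy => comm M hx hy
  have hn : ∀ l, zl (S : Subgroup G) P ≤ normalizer (fac M l : Set G) := by
    intro l x hx
    rw [mem_normalizer_iff]
    intro y
    constructor
    · intro hy
      rw [hVab x hx y (fac_le M l hy), mul_inv_cancel_right]
      exact hy
    · intro hy
      have h1 : y = x⁻¹ * (x * y * x⁻¹) * x := by group
      rw [h1, hVab x⁻¹ (inv_mem hx) _ (fac_le M l hy), inv_mul_cancel_right]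
      exact hy
  have hVS : zl (S : Subgroup G) P ≤ stab M i := le_inf hV (hn i)
  have hdisj : Disjoint ({i} : Set (Fin 2)) {j} := by simpa using hij
  have conjmem : ∀ {H A : Subgroup G}, H ≤ normalizer (A : Set G) →
      ∀ x ∈ H, ∀ v ∈ A, x * v * x⁻¹ ∈ A := fun h x hx v hv => (mem_normalizer_iff.1 (h hx) v).1 hv
  have hodd : ¬ 2 ∣ (S : Subgroup G).relIndex P := MinSimple.Basic.not_dvd_relIndex S hSP
  have hcard : ∀ l, 2 < Nat.card (fac M l) := by
    intro l
    rw [card_fac]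
    rcases FrameFF.two_le_card (F := F) with h | h
    · rw [h]; norm_num
    · nlinarith
  have zz : ∀ l : Fin 2, Nat.card (zc (S : Subgroup G)) ≤
      Nat.card (fac M l ⊓ centralizer (stab M l : Set G) : Subgroup G) := by
    intro l
    have hz : ∀ z : zc (S : Subgroup G), (z : G) ∈ zl (S : Subgroup G) P := fun z =>
      ChoiceSit.zc_le_zl _ _ z.2
    have hex : ∀ z : zc (S : Subgroup G), ∃ a ∈ fac M l ⊓ centralizer (stab M l : Set G),
        M.e a l = M.e z l := by
      intro z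
      obtain ⟨a, ha, h1, -⟩ := exists_component M (hz z) l
      refine ⟨a, ⟨ha, mem_centralizer_iff.2 fun t ht => ?_⟩, h1⟩
      exact component_cent M hSP (hz z) ha h1 ht
        ((MinSimple.VModule.mem_zc.1 z.2).2.1 t ht.1)
    choose f hf hfe using hex
    refine Nat.card_le_card_of_injective (fun z => ⟨f z, hf z⟩) ?_
    intro z w hzw
    have h1 : f z = f w := congrArg Subtype.val hzw
    have h2 : M.e ((z : G) * (w : G)⁻¹) l = 0 := by
      rw [M.mul _ (hz z) _ (inv_mem (hz w)), e_inv M (hz w), Pi.add_apply, Pi.neg_apply, ← hfe z, ← hfe w,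
        h1, add_neg_cancel]
    have h3 : (z : G) * (w : G)⁻¹ = 1 := by
      refine eq_one_of_cent M (mul_mem (hz z) (inv_mem (hz w))) (fun s hs => ?_) h2
      have h4 := (MinSimple.VModule.mem_zc.1 (mul_mem z.2 (inv_mem w.2))).2.1 s hs
      exact h4
    exact Subtype.ext (mul_inv_eq_one.1 h3)
  refine
    { SoS := stab_le M i
      card := card_stab M hSP i
      V1So := (fac_le M i).trans hVS
      V2So := (fac_le M j).trans hVS
      c1 := fun x hx y hy => hVab x (fac_le M i hx) y (fac_le M i hy)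
      c2 := fun x hx y hy => hVab x (fac_le M j hx) y (fac_le M j hy)
      q1 := fun x hx => by rw [pow_two]; exact sq M (fac_le M i hx)
      q2 := fun x hx => by rw [pow_two]; exact sq M (fac_le M j hx)
      c12 := fun x hx y hy => hVab x (fac_le M i hx) y (fac_le M j hy)
      inf := fun x hx hx' => by
        have h1 : x ∈ fac M i ⊓ fac M j := ⟨hx, hx'⟩
        rwa [fac_inf M hij, mem_bot] at h1
      So1 := conjmem (stab_normalizes M i)
      So2 := conjmem (stab_normalizes' M hSP hij)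
      sw1 := fun s hs hn' v hv => by
        rw [← swap_fac M hSP hij hs hn', mem_cj_iff]
        have e : s⁻¹ * (s * v * s⁻¹) * s = v := by group
        rwa [e]
      sw2 := fun s hs hn' v hv => by
        rw [← swap_fac M hSP hij.symm hs (fun h => hn' (by rwa [stab_eq M hSP hij])), mem_cj_iff]
        have e : s⁻¹ * (s * v * s⁻¹) * s = v := by group
        rwa [e]
      L1 := conjmem (grp_normalizes M {i} {i})
      L2 := conjmem (grp_normalizes M {j} {j})
      L12 := fun l hl v hv => grp_comm M hdisj hl hv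
      L21 := fun l hl v hv => grp_comm M hdisj.symm hl hv
      t1 := fun v hv hv1 w hw hw1 => exists_grp M hv hw hv1 hw1
      t2 := fun v hv hv1 w hw hw1 => exists_grp M hv hw hv1 hw1
      o1 := ?_
      o2 := ?_
      z1 := zz i
      z2 := by
        have := zz j
        rwa [← stab_eq M hSP hij] at this
      big1 := hcard i
      big2 := hcard j }
  · exact not_dvd_stab M hSP hodd i le_sup_right (sup_le (grp_le M _) ((stab_le M i).trans hSP))
      (sup_le (grp_normalizes M _ _) (stab_normalizes M i))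
  · exact not_dvd_stab M hSP hodd i le_sup_right (sup_le (grp_le M _) ((stab_le M i).trans hSP))
      (sup_le (grp_normalizes M _ _) (stab_normalizes M i))

end Cfsg.Agent.Omega.IId

end

section


/-!
# II.d: mutual pairs with a member which has `k ≥ 2` natural factors (assembler: helper36, head: helper612)

`LeafWr K` (`Omega/FrameMulti.lean`) from its sub-leaves.  In all of them the mutual pair is in normal position
(`Pair S S' P P'`: `V' ≤ S`, `V ≤ S'`), `V = zl S P`, `V' = zl S' P'`, and the hypotheses `Hyp K S` are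
`Ctx G`, `K G`, `Full S`, `AllIn S`, `AllTyped S`.

* `WrCv`   : `C_V(O²(P)) ≠ 1` or `C_{V'}(O²(P')) ≠ 1`;
* `WrSym`  : `P'` of type `S_{2^m+1}`;
* `WrTwo`  : natural factors on both sides, `|[V, V']| ≠ q` (`|I| ≥ 2`): contradiction;
* `WrBig`  : natural factors on both sides, `|[V, V']| = q`, more than two factors on one side;
* `WrTri`  : `k = 2`, `[V, V'] = R` a line of a factor, `N_S(V_i)` not Sylow in `N_G(R)`;
* `WrMain2`, `WrMain4` : `k = 2`, `N_S(V_i)` Sylow in `N_G(R)`, `q = 2` resp. `q ≥ 4`: contradiction.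
-/

set_option autoImplicit false

namespace Cfsg.Agent.Omega.IId

open Subgroup Pointwise Cfsg Cfsg.Agent.ZN Cfsg.Agent.ZN.ChoiceBase
open Cfsg.Agent.Omega.MinPar Cfsg.Agent.Omega.Frame Cfsg.Agent.Omega.FFThm Cfsg.Agent.Omega.FrameMulti
open Cfsg.Agent.Omega.FrameLE (AllIn)
open Cfsg.Agent.Omega.FrameFF (cv Free)

universe u

/-! ### The sub-leaves -/

/-- The standing hypotheses of the leaves. -/
structure Hyp (K : Cls.{u}) {G : Type u} [Group G] [Finite G] (S : Sylow 2 G) : Prop where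
  ctx : Ctx G
  cls : K G
  full : Full (S : Subgroup G)
  allIn : AllIn (S : Subgroup G)
  typed : AllTyped (S : Subgroup G)

/-- `n` is at most `|V_{Q₁}||V_{Q₂}|` for all mutual pairs `Q₁, Q₂` of which `Q₁` has `k ≥ 2` natural factors. -/
def MinWr {G : Type u} [Group G] (S : Subgroup G) (n : ℕ) : Prop :=
  ∀ (Q₁ Q₂ : Subgroup G) (x : G), Mutual S Q₁ Q₂ x → ∀ k, 2 ≤ k → IsNat S Q₁ k →
    n ≤ Nat.card (zl S Q₁) * Nat.card (zl S Q₂)

section leaves

variable (K : Cls.{u})

/-- `C_V(O²(P)) ≠ 1` for one of the members. (helper766, helper816) -/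
def WrCv : Prop :=
  ∀ (G : Type u) [Group G] [Finite G] (S S' : Sylow 2 G), Hyp K S → ∀ (P P' : Subgroup G), Pair S S' P P' →
    ∀ k, 2 ≤ k → IsNat (S : Subgroup G) P k →
      ¬ (Free (S : Subgroup G) P ∧ Free (S' : Subgroup G) P') → IsKnownSimple' G

/-- `P'` of type `S_{2^m+1}`, `m ≥ 2` (any number of factors). (helper592, helper242) -/
def WrSym : Prop :=
  ∀ (G : Type u) [Group G] [Finite G] (S S' : Sylow 2 G), Hyp K S → ∀ (P P' : Subgroup G), Pair S S' P P' →
    ∀ k, 2 ≤ k → IsNat (S : Subgroup G) P k → Free (S : Subgroup G) P → Free (S' : Subgroup G) P' →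
      ∀ k' m', 1 ≤ k' → 2 ≤ m' → IsSym (S' : Subgroup G) P' k' m' → IsKnownSimple' G

/-- `|I| ≥ 2`. (#11954, #12663: helper7, helper610; Lean: helper334, helper909) -/
def WrTwo : Prop :=
  ∀ (G : Type u) [Group G] [Finite G] (S S' : Sylow 2 G), Hyp K S → ∀ (P P' : Subgroup G), Pair S S' P P' →
    ∀ (F F' : Type) [Field F] [Finite F] [CharP F 2] [Field F'] [Finite F'] [CharP F' 2] (k k' : ℕ)
      (_ : NatK F (S : Subgroup G) P (zl (S : Subgroup G) P) ⊥ k)
      (_ : NatK F' (S' : Subgroup G) P' (zl (S' : Subgroup G) P') ⊥ k'), 2 ≤ k → 1 ≤ k' →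
      Nat.card ↥⁅zl (S : Subgroup G) P, zl (S' : Subgroup G) P'⁆ ≠ Nat.card F → False

/-- `|I| = 1`, more than two factors on one side. (helper461, helper612) -/
def WrBig : Prop :=
  ∀ (G : Type u) [Group G] [Finite G] (S S' : Sylow 2 G), Hyp K S → ∀ (P P' : Subgroup G), Pair S S' P P' →
    ∀ (F F' : Type) [Field F] [Finite F] [CharP F 2] [Field F'] [Finite F'] [CharP F' 2] (k k' : ℕ)
      (_ : NatK F (S : Subgroup G) P (zl (S : Subgroup G) P) ⊥ k)
      (_ : NatK F' (S' : Subgroup G) P' (zl (S' : Subgroup G) P') ⊥ k'), 2 ≤ k → 1 ≤ k' →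
      2 < k ∨ 2 < k' →
      Nat.card ↥⁅zl (S : Subgroup G) P, zl (S' : Subgroup G) P'⁆ = Nat.card F → IsKnownSimple' G

/-- CASE 2 (the triangle): `k = 2`, `|I| = 1`, `N_S(V_i)` is not Sylow in `N_G(R)`.
(#13363, #13524, #13793: helper113, helper612; Lean: helper774) -/
def WrTri : Prop :=
  ∀ (G : Type u) [Group G] [Finite G] (S S' : Sylow 2 G), Hyp K S → ∀ (P P' : Subgroup G), Pair S S' P P' →
    ∀ (F F' : Type) [Field F] [Finite F] [CharP F 2] [Field F'] [Finite F'] [CharP F' 2] (k' : ℕ)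
      (M : NatK F (S : Subgroup G) P (zl (S : Subgroup G) P) ⊥ 2)
      (_ : NatK F' (S' : Subgroup G) P' (zl (S' : Subgroup G) P') ⊥ k'), 1 ≤ k' → k' ≤ 2 →
      ∀ i, ⁅zl (S : Subgroup G) P, zl (S' : Subgroup G) P'⁆ = line M i →
        2 ∣ (stab M i).relIndex (normalizer (line M i : Set G)) → IsKnownSimple' G

/-- CASE 1: `k = 2`, `|I| = 1`, `N_S(V_i)` is Sylow in `N_G(R)`, `q = 2`.
(#12430, #12999, #13722: helper478, helper766, helper895) -/
def WrMain2 : Prop :=
  ∀ (G : Type u) [Group G] [Finite G] (S S' : Sylow 2 G), Hyp K S → ∀ (P P' : Subgroup G), Pair S S' P P' →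
    ∀ (F F' : Type) [Field F] [Finite F] [CharP F 2] [Field F'] [Finite F'] [CharP F' 2] (k' : ℕ)
      (M : NatK F (S : Subgroup G) P (zl (S : Subgroup G) P) ⊥ 2)
      (_ : NatK F' (S' : Subgroup G) P' (zl (S' : Subgroup G) P') ⊥ k'), 1 ≤ k' → k' ≤ 2 →
      ∀ i, ⁅zl (S : Subgroup G) P, zl (S' : Subgroup G) P'⁆ = line M i →
        ¬ 2 ∣ (stab M i).relIndex (normalizer (line M i : Set G)) → Nat.card F = 2 → False

/-- CASE 1: `k = 2`, `|I| = 1`, `N_S(V_i)` is Sylow in `N_G(R)`, `q ≥ 4`; the pair is minimal (`MinWr`).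
(head: helper441) -/
def WrMain4 : Prop :=
  ∀ (G : Type u) [Group G] [Finite G] (S S' : Sylow 2 G), Hyp K S → ∀ (P P' : Subgroup G), Pair S S' P P' →
    MinWr (S : Subgroup G) (Nat.card (zl (S : Subgroup G) P) * Nat.card (zl (S' : Subgroup G) P')) →
    ∀ (F F' : Type) [Field F] [Finite F] [CharP F 2] [Field F'] [Finite F'] [CharP F' 2] (k' : ℕ)
      (M : NatK F (S : Subgroup G) P (zl (S : Subgroup G) P) ⊥ 2)
      (_ : NatK F' (S' : Subgroup G) P' (zl (S' : Subgroup G) P') ⊥ k'), 1 ≤ k' → k' ≤ 2 →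
      ∀ i, ⁅zl (S : Subgroup G) P, zl (S' : Subgroup G) P'⁆ = line M i →
        ¬ 2 ∣ (stab M i).relIndex (normalizer (line M i : Set G)) → 4 ≤ Nat.card F → False

variable {K}

/-- **II.d, natural factors, from its sub-leaves.** -/
theorem leafWr (h1 : WrCv K) (h2 : WrSym K) (h3 : WrTwo K) (h4 : WrBig K) (h5 : WrTri K) (h6 : WrMain2 K)
    (h7 : WrMain4 K) : LeafWr K := by
  intro G _ _ hG hcl S hF hLE hAT Q₁ Q₂ y₀ hm₀ k₀ hk₀ hN₀
  have hH : Hyp K S := ⟨hG, hcl, hF, hLE, hAT⟩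
  -- a minimal pair
  let T : Type u := Subgroup G × Subgroup G × G
  obtain ⟨⟨P₁, P₂, x⟩, ⟨hm, k, hk, hN⟩, hmin⟩ := WellFounded.has_min
    (InvImage.wf (fun t : T => Nat.card (zl (S : Subgroup G) t.1) * Nat.card (zl (S : Subgroup G) t.2.1))
      Nat.lt_wfRel.wf)
    {t : T | Mutual (S : Subgroup G) t.1 t.2.1 t.2.2 ∧ ∃ k, 2 ≤ k ∧ IsNat (S : Subgroup G) t.1 k}
    ⟨(Q₁, Q₂, y₀), hm₀, k₀, hk₀, hN₀⟩
  have hMin : ∀ y : G, MinWr (S : Subgroup G) (Nat.card (zl (S : Subgroup G) P₁) *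
      Nat.card (zl ((sy y S : Sylow 2 G) : Subgroup G) (cj y P₂))) := by
    intro y R₁ R₂ z hR l hl hNR
    have h1 := hmin (R₁, R₂, z) ⟨hR, l, hl, hNR⟩
    have h2 : Nat.card (zl ((sy y S : Sylow 2 G) : Subgroup G) (cj y P₂)) =
        Nat.card (zl (S : Subgroup G) P₂) := by
      rw [sy_coe, zl_cj, card_cj]
    rw [h2]
    exact not_lt.1 h1
  obtain ⟨y, hm', hp⟩ := exists_pair hG.char2 S hm
  have hT2 : Typed (S : Subgroup G) P₂ := (hAT P₁ P₂ x hm).2
  have hT2' : Typed ((sy y S : Sylow 2 G) : Subgroup G) (cj y P₂) := by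
    rw [sy_coe]
    exact typed_cj hT2 y
  by_cases hf : Free (S : Subgroup G) P₁ ∧ Free ((sy y S : Sylow 2 G) : Subgroup G) (cj y P₂)
  · obtain ⟨f1, f2⟩ := hf
    rcases hT2'.cases with ⟨k', hk', hN'⟩ | ⟨k', m', hk', hm', hS'⟩
    · obtain ⟨F, i1, i2, i3, ⟨M⟩⟩ := hN
      obtain ⟨F', i1', i2', i3', ⟨M'⟩⟩ := hN'
      rw [show cv (S : Subgroup G) P₁ = ⊥ from f1] at M
      rw [show cv ((sy y S : Sylow 2 G) : Subgroup G) (cj y P₂) = ⊥ from f2] at M'
      by_cases hc : Nat.card ↥⁅zl (S : Subgroup G) P₁, zl ((sy y S : Sylow 2 G) : Subgroup G) (cj y P₂)⁆ =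
          Nat.card F
      · by_cases hb : 2 < k ∨ 2 < k'
        · exact h4 G S (sy y S) hH P₁ (cj y P₂) hp F F' k k' M M' hk hk' hb hc
        · push Not at hb
          obtain rfl : k = 2 := le_antisymm hb.1 hk
          obtain ⟨I, hI⟩ := exists_ind M hp.le (hp.off hG.char2 hT2'.noOver)
          obtain ⟨i, -, hi⟩ := hI.eq_line (hp.le.trans hm.star₁.le) hc
          by_cases hd : 2 ∣ (stab M i).relIndex (normalizer (line M i : Set G))
          · exact h5 G S (sy y S) hH P₁ (cj y P₂) hp F F' k' M M' hk' hb.2 i hi hd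
          · rcases FrameFF.two_le_card (F := F) with hq | hq
            · exact (h6 G S (sy y S) hH P₁ (cj y P₂) hp F F' k' M M' hk' hb.2 i hi hd hq).elim
            · exact (h7 G S (sy y S) hH P₁ (cj y P₂) hp (hMin y) F F' k' M M' hk' hb.2 i hi hd hq).elim
      · exact (h3 G S (sy y S) hH P₁ (cj y P₂) hp F F' k k' M M' hk hk' hc).elim
    · exact h2 G S (sy y S) hH P₁ (cj y P₂) hp k hk hN f1 f2 k' m' hk' hm' hS'
  · exact h1 G S (sy y S) hH P₁ (cj y P₂) hp k hk hN hf

end leaves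

end Cfsg.Agent.Omega.IId

end

section


/-!
# The factors of a sum of `k` natural `SL₂(F)`-modules `V`, `V` any normal subgroup of `P`

The same facts as in `IId/Fac.lean`, `IId/Line.lean` for `M : NatV F S P V k` (a `NatK F S P V ⊥ k` with
`P ≤ N(V)`), for example `V = [V_P, O²(P)]` if `C_{V_P}(O²(P)) ≠ 1` (`Cv/Split.lean`).
-/

set_option autoImplicit false
set_option linter.unusedSectionVars false

namespace Cfsg.Agent.Omega.IId.NV

open Subgroup Cfsg Cfsg.Agent.ZN Cfsg.Agent.ZN.ChoiceBase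
open Cfsg.Agent.Omega.MinPar Cfsg.Agent.Omega.FFThm
open Cfsg.Agent.Lib.SL2Mat
open Cfsg.Agent.Omega.NatPair (ap ap_mul ap_one ap_inv_ap ap_ap_inv exists_ap ap_add)
open scoped commutatorElement

universe u

/-- `V` is a sum of `k` natural `SL₂(F)`-modules for `P`, and `P` normalises `V`. -/
structure _root_.Cfsg.Agent.Omega.IId.NatV {G : Type u} [Group G] (F : Type) [Field F] (S P V : Subgroup G)
    (k : ℕ) extends NatK F S P V ⊥ k where
  nV : P ≤ normalizer (V : Set G)

variable {G : Type u} [Group G] {F : Type} [Field F] {S P V : Subgroup G} {k : ℕ}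
  (M : NatV F S P V k)

/-! ### Coordinates -/

include M in
theorem cj_mem {g v : G} (hg : g ∈ P) (hv : v ∈ V) : g * v * g⁻¹ ∈ V :=
  (mem_normalizer_iff.mp (M.nV hg) v).mp hv

include M in
theorem cj_mem' {g v : G} (hg : g ∈ P) (hv : v ∈ V) : g⁻¹ * v * g ∈ V := by
  have := cj_mem M (inv_mem hg) hv
  rwa [inv_inv] at this

include M in
theorem e_one : M.e 1 = 0 := by
  have := M.mul 1 (one_mem _) 1 (one_mem _)
  rw [mul_one] at this
  exact left_eq_add.1 this

theorem e_inv {v : G} (hv : v ∈ V) : M.e v⁻¹ = - M.e v := by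
  have := M.mul v⁻¹ (inv_mem hv) v hv
  rw [inv_mul_cancel, e_one] at this
  exact eq_neg_of_add_eq_zero_left this.symm

theorem e_eq_zero {v : G} (hv : v ∈ V) : M.e v = 0 ↔ v = 1 := by
  rw [M.ker v hv, mem_bot]

theorem e_inj {v w : G} (hv : v ∈ V) (hw : w ∈ V) (h : M.e v = M.e w) : v = w := by
  have h1 : M.e (v * w⁻¹) = 0 := by
    rw [M.mul v hv _ (inv_mem hw), e_inv M hw, h, add_neg_cancel]
  exact mul_inv_eq_one.1 ((e_eq_zero M (mul_mem hv (inv_mem hw))).1 h1)

include M in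
theorem comm {v w : G} (hv : v ∈ V) (hw : w ∈ V) : v * w = w * v :=
  e_inj M (mul_mem hv hw) (mul_mem hw hv) (by rw [M.mul v hv w hw, M.mul w hw v hv, add_comm])

include M in
theorem sq [CharP F 2] {v : G} (hv : v ∈ V) : v * v = 1 := by
  rw [← e_eq_zero M (mul_mem hv hv), M.mul v hv v hv]
  funext i j
  exact CharTwo.add_self_eq_zero _

/-! ### Parts -/

/-- The sum of the factors with index in `I`. -/
def part (I : Set (Fin k)) : Subgroup G where
  carrier := {v | v ∈ V ∧ ∀ i, i ∉ I → M.e v i = 0}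
  one_mem' := ⟨one_mem _, fun i _ => by rw [e_one]; rfl⟩
  mul_mem' := by
    rintro a b ⟨ha, ha'⟩ ⟨hb, hb'⟩
    exact ⟨mul_mem ha hb, fun i hi => by rw [M.mul a ha b hb, Pi.add_apply, ha' i hi, hb' i hi, add_zero]⟩
  inv_mem' := by
    rintro a ⟨ha, ha'⟩
    exact ⟨inv_mem ha, fun i hi => by rw [e_inv M ha, Pi.neg_apply, ha' i hi, neg_zero]⟩

theorem mem_part {I : Set (Fin k)} {v : G} : v ∈ part M I ↔ v ∈ V ∧ ∀ i, i ∉ I → M.e v i = 0 := Iff.rfl

/-- The `i`-th factor. -/
def fac (i : Fin k) : Subgroup G := part M {i}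

theorem mem_fac {i : Fin k} {v : G} : v ∈ fac M i ↔ v ∈ V ∧ ∀ j, j ≠ i → M.e v j = 0 := Iff.rfl

theorem part_le (I : Set (Fin k)) : part M I ≤ V := fun _ h => h.1

theorem fac_le (i : Fin k) : fac M i ≤ V := part_le M _

theorem part_mono {I J : Set (Fin k)} (h : I ⊆ J) : part M I ≤ part M J :=
  fun _ hv => ⟨hv.1, fun i hi => hv.2 i fun h1 => hi (h h1)⟩

theorem part_inf (I J : Set (Fin k)) : part M I ⊓ part M J = part M (I ∩ J) := by
  ext v
  constructor
  · rintro ⟨h1, h2⟩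
    refine ⟨h1.1, fun i hi => ?_⟩
    by_cases h3 : i ∈ I
    · exact h2.2 i fun h4 => hi ⟨h3, h4⟩
    · exact h1.2 i h3
  · rintro ⟨h1, h2⟩
    exact ⟨⟨h1, fun i hi => h2 i fun h3 => hi h3.1⟩, ⟨h1, fun i hi => h2 i fun h3 => hi h3.2⟩⟩

theorem part_empty : part M ∅ = ⊥ := by
  rw [eq_bot_iff]
  rintro v ⟨h1, h2⟩
  rw [mem_bot, ← e_eq_zero M h1]
  funext i
  exact h2 i (Set.notMem_empty i)

theorem part_univ : part M Set.univ = V := by
  ext v
  exact ⟨fun h => h.1, fun h => ⟨h, fun i hi => (hi (Set.mem_univ i)).elim⟩⟩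

/-- A vector with given coordinates. -/
theorem exists_vec (x : Fin k → Fin 2 → F) : ∃ v ∈ V, M.e v = x := M.surj x

open Classical in
/-- The components of `v`. -/
theorem exists_comp {v : G} (hv : v ∈ V) (I : Set (Fin k)) :
    ∃ a ∈ part M I, ∃ b ∈ part M Iᶜ, v = a * b := by
  obtain ⟨a, ha, hea⟩ := M.surj fun i => if i ∈ I then M.e v i else 0
  have he : ∀ i, M.e a i = if i ∈ I then M.e v i else 0 := fun i => congrFun hea i
  refine ⟨a, ⟨ha, fun i hi => by rw [he, if_neg hi]⟩, a⁻¹ * v, ⟨mul_mem (inv_mem ha) hv, fun i hi => ?_⟩, by group⟩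
  have hi' : i ∈ I := not_not.1 hi
  rw [M.mul _ (inv_mem ha) _ hv, e_inv M ha, Pi.add_apply, Pi.neg_apply, he, if_pos hi', neg_add_cancel]

theorem part_sup (I : Set (Fin k)) : part M I ⊔ part M Iᶜ = V := by
  refine le_antisymm (sup_le (part_le M _) (part_le M _)) fun v hv => ?_
  obtain ⟨a, ha, b, hb, rfl⟩ := exists_comp M hv I
  exact mul_mem_sup ha hb

theorem fac_inf {i j : Fin k} (h : i ≠ j) : fac M i ⊓ fac M j = ⊥ := by
  rw [fac, fac, part_inf, ← part_empty M]
  congr 1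
  ext x
  simp only [Set.mem_inter_iff, Set.mem_singleton_iff, Set.mem_empty_iff_false, iff_false, not_and]
  rintro rfl
  exact h

theorem ext_fac {i : Fin k} {v w : G} (hv : v ∈ fac M i) (hw : w ∈ fac M i) (h : M.e v i = M.e w i) : v = w := by
  refine e_inj M hv.1 hw.1 (funext fun j => ?_)
  by_cases hj : j = i
  · rw [hj, h]
  · rw [hv.2 j hj, hw.2 j hj]

theorem fac_eq_one {i : Fin k} {v : G} (hv : v ∈ fac M i) : M.e v i = 0 ↔ v = 1 := by
  refine ⟨fun h => ext_fac M hv (one_mem _) (by rw [h, e_one]; rfl), fun h => ?_⟩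
  rw [h, e_one]
  rfl

open Classical in
theorem exists_fac (i : Fin k) (x : Fin 2 → F) : ∃ v ∈ fac M i, M.e v i = x := by
  obtain ⟨v, hv, h⟩ := M.surj (Pi.single i x)
  exact ⟨v, ⟨hv, fun j hj => by rw [h, Pi.single_eq_of_ne hj]⟩, by rw [h, Pi.single_eq_same]⟩

theorem fac_ne_bot (i : Fin k) : fac M i ≠ ⊥ := by
  obtain ⟨v, hv, h⟩ := exists_fac M i ![1, 0]
  intro h0
  rw [h0, mem_bot] at hv
  rw [hv, e_one] at h
  have := congrFun h 0
  simp at this

/-- The coordinate on a factor. -/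
noncomputable def facEquiv (i : Fin k) : fac M i ≃ (Fin 2 → F) :=
  Equiv.ofBijective (fun v => M.e v i) ⟨fun v w h => Subtype.ext (ext_fac M v.2 w.2 h), fun x => by
    obtain ⟨v, hv, h⟩ := exists_fac M i x
    exact ⟨⟨v, hv⟩, h⟩⟩

theorem card_fac (i : Fin k) : Nat.card (fac M i) = Nat.card F ^ 2 := by
  rw [Nat.card_congr (facEquiv M i), Nat.card_fun]
  simp

/-! ### The group `SL₂(F)^I` -/

theorem acts_one : ActsSL M.e (V) ⊥ 1 1 := by
  refine ⟨fun v _ i => ?_, fun d _ => ?_⟩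
  · have e : (1 : G) * v * 1⁻¹ = v := by group
    rw [e, Pi.one_apply, ap_one]
  · rw [one_mul, mul_one]

variable {M}

theorem acts_mul {g h : G} (hh : h ∈ P) {A B : Fin k → Matrix.SpecialLinearGroup (Fin 2) F}
    (h1 : ActsSL M.e (V) ⊥ g A) (h2 : ActsSL M.e (V) ⊥ h B) :
    ActsSL M.e (V) ⊥ (g * h) (A * B) := by
  refine ⟨fun v hv i => ?_, fun d hd => ?_⟩
  · have e : g * h * v * (g * h)⁻¹ = g * (h * v * h⁻¹) * g⁻¹ := by group
    rw [e, h1.1 _ (cj_mem M hh hv) i, h2.1 v hv i, Pi.mul_apply, ap_mul]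
  · rw [mem_bot] at hd
    rw [hd]
    group

theorem acts_inv {g : G} (hg : g ∈ P) {A : Fin k → Matrix.SpecialLinearGroup (Fin 2) F}
    (h1 : ActsSL M.e (V) ⊥ g A) : ActsSL M.e (V) ⊥ g⁻¹ A⁻¹ := by
  refine ⟨fun v hv i => ?_, fun d hd => ?_⟩
  · have h2 := h1.1 _ (cj_mem M (inv_mem hg) hv) i
    have e : g * (g⁻¹ * v * g⁻¹⁻¹) * g⁻¹ = v := by group
    rw [e] at h2
    rw [h2, Pi.inv_apply, ap_inv_ap]
  · rw [mem_bot] at hd
    rw [hd]
    group

variable (M)

/-- The elements of `P` which act on `V` as elements of `SL₂(F)^I`. -/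
def grp (I : Set (Fin k)) : Subgroup G where
  carrier := {g | g ∈ P ∧ ∃ A : Fin k → Matrix.SpecialLinearGroup (Fin 2) F,
    ActsSL M.e (V) ⊥ g A ∧ ∀ i, i ∉ I → A i = 1}
  one_mem' := ⟨one_mem _, 1, acts_one M, fun _ _ => rfl⟩
  mul_mem' := by
    rintro a b ⟨ha, A, hA, hA'⟩ ⟨hb, B, hB, hB'⟩
    exact ⟨mul_mem ha hb, A * B, acts_mul hb hA hB, fun i hi => by
      rw [Pi.mul_apply, hA' i hi, hB' i hi, mul_one]⟩
  inv_mem' := by
    rintro a ⟨ha, A, hA, hA'⟩
    exact ⟨inv_mem ha, A⁻¹, acts_inv ha hA, fun i hi => by rw [Pi.inv_apply, hA' i hi, inv_one]⟩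

theorem mem_grp {I : Set (Fin k)} {g : G} : g ∈ grp M I ↔ g ∈ P ∧
    ∃ A : Fin k → Matrix.SpecialLinearGroup (Fin 2) F, ActsSL M.e (V) ⊥ g A ∧ ∀ i, i ∉ I → A i = 1 := Iff.rfl

theorem grp_le (I : Set (Fin k)) : grp M I ≤ P := fun _ h => h.1

theorem grp_mono {I J : Set (Fin k)} (h : I ⊆ J) : grp M I ≤ grp M J :=
  fun _ ⟨h1, A, h2, h3⟩ => ⟨h1, A, h2, fun i hi => h3 i fun h4 => hi (h h4)⟩

/-- `SL₂(F)^I` centralises the factors outside `I`. -/
theorem grp_comm {I J : Set (Fin k)} (hIJ : Disjoint I J) {g v : G} (hg : g ∈ grp M I) (hv : v ∈ part M J) :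
    g * v = v * g := by
  obtain ⟨hgP, A, hA, hA'⟩ := hg
  have h1 : g * v * g⁻¹ = v := by
    refine e_inj M (cj_mem M hgP hv.1) hv.1 (funext fun i => ?_)
    rw [hA.1 v hv.1 i]
    by_cases hi : i ∈ I
    · have h2 : i ∉ J := fun h => Set.disjoint_left.1 hIJ hi h
      rw [hv.2 i h2]
      apply NatPair.ext2 <;> simp [NatPair.ap_zero', NatPair.ap_one']
    · rw [hA' i hi, ap_one]
  calc g * v = g * v * g⁻¹ * g := by group
    _ = v * g := by rw [h1]

theorem grp_le_centralizer {I J : Set (Fin k)} (hIJ : Disjoint I J) :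
    grp M I ≤ centralizer (part M J : Set G) := by
  intro g hg
  rw [mem_centralizer_iff]
  intro v hv
  exact (grp_comm M hIJ hg hv).symm

theorem grp_normalizes (I J : Set (Fin k)) : grp M I ≤ normalizer (part M J : Set G) := by
  have key : ∀ g ∈ grp M I, ∀ v ∈ part M J, g * v * g⁻¹ ∈ part M J := by
    rintro g ⟨hgP, A, hA, -⟩ v ⟨hv, hv'⟩
    refine ⟨cj_mem M hgP hv, fun i hi => ?_⟩
    rw [hA.1 v hv i, hv' i hi]
    apply NatPair.ext2 <;> simp [NatPair.ap_zero', NatPair.ap_one']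
  intro g hg
  rw [mem_normalizer_iff]
  intro v
  refine ⟨key g hg v, fun h => ?_⟩
  have h1 := key g⁻¹ (inv_mem hg) _ h
  have e : g⁻¹ * (g * v * g⁻¹) * g⁻¹⁻¹ = v := by group
  rwa [e] at h1

open Classical in
/-- `SL₂(F)^{i}` is transitive on the nontrivial elements of `fac M i`. -/
theorem exists_grp {i : Fin k} {v w : G} (hv : v ∈ fac M i) (hw : w ∈ fac M i) (hv1 : v ≠ 1) (hw1 : w ≠ 1) :
    ∃ g ∈ grp M {i}, g * v * g⁻¹ = w := by
  obtain ⟨A, hA⟩ := exists_ap (mt (fac_eq_one M hv).1 hv1) (mt (fac_eq_one M hw).1 hw1)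
  obtain ⟨g, hg, h1⟩ := M.lift (Function.update 1 i A)
  have hg' : g ∈ grp M {i} := ⟨hg, _, h1, fun j hj => Function.update_of_ne hj _ _⟩
  refine ⟨g, hg', ext_fac M ((mem_normalizer_iff.1 (grp_normalizes M {i} {i} hg') v).1 hv) hw ?_⟩
  rw [h1.1 v hv.1 i, Function.update_self, hA]

/-- `fac M i` is an irreducible `SL₂(F)^{i}`-module. -/
theorem fac_irreducible {i : Fin k} {X : Subgroup G} (hX : X ≤ fac M i)
    (hn : grp M {i} ≤ normalizer (X : Set G)) : X = ⊥ ∨ X = fac M i := by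
  by_cases h : X = ⊥
  · exact Or.inl h
  · right
    obtain ⟨x, hx, hx1⟩ : ∃ x ∈ X, x ≠ 1 := by
      by_contra hcon
      push Not at hcon
      exact h ((eq_bot_iff_forall X).2 hcon)
    refine le_antisymm hX fun v hv => ?_
    by_cases hv1 : v = 1
    · rw [hv1]; exact one_mem _
    · obtain ⟨g, hg, h1⟩ := exists_grp M (hX hx) hv hx1 hv1
      rw [← h1]
      exact (mem_normalizer_iff.1 (hn hg) _).1 hx

theorem fac_inf_centralizer (i : Fin k) : fac M i ⊓ centralizer (grp M {i} : Set G) = ⊥ := by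
  rw [eq_bot_iff]
  rintro v ⟨hv, hc⟩
  rw [mem_bot]
  by_contra hv1
  -- move `v` to another vector
  obtain ⟨w, hw, hw1, hwv⟩ : ∃ w ∈ fac M i, w ≠ 1 ∧ w ≠ v := by
    obtain ⟨a, ha, hea⟩ := exists_fac M i ![1, 0]
    obtain ⟨b, hb, heb⟩ := exists_fac M i ![0, 1]
    by_cases h : a = v
    · refine ⟨b, hb, fun h1 => ?_, fun h1 => ?_⟩
      · rw [h1, e_one] at heb
        have := congrFun heb 1
        simp at this
      · rw [h1, ← h, hea] at heb
        have := congrFun heb 0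
        simp at this
    · refine ⟨a, ha, fun h1 => ?_, h⟩
      rw [h1, e_one] at hea
      have := congrFun hea 0
      simp at this
  obtain ⟨g, hg, h1⟩ := exists_grp M hv hw hv1 hw1
  have h2 := mem_centralizer_iff.1 hc g hg
  apply hwv
  rw [← h1, h2]
  group

/-! ### The permutation of the factors -/

/-- The permutation of the factors induced by `g ∈ P`. -/
noncomputable def sg {g : G} (hg : g ∈ P) : Equiv.Perm (Fin k) := (M.perm g hg).choose

theorem sg_spec {g : G} (hg : g ∈ P) {v : G} (hv : v ∈ V) (i : Fin k) :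
    M.e (g * v * g⁻¹) (sg M hg i) = 0 ↔ M.e v i = 0 := (M.perm g hg).choose_spec v hv i

theorem mem_part_conj {g : G} (hg : g ∈ P) {I : Set (Fin k)} {v : G} (hv : v ∈ V) :
    g * v * g⁻¹ ∈ part M (sg M hg '' I) ↔ v ∈ part M I := by
  constructor
  · rintro ⟨-, h⟩
    refine ⟨hv, fun i hi => ?_⟩
    rw [← sg_spec M hg hv i]
    exact h _ fun ⟨j, hj, hij⟩ => hi ((sg M hg).injective hij ▸ hj)
  · rintro ⟨-, h⟩
    refine ⟨cj_mem M hg hv, fun i hi => ?_⟩
    obtain ⟨j, rfl⟩ := (sg M hg).surjective i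
    rw [sg_spec M hg hv j]
    exact h j fun hj => hi ⟨j, hj, rfl⟩

theorem conj_part {g : G} (hg : g ∈ P) (I : Set (Fin k)) : cj g (part M I) = part M (sg M hg '' I) := by
  ext w
  rw [mem_cj]
  constructor
  · intro h
    have h1 := (mem_part_conj M hg (I := I) h.1).2 h
    have e : g * (g⁻¹ * w * g) * g⁻¹ = w := by group
    rwa [e] at h1
  · intro h
    have hv : g⁻¹ * w * g ∈ V := cj_mem' M hg h.1
    have e : g * (g⁻¹ * w * g) * g⁻¹ = w := by group
    exact (mem_part_conj M hg hv).1 (by rwa [e])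

theorem conj_fac {g : G} (hg : g ∈ P) (i : Fin k) : cj g (fac M i) = fac M (sg M hg i) := by
  rw [fac, conj_part M hg, Set.image_singleton, fac]

theorem fac_inj {i j : Fin k} (h : fac M i = fac M j) : i = j := by
  by_contra hne
  have h1 := fac_inf M hne
  rw [← h, inf_idem] at h1
  exact fac_ne_bot M i h1

theorem sg_eq_iff {g : G} (hg : g ∈ P) {i j : Fin k} : sg M hg i = j ↔ cj g (fac M i) = fac M j := by
  rw [conj_fac M hg]
  exact ⟨fun h => by rw [h], fun h => fac_inj M h⟩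

theorem ker_inj {i j : Fin k} (h : ∀ v ∈ V, M.e v j = 0 → M.e v i = 0) : i = j := by
  by_contra hne
  obtain ⟨v, hv, h1⟩ := exists_fac M i ![1, 0]
  have h2 := h v hv.1 (hv.2 j (Ne.symm hne))
  rw [h1] at h2
  have := congrFun h2 0
  simp at this

/-- `S` is transitive on the factors. -/
theorem exists_trans (hSP : S ≤ P) (i j : Fin k) : ∃ t ∈ S, cj t (fac M i) = fac M j := by
  obtain ⟨t, ht, h1⟩ := M.trans i j
  refine ⟨t, ht, ?_⟩
  rw [conj_fac M (hSP ht)]
  congr 1
  refine ker_inj M fun w hw hj => ?_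
  have hv : t⁻¹ * w * t ∈ V := cj_mem' M (hSP ht) hw
  have e : t * (t⁻¹ * w * t) * t⁻¹ = w := by group
  have h2 := h1 _ hv
  have h3 := sg_spec M (hSP ht) hv i
  rw [e] at h2 h3
  exact h3.2 (h2.1 hj)

theorem mem_normalizer_part_iff {g : G} (hg : g ∈ P) {I : Set (Fin k)} :
    g ∈ normalizer (part M I : Set G) ↔ sg M hg '' I = I := by
  rw [mem_normalizer_iff_cj, conj_part M hg]
  constructor
  · intro h
    ext i
    -- the index set is determined by the part
    have key : ∀ J : Set (Fin k), i ∈ J ↔ fac M i ≤ part M J := by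
      intro J
      constructor
      · intro hi
        exact part_mono M (Set.singleton_subset_iff.2 hi)
      · intro hle
        by_contra hi
        obtain ⟨v, hv, h1⟩ := exists_fac M i ![1, 0]
        have h2 := (hle hv).2 i hi
        rw [h1] at h2
        have := congrFun h2 0
        simp at this
    rw [key, key, h]
  · intro h
    rw [h]

theorem mem_normalizer_fac_iff {g : G} (hg : g ∈ P) {i : Fin k} :
    g ∈ normalizer (fac M i : Set G) ↔ sg M hg i = i := by
  rw [fac, mem_normalizer_part_iff M hg, Set.image_singleton, Set.singleton_eq_singleton_iff]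

theorem normalizer_part_compl {g : G} (hg : g ∈ P) {I : Set (Fin k)} (h : g ∈ normalizer (part M I : Set G)) :
    g ∈ normalizer (part M Iᶜ : Set G) := by
  rw [mem_normalizer_part_iff M hg] at h ⊢
  rw [Set.image_compl_eq (sg M hg).bijective, h]

/-- Conjugation of the groups `grp M I`. -/
theorem conj_grp {g : G} (hg : g ∈ P) (I : Set (Fin k)) : cj g (grp M I) = grp M (sg M hg '' I) := by
  have key : ∀ {g : G} (hg : g ∈ P) (I : Set (Fin k)), cj g (grp M I) ≤ grp M (sg M hg '' I) := by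
    rintro g hg I _ ⟨h, ⟨hh, A, hA, hA'⟩, rfl⟩
    change g * h * g⁻¹ ∈ _
    obtain ⟨B, hB⟩ := M.norm g hg h hh A hA.1
    refine ⟨mul_mem (mul_mem hg hh) (inv_mem hg), B, ⟨hB, fun d hd => ?_⟩, fun j hj => ?_⟩
    · rw [mem_bot] at hd
      rw [hd]
      group
    · obtain ⟨i, rfl⟩ := (sg M hg).surjective j
      have hi : i ∉ I := fun h1 => hj ⟨i, h1, rfl⟩
      refine NatPair.ap_inj fun x => ?_
      obtain ⟨w, hw, hwx⟩ := exists_fac M (sg M hg i) x
      -- `w` is the conjugate of an element of `fac M i`, which is centralised by `h`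
      have hv : g⁻¹ * w * g ∈ fac M i := by
        rw [← mem_cj, conj_fac M hg]
        exact hw
      have h1 := grp_comm M (Set.disjoint_singleton_right.2 hi) (⟨hh, A, hA, hA'⟩ : h ∈ grp M I) hv
      have h2 := hB w hw.1 (sg M hg i)
      have e : g * h * g⁻¹ * w * (g * h * g⁻¹)⁻¹ = g * (h * (g⁻¹ * w * g)) * h⁻¹ * g⁻¹ := by group
      rw [e, h1] at h2
      have e2 : g * (g⁻¹ * w * g * h) * h⁻¹ * g⁻¹ = w := by group
      rw [e2, hwx] at h2
      rw [← h2, ap_one]
  refine le_antisymm (key hg I) fun h hh => ?_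
  rw [mem_cj]
  have h1 := key (inv_mem hg) (sg M hg '' I)
  have h2 : sg M (inv_mem hg) '' (sg M hg '' I) = I := by
    have h3 : sg M (inv_mem hg) = (sg M hg).symm := by
      ext i : 1
      obtain ⟨j, rfl⟩ := (sg M hg).surjective i
      rw [Equiv.symm_apply_apply, sg_eq_iff, ← conj_fac M hg j, cj_inv_cj]
    rw [h3]
    exact (sg M hg).symm_image_image I
  rw [h2] at h1
  have h4 := h1 ⟨h, hh, rfl⟩
  change g⁻¹ * h * g⁻¹⁻¹ ∈ _ at h4
  rwa [inv_inv] at h4

theorem normalizer_grp {g : G} (hg : g ∈ P) {I : Set (Fin k)} (h : g ∈ normalizer (part M I : Set G)) :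
    g ∈ normalizer (grp M I : Set G) := by
  rw [mem_normalizer_iff_cj, conj_grp M hg, (mem_normalizer_part_iff M hg).1 h]

/-! ### The stabiliser of a factor -/

/-- The normaliser of `fac M i` in `S`. -/
def stab (i : Fin k) : Subgroup G := S ⊓ normalizer (fac M i : Set G)

theorem stab_le (i : Fin k) : stab M i ≤ S := inf_le_left

theorem stab_normalizes (i : Fin k) : stab M i ≤ normalizer (fac M i : Set G) := inf_le_right

theorem stab_normalizes_compl (hSP : S ≤ P) (i : Fin k) : stab M i ≤ normalizer (part M {i}ᶜ : Set G) :=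
  fun _ h => normalizer_part_compl M (hSP h.1) h.2

theorem stab_normalizes_grp (hSP : S ≤ P) (i : Fin k) : stab M i ≤ normalizer (grp M {i} : Set G) :=
  fun _ h => normalizer_grp M (hSP h.1) h.2

theorem stab_normalizes_grp_compl (hSP : S ≤ P) (i : Fin k) : stab M i ≤ normalizer (grp M {i}ᶜ : Set G) :=
  fun _ h => normalizer_grp M (hSP h.1) (normalizer_part_compl M (hSP h.1) h.2)

/-- The index of the stabiliser of a factor. -/
theorem relIndex_stab {X : Subgroup G} (hXP : X ≤ P) (hSX : S ≤ X) (i : Fin k) :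
    (X ⊓ normalizer (fac M i : Set G)).relIndex X = k := by
  rw [inf_relIndex_left]
  let f : X → Fin k := fun x => sg M (hXP x.2) i
  have hf : Function.Surjective f := by
    intro j
    obtain ⟨t, ht, h1⟩ := exists_trans M (hSX.trans hXP) i j
    refine ⟨⟨t, hSX ht⟩, ?_⟩
    exact (sg_eq_iff M _).2 h1
  have hff : ∀ x y : X, f x = f y ↔ (x⁻¹ * y : X) ∈ (normalizer (fac M i : Set G)).subgroupOf X := by
    intro x y
    have h1 : f x = f y ↔ cj (x : G) (fac M i) = cj (y : G) (fac M i) := by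
      rw [conj_fac M (hXP x.2), conj_fac M (hXP y.2)]
      exact ⟨fun h => by rw [show sg M (hXP x.2) i = sg M (hXP y.2) i from h], fun h => fac_inj M h⟩
    rw [h1, mem_subgroupOf, mem_normalizer_iff_cj]
    change _ ↔ cj ((x : G)⁻¹ * y) _ = _
    rw [← cj_cj]
    constructor
    · intro h
      rw [← h, cj_inv_cj]
    · intro h
      have := congrArg (cj (x : G)) h
      rw [cj_cj_inv] at this
      exact this.symm
  let q : X ⧸ ((normalizer (fac M i : Set G)).subgroupOf X) → Fin k :=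
    fun z => Quotient.liftOn' z f fun x y hxy => (hff x y).2 (QuotientGroup.leftRel_apply.1 hxy)
  have hq : Function.Bijective q := by
    constructor
    · intro z w
      induction z using QuotientGroup.induction_on with | _ x =>
      induction w using QuotientGroup.induction_on with | _ y =>
      intro h
      exact QuotientGroup.eq.2 ((hff x y).1 h)
    · intro j
      obtain ⟨x, hx⟩ := hf j
      exact ⟨(QuotientGroup.mk x : X ⧸ ((normalizer (fac M i : Set G)).subgroupOf X)), hx⟩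
  rw [relIndex, index, Nat.card_congr (Equiv.ofBijective q hq), Nat.card_fin]

theorem card_stab (hSP : S ≤ P) (i : Fin k) : Nat.card S = k * Nat.card (stab M i) := by
  have h1 := relIndex_stab M hSP le_rfl i
  have h2 := Lib.SylowNormalInf.card_mul_relIndex (S ⊓ normalizer (fac M i : Set G)) S inf_le_left
  rw [h1] at h2
  rw [← h2, mul_comm]
  rfl

/-- The stabiliser of a factor in `S` is a Sylow 2-subgroup of the stabiliser in `P`. -/
theorem not_dvd_stab [Finite G] (hSP : S ≤ P) (hSyl : ¬ 2 ∣ S.relIndex P) (i : Fin k) {L : Subgroup G}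
    (h1 : stab M i ≤ L) (h2 : L ≤ P) (h3 : L ≤ normalizer (fac M i : Set G)) : ¬ 2 ∣ (stab M i).relIndex L := by
  have e1 := card_stab M hSP i
  have e2 := Lib.SylowNormalInf.card_mul_relIndex (P ⊓ normalizer (fac M i : Set G)) P inf_le_left
  rw [relIndex_stab M le_rfl hSP i] at e2
  have e3 := Lib.SylowNormalInf.card_mul_relIndex S P hSP
  have hle : stab M i ≤ P ⊓ normalizer (fac M i : Set G) := inf_le_inf_right _ hSP
  have e4 := Lib.SylowNormalInf.card_mul_relIndex _ _ hle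
  have hk : 0 < k := Fin.pos i
  have hs : 0 < Nat.card (stab M i) := Nat.card_pos
  have e5 : (stab M i).relIndex (P ⊓ normalizer (fac M i : Set G)) = S.relIndex P := by
    have h4 : Nat.card (stab M i) * (stab M i).relIndex (P ⊓ normalizer (fac M i : Set G)) * k =
        Nat.card (stab M i) * S.relIndex P * k := by
      rw [e4, e2, ← e3, e1]
      ring
    exact Nat.eq_of_mul_eq_mul_left hs (Nat.eq_of_mul_eq_mul_right hk h4)
  intro h5
  apply hSyl
  rw [← e5]
  exact h5.trans (Dvd.intro _ (relIndex_mul_relIndex _ _ _ h1 (le_inf h2 h3)))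

/-! ### Central elements of `S` -/

/-- An element of `V` centralised by `S` with a trivial coordinate is trivial. -/
theorem eq_one_of_cent {z : G} (hz : z ∈ V) (hc : ∀ s ∈ S, s * z = z * s) {i : Fin k}
    (h0 : M.e z i = 0) : z = 1 := by
  rw [← e_eq_zero M hz]
  funext j
  obtain ⟨t, ht, h1⟩ := M.trans i j
  have h2 := (h1 z hz).2 h0
  have e : t * z * t⁻¹ = z := by rw [hc t ht]; group
  rwa [e] at h2

open Classical in
/-- The component of `v` in the factor `i`. -/
theorem exists_component {v : G} (hv : v ∈ V) (i : Fin k) :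
    ∃ a ∈ fac M i, M.e a i = M.e v i ∧ a⁻¹ * v ∈ part M {i}ᶜ := by
  obtain ⟨a, ha, h1⟩ := exists_fac M i (M.e v i)
  refine ⟨a, ha, h1, mul_mem (inv_mem ha.1) hv, fun j hj => ?_⟩
  have hj' : j = i := by simpa using hj
  rw [hj', M.mul _ (inv_mem ha.1) _ hv, e_inv M ha.1, Pi.add_apply, Pi.neg_apply, h1, neg_add_cancel]

/-- The component in the factor `i` of an element of `V` centralised by a subgroup of `S` normalising the
factor is centralised too. -/
theorem component_cent (hSP : S ≤ P) {z a t : G} {i : Fin k} (hz : z ∈ V) (ha : a ∈ fac M i)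
    (h1 : M.e a i = M.e z i) (ht : t ∈ stab M i) (hc : t * z = z * t) : t * a = a * t := by
  have hb : a⁻¹ * z ∈ part M {i}ᶜ := by
    refine ⟨mul_mem (inv_mem ha.1) hz, fun j hj => ?_⟩
    have hj' : j = i := by simpa using hj
    rw [hj', M.mul _ (inv_mem ha.1) _ hz, e_inv M ha.1, Pi.add_apply, Pi.neg_apply, h1, neg_add_cancel]
  have h2 : t * a * t⁻¹ ∈ fac M i := (mem_normalizer_iff.1 ht.2 a).1 ha
  have h3 : t * (a⁻¹ * z) * t⁻¹ ∈ part M {i}ᶜ :=
    (mem_normalizer_iff.1 (stab_normalizes_compl M hSP i ht) _).1 hb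
  have h4 : t * a * t⁻¹ = a := by
    refine ext_fac M h2 ha ?_
    have e : t * (a⁻¹ * z) * t⁻¹ = (t * a * t⁻¹)⁻¹ * (t * z * t⁻¹) := by group
    have e2 : t * z * t⁻¹ = z := by rw [hc]; group
    rw [e, e2] at h3
    have h5 := h3.2 i (by simp)
    rw [M.mul _ (inv_mem h2.1) _ hz, e_inv M h2.1, Pi.add_apply, Pi.neg_apply, neg_add_eq_zero] at h5
    rw [h5, h1]
  calc t * a = t * a * t⁻¹ * t := by group
    _ = a * t := by rw [h4]

/-- The elements of `part M I` with all coordinates in the line `{x | x 1 = 0}`. -/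
def lines (I : Set (Fin k)) : Subgroup G where
  carrier := {v | v ∈ part M I ∧ ∀ i, M.e v i 1 = 0}
  one_mem' := ⟨one_mem _, fun i => by rw [e_one]; rfl⟩
  mul_mem' := by
    rintro a b ⟨ha, ha'⟩ ⟨hb, hb'⟩
    exact ⟨mul_mem ha hb, fun i => by
      rw [M.mul a ha.1 b hb.1, Pi.add_apply, Pi.add_apply, ha' i, hb' i, add_zero]⟩
  inv_mem' := by
    rintro a ⟨ha, ha'⟩
    exact ⟨inv_mem ha, fun i => by rw [e_inv M ha.1, Pi.neg_apply, Pi.neg_apply, ha' i, neg_zero]⟩

theorem mem_lines {I : Set (Fin k)} {v : G} : v ∈ lines M I ↔ v ∈ part M I ∧ ∀ i, M.e v i 1 = 0 := Iff.rfl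

theorem lines_le (I : Set (Fin k)) : lines M I ≤ part M I := fun _ h => h.1

theorem lines_mono {I J : Set (Fin k)} (h : I ⊆ J) : lines M I ≤ lines M J :=
  fun _ hv => ⟨part_mono M h hv.1, hv.2⟩

/-- The line of the factor `i`. -/
def line (i : Fin k) : Subgroup G := lines M {i}

theorem mem_line {i : Fin k} {v : G} : v ∈ line M i ↔ v ∈ fac M i ∧ M.e v i 1 = 0 := by
  refine ⟨fun h => ⟨h.1, h.2 i⟩, fun h => ⟨h.1, fun j => ?_⟩⟩
  by_cases hj : j = i
  · rw [hj]; exact h.2
  · rw [h.1.2 j hj]; rfl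

theorem line_le (i : Fin k) : line M i ≤ fac M i := lines_le M _

open Classical in
theorem exists_lines (I : Set (Fin k)) (x : Fin k → F) (hx : ∀ i, i ∉ I → x i = 0) :
    ∃ v ∈ lines M I, ∀ i, M.e v i 0 = x i := by
  obtain ⟨v, hv, h⟩ := M.surj fun i => ![x i, 0]
  refine ⟨v, ⟨⟨hv, fun i hi => ?_⟩, fun i => ?_⟩, fun i => ?_⟩
  · rw [h]
    apply NatPair.ext2
    · exact hx i hi
    · rfl
  · rw [h]; rfl
  · rw [h]; rfl

open Classical in
/-- `|lines M I| = q ^ |I|`. -/
theorem card_lines [Finite F] (I : Set (Fin k)) : Nat.card (lines M I) = Nat.card F ^ Nat.card I := by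
  have h1 : Function.Bijective fun (v : lines M I) (i : I) => M.e v i 0 := by
    constructor
    · intro v w h
      refine Subtype.ext (e_inj M v.2.1.1 w.2.1.1 (funext fun i => ?_))
      by_cases hi : i ∈ I
      · apply NatPair.ext2
        · exact congrFun h ⟨i, hi⟩
        · rw [v.2.2 i, w.2.2 i]
      · rw [v.2.1.2 i hi, w.2.1.2 i hi]
    · intro x
      obtain ⟨v, hv, h⟩ := exists_lines M I (fun i => if hi : i ∈ I then x ⟨i, hi⟩ else 0)
        fun i hi => dif_neg hi
      refine ⟨⟨v, hv⟩, funext fun i => ?_⟩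
      have h2 := h i
      rw [dif_pos i.2] at h2
      exact h2
  rw [Nat.card_congr (Equiv.ofBijective _ h1), Nat.card_fun]

theorem card_line [Finite F] (i : Fin k) : Nat.card (line M i) = Nat.card F := by
  rw [line, card_lines]
  simp

/-- `A` induces on `V` the full group of upper unitriangular elements of `SL₂(F)^I`. -/
structure Ind (A : Subgroup G) (I : Set (Fin k)) : Prop where
  act : ∀ a ∈ A, ∃ b : Fin k → F, (∀ i, i ∉ I → b i = 0) ∧ ActsSL M.e (V) ⊥ a fun i => up (b i)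
  ex : ∀ b : Fin k → F, (∀ i, i ∉ I → b i = 0) → ∃ a ∈ A, ActsSL M.e (V) ⊥ a fun i => up (b i)

theorem exists_ind {A : Subgroup G} (hA : A ≤ S) (hoff : Off (V) A) : ∃ I : Set (Fin k), Ind M A I := by
  obtain ⟨I, h1, h2⟩ := M.off A hA hoff
  exact ⟨I, h1, h2⟩

variable {M}

/-- The coordinates of a commutator. -/
theorem e_comm {v a : G} (hv : v ∈ V) (ha : a ∈ P) {b : Fin k → F}
    (h : ActsSL M.e (V) ⊥ a fun i => up (b i)) (i : Fin k) :
    ⁅v, a⁆ ∈ V ∧ M.e ⁅v, a⁆ i 0 = - (b i * M.e v i 1) ∧ M.e ⁅v, a⁆ i 1 = 0 := by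
  have e : ⁅v, a⁆ = v * (a * v⁻¹ * a⁻¹) := by rw [commutatorElement_def]; group
  have h1 : a * v⁻¹ * a⁻¹ ∈ V := cj_mem M ha (inv_mem hv)
  have h2 := h.1 _ (inv_mem hv) i
  rw [e, M.mul v hv _ h1, Pi.add_apply, Pi.add_apply, Pi.add_apply, h2, e_inv M hv, NatPair.ap_zero',
    NatPair.ap_one']
  refine ⟨mul_mem hv h1, ?_, ?_⟩
  · simp only [up_00, up_01, Pi.neg_apply]
    ring
  · simp only [up_10, up_11, Pi.neg_apply]
    ring

open Classical in
/-- `[V, A] = lines M I`. -/
theorem Ind.commutator_eq {A : Subgroup G} {I : Set (Fin k)} (h : Ind M A I) (hA : A ≤ P) :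
    ⁅V, A⁆ = lines M I := by
  refine le_antisymm ?_ ?_
  · rw [commutator_le]
    intro v hv a ha
    obtain ⟨b, hb, h1⟩ := h.act a ha
    refine ⟨⟨(mul_mem hv (cj_mem M (hA ha) (inv_mem hv)) : v * (a * v⁻¹ * a⁻¹) ∈ V) |> fun h2 => ?_,
      fun i hi => ?_⟩, fun i => (e_comm hv (hA ha) h1 i).2.2⟩
    · have e : ⁅v, a⁆ = v * (a * v⁻¹ * a⁻¹) := by rw [commutatorElement_def]; group
      rw [e]; exact h2
    · apply NatPair.ext2
      · rw [(e_comm hv (hA ha) h1 i).2.1, hb i hi]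
        simp
      · exact (e_comm hv (hA ha) h1 i).2.2
  · intro w hw
    obtain ⟨v, hv, hev⟩ := M.surj fun i => if i ∈ I then ![0, 1] else 0
    have hev' : ∀ i, M.e v i = if i ∈ I then ![0, 1] else 0 := fun i => congrFun hev i
    obtain ⟨a, ha, h1⟩ := h.ex (fun i => - M.e w i 0) fun i hi => by
      rw [hw.1.2 i hi]; simp
    have e : w = ⁅v, a⁆ := by
      by_cases hk : k = 0
      · subst hk
        refine e_inj M hw.1.1 ?_ (funext fun i => i.elim0)
        have e : ⁅v, a⁆ = v * (a * v⁻¹ * a⁻¹) := by rw [commutatorElement_def]; group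
        rw [e]
        exact mul_mem hv (cj_mem M (hA ha) (inv_mem hv))
      · have i0 : Fin k := ⟨0, Nat.pos_of_ne_zero hk⟩
        refine e_inj M hw.1.1 (e_comm hv (hA ha) h1 i0).1 (funext fun i => ?_)
        obtain ⟨-, h2, h3⟩ := e_comm hv (hA ha) h1 i
        apply NatPair.ext2
        · rw [h2, hev']
          by_cases hi : i ∈ I
          · rw [if_pos hi]
            simp
          · rw [if_neg hi, hw.1.2 i hi]
            simp
        · rw [h3, hw.2 i]
    rw [e]
    exact commutator_mem_commutator hv ha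

/-- If `|[V, A]| = q`, then `[V, A]` is a line. -/
theorem Ind.eq_line [Finite F] {A : Subgroup G} {I : Set (Fin k)} (h : Ind M A I) (hA : A ≤ P)
    (hc : Nat.card ↥⁅V, A⁆ = Nat.card F) : ∃ i, I = {i} ∧ ⁅V, A⁆ = line M i := by
  have h1 := h.commutator_eq hA
  rw [h1, card_lines] at hc
  have hq : 1 < Nat.card F := Finite.one_lt_card
  have h2 : Nat.card I = 1 := by
    have : Nat.card F ^ Nat.card I = Nat.card F ^ 1 := by rw [hc, pow_one]
    exact Nat.pow_right_injective hq this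
  obtain ⟨hs, hne⟩ := Nat.card_eq_one_iff_unique.1 h2
  obtain ⟨i, hi⟩ := hne
  have h3 : I = {i} := by
    ext j
    exact ⟨fun hj => congrArg Subtype.val (Subsingleton.elim (⟨j, hj⟩ : I) ⟨i, hi⟩), fun hj => by rw [hj]; exact hi⟩
  exact ⟨i, h3, by rw [h1, h3]; rfl⟩

end Cfsg.Agent.Omega.IId.NV

end

section


/-!
# `M : NatV F S P V k`: the action of `S` and of the tori on the lines; `k = 2`

The same facts as in `IId/LineAct.lean`, `IId/TwoOf.lean` for an arbitrary `V`.
-/

set_option autoImplicit false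
set_option linter.unusedSectionVars false

namespace Cfsg.Agent.Omega.IId.NV

open Subgroup Cfsg Cfsg.Agent.ZN Cfsg.Agent.ZN.ChoiceBase
open Cfsg.Agent.Omega.MinPar Cfsg.Agent.Omega.FFThm
open Cfsg.Agent.Lib.SL2Mat
open Cfsg.Agent.Omega.NatPair (ap ap_mul ap_one ap_inv_ap ap_ap_inv exists_ap ap_add)

universe u

variable {G : Type u} [Group G] {F : Type} [Field F] {S P V : Subgroup G} {k : ℕ}

section act

variable (M : NatV F S P V k)

open Classical in
/-- An element of `S` maps the line of the factor `i` to the line of its image. -/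
theorem e_conj_line (hSP : S ≤ P) {s : G} (hs : s ∈ S) {v : G} (hv : v ∈ V) (i : Fin k) :
    M.e (s * v * s⁻¹) (sg M (hSP hs) i) 1 = 0 ↔ M.e v i 1 = 0 := by
  obtain ⟨τ, hτ⟩ := M.line s hs
  have h1 : τ i = sg M (hSP hs) i := by
    by_contra hne
    obtain ⟨w, hw, hwe⟩ := exists_fac M i ![0, 1]
    have h2 : s * w * s⁻¹ ∈ fac M (sg M (hSP hs) i) := by
      have h3 := conj_fac M (hSP hs) i
      rw [← h3, mem_cj_iff]
      have e : s⁻¹ * (s * w * s⁻¹) * s = w := by group
      rwa [e]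
    have h4 : M.e (s * w * s⁻¹) (τ i) 1 = 0 := by
      rw [h2.2 (τ i) hne]; rfl
    have h5 := (hτ w hw.1 i).1 h4
    rw [hwe] at h5
    simp at h5
  rw [← h1]
  exact hτ v hv i

theorem conj_line (hSP : S ≤ P) {s : G} (hs : s ∈ S) (i : Fin k) :
    cj s (line M i) = line M (sg M (hSP hs) i) := by
  have key : ∀ {t : G} (ht : t ∈ S) (j : Fin k), ∀ v ∈ line M j, t * v * t⁻¹ ∈ line M (sg M (hSP ht) j) := by
    intro t ht j v hv
    rw [mem_line] at hv ⊢
    refine ⟨?_, (e_conj_line M hSP ht hv.1.1 j).2 hv.2⟩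
    rw [← conj_fac M (hSP ht), mem_cj_iff]
    have e : t⁻¹ * (t * v * t⁻¹) * t = v := by group
    rw [e]
    exact hv.1
  ext v
  rw [mem_cj_iff]
  constructor
  · intro h
    have h1 := key hs i _ h
    have e : s * (s⁻¹ * v * s) * s⁻¹ = v := by group
    rwa [e] at h1
  · intro h
    have h1 := key (inv_mem hs) _ _ h
    rw [inv_inv] at h1
    have h2 : sg M (hSP (inv_mem hs)) (sg M (hSP hs) i) = i := by
      rw [sg_eq_iff, ← conj_fac M (hSP hs), cj_inv_cj]
    rwa [h2] at h1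

theorem stab_normalizes_line (hSP : S ≤ P) (i : Fin k) : stab M i ≤ normalizer (line M i : Set G) := by
  intro s hs
  rw [mem_normalizer_iff_cj, conj_line M hSP hs.1]
  congr 1
  exact (mem_normalizer_fac_iff M (hSP hs.1)).1 hs.2

open Classical in
/-- The root group of the factor `i` is in the stabiliser. -/
theorem exists_root (hSP : S ≤ P) (i : Fin k) (b : F) :
    ∃ t ∈ stab M i, t ∈ grp M {i} ∧ ActsSL M.e (V) ⊥ t fun j => up ((Function.update 0 i b : Fin k → F) j) := by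
  obtain ⟨t, ht, h1⟩ := M.unip (Function.update 0 i b)
  have h2 : t ∈ grp M {i} := ⟨hSP ht, _, h1, fun j hj => by
    have hj' : j ≠ i := by simpa using hj
    rw [Function.update_of_ne hj']
    exact up_zero⟩
  exact ⟨t, ⟨ht, grp_normalizes M {i} {i} h2⟩, h2, h1⟩

/-- `C_{fac M i}(stab M i) ≤ line M i`. -/
theorem fix_le_line (hSP : S ≤ P) {i : Fin k} {v : G} (hv : v ∈ fac M i)
    (hc : ∀ t ∈ stab M i, t * v = v * t) : v ∈ line M i := by
  classical
  rw [mem_line]
  refine ⟨hv, ?_⟩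
  obtain ⟨t, ht, -, h1⟩ := exists_root M hSP i 1
  have h2 : t * v * t⁻¹ = v := by rw [hc t ht, mul_inv_cancel_right]
  have h3 := h1.1 v hv.1 i
  rw [h2] at h3
  have h4 := congrFun h3 0
  rw [NatPair.ap_zero'] at h4
  simp only [Function.update_self, up_00, up_01, one_mul] at h4
  exact (left_eq_add.1 h4)

open Classical in
/-- The torus of the factor `i` is transitive on the nontrivial elements of the line. -/
theorem exists_tor {i : Fin k} {v w : G} (hv : v ∈ line M i) (hw : w ∈ line M i) (hv1 : v ≠ 1) (hw1 : w ≠ 1) :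
    ∃ g ∈ grp M {i}, g ∈ normalizer (line M i : Set G) ∧ g * v * g⁻¹ = w := by
  rw [mem_line] at hv hw
  have a0 : M.e v i 0 ≠ 0 := by
    intro h0
    apply hv1
    rw [← fac_eq_one M hv.1]
    exact NatPair.ext2 h0 hv.2
  have b0 : M.e w i 0 ≠ 0 := by
    intro h0
    apply hw1
    rw [← fac_eq_one M hw.1]
    exact NatPair.ext2 h0 hw.2
  set c : F := M.e w i 0 / M.e v i 0 with hc
  have c0 : c ≠ 0 := div_ne_zero b0 a0
  obtain ⟨g, hg, h1⟩ := M.lift (Function.update 1 i (mk c 0 0 c⁻¹ (by rw [mul_inv_cancel₀ c0]; ring)))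
  have hg' : g ∈ grp M {i} := ⟨hg, _, h1, fun j hj => Function.update_of_ne hj _ _⟩
  have hfac : ∀ u ∈ fac M i, g * u * g⁻¹ ∈ fac M i := fun u hu =>
    (mem_normalizer_iff.1 (grp_normalizes M {i} {i} hg') u).1 hu
  have he0 : ∀ u ∈ fac M i, M.e (g * u * g⁻¹) i 0 = c * M.e u i 0 := by
    intro u hu
    rw [h1.1 u hu.1 i, Function.update_self, NatPair.ap_zero']
    simp
  have he1 : ∀ u ∈ fac M i, M.e (g * u * g⁻¹) i 1 = c⁻¹ * M.e u i 1 := by
    intro u hu
    rw [h1.1 u hu.1 i, Function.update_self, NatPair.ap_one']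
    simp
  refine ⟨g, hg', ?_, ?_⟩
  · rw [mem_normalizer_iff]
    intro u
    rw [mem_line, mem_line]
    constructor
    · rintro ⟨h2, h3⟩
      exact ⟨hfac u h2, by rw [he1 u h2, h3, mul_zero]⟩
    · rintro ⟨h2, h3⟩
      have h4 : u ∈ fac M i := (mem_normalizer_iff.1 (grp_normalizes M {i} {i} hg') u).2 h2
      refine ⟨h4, ?_⟩
      rw [he1 u h4] at h3
      exact (mul_eq_zero.1 h3).resolve_left (inv_ne_zero c0)
  · refine ext_fac M (hfac v hv.1) hw.1 (NatPair.ext2 ?_ ?_)
    · rw [he0 v hv.1, hc, div_mul_cancel₀ _ a0]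
    · rw [he1 v hv.1, hv.2, hw.2, mul_zero]

theorem mem_stab {i : Fin k} {x : G} : x ∈ stab M i ↔ x ∈ S ∧ cj x (fac M i) = fac M i := by
  rw [stab, mem_inf, mem_normalizer_iff_cj]

theorem conj_stab (hSP : S ≤ P) {s : G} (hs : s ∈ S) (i : Fin k) :
    cj s (stab M i) = stab M (sg M (hSP hs) i) := by
  ext x
  rw [mem_cj_iff, mem_stab, mem_stab, ← conj_fac M (hSP hs), cj_cj, ← cj_cj, ← cj_cj]
  have h1 : s⁻¹ * x * s ∈ S ↔ x ∈ S := by
    rw [mul_mem_cancel_right hs, mul_mem_cancel_left (inv_mem hs)]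
  have h2 : cj s⁻¹ (cj x (cj s (fac M i))) = fac M i ↔ cj (x * s) (fac M i) = cj s (fac M i) := by
    rw [← cj_cj]
    constructor
    · intro h
      have := congrArg (cj s) h
      rwa [cj_cj_inv] at this
    · intro h
      rw [h, cj_inv_cj]
  rw [h1, h2]

end act

section two

variable (M : NatV F S P V 2)

theorem stab_normalizes' (hSP : S ≤ P) {i j : Fin 2} (h : i ≠ j) :
    stab M i ≤ normalizer (fac M j : Set G) := by
  have := stab_normalizes_compl M hSP i
  rwa [compl_eq h] at this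

theorem sup_fac {i j : Fin 2} (h : i ≠ j) : fac M i ⊔ fac M j = V := by
  have := part_sup M {i}
  rwa [compl_eq h] at this

theorem stab_eq (hSP : S ≤ P) {i j : Fin 2} (h : i ≠ j) : stab M i = stab M j :=
  le_antisymm (le_inf (stab_le M i) (stab_normalizes' M hSP h))
    (le_inf (stab_le M j) (stab_normalizes' M hSP h.symm))

/-- An element of `S` which does not normalise `fac M i` swaps the factors. -/
theorem swap_fac (hSP : S ≤ P) {i j : Fin 2} (h : i ≠ j) {s : G} (hs : s ∈ S) (hn : s ∉ stab M i) :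
    cj s (fac M i) = fac M j := by
  have h1 : sg M (hSP hs) i ≠ i := by
    intro h1
    apply hn
    exact ⟨hs, (mem_normalizer_fac_iff M (hSP hs)).2 h1⟩
  rw [conj_fac M (hSP hs)]
  congr 1
  omega

/-- The component of an element of `V` in the factor `i`: the other component is in `fac M j`. -/
theorem exists_comp2 {i j : Fin 2} (h : i ≠ j) {v : G} (hv : v ∈ V) :
    ∃ a ∈ fac M i, ∃ b ∈ fac M j, v = a * b := by
  obtain ⟨a, ha, -, h2⟩ := exists_component M hv i
  rw [compl_eq h] at h2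
  exact ⟨a, ha, a⁻¹ * v, h2, by group⟩

end two

end Cfsg.Agent.Omega.IId.NV

end
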