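import Cfsg.Agent.Mrg.Omega.Half.Basic
import Cfsg.Agent.Mrg.Omega.S5.Syl
import Cfsg.Agent.Lib.GoldschmidtFusion
import Cfsg.Agent.Involutions.NormalFour

section


/-!
# II.d, mixed pairs: HALF LEMMA, APPLICATION 2 of helper7 #11954, one natural `O₄⁻(2)`-module

`M : FiveMod V L`, `S ≤ L` a Sylow 2-subgroup of `G` which induces `D₈ = C((0 1)(2 3))` on `V` (`Adapt`),
`n = M.e nn` the pair `{0, 1}`, `vn M` the even subsets of `{2, 3, 4}`, `C = C_G(n)`: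

* `vn_le` : `vn M ≤ O₂(C)`, `O₂(C)` centralises `vn M`;
* `o2_le` : `O₂(C) ≤ C_S(n)`;
* `comm` : `[v, x] ∈ ⟨n⟩` for `v ∈ V`, `x ∈ O₂(C)`.
-/

set_option autoImplicit false
set_option linter.unusedSectionVars false

namespace Cfsg.Agent.Omega.IId.Sym

open Subgroup Cfsg Cfsg.Agent.ZN.ChoiceBase
open Cfsg.Agent.ZN (o2 zc zl)
open Cfsg.Agent.MinSimple.VModule (mem_zc zc_le o2_isPGroup le_normalizer_o2)
open Cfsg.Agent.Omega.S5.Mod Cfsg.Agent.Omega.S5.TT Cfsg.Agent.Omega.S5.Types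

universe u

variable {G : Type u} [Group G]

/-! ### Permutations -/

/-- `{2, 4}` -/
def bb : Vec := ![0, 0, 1, 0, 1]

/-- `{3, 4}` -/
def cc : Vec := ![0, 0, 0, 1, 1]

/-- the even subsets of `{2, 3, 4}` -/
def InU (x : Vec) : Prop := x = 0 ∨ x = aa ∨ x = bb ∨ x = cc

instance : DecidablePred InU := fun _ => by unfold InU; infer_instance

theorem inU_add : ∀ x : Vec, InU x → ∀ y : Vec, InU y → InU (x + y) := by
  rintro x (rfl | rfl | rfl | rfl) y (rfl | rfl | rfl | rfl) <;> decide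

theorem inU_fix : ∀ p : Equiv.Perm (Fin 5), (nn ∘ p.symm = nn ∨ nn ∘ p.symm = nn + 1) →
    InU (aa ∘ p.symm) ∧ InU (bb ∘ p.symm) ∧ InU (cc ∘ p.symm) := by
  decide +kernel

theorem ttp_mul : ∀ p q : Equiv.Perm (Fin 5), TTp (p * S5.TT.tt) → TTp (q * S5.TT.tt) → TTp (p * q) := by
  have e : S5.TT.tt * S5.TT.tt = 1 := by decide
  have key : ∀ p r : Equiv.Perm (Fin 5), p * S5.TT.tt = r → p = r * S5.TT.tt := by
    rintro p _ rfl
    rw [mul_assoc, e, mul_one]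
  rintro p q (h1 | h1 | h1 | h1) (h2 | h2 | h2 | h2) <;> rw [key p _ h1, key q _ h2] <;> decide

theorem ss_not : ∀ p : Equiv.Perm (Fin 5), nn ∘ p.symm ≠ ss ∧ nn ∘ p.symm ≠ ss + 1 ∧
    nn ∘ p.symm ≠ 0 ∧ nn ∘ p.symm ≠ 1 := by
  decide +kernel

/-! ### The group `V_n` -/

section

variable {V L : Subgroup G} (M : FiveMod V L)

/-- `V_n`, the even subsets of `{2, 3, 4}`. -/
def vn : Subgroup G where
  carrier := {v | ∃ x : Vec, InU x ∧ M.e x = v}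
  one_mem' := ⟨0, Or.inl rfl, M.e_zero⟩
  mul_mem' := by
    rintro _ _ ⟨x, hx, rfl⟩ ⟨y, hy, rfl⟩
    exact ⟨x + y, inU_add x hx y hy, M.e_add x y⟩
  inv_mem' := by
    rintro _ ⟨x, hx, rfl⟩
    exact ⟨x, hx, (M.e_inv x).symm⟩

theorem mem_vn {v : G} : v ∈ vn M ↔ ∃ x : Vec, InU x ∧ M.e x = v := Iff.rfl

theorem vn_le_V : vn M ≤ V := by
  rintro _ ⟨x, -, rfl⟩
  exact M.e_mem x

theorem aa_mem : M.e aa ∈ vn M := ⟨aa, Or.inr (Or.inl rfl), rfl⟩

theorem bb_mem : M.e bb ∈ vn M := ⟨bb, Or.inr (Or.inr (Or.inl rfl)), rfl⟩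

theorem cc_mem : M.e cc ∈ vn M := ⟨cc, Or.inr (Or.inr (Or.inr rfl)), rfl⟩

theorem n_sq : M.e nn ^ 2 = 1 := by rw [pow_two, M.e_sq]

theorem n_ne_one : M.e nn ≠ 1 := by
  intro h
  rcases (M.ker nn).1 h with h1 | h1
  · revert h1; decide
  · revert h1; decide

/-- `C_L(n)` -/
def lz : Subgroup G := L ⊓ centralizer ({M.e nn} : Set G)

theorem mem_lz {g : G} : g ∈ lz M ↔ g ∈ L ∧ g * M.e nn = M.e nn * g := by
  rw [lz, mem_inf, mem_centralizer_singleton_iff]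

variable {M} in
/-- An element of `C(n)` permutes `{2, 3, 4}`. -/
theorem conj_vn {g : G} {p : Equiv.Perm (Fin 5)} (hg : M.Ind g p)
    (hn : nn ∘ p.symm = nn ∨ nn ∘ p.symm = nn + 1) {v : G} (hv : v ∈ vn M) : g * v * g⁻¹ ∈ vn M := by
  obtain ⟨x, hx, rfl⟩ := hv
  obtain ⟨h1, h2, h3⟩ := inU_fix p hn
  rw [hg x]
  rcases hx with rfl | rfl | rfl | rfl
  · exact ⟨0, Or.inl rfl, rfl⟩
  · exact ⟨_, h1, rfl⟩
  · exact ⟨_, h2, rfl⟩
  · exact ⟨_, h3, rfl⟩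

theorem lz_normalizes : lz M ≤ normalizer (vn M : Set G) := by
  have key : ∀ g ∈ lz M, ∀ v ∈ vn M, g * v * g⁻¹ ∈ vn M := by
    intro g hg v hv
    obtain ⟨h1, h2⟩ := (mem_lz M).1 hg
    obtain ⟨p, hp⟩ := M.exists_ind h1
    exact conj_vn hp ((hp.commute_iff nn).1 h2) hv
  intro g hg
  rw [mem_normalizer_iff]
  intro v
  refine ⟨key g hg v, fun h => ?_⟩
  have h1 := key g⁻¹ (inv_mem hg) _ h
  have e : g⁻¹ * (g * v * g⁻¹) * g⁻¹⁻¹ = v := by group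
  rwa [e] at h1

/-- A permutation fixing `0` and `1` is induced by an element of `C_L(n)`. -/
theorem exists_lz {p : Equiv.Perm (Fin 5)} (hp : nn ∘ p.symm = nn) : ∃ g ∈ lz M, M.Ind g p := by
  obtain ⟨g, hg, hi⟩ := M.exists_lift p
  exact ⟨g, (mem_lz M).2 ⟨hg, (hi.commute_iff nn).2 (Or.inl hp)⟩, hi⟩

theorem trans_vn {v w : G} (hv : v ∈ vn M) (hv1 : v ≠ 1) (hw : w ∈ vn M) (hw1 : w ≠ 1) :
    ∃ g ∈ lz M, g * v * g⁻¹ = w := by
  have key : ∀ x y : Vec, InU x → x ≠ 0 → InU y → y ≠ 0 →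
      ∃ p : Equiv.Perm (Fin 5), nn ∘ p.symm = nn ∧ x ∘ p.symm = y := by
    have h1 : ∀ x : Vec, InU x → x ≠ 0 → x = aa ∨ x = bb ∨ x = cc := by
      rintro x (rfl | rfl | rfl | rfl) h
      · exact absurd rfl h
      · exact Or.inl rfl
      · exact Or.inr (Or.inl rfl)
      · exact Or.inr (Or.inr rfl)
    intro x y hx hx0 hy hy0
    rcases h1 x hx hx0 with rfl | rfl | rfl <;> rcases h1 y hy hy0 with rfl | rfl | rfl
    · exact ⟨1, by decide, by decide⟩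
    · exact ⟨Equiv.swap 3 4, by decide, by decide⟩
    · exact ⟨Equiv.swap 2 4, by decide, by decide⟩
    · exact ⟨Equiv.swap 3 4, by decide, by decide⟩
    · exact ⟨1, by decide, by decide⟩
    · exact ⟨Equiv.swap 2 3, by decide, by decide⟩
    · exact ⟨Equiv.swap 2 4, by decide, by decide⟩
    · exact ⟨Equiv.swap 2 3, by decide, by decide⟩
    · exact ⟨1, by decide, by decide⟩
  obtain ⟨x, hx, rfl⟩ := hv
  obtain ⟨y, hy, rfl⟩ := hw
  have hx0 : x ≠ 0 := fun h => hv1 (by rw [h, M.e_zero])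
  have hy0 : y ≠ 0 := fun h => hw1 (by rw [h, M.e_zero])
  obtain ⟨p, hp, hxy⟩ := key x y hx hx0 hy hy0
  obtain ⟨g, hg, hi⟩ := exists_lz M hp
  exact ⟨g, hg, by rw [hi x, hxy]⟩

theorem vn_irr (X : Subgroup G) (hX : X ≤ vn M) (hn : lz M ≤ normalizer (X : Set G)) :
    X = ⊥ ∨ X = vn M := by
  by_cases h : X = ⊥
  · exact Or.inl h
  right
  obtain ⟨x, hx1⟩ := ne_bot_iff_exists_ne_one.1 h
  have hx2 : (x : G) ≠ 1 := fun h => hx1 (Subtype.ext h)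
  refine le_antisymm hX fun w hw => ?_
  by_cases hw1 : w = 1
  · rw [hw1]; exact one_mem _
  obtain ⟨l, hl, rfl⟩ := trans_vn M (hX x.2) hx2 hw hw1
  exact (mem_normalizer_iff.1 (hn hl) _).1 x.2

theorem vn_cent : vn M ⊓ centralizer (lz M : Set G) = ⊥ := by
  rw [eq_bot_iff]
  rintro v ⟨hv, hc⟩
  rw [mem_bot]
  by_contra hv1
  have ha : M.e aa ≠ 1 := by
    intro h
    rcases (M.ker aa).1 h with h1 | h1
    · revert h1; decide
    · revert h1; decide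
  have hb : M.e bb ≠ 1 := by
    intro h
    rcases (M.ker bb).1 h with h1 | h1
    · revert h1; decide
    · revert h1; decide
  have hab : M.e aa ≠ M.e bb := by
    intro h
    rcases M.e_eq_iff.1 h with h1 | h1
    · revert h1; decide
    · revert h1; decide
  obtain ⟨g, hg, h1⟩ := trans_vn M hv hv1 (aa_mem M) ha
  obtain ⟨k, hk, h2⟩ := trans_vn M hv hv1 (bb_mem M) hb
  apply hab
  rw [← h1, ← h2, mem_centralizer_iff.1 hc g hg, mem_centralizer_iff.1 hc k hk]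
  group

end

/-! ### Adapted labels -/

/-- `S ≤ L` induces `D₈ = C((0 1)(2 3))` on `V`. -/
structure Adapt {V L : Subgroup G} (S : Subgroup G) (M : FiveMod V L) : Prop where
  SL : S ≤ L
  d8 : ∀ g ∈ S, ∀ p, M.Ind g p → p * dd = dd * p
  ex : ∀ p, p * dd = dd * p → ∃ g ∈ S, M.Ind g p
  zc : zc S ≤ V

section adapt

variable [Finite G] {V L : Subgroup G} {S : Sylow 2 G} {M : FiveMod V L} (h : Adapt (S : Subgroup G) M)

include h

/-- `C_S(n)` -/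
theorem mem_T {g : G} (hg : g ∈ (S : Subgroup G)) {p : Equiv.Perm (Fin 5)} (hp : M.Ind g p) :
    g * M.e nn = M.e nn * g ↔ TTp p := by
  rw [hp.commute_iff nn]
  exact ⟨fun h1 => ttp_of p (h.d8 g hg p hp) h1, fun h1 => Or.inl (ttp_nn p h1)⟩

theorem exists_t : ∃ t ∈ (S : Subgroup G), M.Ind t tt ∧ t * M.e nn * t⁻¹ = M.e aa := by
  obtain ⟨t, ht, hi⟩ := h.ex tt (by decide)
  have e : nn ∘ (S5.TT.tt).symm = aa := by decide
  exact ⟨t, ht, hi, by rw [hi nn, e]⟩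

/-- `T = C_S(n)` has index 2 in `S`. -/
theorem two_T {a b : G} (ha : a ∈ (S : Subgroup G)) (hb : b ∈ (S : Subgroup G))
    (hna : ¬ a * M.e nn = M.e nn * a) (hnb : ¬ b * M.e nn = M.e nn * b) :
    a * b * M.e nn = M.e nn * (a * b) := by
  obtain ⟨p, hp⟩ := M.exists_ind (h.SL ha)
  obtain ⟨q, hq⟩ := M.exists_ind (h.SL hb)
  rw [mem_T h ha hp] at hna
  rw [mem_T h hb hq] at hnb
  rw [mem_T h (mul_mem ha hb) (hp.mul hq)]
  exact ttp_mul _ _ ((ttp_or p (h.d8 a ha p hp)).resolve_left hna)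
    ((ttp_or q (h.d8 b hb q hq)).resolve_left hnb)

/-- `C_S(n)` -/
theorem card_T : Nat.card (S : Subgroup G) =
    2 * Nat.card ((S : Subgroup G) ⊓ centralizer ({M.e nn} : Set G) : Subgroup G) := by
  set T := (S : Subgroup G) ⊓ centralizer ({M.e nn} : Set G) with hT
  have hmem : ∀ x, x ∈ T ↔ x ∈ (S : Subgroup G) ∧ x * M.e nn = M.e nn * x := by
    intro x
    rw [hT, mem_inf, mem_centralizer_singleton_iff]
  obtain ⟨t, ht, -, htn⟩ := exists_t h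
  have htT : t ∉ T := by
    intro h1
    have h2 := ((hmem t).1 h1).2
    rw [h2, mul_inv_cancel_right] at htn
    rcases M.e_eq_iff.1 htn with h3 | h3
    · revert h3; decide
    · revert h3; decide
  have hrel : T.relIndex (S : Subgroup G) = 2 := by
    rw [relIndex, index_eq_two_iff]
    refine ⟨⟨t, ht⟩, fun b => ?_⟩
    simp only [mem_subgroupOf, Subgroup.coe_mul]
    by_cases hb : (b : G) ∈ T
    · right
      refine ⟨hb, fun h1 => htT ?_⟩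
      rwa [Subgroup.mul_mem_cancel_left _ hb] at h1
    · left
      refine ⟨(hmem _).2 ⟨mul_mem b.2 ht, two_T h b.2 ht (fun h1 => hb ((hmem _).2 ⟨b.2, h1⟩))
        (fun h1 => htT ((hmem _).2 ⟨ht, h1⟩))⟩, hb⟩
  rw [← Half.card_mul_relIndex (inf_le_left : T ≤ (S : Subgroup G)), hrel, mul_comm]

/-- `|Ω₁Z(S)| = 2` -/
theorem zc_cases {x : G} (hx : x ∈ ZN.zc (S : Subgroup G)) : x = 1 ∨ x = M.e ss :=
  zc_le_of M S h.zc h.ex hx

theorem card_zc_le : Nat.card (ZN.zc (S : Subgroup G)) ≤ 2 := by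
  classical
  have h1 : (ZN.zc (S : Subgroup G) : Set G) ⊆ (({1, M.e ss} : Finset G) : Set G) := by
    intro x hx
    rw [Finset.coe_insert, Finset.coe_singleton]
    exact zc_cases h hx
  have h2 : Nat.card (ZN.zc (S : Subgroup G)) = (ZN.zc (S : Subgroup G) : Set G).ncard :=
    Nat.card_coe_set_eq _
  rw [h2]
  refine (Set.ncard_le_ncard h1 (Set.toFinite _)).trans ?_
  rw [Set.ncard_coe_finset]
  exact Finset.card_le_two

/-- **HALF LEMMA, APPLICATION 2** (one `O₄⁻(2)`-module). -/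
theorem half (hG : IsCharacteristicTwoType G) :
    vn M ≤ o2 (centralizer ({M.e nn} : Set G)) ∧
      o2 (centralizer ({M.e nn} : Set G)) ≤ centralizer (vn M : Set G) := by
  have hVS := V_le_S M S h.SL
  have hVT : V ≤ (S : Subgroup G) ⊓ centralizer ({M.e nn} : Set G) := fun v hv =>
    ⟨hVS hv, mem_centralizer_singleton_iff.2 (M.comm hv (M.e_mem nn))⟩
  refine Half.gen hG S (P := L) (So := (S : Subgroup G) ⊓ centralizer ({M.e nn} : Set G)) (L := lz M)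
    (U := vn M) (z := M.e nn) h.SL inf_le_left (card_T h) (n_ne_one M) (n_sq M) (hVT (M.e_mem nn))
    (inf_le_inf_right _ h.SL) inf_le_left (fun x hx => ((mem_lz M).1 hx).2) ?_ ((vn_le_V M).trans hVT)
    (lz_normalizes M) (fun a ha b hb => M.comm (vn_le_V M ha) (vn_le_V M hb))
    (fun a ha => by rw [pow_two]; exact M.sq (vn_le_V M ha)) (vn_irr M) (vn_cent M) ?_
  · intro g hg hc
    obtain ⟨p, hp⟩ := M.exists_ind hg
    have h1 : g * M.e nn * g⁻¹ ∈ ZN.zc (S : Subgroup G) := by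
      refine mem_zc.2 ⟨?_, hc, ?_⟩
      · rw [hp nn]
        exact hVS (M.e_mem _)
      · rw [hp nn, pow_two, M.e_sq]
    obtain ⟨h3, h4, h5, h6⟩ := ss_not p
    rcases zc_cases h h1 with h2 | h2
    · rw [hp nn, M.ker] at h2
      exact h2.elim h5 h6
    · rw [hp nn, M.e_eq_iff] at h2
      exact h2.elim h3 h4
  · refine (card_zc_le h).trans ?_
    have h1 : M.e aa ∈ (vn M ⊓ centralizer (((S : Subgroup G) ⊓ centralizer ({M.e nn} : Set G) : Subgroup G) :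
        Set G) : Subgroup G) := by
      refine ⟨aa_mem M, mem_centralizer_iff.2 fun g hg => ?_⟩
      obtain ⟨p, hp⟩ := M.exists_ind (h.SL hg.1)
      have h2 : TTp p := (mem_T h hg.1 hp).1 (mem_centralizer_singleton_iff.1 hg.2)
      exact (hp.commute_iff aa).2 (Or.inl (ttp_aa p h2))
    have h2 : M.e aa ≠ 1 := by
      intro h
      rcases (M.ker aa).1 h with h1 | h1
      · revert h1; decide
      · revert h1; decide
    by_contra hcon
    push Not at hcon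
    have h3 : Nat.card (vn M ⊓ centralizer (((S : Subgroup G) ⊓ centralizer ({M.e nn} : Set G) : Subgroup G) :
        Set G) : Subgroup G) = 1 := by
      have h4 : 0 < Nat.card (vn M ⊓ centralizer (((S : Subgroup G) ⊓ centralizer ({M.e nn} : Set G) :
        Subgroup G) : Set G) : Subgroup G) := Nat.card_pos
      omega
    rw [card_eq_one] at h3
    rw [h3, mem_bot] at h1
    exact h2 h1

/-- `O₂(C_G(n)) ≤ C_S(n)` -/
theorem o2_le (hG : IsCharacteristicTwoType G) : o2 (centralizer ({M.e nn} : Set G)) ≤ (S : Subgroup G) := by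
  set C := centralizer ({M.e nn} : Set G) with hC
  set T := (S : Subgroup G) ⊓ C with hT
  obtain ⟨h1, h2⟩ := half h hG
  have hTC : T ≤ C := inf_le_right
  have hT2 : IsPGroup 2 T := S.isPGroup'.to_le inf_le_left
  -- `O₂(C) T` is a 2-group
  have hR2 : IsPGroup 2 (T ⊔ o2 C : Subgroup G) :=
    IsPGroup.to_sup_of_normal_right' hT2 (o2_isPGroup C) (hTC.trans (le_normalizer_o2 C))
  by_contra hcon
  -- it is a Sylow subgroup of `G`
  have hlt : T < T ⊔ o2 C := by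
    refine lt_of_le_of_ne le_sup_left fun h3 => hcon ?_
    have h4 : o2 C ≤ T := by rw [h3]; exact le_sup_right
    exact h4.trans inf_le_left
  have hcard : Nat.card (S : Subgroup G) ≤ Nat.card (T ⊔ o2 C : Subgroup G) := by
    have h3 := Half.card_mul_relIndex (le_sup_left : T ≤ T ⊔ o2 C)
    have h4 : T.relIndex (T ⊔ o2 C) ≠ 1 := by
      intro h5
      rw [relIndex_eq_one] at h5
      exact absurd h5 (not_le_of_gt hlt)
    have h5 : T.relIndex (T ⊔ o2 C) ≠ 0 := by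
      intro h5
      rw [h5, mul_zero] at h3
      exact Nat.card_pos.ne h3
    rw [card_T h, ← h3, mul_comm]
    exact Nat.mul_le_mul_left _ (by omega)
  have hcard' : Nat.card (T ⊔ o2 C : Subgroup G) = Nat.card (S : Subgroup G) :=
    le_antisymm (Half.card_le_sylow S hR2) hcard
  have hzc := Half.card_zc_of_card_eq S hR2 hcard'
  -- but `n` and `{2, 3}` are central
  have hn : M.e nn ∈ ZN.zc (T ⊔ o2 C) := by
    refine mem_zc.2 ⟨mem_sup_left ⟨V_le_S M S h.SL (M.e_mem nn), mem_centralizer_singleton_iff.2 rfl⟩,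
      fun y hy => ?_, n_sq M⟩
    exact mem_centralizer_singleton_iff.1 (sup_le hTC (MinSimple.VModule.o2_le C) hy)
  have ha : M.e aa ∈ ZN.zc (T ⊔ o2 C) := by
    have h3 : T ⊔ o2 C ≤ centralizer ({M.e aa} : Set G) := by
      refine sup_le ?_ ?_
      · intro g hg
        obtain ⟨p, hp⟩ := M.exists_ind (h.SL hg.1)
        have h2 : TTp p := (mem_T h hg.1 hp).1 (mem_centralizer_singleton_iff.1 hg.2)
        exact mem_centralizer_singleton_iff.2 ((hp.commute_iff aa).2 (Or.inl (ttp_aa p h2)))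
      · intro g hg
        exact mem_centralizer_singleton_iff.2 (mem_centralizer_iff.1 (h2 hg) _ (aa_mem M)).symm
    refine mem_zc.2 ⟨mem_sup_right (h1 (aa_mem M)), fun y hy =>
      mem_centralizer_singleton_iff.1 (h3 hy), by rw [pow_two, M.e_sq]⟩
  have hle : Nat.card (ZN.zc (T ⊔ o2 C)) ≤ 2 := by
    rw [hzc]; exact card_zc_le h
  have h3 : ({1, M.e nn, M.e aa} : Set G) ⊆ (ZN.zc (T ⊔ o2 C) : Set G) := by
    rintro x (rfl | rfl | rfl)
    · exact one_mem _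
    · exact hn
    · exact ha
  have h4 : ({1, M.e nn, M.e aa} : Set G).ncard = 3 := by
    have e1 : M.e aa ≠ 1 := by
      intro h
      rcases (M.ker aa).1 h with h1 | h1
      · revert h1; decide
      · revert h1; decide
    have e2 : M.e nn ≠ M.e aa := by
      intro h
      rcases M.e_eq_iff.1 h with h1 | h1
      · revert h1; decide
      · revert h1; decide
    rw [Set.ncard_insert_of_notMem _ (Set.toFinite _), Set.ncard_pair e2]
    rintro (h5 | h5)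
    · exact n_ne_one M h5.symm
    · exact e1 h5.symm
  have h5 := Set.ncard_le_ncard h3 (Set.toFinite _)
  rw [h4] at h5
  have h6 : Nat.card (ZN.zc (T ⊔ o2 C)) = (ZN.zc (T ⊔ o2 C) : Set G).ncard := Nat.card_coe_set_eq _
  omega

/-- An element of `O₂(C_G(n))` acts on `V` trivially or as `(0 1)`. -/
theorem o2_act (hG : IsCharacteristicTwoType G) {x : G} (hx : x ∈ o2 (centralizer ({M.e nn} : Set G))) :
    M.Ind x 1 ∨ M.Ind x (Equiv.swap 0 1) := by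
  have hS := o2_le h hG hx
  obtain ⟨p, hp⟩ := M.exists_ind (h.SL hS)
  have hxn : x * M.e nn = M.e nn * x :=
    mem_centralizer_singleton_iff.1 (MinSimple.VModule.o2_le _ hx)
  have h1 : TTp p := (mem_T h hS hp).1 hxn
  have h2 := mem_centralizer_iff.1 ((half h hG).2 hx) _ (cc_mem M)
  rcases ttp_fix p h1 ((hp.commute_iff cc).1 h2.symm) with h3 | h3
  · left; rw [← h3]; exact hp
  · right; rw [← h3]; exact hp

/-- **Supply**: `[v, x] ∈ ⟨n⟩` for `v ∈ V`, `x ∈ O₂(C_G(n))`. -/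
theorem supply (hG : IsCharacteristicTwoType G) {x v : G} (hx : x ∈ o2 (centralizer ({M.e nn} : Set G)))
    (hv : v ∈ V) : v * x * v⁻¹ * x⁻¹ = 1 ∨ v * x * v⁻¹ * x⁻¹ = M.e nn := by
  obtain ⟨y, rfl⟩ := (M.mem_iff v).1 hv
  rcases o2_act h hG hx with h1 | h1
  · left
    have h2 := h1 y
    have h3 : x * M.e y = M.e y * x := mul_inv_eq_iff_eq_mul.1 h2
    rw [← h3]; group
  · have h2 := h1 y
    have h3 : M.e y * x * (M.e y)⁻¹ * x⁻¹ = M.e (y ∘ (Equiv.swap 0 1 : Equiv.Perm (Fin 5)).symm + y) := by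
      rw [M.e_add, M.e_comm, ← h2, M.e_inv]
      group
    rw [h3, M.ker, M.e_eq_iff]
    exact swap_comm y

end adapt

end Cfsg.Agent.Omega.IId.Sym

end

section


/-!
# II.d, `q = 2`, CASE 1 (helper478 #12430, helper895 #13722): the configuration

`v₁`, `v₂` commuting involutions, `T` a Sylow 2-subgroup of `Cᵢ = C_G(vᵢ)` with `Ω₁Z(T) = {1, v₁, v₂, v₁v₂}`,
`Vᵢ ∋ vᵢ` four-groups normal in `T`, `Lᵢ` transitive on `Vᵢ#` and trivial on `V₃₋ᵢ`, `s` interchanges `(vᵢ, Vᵢ)` and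
normalises `T` (`Base`).  `Kk v = {g ∈ C_G(v) : [O₂(C_G(v)), g] ≤ ⟨v⟩}`, `nc v A = ⟨A^{C_G(v)}⟩`.  `One`: moreover
`Kk vᵢ` does not centralise `Vᵢ` and `Cᵢ` does not normalise `V₃₋ᵢ`.

* `Base.one_of_mut`: `Base` and `[V₁, V₁^c] ≠ 1`, `c ∈ C₁` (mutual pair), give `One`;
* `Base.one_of_mixed`: the version for mixed pairs.
-/

set_option autoImplicit false
set_option linter.dupNamespace false
set_option linter.unusedSectionVars false

namespace Cfsg.Agent.Omega.IId.One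

open Subgroup Cfsg Cfsg.Agent.ZN Cfsg.Agent.Omega.MinPar Cfsg.Agent.MinSimple.VModule
open Cfsg.Agent.MinSimple.Basic
open Cfsg.Agent.Omega.IId.Two (le_normalizer_of)

universe u

variable {G : Type u} [Group G]

/-- `C_G(v)`. -/
abbrev cz (v : G) : Subgroup G := centralizer ({v} : Set G)

theorem mem_cz {v x : G} : x ∈ cz v ↔ x * v = v * x := mem_centralizer_singleton_iff

/-- `{g ∈ C_G(v) : [O₂(C_G(v)), g] ≤ ⟨v⟩}`. -/
def Kk (v : G) : Subgroup G where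
  carrier := {g | g ∈ cz v ∧ ∀ x ∈ ZN.o2 (cz v), g * x * g⁻¹ * x⁻¹ ∈ zpowers v}
  one_mem' := ⟨one_mem _, fun x _ => by
    have e : (1 : G) * x * 1⁻¹ * x⁻¹ = 1 := by group
    rw [e]; exact one_mem _⟩
  mul_mem' := by
    rintro a b ⟨ha, ha'⟩ ⟨hb, hb'⟩
    refine ⟨mul_mem ha hb, fun x hx => ?_⟩
    have h1 : ∀ y ∈ zpowers v, a * y * a⁻¹ = y := by
      rintro _ ⟨k, rfl⟩
      have h2 : Commute a v := mem_cz.1 ha
      change a * v ^ k * a⁻¹ = v ^ k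
      rw [(h2.zpow_right k).eq, mul_inv_cancel_right]
    have e : a * b * x * (a * b)⁻¹ * x⁻¹ = (a * (b * x * b⁻¹ * x⁻¹) * a⁻¹) * (a * x * a⁻¹ * x⁻¹) := by
      group
    rw [e, h1 _ (hb' x hx)]
    exact mul_mem (hb' x hx) (ha' x hx)
  inv_mem' := by
    rintro a ⟨ha, ha'⟩
    refine ⟨inv_mem ha, fun x hx => ?_⟩
    have h1 : ∀ y ∈ zpowers v, a⁻¹ * y * a = y := by
      rintro _ ⟨k, rfl⟩
      have h2 : Commute a v := mem_cz.1 ha
      change a⁻¹ * v ^ k * a = v ^ k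
      rw [mul_assoc, ← (h2.zpow_right k).eq, inv_mul_cancel_left]
    have e : a⁻¹ * x * a⁻¹⁻¹ * x⁻¹ = a⁻¹ * (a * x * a⁻¹ * x⁻¹)⁻¹ * a := by group
    rw [e, h1 _ (inv_mem (ha' x hx))]
    exact inv_mem (ha' x hx)

theorem mem_Kk {v g : G} :
    g ∈ Kk v ↔ g ∈ cz v ∧ ∀ x ∈ ZN.o2 (cz v), g * x * g⁻¹ * x⁻¹ ∈ zpowers v := Iff.rfl

theorem Kk_le (v : G) : Kk v ≤ cz v := fun _ h => h.1

theorem le_normalizer_Kk (v : G) : cz v ≤ normalizer (Kk v : Set G) := by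
  apply le_normalizer_of
  intro c hc g hg
  refine ⟨mul_mem (mul_mem hc hg.1) (inv_mem hc), fun x hx => ?_⟩
  have h1 : c⁻¹ * x * c ∈ ZN.o2 (cz v) := by
    have := (mem_normalizer_iff.1 (inv_mem (le_normalizer_o2 (cz v) hc)) x).1 hx
    rwa [inv_inv] at this
  have h2 := hg.2 _ h1
  have h3 : ∀ y ∈ zpowers v, c * y * c⁻¹ = y := by
    rintro _ ⟨k, rfl⟩
    have h2 : Commute c v := mem_cz.1 hc
    change c * v ^ k * c⁻¹ = v ^ k
    rw [(h2.zpow_right k).eq, mul_inv_cancel_right]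
  have e : c * g * c⁻¹ * x * (c * g * c⁻¹)⁻¹ * x⁻¹ =
      c * (g * (c⁻¹ * x * c) * g⁻¹ * (c⁻¹ * x * c)⁻¹) * c⁻¹ := by group
  rw [e, h3 _ h2]
  exact h2

theorem mem_zp {v y : G} (hv : v * v = 1) (hy : y ∈ zpowers v) : y = 1 ∨ y = v := by
  obtain ⟨k, rfl⟩ := mem_zpowers_iff.1 hy
  have h2 : v ^ (2 : ℤ) = 1 := by rw [zpow_two, hv]
  rcases Int.even_or_odd' k with ⟨m, hm | hm⟩
  · left
    rw [hm, zpow_mul, h2, one_zpow]
  · right
    rw [hm, zpow_add, zpow_mul, h2, one_zpow, one_mul, zpow_one]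

/-- `[Q, g] ≤ ⟨v⟩`, `v` an involution: `g` fixes `x` or maps it to `v x`. -/
theorem Kk_conj {v g x : G} (hv : v * v = 1) (hg : g ∈ Kk v) (hx : x ∈ ZN.o2 (cz v)) :
    g * x * g⁻¹ = x ∨ g * x * g⁻¹ = v * x := by
  have e : g * x * g⁻¹ = (g * x * g⁻¹ * x⁻¹) * x := by group
  rcases mem_zp hv (hg.2 x hx) with h1 | h1
  · left; rw [e, h1, one_mul]
  · right; rw [e, h1]

/-- `⟨A^{C_G(v)}⟩`. -/
def nc (v : G) (A : Set G) : Subgroup G :=
  closure {y : G | ∃ g ∈ cz v, ∃ a ∈ A, y = g * a * g⁻¹}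

theorem conj_mem_nc {v : G} {A : Set G} {g a : G} (hg : g ∈ cz v) (ha : a ∈ A) :
    g * a * g⁻¹ ∈ nc v A := subset_closure ⟨g, hg, a, ha, rfl⟩

theorem subset_nc (v : G) (A : Set G) : A ⊆ nc v A := fun a ha => by
  have := conj_mem_nc (one_mem (cz v)) ha
  simpa using this

theorem nc_le {v : G} {A : Set G} {B : Subgroup G} (hA : A ⊆ B) (hB : cz v ≤ normalizer (B : Set G)) :
    nc v A ≤ B := by
  rw [nc, closure_le]
  rintro _ ⟨g, hg, a, ha, rfl⟩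
  exact (mem_normalizer_iff.1 (hB hg) a).1 (hA ha)

theorem le_normalizer_nc (v : G) (A : Set G) : cz v ≤ normalizer (nc v A : Set G) := by
  apply le_normalizer_of
  intro c hc x hx
  induction hx using Subgroup.closure_induction with
  | mem x hx =>
    obtain ⟨g, hg, a, ha, rfl⟩ := hx
    have e : c * (g * a * g⁻¹) * c⁻¹ = (c * g) * a * (c * g)⁻¹ := by group
    rw [e]
    exact conj_mem_nc (mul_mem hc hg) ha
  | one => simp
  | mul x y _ _ hx hy =>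
    have e : c * (x * y) * c⁻¹ = (c * x * c⁻¹) * (c * y * c⁻¹) := by group
    rw [e]
    exact mul_mem hx hy
  | inv x _ hx =>
    have e : c * x⁻¹ * c⁻¹ = (c * x * c⁻¹)⁻¹ := by group
    rw [e]
    exact inv_mem hx

/-- `s nc(v, A) s⁻¹ = nc(v^s, A^s)`. -/
theorem conj_nc {v w s : G} {A B : Set G} (hv : s * v * s⁻¹ = w) (hA : ∀ a ∈ A, s * a * s⁻¹ ∈ B)
    {x : G} (hx : x ∈ nc v A) : s * x * s⁻¹ ∈ nc w B := by
  induction hx using Subgroup.closure_induction with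
  | mem x hx =>
    obtain ⟨g, hg, a, ha, rfl⟩ := hx
    have e : s * (g * a * g⁻¹) * s⁻¹ = (s * g * s⁻¹) * (s * a * s⁻¹) * (s * g * s⁻¹)⁻¹ := by group
    rw [e]
    refine conj_mem_nc ?_ (hA a ha)
    rw [mem_cz] at hg ⊢
    rw [← hv]
    calc s * g * s⁻¹ * (s * v * s⁻¹) = s * (g * v) * s⁻¹ := by group
      _ = s * (v * g) * s⁻¹ := by rw [hg]
      _ = s * v * s⁻¹ * (s * g * s⁻¹) := by group
  | one => simp
  | mul x y _ _ hx hy =>
    have e : s * (x * y) * s⁻¹ = (s * x * s⁻¹) * (s * y * s⁻¹) := by group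
    rw [e]
    exact mul_mem hx hy
  | inv x _ hx =>
    have e : s * x⁻¹ * s⁻¹ = (s * x * s⁻¹)⁻¹ := by group
    rw [e]
    exact inv_mem hx

theorem conj_cz {v w s : G} (hv : s * v * s⁻¹ = w) {x : G} (hx : x ∈ cz v) : s * x * s⁻¹ ∈ cz w := by
  rw [mem_cz] at hx ⊢
  rw [← hv]
  calc s * x * s⁻¹ * (s * v * s⁻¹) = s * (x * v) * s⁻¹ := by group
    _ = s * (v * x) * s⁻¹ := by rw [hx]
    _ = s * v * s⁻¹ * (s * x * s⁻¹) := by group

theorem cz_map {v w s : G} (hv : s * v * s⁻¹ = w) :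
    (cz v).map (MulAut.conj s).toMonoidHom = cz w := by
  ext x
  constructor
  · rintro ⟨y, hy, rfl⟩
    exact conj_cz hv hy
  · intro hx
    refine ⟨s⁻¹ * x * s, ?_, by simp [mul_assoc]⟩
    have h1 : s⁻¹ * w * s⁻¹⁻¹ = v := by rw [← hv]; group
    have := conj_cz h1 hx
    rwa [inv_inv] at this

theorem conj_o2_cz {v w s : G} (hv : s * v * s⁻¹ = w) {x : G} (hx : x ∈ ZN.o2 (cz v)) :
    s * x * s⁻¹ ∈ ZN.o2 (cz w) := by
  rw [← cz_map hv, ZN.o2_map _ (MulAut.conj s).injective]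
  exact ⟨x, hx, rfl⟩

theorem conj_Kk {v w s : G} (hv : s * v * s⁻¹ = w) {x : G} (hx : x ∈ Kk v) :
    s * x * s⁻¹ ∈ Kk w := by
  refine ⟨conj_cz hv hx.1, fun y hy => ?_⟩
  have h1 : s⁻¹ * w * s⁻¹⁻¹ = v := by rw [← hv]; group
  have h2 : s⁻¹ * y * s ∈ ZN.o2 (cz v) := by
    have := conj_o2_cz h1 hy
    rwa [inv_inv] at this
  obtain ⟨k, hk⟩ := mem_zpowers_iff.1 (hx.2 _ h2)
  rw [mem_zpowers_iff]
  refine ⟨k, ?_⟩
  have e : s * x * s⁻¹ * y * (s * x * s⁻¹)⁻¹ * y⁻¹ =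
      s * (x * (s⁻¹ * y * s) * x⁻¹ * (s⁻¹ * y * s)⁻¹) * s⁻¹ := by group
  rw [e, ← hk, ← hv, conj_zpow]

/-! ### The structure -/

/-- The configuration of CASE 1. -/
structure Base (T V₁ V₂ L₁ L₂ : Subgroup G) (v₁ v₂ s : G) : Prop where
  /-- `G` has characteristic 2 type -/
  C2T : IsCharacteristicTwoType G
  pT : IsPGroup 2 T
  V1T : V₁ ≤ T
  V2T : V₂ ≤ T
  card1 : Nat.card V₁ = 4
  card2 : Nat.card V₂ = 4
  c1 : ∀ x ∈ V₁, ∀ y ∈ V₁, x * y = y * x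
  c2 : ∀ x ∈ V₂, ∀ y ∈ V₂, x * y = y * x
  q1 : ∀ x ∈ V₁, x * x = 1
  q2 : ∀ x ∈ V₂, x * x = 1
  c12 : ∀ x ∈ V₁, ∀ y ∈ V₂, x * y = y * x
  inf : ∀ x ∈ V₁, x ∈ V₂ → x = 1
  vV1 : v₁ ∈ V₁
  vV2 : v₂ ∈ V₂
  v1 : v₁ ≠ 1
  v2 : v₂ ≠ 1
  Tv1 : ∀ x ∈ T, x * v₁ = v₁ * x
  Tv2 : ∀ x ∈ T, x * v₂ = v₂ * x
  T1 : ∀ x ∈ T, ∀ v ∈ V₁, x * v * x⁻¹ ∈ V₁
  T2 : ∀ x ∈ T, ∀ v ∈ V₂, x * v * x⁻¹ ∈ V₂
  L1 : ∀ l ∈ L₁, ∀ v ∈ V₁, l * v * l⁻¹ ∈ V₁
  L2 : ∀ l ∈ L₂, ∀ v ∈ V₂, l * v * l⁻¹ ∈ V₂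
  L12 : ∀ l ∈ L₁, ∀ v ∈ V₂, l * v = v * l
  L21 : ∀ l ∈ L₂, ∀ v ∈ V₁, l * v = v * l
  t1 : ∀ v ∈ V₁, v ≠ 1 → ∀ w ∈ V₁, w ≠ 1 → ∃ l ∈ L₁, l * v * l⁻¹ = w
  t2 : ∀ v ∈ V₂, v ≠ 1 → ∀ w ∈ V₂, w ≠ 1 → ∃ l ∈ L₂, l * v * l⁻¹ = w
  /-- `Ω₁Z(T) = {1, v₁, v₂, v₁v₂}` -/
  fix : ∀ x ∈ T, x * x = 1 → (∀ t ∈ T, t * x = x * t) → x = 1 ∨ x = v₁ ∨ x = v₂ ∨ x = v₁ * v₂
  /-- `T` is a Sylow 2-subgroup of `C_G(v₁)` -/
  syl1 : ∀ U : Subgroup G, IsPGroup 2 U → T ≤ U → (∀ x ∈ U, x * v₁ = v₁ * x) → U ≤ T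
  syl2 : ∀ U : Subgroup G, IsPGroup 2 U → T ≤ U → (∀ x ∈ U, x * v₂ = v₂ * x) → U ≤ T
  /-- HALF LEMMA -/
  half1 : V₂ ≤ ZN.o2 (cz v₁)
  half2 : V₁ ≤ ZN.o2 (cz v₂)
  halfc1 : ∀ x ∈ ZN.o2 (cz v₁), ∀ v ∈ V₂, x * v = v * x
  halfc2 : ∀ x ∈ ZN.o2 (cz v₂), ∀ v ∈ V₁, x * v = v * x
  sT : ∀ x ∈ T, s * x * s⁻¹ ∈ T
  s1 : ∀ v ∈ V₁, s * v * s⁻¹ ∈ V₂
  s2 : ∀ v ∈ V₂, s * v * s⁻¹ ∈ V₁
  sv1 : s * v₁ * s⁻¹ = v₂
  sv2 : s * v₂ * s⁻¹ = v₁

/-- The configuration of CASE 1, with `[V₁, Kk v₁] ≠ 1`. -/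
structure One (T V₁ V₂ L₁ L₂ : Subgroup G) (v₁ v₂ s : G) : Prop
    extends Base T V₁ V₂ L₁ L₂ v₁ v₂ s where
  k1 : ∃ w ∈ Kk v₁, ∃ v ∈ V₁, w * v ≠ v * w
  k2 : ∃ w ∈ Kk v₂, ∃ v ∈ V₂, w * v ≠ v * w
  n1 : ¬ cz v₁ ≤ normalizer (V₂ : Set G)
  n2 : ¬ cz v₂ ≤ normalizer (V₁ : Set G)

theorem Base.symm {T V₁ V₂ L₁ L₂ : Subgroup G} {v₁ v₂ s : G} (h : Base T V₁ V₂ L₁ L₂ v₁ v₂ s) :
    Base T V₂ V₁ L₂ L₁ v₂ v₁ s where
  C2T := h.C2T
  pT := h.pT
  V1T := h.V2T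
  V2T := h.V1T
  card1 := h.card2
  card2 := h.card1
  c1 := h.c2
  c2 := h.c1
  q1 := h.q2
  q2 := h.q1
  c12 := fun x hx y hy => (h.c12 y hy x hx).symm
  inf := fun x hx hy => h.inf x hy hx
  vV1 := h.vV2
  vV2 := h.vV1
  v1 := h.v2
  v2 := h.v1
  Tv1 := h.Tv2
  Tv2 := h.Tv1
  T1 := h.T2
  T2 := h.T1
  L1 := h.L2
  L2 := h.L1
  L12 := h.L21
  L21 := h.L12
  t1 := h.t2
  t2 := h.t1
  fix := fun x hx hx2 hc => by
    rcases h.fix x hx hx2 hc with h1 | h1 | h1 | h1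
    · exact Or.inl h1
    · exact Or.inr (Or.inr (Or.inl h1))
    · exact Or.inr (Or.inl h1)
    · exact Or.inr (Or.inr (Or.inr (h1.trans (h.c12 _ h.vV1 _ h.vV2))))
  syl1 := h.syl2
  syl2 := h.syl1
  half1 := h.half2
  half2 := h.half1
  halfc1 := h.halfc2
  halfc2 := h.halfc1
  sT := h.sT
  s1 := h.s2
  s2 := h.s1
  sv1 := h.sv2
  sv2 := h.sv1

theorem One.symm {T V₁ V₂ L₁ L₂ : Subgroup G} {v₁ v₂ s : G} (h : One T V₁ V₂ L₁ L₂ v₁ v₂ s) :
    One T V₂ V₁ L₂ L₁ v₂ v₁ s where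
  toBase := h.toBase.symm
  k1 := h.k2
  k2 := h.k1
  n1 := h.n2
  n2 := h.n1

namespace Base

variable {T V₁ V₂ L₁ L₂ : Subgroup G} {v₁ v₂ s : G}

section basic

variable (h : Base T V₁ V₂ L₁ L₂ v₁ v₂ s)
include h

theorem vc : v₁ * v₂ = v₂ * v₁ := h.c12 _ h.vV1 _ h.vV2

theorem vq1 : v₁ * v₁ = 1 := h.q1 _ h.vV1

theorem vq2 : v₂ * v₂ = 1 := h.q2 _ h.vV2

theorem ne : v₁ ≠ v₂ := fun e => h.v1 (h.inf _ h.vV1 (e ▸ h.vV2))

theorem z1 : v₁ * v₂ ≠ 1 := fun e => h.ne (by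
  calc v₁ = v₁ * v₂ * v₂ := by rw [mul_assoc, h.vq2, mul_one]
    _ = v₂ := by rw [e, one_mul])

theorem T_le : T ≤ cz v₁ := fun x hx => mem_cz.2 (h.Tv1 x hx)

theorem T_le2 : T ≤ cz v₂ := fun x hx => mem_cz.2 (h.Tv2 x hx)

theorem T_leM : T ≤ cz v₁ ⊓ cz v₂ := le_inf h.T_le h.T_le2

theorem V1_le : V₁ ≤ cz v₁ := h.V1T.trans h.T_le

theorem V2_le : V₂ ≤ cz v₁ := h.V2T.trans h.T_le

theorem L2_le : L₂ ≤ cz v₁ := fun l hl => mem_cz.2 (h.L21 l hl _ h.vV1)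

theorem L1_le : L₁ ≤ cz v₂ := fun l hl => mem_cz.2 (h.L12 l hl _ h.vV2)

/-- The fixed points of `T` in `V₁`. -/
theorem fix1 {x : G} (hx : x ∈ V₁) (hc : ∀ t ∈ T, t * x = x * t) : x = 1 ∨ x = v₁ := by
  rcases h.fix x (h.V1T hx) (h.q1 x hx) hc with h1 | h1 | h1 | h1
  · exact Or.inl h1
  · exact Or.inr h1
  · exact absurd (h.inf _ hx (h1 ▸ h.vV2)) (h1 ▸ h.v2)
  · exfalso
    apply h.v2
    apply h.inf _ ?_ h.vV2
    have e : v₂ = v₁⁻¹ * x := by rw [h1]; group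
    rw [e]
    exact mul_mem (inv_mem h.vV1) hx

theorem T_norm1 : T ≤ normalizer (V₁ : Set G) := le_normalizer_of h.T1

theorem T_norm2 : T ≤ normalizer (V₂ : Set G) := le_normalizer_of h.T2

theorem L_norm1 : L₁ ≤ normalizer (V₁ : Set G) := le_normalizer_of h.L1

theorem L_norm2 : L₂ ≤ normalizer (V₂ : Set G) := le_normalizer_of h.L2

/-- `V₁ = ⟨v₁^{L₁}⟩`: an `L₁`-invariant subgroup containing `v₁` contains `V₁`. -/
theorem V1_le_of {A : Subgroup G} (hA : L₁ ≤ normalizer (A : Set G)) (hv : v₁ ∈ A) : V₁ ≤ A := by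
  intro x hx
  by_cases hx1 : x = 1
  · rw [hx1]; exact one_mem _
  obtain ⟨l, hl, rfl⟩ := h.t1 v₁ h.vV1 h.v1 x hx hx1
  exact (mem_normalizer_iff.1 (hA hl) _).1 hv

theorem V1_ne_bot : V₁ ≠ ⊥ := fun h0 => h.v1 (by
  have := h.vV1
  rwa [h0, mem_bot] at this)

/-- An element `v ∈ V₁ - ⟨v₁⟩` generates `V₁` together with `v₁`. -/
theorem mem_V1 [Finite G] {x v : G} (hx : x ∈ V₁) (hv : v ∈ V₁) (hv1 : v ≠ 1) (hv2 : v ≠ v₁) :
    x = 1 ∨ x = v₁ ∨ x = v ∨ x = v₁ * v := by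
  classical
  by_contra hcon
  push Not at hcon
  have ne3 : v₁ * v ≠ 1 := fun e => hv2 (by
    calc v = v₁ * (v₁ * v) := by rw [← mul_assoc, h.vq1, one_mul]
      _ = v₁ := by rw [e, mul_one])
  have h5 : ({1, v₁, v, v₁ * v, x} : Finset G).card ≤ 4 := by
    have e1 : Nat.card V₁ = (V₁ : Set G).ncard := rfl
    rw [← h.card1, e1, ← Set.ncard_coe_finset]
    apply Set.ncard_le_ncard _ (Set.toFinite _)
    intro y hy
    simp only [Finset.coe_insert, Finset.coe_singleton, Set.mem_insert_iff, Set.mem_singleton_iff] at hy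
    rcases hy with rfl | rfl | rfl | rfl | rfl
    · exact one_mem _
    · exact h.vV1
    · exact hv
    · exact mul_mem h.vV1 hv
    · exact hx
  have c3 : v₁ ≠ v₁ * v := fun e => hv1 (by
    calc v = v₁ * (v₁ * v) := by rw [← mul_assoc, h.vq1, one_mul]
      _ = 1 := by rw [← e, h.vq1])
  have c4 : v ≠ v₁ * v := fun e => h.v1 (by
    calc v₁ = v₁ * v * v⁻¹ := by group
      _ = 1 := by rw [← e, mul_inv_cancel])
  have : ({1, v₁, v, v₁ * v, x} : Finset G).card = 5 := by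
    rw [Finset.card_insert_of_notMem, Finset.card_insert_of_notMem, Finset.card_insert_of_notMem,
      Finset.card_insert_of_notMem, Finset.card_singleton]
    · simpa using Ne.symm hcon.2.2.2
    · simp only [Finset.mem_insert, Finset.mem_singleton, not_or]
      exact ⟨c4, Ne.symm hcon.2.2.1⟩
    · simp only [Finset.mem_insert, Finset.mem_singleton, not_or]
      exact ⟨Ne.symm hv2, c3, Ne.symm hcon.2.1⟩
    · simp only [Finset.mem_insert, Finset.mem_singleton, not_or]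
      exact ⟨Ne.symm h.v1, Ne.symm hv1, Ne.symm ne3, Ne.symm hcon.1⟩
  omega

/-- `t v t⁻¹ ∈ {v, v₁ v}` for `t ∈ N_G(V₁) ∩ C_G(v₁)`, `v ∈ V₁`. -/
theorem conj1 [Finite G] {t v : G} (ht1 : t ∈ cz v₁) (ht : t * v * t⁻¹ ∈ V₁) (hv : v ∈ V₁) :
    t * v * t⁻¹ = v ∨ t * v * t⁻¹ = v₁ * v := by
  have tv1 : t * v₁ * t⁻¹ = v₁ := by rw [mem_cz.1 ht1, mul_inv_cancel_right]
  by_cases ne1 : v = 1
  · left; rw [ne1]; group
  by_cases ne2 : v = v₁
  · left; rw [ne2]; exact tv1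
  have e0 : v = t⁻¹ * (t * v * t⁻¹) * t := by group
  rcases h.mem_V1 ht hv ne1 ne2 with h1 | h1 | h1 | h1
  · exfalso; apply ne1; rw [e0, h1]; group
  · exfalso; apply ne2; rw [e0, h1]
    calc t⁻¹ * v₁ * t = t⁻¹ * (t * v₁ * t⁻¹) * t := by rw [tv1]
      _ = v₁ := by group
  · exact Or.inl h1
  · exact Or.inr h1

theorem T_conj1 [Finite G] {t v : G} (ht : t ∈ T) (hv : v ∈ V₁) :
    t * v * t⁻¹ = v ∨ t * v * t⁻¹ = v₁ * v :=
  h.conj1 (h.T_le ht) (h.T1 t ht v hv) hv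

end basic

end Base

end Cfsg.Agent.Omega.IId.One

end

section


/-!
# II.d, the triangle (helper113 #13363 (2), helper612 #13524 (1)(a)), `|Z| ≥ 4`

`h : Two S So V₁ V₂ L₁ L₂`, `Zᵢ = C_{Vᵢ}(So)`, `|Zᵢ| ≥ 3`; `Tor h T₁ T₂` : `Tᵢ ≤ N_G(So)` normalises `Zᵢ`, is
transitive on `Zᵢ#` and centralises `Z₃₋ᵢ`.

* `zc_prod` : `Ω₁Z(So) = Z₁Z₂`;
* `trivial_of` : an element of `N_G(So)` which centralises `Z₁` and `Ω₁Z(So)/Z₁` centralises `Ω₁Z(So)`;
* `norm_two` : an element of `N_G(So)` which normalises `Z₁` normalises `Z₂`;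
* `le_So` : a 2-subgroup `T ≥ So` of `G` which normalises `Z₁` is `So` (in particular `So` is a Sylow
  2-subgroup of `N_G(Z₁)`).
-/

set_option autoImplicit false
set_option linter.unusedSectionVars false

namespace Cfsg.Agent.Omega.IId.TriangleQ

open Subgroup Cfsg Cfsg.Agent.ZN Cfsg.Agent.Omega.MinPar Cfsg.Agent.Omega.IId.Two
open Cfsg.Agent.MinSimple.VModule

universe u

variable {G : Type u} [Group G]

/-- The tori: `Tᵢ ≤ N_G(So)` normalises `Zᵢ = C_{Vᵢ}(So)`, is transitive on `Zᵢ#` and centralises `Z₃₋ᵢ`. -/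
structure Tor (So V₁ V₂ T₁ T₂ : Subgroup G) : Prop where
  n1 : T₁ ≤ normalizer (So : Set G)
  n2 : T₂ ≤ normalizer (So : Set G)
  a1 : ∀ a ∈ T₁, ∀ v ∈ V₁ ⊓ centralizer (So : Set G), a * v * a⁻¹ ∈ V₁ ⊓ centralizer (So : Set G)
  a2 : ∀ a ∈ T₂, ∀ v ∈ V₂ ⊓ centralizer (So : Set G), a * v * a⁻¹ ∈ V₂ ⊓ centralizer (So : Set G)
  t1 : ∀ v ∈ V₁ ⊓ centralizer (So : Set G), v ≠ 1 → ∀ w ∈ V₁ ⊓ centralizer (So : Set G), w ≠ 1 →
    ∃ a ∈ T₁, a * v * a⁻¹ = w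
  t2 : ∀ v ∈ V₂ ⊓ centralizer (So : Set G), v ≠ 1 → ∀ w ∈ V₂ ⊓ centralizer (So : Set G), w ≠ 1 →
    ∃ a ∈ T₂, a * v * a⁻¹ = w
  c12 : ∀ a ∈ T₁, ∀ v ∈ V₂ ⊓ centralizer (So : Set G), a * v = v * a
  c21 : ∀ a ∈ T₂, ∀ v ∈ V₁ ⊓ centralizer (So : Set G), a * v = v * a
  big1 : 2 < Nat.card (V₁ ⊓ centralizer (So : Set G) : Subgroup G)
  big2 : 2 < Nat.card (V₂ ⊓ centralizer (So : Set G) : Subgroup G)

/-- Three elements: besides `1` and `x` there is another one. -/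
theorem exists_third [Finite G] {A : Subgroup G} (h : 2 < Nat.card A) (x : G) :
    ∃ y ∈ A, y ≠ 1 ∧ y ≠ x := by
  classical
  by_contra hcon
  push Not at hcon
  have h1 : (A : Set G) ⊆ (({1, x} : Finset G) : Set G) := by
    intro y hy
    rw [Finset.mem_coe, Finset.mem_insert, Finset.mem_singleton]
    by_cases hy1 : y = 1
    · exact Or.inl hy1
    · exact Or.inr (hcon y hy hy1)
  have h2 := Set.ncard_le_ncard h1 (Finset.finite_toSet _)
  rw [Set.ncard_coe_finset, ← Nat.card_coe_set_eq] at h2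
  have h3 : ({1, x} : Finset G).card ≤ 2 := Finset.card_le_two
  have h4 : Nat.card A ≤ 2 := h2.trans h3
  omega

section

variable [Finite G] {S : Sylow 2 G} {So V₁ V₂ L₁ L₂ : Subgroup G}
  (h : IId.Two (S : Subgroup G) So V₁ V₂ L₁ L₂)

include h

theorem z1_le : V₁ ⊓ centralizer (So : Set G) ≤ zc So := fun x hx =>
  mem_zc.2 ⟨h.V1So hx.1, fun y hy => mem_centralizer_iff.1 hx.2 y hy, h.q1 x hx.1⟩

theorem z2_le : V₂ ⊓ centralizer (So : Set G) ≤ zc So := fun x hx =>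
  mem_zc.2 ⟨h.V2So hx.1, fun y hy => mem_centralizer_iff.1 hx.2 y hy, h.q2 x hx.1⟩

theorem S_norm : (S : Subgroup G) ≤ normalizer (So : Set G) :=
  le_normalizer_of fun _ hk _ hy => conj_mem_of_two h.SoS (two_cosets h.SoS h.card) hk hy

theorem conj_cent {s x : G} (hs : s ∈ (S : Subgroup G)) (hx : x ∈ centralizer (So : Set G)) :
    s * x * s⁻¹ ∈ centralizer (So : Set G) := by
  rw [mem_centralizer_iff] at hx ⊢
  intro y hy
  have h1 : s⁻¹ * y * s ∈ So := by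
    have := conj_mem_of_two h.SoS (two_cosets h.SoS h.card) (inv_mem hs) hy
    rwa [inv_inv] at this
  have h2 := hx _ h1
  calc y * (s * x * s⁻¹) = s * (s⁻¹ * y * s * x) * s⁻¹ := by group
    _ = s * x * s⁻¹ * y := by rw [h2]; group

/-- `Ω₁Z(So) = Z₁Z₂` -/
theorem zc_prod {x : G} (hx : x ∈ zc So) : ∃ c ∈ V₁ ⊓ centralizer (So : Set G),
    ∃ d ∈ V₂ ⊓ centralizer (So : Set G), x = c * d := by
  obtain ⟨s, hs, hsS⟩ := exists_not_mem h.SoS h.card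
  have two := two_cosets h.SoS h.card
  have hss : s * s ∈ So := by
    have h1 := two s⁻¹ (inv_mem hs) s hs (fun h1 => hsS (inv_mem_iff.1 h1)) hsS
    rwa [inv_inv] at h1
  have hcc := zc_comm So
  have hsN : s ∈ normalizer (So : Set G) := S_norm h hs
  have hsx : ∀ y ∈ zc So, s * y * s⁻¹ ∈ zc So := fun y hy =>
    (mem_normalizer_iff.1 (normalizer_le_normalizer_zc _ hsN) y).1 hy
  have key : ∀ y ∈ zc So, s * y * s⁻¹ = y → y ∈ zc (S : Subgroup G) := by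
    intro y hy hys
    obtain ⟨hy1, hy2, hy3⟩ := mem_zc.1 hy
    refine mem_zc.2 ⟨h.SoS hy1, ?_, hy3⟩
    intro a ha
    by_cases haS : a ∈ So
    · exact hy2 a haS
    · have h1 := hy2 _ (two s hs a ha hsS haS)
      have h2 : s * y = y * s := mul_inv_eq_iff_eq_mul.1 hys
      calc a * y = s * (s⁻¹ * a * y) := by group
        _ = (s * y) * (s⁻¹ * a) := by rw [h1]; group
        _ = y * a := by rw [h2]; group
  have hN : ∀ y ∈ zc So, y * (s * y * s⁻¹) ∈ zc (S : Subgroup G) := by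
    intro y hy
    apply key _ (mul_mem hy (hsx y hy))
    have h1 : s * s * y = y * (s * s) := (mem_zc.1 hy).2.1 _ hss
    calc s * (y * (s * y * s⁻¹)) * s⁻¹ = (s * y * s⁻¹) * (s * s * y * (s * s)⁻¹) := by group
      _ = (s * y * s⁻¹) * y := by rw [h1]; group
      _ = y * (s * y * s⁻¹) := (hcc _ hy _ (hsx y hy)).symm
  have hZ1 := z1_le h
  -- `c ↦ c c^s` is a bijection of `Z₁` onto `Ω₁Z(S)`
  let f : (V₁ ⊓ centralizer (So : Set G) : Subgroup G) → zc (S : Subgroup G) :=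
    fun c => ⟨(c : G) * (s * c * s⁻¹), hN c (hZ1 c.2)⟩
  have hf : Function.Injective f := by
    intro a b hab
    have h1 : (a : G) * (s * a * s⁻¹) = b * (s * b * s⁻¹) := congrArg Subtype.val hab
    have h2 : (b : G)⁻¹ * a = s * (b * (a : G)⁻¹) * s⁻¹ := by
      calc (b : G)⁻¹ * a = (b : G)⁻¹ * (a * (s * a * s⁻¹)) * (s * a * s⁻¹)⁻¹ := by group
        _ = s * (b * (a : G)⁻¹) * s⁻¹ := by rw [h1]; group
    have h3 : (b : G)⁻¹ * a ∈ V₂ := by
      rw [h2]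
      exact h.sw1 s hs hsS _ (mul_mem b.2.1 (inv_mem a.2.1))
    have h4 := h.inf _ (mul_mem (inv_mem b.2.1) a.2.1) h3
    exact Subtype.ext (inv_mul_eq_one.1 h4).symm
  have hbij : Function.Bijective f :=
    (Nat.bijective_iff_injective_and_card f).2
      ⟨hf, le_antisymm (Nat.card_le_card_of_injective f hf) h.z1⟩
  obtain ⟨c, hc⟩ := hbij.2 ⟨x * (s * x * s⁻¹), hN x hx⟩
  have hc' : (c : G) * (s * c * s⁻¹) = x * (s * x * s⁻¹) := congrArg Subtype.val hc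
  have hsq : ∀ y ∈ zc So, y * y = 1 := fun y hy => by rw [← pow_two]; exact zc_sq _ y hy
  have hcz : (c : G) ∈ zc So := hZ1 c.2
  -- `x c` is fixed by `s`
  have hfix : x * c ∈ zc (S : Subgroup G) := by
    apply key _ (mul_mem hx hcz)
    have h1 : x * c * (s * (x * c) * s⁻¹) = 1 := by
      calc x * c * (s * (x * c) * s⁻¹) = x * (c * (s * x * s⁻¹)) * (s * c * s⁻¹) := by group
        _ = x * (s * x * s⁻¹) * (c * (s * c * s⁻¹)) := by
            rw [hcc _ hcz _ (hsx x hx)]; group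
        _ = x * (s * x * s⁻¹) * (x * (s * x * s⁻¹)) := by rw [hc']
        _ = 1 := by rw [← pow_two]; exact zc_sq _ _ (hN x hx)
    have h2 := hsq _ (mul_mem hx hcz)
    rw [← h2] at h1
    exact mul_left_cancel h1
  obtain ⟨e, he⟩ := hbij.2 ⟨x * c, hfix⟩
  have he' : (e : G) * (s * e * s⁻¹) = x * c := congrArg Subtype.val he
  refine ⟨e * c, mul_mem e.2 c.2, s * e * s⁻¹, ⟨h.sw1 s hs hsS _ e.2.1, conj_cent h hs e.2.2⟩, ?_⟩
  have hez : (e : G) ∈ zc So := hZ1 e.2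
  calc x = x * c * c := by rw [mul_assoc, hsq _ hcz, mul_one]
    _ = e * ((s * e * s⁻¹) * c) := by rw [← he']; group
    _ = e * c * (s * e * s⁻¹) := by rw [hcc _ (hsx _ hez) _ hcz]; group

theorem zc_conj {g x : G} (hg : g ∈ normalizer (So : Set G)) (hx : x ∈ zc So) :
    g * x * g⁻¹ ∈ zc So :=
  (mem_normalizer_iff.1 (normalizer_le_normalizer_zc _ hg) x).1 hx

/-- The elements of `N_G(So)` which centralise `Z₁` and `Ω₁Z(So)/Z₁`. -/
def UU (So V₁ : Subgroup G) : Subgroup G where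
  carrier := {g | g ∈ normalizer (So : Set G) ∧ (∀ v ∈ V₁ ⊓ centralizer (So : Set G), g * v * g⁻¹ = v) ∧
    ∀ x ∈ zc So, g * x * g⁻¹ * x⁻¹ ∈ V₁ ⊓ centralizer (So : Set G)}
  one_mem' := ⟨one_mem _, fun v _ => by simp, fun x _ => by simp⟩
  mul_mem' := by
    rintro a b ⟨ha1, ha2, ha3⟩ ⟨hb1, hb2, hb3⟩
    refine ⟨mul_mem ha1 hb1, fun v hv => ?_, fun x hx => ?_⟩
    · have e : a * b * v * (a * b)⁻¹ = a * (b * v * b⁻¹) * a⁻¹ := by group
      rw [e, hb2 v hv, ha2 v hv]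
    · have e : a * b * x * (a * b)⁻¹ * x⁻¹ = (a * (b * x * b⁻¹ * x⁻¹) * a⁻¹) * (a * x * a⁻¹ * x⁻¹) := by
        group
      rw [e, ha2 _ (hb3 x hx)]
      exact mul_mem (hb3 x hx) (ha3 x hx)
  inv_mem' := by
    rintro a ⟨ha1, ha2, ha3⟩
    have hv : ∀ v ∈ V₁ ⊓ centralizer (So : Set G), a⁻¹ * v * a = v := by
      intro v hv
      have h1 := ha2 v hv
      calc a⁻¹ * v * a = a⁻¹ * (a * v * a⁻¹) * a := by rw [h1]
        _ = v := by group
    refine ⟨inv_mem ha1, fun v hv' => ?_, fun x hx => ?_⟩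
    · rw [inv_inv]; exact hv v hv'
    · have e : a⁻¹ * x * a⁻¹⁻¹ * x⁻¹ = a⁻¹ * (a * x * a⁻¹ * x⁻¹)⁻¹ * a := by group
      rw [e, hv _ (inv_mem (ha3 x hx))]
      exact inv_mem (ha3 x hx)

/-- The elements of `N_G(So)` which centralise `Ω₁Z(So)`. -/
def CC (So : Subgroup G) : Subgroup G := normalizer (So : Set G) ⊓ centralizer (zc So : Set G)

omit h in
theorem mem_CC {g : G} : g ∈ CC So ↔ g ∈ normalizer (So : Set G) ∧ ∀ x ∈ zc So, g * x = x * g := by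
  unfold CC
  rw [mem_inf, mem_centralizer_iff]
  exact and_congr_right fun _ => ⟨fun h1 x hx => (h1 x hx).symm, fun h1 x hx => (h1 x hx).symm⟩

theorem So_le_CC : So ≤ CC So := fun _ hg =>
  mem_CC.2 ⟨le_normalizer hg, fun _ hx => (mem_zc.1 hx).2.1 _ hg⟩

theorem CC_le_UU : CC So ≤ UU So V₁ := by
  intro g hg
  obtain ⟨h1, h2⟩ := mem_CC.1 hg
  refine ⟨h1, fun v hv => mul_inv_eq_iff_eq_mul.2 (h2 v (z1_le h hv)), fun x hx => ?_⟩
  rw [mul_inv_eq_iff_eq_mul.2 (h2 x hx), mul_inv_cancel]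
  exact one_mem _

/-- `|UU : CC| ≤ 2`, because a Sylow 2-subgroup of `N_G(So)/So` has order 2. -/
theorem UU_two {u u' : G} (hu : u ∈ UU So V₁) (hu' : u' ∈ UU So V₁) (h1 : u ∉ CC So) (h2 : u' ∉ CC So) :
    u⁻¹ * u' ∈ CC So := by
  set C := (CC So).subgroupOf (UU So V₁) with hC
  have hn : C.Normal := by
    refine ⟨fun n hn g => ?_⟩
    rw [hC, mem_subgroupOf] at hn ⊢
    obtain ⟨hn1, hn2⟩ := mem_CC.1 hn
    obtain ⟨hg1, hg2, hg3⟩ := g.2
    refine mem_CC.2 ⟨mul_mem (mul_mem hg1 hn1) (inv_mem hg1), fun x hx => ?_⟩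
    have h3 := zc_conj h (inv_mem hg1) hx
    rw [inv_inv] at h3
    have h4 := hn2 _ h3
    show (g : G) * n * (g : G)⁻¹ * x = x * (g * n * (g : G)⁻¹)
    calc (g : G) * n * (g : G)⁻¹ * x = g * (n * ((g : G)⁻¹ * x * g)) * (g : G)⁻¹ := by group
      _ = x * (g * n * (g : G)⁻¹) := by rw [h4]; group
  have hsq : ∀ g : UU So V₁, g * g ∈ C := by
    rintro ⟨g, hg1, hg2, hg3⟩
    rw [hC, mem_subgroupOf]
    refine mem_CC.2 ⟨mul_mem hg1 hg1, fun x hx => ?_⟩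
    show g * g * x = x * (g * g)
    have h3 := hg3 x hx
    have h4 := hg2 _ h3
    have h5 : (g * x * g⁻¹ * x⁻¹) * (g * x * g⁻¹ * x⁻¹) = 1 := by
      rw [← pow_two]; exact h.q1 _ h3.1
    rw [← mul_inv_eq_iff_eq_mul]
    calc g * g * x * (g * g)⁻¹ = (g * (g * x * g⁻¹ * x⁻¹) * g⁻¹) * (g * x * g⁻¹ * x⁻¹) * x := by group
      _ = x := by rw [h4, h5, one_mul]
  have hp : IsPGroup 2 (UU So V₁ ⧸ C) := by
    intro q
    obtain ⟨g, rfl⟩ := QuotientGroup.mk_surjective q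
    refine ⟨1, ?_⟩
    rw [pow_one, pow_two, ← QuotientGroup.mk_mul, QuotientGroup.eq_one_iff]
    exact hsq g
  obtain ⟨n, hn'⟩ := IsPGroup.iff_card.mp hp
  have hidx : C.index = 2 ^ n := hn'
  have hle : n ≤ 1 := by
    by_contra hcon
    push Not at hcon
    have h4 : 4 ∣ C.index := by
      rw [hidx]
      calc 4 = 2 ^ 2 := by norm_num
        _ ∣ 2 ^ n := pow_dvd_pow 2 hcon
    have h5 : Nat.card (UU So V₁) = Nat.card (CC So) * (CC So).relIndex (UU So V₁) :=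
      (Half.card_mul_relIndex (CC_le_UU h)).symm
    have h6 : Nat.card (CC So) = Nat.card So * So.relIndex (CC So) :=
      (Half.card_mul_relIndex (So_le_CC h)).symm
    obtain ⟨k, hk⟩ := h4
    have h7 : (CC So).relIndex (UU So V₁) = 4 * k := hk
    have h8 : Nat.card (S : Subgroup G) * 2 ∣ Nat.card (UU So V₁) := by
      rw [h5, h6, h7, h.card]
      exact ⟨So.relIndex (CC So) * k, by ring⟩
    have h9 : Nat.card (S : Subgroup G) * 2 ∣ Nat.card G := h8.trans (Subgroup.card_subgroup_dvd_card _)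
    rw [← Subgroup.card_mul_index (S : Subgroup G)] at h9
    have : Fact (Nat.Prime 2) := ⟨Nat.prime_two⟩
    exact S.not_dvd_index (Nat.dvd_of_mul_dvd_mul_left Nat.card_pos h9)
  rcases Nat.eq_zero_or_pos n with h0 | h0
  · exfalso
    rw [h0, pow_zero, Subgroup.index_eq_one] at hidx
    apply h1
    have : (⟨u, hu⟩ : UU So V₁) ∈ C := by rw [hidx]; exact mem_top _
    exact mem_subgroupOf.1 this
  · have h3 : n = 1 := le_antisymm hle h0
    rw [h3, pow_one] at hidx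
    have h4 := (mul_mem_iff_of_index_two hidx (a := (⟨u, hu⟩ : UU So V₁)⁻¹) (b := ⟨u', hu'⟩))
    rw [inv_mem_iff] at h4
    exact mem_subgroupOf.1 (h4.2 (iff_of_false (fun h5 => h1 (mem_subgroupOf.1 h5))
      (fun h5 => h2 (mem_subgroupOf.1 h5))))

variable {T₁ T₂ : Subgroup G} (τ : Tor So V₁ V₂ T₁ T₂)

include τ

theorem T1_zc {a x : G} (ha : a ∈ T₁) (hx : x ∈ zc So) :
    a * x * a⁻¹ * x⁻¹ ∈ V₁ ⊓ centralizer (So : Set G) := by
  obtain ⟨c, hc, d, hd, rfl⟩ := zc_prod h hx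
  have h1 : a * d * a⁻¹ = d := mul_inv_eq_iff_eq_mul.2 (τ.c12 a ha d hd)
  have h2 : a * (c * d) * a⁻¹ * (c * d)⁻¹ = (a * c * a⁻¹) * (a * d * a⁻¹ * d⁻¹) * c⁻¹ := by group
  rw [h2, h1, mul_inv_cancel, mul_one]
  exact mul_mem (τ.a1 a ha c hc) (inv_mem hc)

/-- An element of `Z₁` fixed by `T₁` is trivial. -/
theorem fix_one {c : G} (hc : c ∈ V₁ ⊓ centralizer (So : Set G))
    (hfix : ∀ a ∈ T₁, a * c * a⁻¹ = c) : c = 1 := by
  by_contra hc1
  obtain ⟨y, hy, hy1, hyc⟩ := exists_third τ.big1 c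
  obtain ⟨a, ha, hac⟩ := τ.t1 c hc hc1 y hy hy1
  exact hyc (hac.symm.trans (hfix a ha))

/-- An element of `N_G(So)` which centralises `Z₁` and `Ω₁Z(So)/Z₁` centralises `Ω₁Z(So)`. -/
theorem trivial_of {u : G} (hu : u ∈ UU So V₁) : u ∈ CC So := by
  by_contra huC
  apply huC
  obtain ⟨hu1, hu2, hu3⟩ := hu
  refine mem_CC.2 ⟨hu1, ?_⟩
  -- `u` centralises `Z₂`
  have key : ∀ d ∈ V₂ ⊓ centralizer (So : Set G), u * d = d * u := by
    intro d hd
    have he := hu3 d (z2_le h hd)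
    have hfix : ∀ a ∈ T₁, a * (u * d * u⁻¹ * d⁻¹) * a⁻¹ = u * d * u⁻¹ * d⁻¹ := by
      intro a ha
      have haN := τ.n1 ha
      have hau : a * u * a⁻¹ ∈ UU So V₁ := by
        refine ⟨mul_mem (mul_mem haN hu1) (inv_mem haN), fun v hv => ?_, fun x hx => ?_⟩
        · have h1 := τ.a1 a⁻¹ (inv_mem ha) v hv
          rw [inv_inv] at h1
          have h2 := hu2 _ h1
          calc a * u * a⁻¹ * v * (a * u * a⁻¹)⁻¹ = a * (u * (a⁻¹ * v * a) * u⁻¹) * a⁻¹ := by group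
            _ = v := by rw [h2]; group
        · have h1 := zc_conj h (inv_mem haN) hx
          rw [inv_inv] at h1
          have h2 := τ.a1 a ha _ (hu3 _ h1)
          have e : a * u * a⁻¹ * x * (a * u * a⁻¹)⁻¹ * x⁻¹ =
              a * (u * (a⁻¹ * x * a) * u⁻¹ * (a⁻¹ * x * a)⁻¹) * a⁻¹ := by group
          rw [e]; exact h2
      have hauC : a * u * a⁻¹ ∉ CC So := by
        intro h1
        apply huC
        obtain ⟨h2, h3⟩ := mem_CC.1 h1
        refine mem_CC.2 ⟨hu1, fun x hx => ?_⟩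
        have h4 := h3 _ (zc_conj h haN hx)
        calc u * x = a⁻¹ * (a * u * a⁻¹ * (a * x * a⁻¹)) * a := by group
          _ = x * u := by rw [h4]; group
      have hc0 := UU_two h ⟨hu1, hu2, hu3⟩ hau huC hauC
      obtain ⟨-, h5⟩ := mem_CC.1 hc0
      have h6 := h5 d (z2_le h hd)
      have h7 := τ.c12 a ha d hd
      have h8 : a⁻¹ * d * a = d := by
        calc a⁻¹ * d * a = a⁻¹ * (a * d) := by rw [h7]; group
          _ = d := by group
      -- `(aua⁻¹) d (aua⁻¹)⁻¹ = u d u⁻¹`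
      have h9 : (a * u * a⁻¹) * d * (a * u * a⁻¹)⁻¹ = u * d * u⁻¹ := by
        calc (a * u * a⁻¹) * d * (a * u * a⁻¹)⁻¹
            = u * (u⁻¹ * (a * u * a⁻¹) * d) * (a * u * a⁻¹)⁻¹ := by group
          _ = u * d * u⁻¹ := by rw [h6]; group
      calc a * (u * d * u⁻¹ * d⁻¹) * a⁻¹
          = (a * u * a⁻¹) * (a * d * a⁻¹) * (a * u * a⁻¹)⁻¹ * (a * d * a⁻¹)⁻¹ := by group
        _ = (a * u * a⁻¹) * d * (a * u * a⁻¹)⁻¹ * d⁻¹ := by rw [mul_inv_eq_iff_eq_mul.2 h7]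
        _ = u * d * u⁻¹ * d⁻¹ := by rw [h9]
    have h1 := fix_one h τ he hfix
    exact mul_inv_eq_iff_eq_mul.1 (mul_inv_eq_one.1 h1)
  intro x hx
  obtain ⟨c, hc, d, hd, rfl⟩ := zc_prod h hx
  have h1 : u * c = c * u := mul_inv_eq_iff_eq_mul.1 (hu2 c hc)
  calc u * (c * d) = (u * c) * d := by group
    _ = c * (u * d) := by rw [h1]; group
    _ = c * d * u := by rw [key d hd]; group

/-- An element of `N_G(So)` which normalises `Z₁` normalises `Z₂`. -/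
theorem norm_two {w : G} (hw : w ∈ normalizer (So : Set G))
    (hwZ : ∀ v ∈ V₁ ⊓ centralizer (So : Set G), w * v * w⁻¹ ∈ V₁ ⊓ centralizer (So : Set G))
    {z : G} (hz : z ∈ V₂ ⊓ centralizer (So : Set G)) : w * z * w⁻¹ ∈ V₂ ⊓ centralizer (So : Set G) := by
  have hwN : w ∈ normalizer ((V₁ ⊓ centralizer (So : Set G) : Subgroup G) : Set G) := by
    apply mem_normalizer_of_map_le
    rintro _ ⟨x, hx, rfl⟩
    exact hwZ x hx
  -- conjugates of elements of `T₂` normalise `Z₂`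
  have hb : ∀ b ∈ T₂, (∀ v ∈ V₁ ⊓ centralizer (So : Set G), w * b * w⁻¹ * v * (w * b * w⁻¹)⁻¹ = v) ∧
      ∀ d ∈ V₂ ⊓ centralizer (So : Set G),
        w * b * w⁻¹ * d * (w * b * w⁻¹)⁻¹ ∈ V₂ ⊓ centralizer (So : Set G) := by
    intro b hb
    have hbN : w * b * w⁻¹ ∈ normalizer (So : Set G) := mul_mem (mul_mem hw (τ.n2 hb)) (inv_mem hw)
    have h1 : ∀ v ∈ V₁ ⊓ centralizer (So : Set G), w * b * w⁻¹ * v * (w * b * w⁻¹)⁻¹ = v := by
      intro v hv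
      have h2 := (mem_normalizer_iff.1 (inv_mem hwN) v).1 hv
      rw [inv_inv] at h2
      have h3 := mul_inv_eq_iff_eq_mul.2 (τ.c21 b hb _ h2)
      calc w * b * w⁻¹ * v * (w * b * w⁻¹)⁻¹ = w * (b * (w⁻¹ * v * w) * b⁻¹) * w⁻¹ := by group
        _ = v := by rw [h3]; group
    refine ⟨h1, fun d hd => ?_⟩
    set b' := w * b * w⁻¹ with hb'
    have h1' : ∀ v ∈ V₁ ⊓ centralizer (So : Set G), b'⁻¹ * v * b' = v := by
      intro v hv
      have h2 := h1 v hv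
      calc b'⁻¹ * v * b' = b'⁻¹ * (b' * v * b'⁻¹) * b' := by rw [h2]
        _ = v := by group
    -- `[a, b'] ∈ UU`, so it centralises `Ω₁Z(So)`
    have hcomm : ∀ a ∈ T₁, a * b' * a⁻¹ * b'⁻¹ ∈ CC So := by
      intro a ha
      apply trivial_of h τ
      have haN := τ.n1 ha
      refine ⟨mul_mem (mul_mem (mul_mem haN hbN) (inv_mem haN)) (inv_mem hbN), fun v hv => ?_,
        fun x hx => ?_⟩
      · have h3 := τ.a1 a⁻¹ (inv_mem ha) v hv
        rw [inv_inv] at h3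
        calc a * b' * a⁻¹ * b'⁻¹ * v * (a * b' * a⁻¹ * b'⁻¹)⁻¹
            = a * (b' * (a⁻¹ * (b'⁻¹ * v * b') * a) * b'⁻¹) * a⁻¹ := by group
          _ = a * (b' * (a⁻¹ * v * a) * b'⁻¹) * a⁻¹ := by rw [h1' v hv]
          _ = v := by rw [h1 _ h3]; group
      · -- both factors `a` and `b' a⁻¹ b'⁻¹` are trivial modulo `Z₁`
        have h3 := zc_conj h (inv_mem hbN) hx
        rw [inv_inv] at h3
        have h4 := T1_zc h τ (inv_mem ha) h3
        have h5 : b' * a⁻¹ * b'⁻¹ * x * (b' * a⁻¹ * b'⁻¹)⁻¹ * x⁻¹ ∈ V₁ ⊓ centralizer (So : Set G) := by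
          have e : b' * a⁻¹ * b'⁻¹ * x * (b' * a⁻¹ * b'⁻¹)⁻¹ * x⁻¹ =
              b' * (a⁻¹ * (b'⁻¹ * x * b') * a⁻¹⁻¹ * (b'⁻¹ * x * b')⁻¹) * b'⁻¹ := by group
          rw [e, h1 _ h4]; exact h4
        have h6 : a * b' * a⁻¹ * b'⁻¹ * x * (a * b' * a⁻¹ * b'⁻¹)⁻¹ * x⁻¹ =
            (a * (b' * a⁻¹ * b'⁻¹ * x * (b' * a⁻¹ * b'⁻¹)⁻¹ * x⁻¹) * a⁻¹) * (a * x * a⁻¹ * x⁻¹) := by group
        rw [h6]
        exact mul_mem (τ.a1 a ha _ h5) (T1_zc h τ ha hx)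
    have hy := zc_conj h hbN (z2_le h hd)
    have hfix : ∀ a ∈ T₁, a * (b' * d * b'⁻¹) * a⁻¹ = b' * d * b'⁻¹ := by
      intro a ha
      obtain ⟨-, h2⟩ := mem_CC.1 (hcomm a ha)
      have h3 := h2 _ hy
      have h4 : a⁻¹ * d * a = d := by
        calc a⁻¹ * d * a = a⁻¹ * (a * d) := by rw [τ.c12 a ha d hd]; group
          _ = d := by group
      have h5 : a * d * a⁻¹ = d := mul_inv_eq_iff_eq_mul.2 (τ.c12 a ha d hd)
      calc a * (b' * d * b'⁻¹) * a⁻¹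
          = (a * b' * a⁻¹ * b'⁻¹) * (b' * (a * d * a⁻¹) * b'⁻¹) * (a * b' * a⁻¹ * b'⁻¹)⁻¹ := by group
        _ = (a * b' * a⁻¹ * b'⁻¹) * (b' * d * b'⁻¹) * (a * b' * a⁻¹ * b'⁻¹)⁻¹ := by rw [h5]
        _ = b' * d * b'⁻¹ := by rw [h3]; group
    obtain ⟨c, hc, e, he, hce⟩ := zc_prod h hy
    have hc1 : c = 1 := by
      apply fix_one h τ hc
      intro a ha
      have h2 := hfix a ha
      rw [hce] at h2
      have h3 : a * e * a⁻¹ = e := mul_inv_eq_iff_eq_mul.2 (τ.c12 a ha e he)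
      have h4 : a * (c * e) * a⁻¹ = (a * c * a⁻¹) * (a * e * a⁻¹) := by group
      rw [h4, h3] at h2
      exact mul_right_cancel h2
    rw [hce, hc1, one_mul]
    exact he
  by_cases hz1 : z = 1
  · rw [hz1, mul_one, mul_inv_cancel]; exact one_mem _
  obtain ⟨y, hy, hy1, hyz⟩ := exists_third τ.big2 z
  have hyz1 : y * z ≠ 1 := by
    intro h1
    apply hyz
    have h2 : z * z = 1 := by rw [← pow_two]; exact h.q2 z hz.1
    exact mul_right_cancel (h1.trans h2.symm)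
  obtain ⟨b, hbT, hby⟩ := τ.t2 y hy hy1 _ (mul_mem hy hz) hyz1
  obtain ⟨hb1, hb2⟩ := hb b hbT
  obtain ⟨c, hc, d, hd, hcd⟩ := zc_prod h (zc_conj h hw (z2_le h hy))
  have e1 : w * z * w⁻¹ = (w * y * w⁻¹)⁻¹ * ((w * b * w⁻¹) * (w * y * w⁻¹) * (w * b * w⁻¹)⁻¹) := by
    have h1 : z = y⁻¹ * (b * y * b⁻¹) := by rw [hby]; group
    calc w * z * w⁻¹ = w * (y⁻¹ * (b * y * b⁻¹)) * w⁻¹ := by rw [← h1]
      _ = _ := by group
  have e2 : (w * b * w⁻¹) * (c * d) * (w * b * w⁻¹)⁻¹ =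
      c * ((w * b * w⁻¹) * d * (w * b * w⁻¹)⁻¹) := by
    have h1 := hb1 c hc
    calc (w * b * w⁻¹) * (c * d) * (w * b * w⁻¹)⁻¹
        = ((w * b * w⁻¹) * c * (w * b * w⁻¹)⁻¹) * ((w * b * w⁻¹) * d * (w * b * w⁻¹)⁻¹) := by group
      _ = _ := by rw [h1]
  rw [e1, hcd, e2]
  have e3 : (c * d)⁻¹ * (c * ((w * b * w⁻¹) * d * (w * b * w⁻¹)⁻¹)) =
      d⁻¹ * ((w * b * w⁻¹) * d * (w * b * w⁻¹)⁻¹) := by group
  rw [e3]
  exact mul_mem (inv_mem hd) (hb2 d hd)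

/-- The elements of `N_G(So)` which permute `Z₁` and `Z₂`. -/
def MM (So V₁ V₂ : Subgroup G) : Subgroup G where
  carrier := {g | g ∈ normalizer (So : Set G) ∧
    (((∀ v, v ∈ V₁ ⊓ centralizer (So : Set G) ↔ g * v * g⁻¹ ∈ V₁ ⊓ centralizer (So : Set G)) ∧
      (∀ v, v ∈ V₂ ⊓ centralizer (So : Set G) ↔ g * v * g⁻¹ ∈ V₂ ⊓ centralizer (So : Set G))) ∨
    ((∀ v, v ∈ V₁ ⊓ centralizer (So : Set G) ↔ g * v * g⁻¹ ∈ V₂ ⊓ centralizer (So : Set G)) ∧
      (∀ v, v ∈ V₂ ⊓ centralizer (So : Set G) ↔ g * v * g⁻¹ ∈ V₁ ⊓ centralizer (So : Set G))))}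
  one_mem' := ⟨one_mem _, Or.inl ⟨fun v => by simp, fun v => by simp⟩⟩
  mul_mem' := by
    rintro a b ⟨ha, ha'⟩ ⟨hb, hb'⟩
    refine ⟨mul_mem ha hb, ?_⟩
    have e : ∀ v, a * b * v * (a * b)⁻¹ = a * (b * v * b⁻¹) * a⁻¹ := fun v => by group
    simp only [e]
    rcases ha' with ⟨a1, a2⟩ | ⟨a1, a2⟩ <;> rcases hb' with ⟨b1, b2⟩ | ⟨b1, b2⟩
    · exact Or.inl ⟨fun v => (b1 v).trans (a1 _), fun v => (b2 v).trans (a2 _)⟩
    · exact Or.inr ⟨fun v => (b1 v).trans (a2 _), fun v => (b2 v).trans (a1 _)⟩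
    · exact Or.inr ⟨fun v => (b1 v).trans (a1 _), fun v => (b2 v).trans (a2 _)⟩
    · exact Or.inl ⟨fun v => (b1 v).trans (a2 _), fun v => (b2 v).trans (a1 _)⟩
  inv_mem' := by
    rintro a ⟨ha, ha'⟩
    refine ⟨inv_mem ha, ?_⟩
    have e : ∀ v, a * (a⁻¹ * v * a⁻¹⁻¹) * a⁻¹ = v := fun v => by group
    rcases ha' with ⟨a1, a2⟩ | ⟨a1, a2⟩
    · exact Or.inl ⟨fun v => by rw [a1 (a⁻¹ * v * a⁻¹⁻¹), e], fun v => by rw [a2 (a⁻¹ * v * a⁻¹⁻¹), e]⟩
    · exact Or.inr ⟨fun v => by rw [a2 (a⁻¹ * v * a⁻¹⁻¹), e], fun v => by rw [a1 (a⁻¹ * v * a⁻¹⁻¹), e]⟩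

/-- **No Sylow 2-subgroup of `G` containing `So` normalises `Z₁`** (`|Z₁| ≥ 3`). -/
theorem no_sylow {T : Sylow 2 G} (hT : So ≤ (T : Subgroup G))
    (hTZ : ∀ t ∈ (T : Subgroup G), ∀ v ∈ V₁ ⊓ centralizer (So : Set G),
      t * v * t⁻¹ ∈ V₁ ⊓ centralizer (So : Set G)) : False := by
  have : Fact (Nat.Prime 2) := ⟨Nat.prime_two⟩
  have hcT : Nat.card (T : Subgroup G) = 2 * Nat.card So := by
    rw [← h.card, T.card_eq_multiplicity, S.card_eq_multiplicity]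
  have hTN : (T : Subgroup G) ≤ normalizer (So : Set G) :=
    le_normalizer_of fun _ hk _ hy => conj_mem_of_two hT (two_cosets hT hcT) hk hy
  have hTZ2 : ∀ t ∈ (T : Subgroup G), ∀ v ∈ V₂ ⊓ centralizer (So : Set G),
      t * v * t⁻¹ ∈ V₂ ⊓ centralizer (So : Set G) := fun t ht v hv =>
    norm_two h τ (hTN ht) (hTZ t ht) hv
  have iff_of : ∀ {K Z : Subgroup G}, (∀ k ∈ K, ∀ v ∈ Z, k * v * k⁻¹ ∈ Z) →
      ∀ k ∈ K, ∀ v, v ∈ Z ↔ k * v * k⁻¹ ∈ Z := fun hK k hk v =>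
    mem_normalizer_iff.1 (le_normalizer_of hK hk) v
  have hT0 : ∀ t ∈ (T : Subgroup G),
      (∀ v, v ∈ V₁ ⊓ centralizer (So : Set G) ↔ t * v * t⁻¹ ∈ V₁ ⊓ centralizer (So : Set G)) ∧
      (∀ v, v ∈ V₂ ⊓ centralizer (So : Set G) ↔ t * v * t⁻¹ ∈ V₂ ⊓ centralizer (So : Set G)) :=
    fun t ht => ⟨iff_of hTZ t ht, iff_of hTZ2 t ht⟩
  have hTM : (T : Subgroup G) ≤ MM So V₁ V₂ := fun t ht => ⟨hTN ht, Or.inl (hT0 t ht)⟩
  have hSM : (S : Subgroup G) ≤ MM So V₁ V₂ := by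
    intro x hx
    refine ⟨S_norm h hx, ?_⟩
    by_cases hxS : x ∈ So
    · have fix : ∀ {V : Subgroup G}, ∀ v ∈ V ⊓ centralizer (So : Set G), ∀ k ∈ So,
          k * v * k⁻¹ = v := fun v hv k hk =>
        mul_inv_eq_iff_eq_mul.2 (mem_centralizer_iff.1 hv.2 k hk)
      exact Or.inl ⟨iff_of (K := So) (fun k hk v hv => by rw [fix v hv k hk]; exact hv) x hxS,
        iff_of (K := So) (fun k hk v hv => by rw [fix v hv k hk]; exact hv) x hxS⟩
    · have hxi : x⁻¹ ∉ So := fun h1 => hxS (inv_mem_iff.1 h1)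
      refine Or.inr ⟨fun v => ⟨fun hv => ⟨h.sw1 x hx hxS v hv.1, conj_cent h hx hv.2⟩, fun hv => ?_⟩,
        fun v => ⟨fun hv => ⟨h.sw2 x hx hxS v hv.1, conj_cent h hx hv.2⟩, fun hv => ?_⟩⟩
      · have h1 := h.sw2 x⁻¹ (inv_mem hx) hxi _ hv.1
        have h2 := conj_cent h (inv_mem hx) hv.2
        have e : x⁻¹ * (x * v * x⁻¹) * x⁻¹⁻¹ = v := by group
        rw [e] at h1 h2
        exact ⟨h1, h2⟩
      · have h1 := h.sw1 x⁻¹ (inv_mem hx) hxi _ hv.1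
        have h2 := conj_cent h (inv_mem hx) hv.2
        have e : x⁻¹ * (x * v * x⁻¹) * x⁻¹⁻¹ = v := by group
        rw [e] at h1 h2
        exact ⟨h1, h2⟩
  obtain ⟨n, hn, hnS⟩ := Lib.GoldschmidtFusion.exists_conj_le_in (p := 2) T.isPGroup'
    (MinSimple.Basic.not_dvd_relIndex T hTM) hSM S.isPGroup'
  obtain ⟨s, hs, hsS⟩ := exists_not_mem h.SoS h.card
  have hnsT : n * s * n⁻¹ ∈ (T : Subgroup G) := hnS ⟨s, hs, rfl⟩
  obtain ⟨h1, h2⟩ := hT0 _ hnsT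
  -- a nontrivial element of `Z₁`
  obtain ⟨v, hv, hv1, -⟩ := exists_third τ.big1 1
  have hsv : s * v * s⁻¹ ∈ V₂ ⊓ centralizer (So : Set G) := ⟨h.sw1 s hs hsS v hv.1, conj_cent h hs hv.2⟩
  have hcontra : ∀ y, y ∈ V₁ ⊓ centralizer (So : Set G) → y ∈ V₂ ⊓ centralizer (So : Set G) → y = 1 :=
    fun y hy hy' => h.inf y hy.1 hy'.1
  have e1 : ∀ y, n * s * n⁻¹ * (n * y * n⁻¹) * (n * s * n⁻¹)⁻¹ = n * (s * y * s⁻¹) * n⁻¹ :=
    fun y => by group
  have hsv1 : s * v * s⁻¹ ≠ 1 := by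
    intro h3
    apply hv1
    have h4 : v = s⁻¹ * (s * v * s⁻¹) * s := by group
    rw [h4, h3]; group
  have hn1 : n * (s * v * s⁻¹) * n⁻¹ ≠ 1 := by
    intro h3
    apply hsv1
    have h4 : s * v * s⁻¹ = n⁻¹ * (n * (s * v * s⁻¹) * n⁻¹) * n := by group
    rw [h4, h3]; group
  rcases hn.2 with ⟨n1, n2⟩ | ⟨n1, n2⟩
  · have h3 := (h1 _).1 ((n1 v).1 hv)
    rw [e1] at h3
    exact hn1 (hcontra _ h3 ((n2 _).1 hsv))
  · have h3 := (h2 _).1 ((n1 v).1 hv)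
    rw [e1] at h3
    exact hn1 (hcontra _ ((n2 _).1 hsv) h3)

/-- **`So` is the only 2-subgroup `T ≥ So` of `G` which normalises `Z₁`** (`|Z₁| ≥ 3`). -/
theorem le_So {T : Subgroup G} (hT2 : IsPGroup 2 T) (hT : So ≤ T)
    (hTZ : ∀ t ∈ T, ∀ v ∈ V₁ ⊓ centralizer (So : Set G),
      t * v * t⁻¹ ∈ V₁ ⊓ centralizer (So : Set G)) : T ≤ So := by
  by_contra hcon
  have : Fact (Nat.Prime 2) := ⟨Nat.prime_two⟩
  obtain ⟨Q, hQ⟩ := hT2.exists_le_sylow
  have h1 : Nat.card T ∣ Nat.card (S : Subgroup G) := by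
    have h2 : Nat.card (Q : Subgroup G) = Nat.card (S : Subgroup G) := by
      rw [Q.card_eq_multiplicity, S.card_eq_multiplicity]
    rw [← h2]
    exact Subgroup.card_dvd_of_le hQ
  have h3 := Half.card_mul_relIndex hT
  have h4 : So.relIndex T ∣ 2 := by
    rw [h.card, ← h3, mul_comm 2] at h1
    exact Nat.dvd_of_mul_dvd_mul_left Nat.card_pos h1
  have h5 : So.relIndex T ≠ 1 := fun h5 => hcon (relIndex_eq_one.mp h5)
  have h6 : So.relIndex T = 2 := ((Nat.dvd_prime Nat.prime_two).1 h4).resolve_left h5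
  have h7 : T = (Q : Subgroup G) := by
    refine eq_of_le_of_card_ge hQ ?_
    rw [Q.card_eq_multiplicity, ← S.card_eq_multiplicity, h.card, ← h3, h6, mul_comm]
  subst h7
  exact no_sylow h τ hT hTZ

end

end Cfsg.Agent.Omega.IId.TriangleQ

end

section


/-!
# LEMMA NL (helper963, bb OMEGA #17249): nonlocality for free

`G` of characteristic 2 type, `1 ≠ R ≤ A`, `A` a 2-group, `C_G(R) ≤ H ≤ N_G(R)`, `A ≤ O₂(H)`, `[A, O₂(H)] ≤ R`,
`D ≤ N_G(A)` irreducible on `A`.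

* `nonLoc_mixed` : two such groups `A`, `B` with `R ≤ [A, B]`, `D'` irreducible on `B`: no nontrivial 2-group is
  normalised by `H`, `D` and `D'` (no Sylow hypothesis);
* `Cor.nonLoc` : `R ≤ [A, A^c]` for some `c ∈ H`: `NonLoc H D`;
* `cor_four`, `nonLoc_four` : `A` a four-group, `H = C_G(v)`.
-/

set_option autoImplicit false
set_option linter.unusedSectionVars false

namespace Cfsg.Agent.Omega.IId.NLFree

open Subgroup Cfsg Cfsg.Agent.ZN Cfsg.Agent.Omega.MinPar Cfsg.Agent.Omega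
open Cfsg.Agent.MinSimple.VModule (o2_le o2_isPGroup le_normalizer_o2 le_o2)

universe u

variable {G : Type u} [Group G]

/-! ### Generalities -/

theorem isPGroup_of_odd [Finite G] {X : Subgroup G} (h : ∀ x ∈ X, Odd (orderOf x) → x = 1) : IsPGroup 2 X := by
  rintro ⟨x, hx⟩
  have hpos : 0 < orderOf x := orderOf_pos x
  obtain ⟨k, m, hm, e⟩ := Nat.exists_eq_two_pow_mul_odd hpos.ne'
  refine ⟨k, Subtype.ext (h _ (X.pow_mem hx _) ?_)⟩
  have h1 : orderOf (x ^ 2 ^ k) = m := by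
    rw [orderOf_pow_of_dvd (by positivity) (by rw [e]; exact dvd_mul_right _ _), e]
    exact Nat.mul_div_cancel_left _ (by positivity)
  show Odd (orderOf (x ^ 2 ^ k))
  rw [h1]
  exact hm

theorem eq_one_of_odd {X : Subgroup G} (h : IsPGroup 2 X) {x : G} (hx : x ∈ X) (ho : Odd (orderOf x)) : x = 1 := by
  obtain ⟨k, hk⟩ := h ⟨x, hx⟩
  have hk' : x ^ 2 ^ k = 1 := congrArg Subtype.val hk
  have h1 := orderOf_dvd_of_pow_eq_one hk'
  have h2 : Nat.Coprime (orderOf x) (2 ^ k) := Nat.Coprime.pow_right k (Nat.coprime_two_right.2 ho)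
  exact orderOf_eq_one_iff.1 (Nat.Coprime.eq_one_of_dvd h2 h1)

/-- odd order elements stabilising a chain of length 2 of a 2-group -/
theorem comm_of_odd {c w : G} (hc : Odd (orderOf c)) {P : Subgroup G} (hP : IsPGroup 2 P)
    (h : c * w * c⁻¹ * w⁻¹ ∈ P) (h2 : c * (c * w * c⁻¹ * w⁻¹) = c * w * c⁻¹ * w⁻¹ * c) : c * w = w * c := by
  set t := c * w * c⁻¹ * w⁻¹ with ht
  have hk : ∀ k : ℕ, c ^ k * w * (c ^ k)⁻¹ = t ^ k * w := by
    intro k
    induction k with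
    | zero => simp
    | succ k ih =>
      have hct : c * t ^ k = t ^ k * c := (show Commute c t from h2).pow_right k
      calc c ^ (k + 1) * w * (c ^ (k + 1))⁻¹ = c * (c ^ k * w * (c ^ k)⁻¹) * c⁻¹ := by
            rw [pow_succ']; group
        _ = (c * t ^ k) * w * c⁻¹ := by rw [ih]; group
        _ = t ^ k * (c * w * c⁻¹ * w⁻¹) * w := by rw [hct]; group
        _ = t ^ (k + 1) * w := by rw [← ht, pow_succ]
  have h1 := hk (orderOf c)
  rw [pow_orderOf_eq_one] at h1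
  have h3 : t ^ orderOf c = 1 := by
    have h4 : w = t ^ orderOf c * w := by
      calc w = 1 * w * 1⁻¹ := by group
        _ = _ := h1
    have h5 : t ^ orderOf c * w = 1 * w := by rw [one_mul]; exact h4.symm
    exact mul_right_cancel h5
  have h6 : t = 1 := by
    apply eq_one_of_odd hP h
    exact Odd.of_dvd_nat hc (orderOf_dvd_of_pow_eq_one h3)
  have h7 : c * w * c⁻¹ * w⁻¹ = 1 := by rw [← ht]; exact h6
  calc c * w = c * w * c⁻¹ * w⁻¹ * (w * c) := by group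
    _ = w * c := by rw [h7, one_mul]

/-- a fixed point of `S` on `Q/M` -/
theorem exists_fix_mod [Finite G] {S M Q : Subgroup G} (hS : IsPGroup 2 S) (hMS : M ≤ S) (hQS : Q ≤ S)
    (hM : S ≤ normalizer (M : Set G)) (hQ : S ≤ normalizer (Q : Set G)) (hQM : ¬ Q ≤ M) :
    ∃ x ∈ Q, x ∉ M ∧ ∀ s ∈ S, s * x * s⁻¹ * x⁻¹ ∈ M := by
  have hp : Fact (Nat.Prime 2) := ⟨Nat.prime_two⟩
  have hMn : (M.subgroupOf S).Normal := (normal_subgroupOf_iff_le_normalizer hMS).2 hM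
  have hQn : (Q.subgroupOf S).Normal := (normal_subgroupOf_iff_le_normalizer hQS).2 hQ
  let p := QuotientGroup.mk' (M.subgroupOf S)
  have hp1 : Function.Surjective p := QuotientGroup.mk'_surjective _
  have hpk : ∀ y : S, p y = 1 → (y : G) ∈ M := fun y hy => (QuotientGroup.eq_one_iff y).1 hy
  have hN : ((Q.subgroupOf S).map p).Normal := hQn.map p hp1
  have hne : (Q.subgroupOf S).map p ≠ ⊥ := by
    intro h0
    apply hQM
    intro x hx
    have hxS := hQS hx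
    have h1 : p ⟨x, hxS⟩ ∈ (Q.subgroupOf S).map p := ⟨⟨x, hxS⟩, hx, rfl⟩
    rw [h0, mem_bot] at h1
    exact hpk _ h1
  have hSp : IsPGroup 2 (S ⧸ M.subgroupOf S) := hS.of_surjective p hp1
  obtain ⟨y, hy, hyc, hyo⟩ := Involutions.NormalFour.exists_mem_center_of_normal hSp _ hne
  obtain ⟨⟨x, hxS⟩, hx, rfl⟩ := hy
  refine ⟨x, hx, ?_, ?_⟩
  · intro hxM
    have h1 : p ⟨x, hxS⟩ = 1 := (QuotientGroup.eq_one_iff _).2 hxM
    rw [h1, orderOf_one] at hyo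
    omega
  · intro s hs
    have h1 := (mem_center_iff.1 hyc) (p ⟨s, hs⟩)
    have h2 : p (⟨s, hs⟩ * ⟨x, hxS⟩ * ⟨s, hs⟩⁻¹ * ⟨x, hxS⟩⁻¹) = 1 := by
      rw [map_mul, map_mul, map_mul, map_inv, map_inv, h1]
      group
    exact hpk _ h2

theorem le_normalizer_of {K V : Subgroup G} (h : ∀ k ∈ K, ∀ v ∈ V, k * v * k⁻¹ ∈ V) :
    K ≤ normalizer (V : Set G) := by
  intro k hk
  rw [mem_normalizer_iff]
  intro v
  refine ⟨fun hv => h k hk v hv, fun hv => ?_⟩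
  have h1 := h k⁻¹ (inv_mem hk) _ hv
  have e : k⁻¹ * (k * v * k⁻¹) * k⁻¹⁻¹ = v := by group
  rwa [e] at h1

theorem conj_mem_of {K V : Subgroup G} (h : K ≤ normalizer (V : Set G)) {k v : G} (hk : k ∈ K) (hv : v ∈ V) :
    k * v * k⁻¹ ∈ V := (mem_normalizer_iff.1 (h hk) v).1 hv

theorem le_normalizer_cent {K V : Subgroup G} (h : K ≤ normalizer (V : Set G)) :
    K ≤ normalizer ((centralizer (V : Set G) : Subgroup G) : Set G) := by
  apply le_normalizer_of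
  intro k hk c hc
  rw [mem_centralizer_iff] at hc ⊢
  intro y hy
  have h2 := conj_mem_of h (inv_mem hk) hy
  have h3 := hc _ h2
  rw [inv_inv] at h3
  calc y * (k * c * k⁻¹) = k * (k⁻¹ * y * k * c) * k⁻¹ := by group
    _ = k * (c * (k⁻¹ * y * k)) * k⁻¹ := by rw [h3]
    _ = k * c * k⁻¹ * y := by group

theorem comm_of_mem_cent {V : Subgroup G} {c v : G} (hc : c ∈ centralizer (V : Set G)) (hv : v ∈ V) :
    v * c = c * v := mem_centralizer_iff.1 hc v hv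

/-! ### The abstract lemma -/

/-- The data of one side. -/
structure Cor (R A H D : Subgroup G) : Prop where
  RA : R ≤ A
  R1 : R ≠ ⊥
  pA : IsPGroup 2 A
  cH : centralizer (R : Set G) ≤ H
  HR : H ≤ normalizer (R : Set G)
  AQ : A ≤ o2 H
  com : ∀ a ∈ A, ∀ x ∈ o2 H, a * x * a⁻¹ * x⁻¹ ∈ R
  DA : D ≤ normalizer (A : Set G)
  irr : ∀ X : Subgroup G, D ≤ normalizer (X : Set G) → A ⊓ X ≠ ⊥ → A ≤ X

namespace Cor

variable [Finite G] {R A H D K : Subgroup G}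

theorem A1 (h : Cor R A H D) : A ≠ ⊥ := fun h0 => h.R1 (le_bot_iff.1 (h0 ▸ h.RA))

theorem AH (h : Cor R A H D) : A ≤ H := h.AQ.trans (o2_le _)

/-- `K ∩ H ≤ C(A)` if `A ≤ K`. -/
theorem inf_le_cent (h : Cor R A H D) (hK : IsPGroup 2 K) (hHK : H ≤ normalizer (K : Set G))
    (hDK : D ≤ normalizer (K : Set G)) : K ⊓ H ≤ centralizer (A : Set G) := by
  have h1 : K ⊓ H ≤ o2 H := by
    refine le_o2 inf_le_right (hK.to_le inf_le_left) ?_
    exact Half.le_normalizer_inf hHK le_normalizer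
  have h2 : K ⊓ H ≤ normalizer (A : Set G) := by
    apply le_normalizer_of
    intro k hk a ha
    have h3 := h.RA (h.com a ha k (h1 hk))
    have h4 : k * a * k⁻¹ = (a⁻¹ * (a * k * a⁻¹ * k⁻¹))⁻¹ := by group
    rw [h4]
    exact inv_mem (mul_mem (inv_mem ha) h3)
  have h3 : D ≤ normalizer ((K ⊓ normalizer (A : Set G) : Subgroup G) : Set G) :=
    Half.le_normalizer_inf hDK (h.DA.trans le_normalizer)
  obtain ⟨v, hv, hv1, hvc⟩ := Half.exists_fixed h.pA h.A1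
    (hK.to_le (inf_le_left : K ⊓ normalizer (A : Set G) ≤ K)) inf_le_right
  have h4 : A ⊓ centralizer ((K ⊓ normalizer (A : Set G) : Subgroup G) : Set G) ≠ ⊥ := by
    intro h0
    have h5 : v ∈ A ⊓ centralizer ((K ⊓ normalizer (A : Set G) : Subgroup G) : Set G) := by
      refine ⟨hv, mem_centralizer_iff.2 fun y hy => ?_⟩
      exact mul_inv_eq_iff_eq_mul.1 (hvc y hy)
    rw [h0, mem_bot] at h5
    exact hv1 h5
  have h5 := h.irr _ (le_normalizer_cent h3) h4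
  intro k hk
  rw [mem_centralizer_iff]
  intro a ha
  exact (comm_of_mem_cent (h5 ha) (⟨hk.1, h2 hk⟩ : k ∈ K ⊓ normalizer (A : Set G))).symm

/-- `C_K(R) ≤ C(A)` if `A ∩ K = 1`. -/
theorem cent_R_le (h : Cor R A H D) (hK : IsPGroup 2 K) (hHK : H ≤ normalizer (K : Set G))
    (hAK : A ⊓ K = ⊥) : K ⊓ centralizer (R : Set G) ≤ centralizer (A : Set G) := by
  have h1 : K ⊓ centralizer (R : Set G) ≤ o2 H := by
    refine le_o2 (inf_le_right.trans h.cH) (hK.to_le inf_le_left) ?_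
    exact Half.le_normalizer_inf hHK (le_normalizer_cent h.HR)
  intro k hk
  rw [mem_centralizer_iff]
  intro a ha
  have h2 := h.RA (h.com a ha k (h1 hk))
  have h3 : a * k * a⁻¹ * k⁻¹ ∈ K := mul_mem (conj_mem_of hHK (h.AH ha) hk.1) (inv_mem hk.1)
  have h4 : a * k * a⁻¹ * k⁻¹ ∈ A ⊓ K := ⟨h2, h3⟩
  rw [hAK, mem_bot] at h4
  calc a * k = a * k * a⁻¹ * k⁻¹ * (k * a) := by group
    _ = k * a := by rw [h4, one_mul]

/-- The centralisers agree. -/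
theorem cent_eq (h : Cor R A H D) (hK : IsPGroup 2 K) (hHK : H ≤ normalizer (K : Set G))
    (hAK : A ⊓ K = ⊥) : K ⊓ centralizer (A : Set G) = K ⊓ centralizer (R : Set G) :=
  le_antisymm (fun _ hx => ⟨hx.1, centralizer_le h.RA hx.2⟩)
    fun _ hx => ⟨hx.1, h.cent_R_le hK hHK hAK hx⟩

theorem cent_ne (h : Cor R A H D) (hK : IsPGroup 2 K) (hK1 : K ≠ ⊥) (hHK : H ≤ normalizer (K : Set G))
    (hAK : A ⊓ K = ⊥) : K ⊓ centralizer (A : Set G) ≠ ⊥ := by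
  rw [h.cent_eq hK hHK hAK]
  obtain ⟨v, hv, hv1, hvc⟩ := Half.exists_fixed hK hK1 (h.pA.to_le h.RA) ((h.RA.trans h.AH).trans hHK)
  intro h0
  have h5 : v ∈ K ⊓ centralizer (R : Set G) :=
    ⟨hv, mem_centralizer_iff.2 fun y hy => mul_inv_eq_iff_eq_mul.1 (hvc y hy)⟩
  rw [h0, mem_bot] at h5
  exact hv1 h5

end Cor

/-- **LEMMA NL, mixed form**: `A`, `B ≤ O₂(H)`, both with `[·, O₂(H)] ≤ R`, `R ≤ [A, B]`; `D` irreducible on `A`,
`D'` irreducible on `B`: no nontrivial 2-group is normalised by `H`, `D` and `D'`. -/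
theorem nonLoc_mixed [Finite G] (hG : IsCharacteristicTwoType G) {R A B H D D' : Subgroup G}
    (h : Cor R A H D) (h' : Cor R B H D')
    (hgen : R ≤ closure {x | ∃ a ∈ A, ∃ b ∈ B, x = a * b * a⁻¹ * b⁻¹}) {U : Subgroup G}
    (hU : IsPGroup 2 U) (hHU : H ≤ normalizer (U : Set G)) (hDU : D ≤ normalizer (U : Set G))
    (hDU' : D' ≤ normalizer (U : Set G)) : U = ⊥ := by
  by_contra hU1
  have hdis : ∀ K : Subgroup G, IsPGroup 2 K → H ≤ normalizer (K : Set G) → D ≤ normalizer (K : Set G) →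
      D' ≤ normalizer (K : Set G) → A ⊓ K = ⊥ := by
    intro K hK hHK hDK hDK'
    by_contra hne
    have hAK := h.irr K hDK hne
    have h1 := h.inf_le_cent hK hHK hDK
    have h2 : B ⊓ K ≠ ⊥ := by
      intro h0
      apply h.R1
      rw [eq_bot_iff, ← h0]
      exact le_inf h'.RA (h.RA.trans hAK)
    have hBK := h'.irr K hDK' h2
    apply h.R1
    rw [eq_bot_iff]
    refine hgen.trans ?_
    rw [closure_le]
    rintro x ⟨a, ha, b, hb, rfl⟩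
    have h3 := comm_of_mem_cent (h1 ⟨hBK hb, h'.AH hb⟩) ha
    rw [SetLike.mem_coe, mem_bot, h3]
    group
  have hdis' : ∀ K : Subgroup G, IsPGroup 2 K → H ≤ normalizer (K : Set G) → D ≤ normalizer (K : Set G) →
      D' ≤ normalizer (K : Set G) → B ⊓ K = ⊥ := by
    intro K hK hHK hDK hDK'
    by_contra hne
    have hBK := h'.irr K hDK' hne
    apply h.R1
    rw [eq_bot_iff, ← hdis K hK hHK hDK hDK']
    exact le_inf h.RA (h'.RA.trans hBK)
  -- a maximal `K₀`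
  let s : Set (Subgroup G) := {X | IsPGroup 2 X ∧ X ≠ ⊥ ∧ X ≤ centralizer (R : Set G) ∧
    H ≤ normalizer (X : Set G) ∧ D ≤ normalizer (X : Set G) ∧ D' ≤ normalizer (X : Set G)}
  have key : ∀ K : Subgroup G, IsPGroup 2 K → K ≠ ⊥ → H ≤ normalizer (K : Set G) →
      D ≤ normalizer (K : Set G) → D' ≤ normalizer (K : Set G) → K ⊓ centralizer (R : Set G) ∈ s := by
    intro K hK hK1 hHK hDK hDK'
    have hd := hdis K hK hHK hDK hDK'
    have hd' := hdis' K hK hHK hDK hDK'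
    refine ⟨hK.to_le inf_le_left, ?_, inf_le_right, ?_, ?_, ?_⟩
    · rw [← h.cent_eq hK hHK hd]
      exact h.cent_ne hK hK1 hHK hd
    · exact Half.le_normalizer_inf hHK (le_normalizer_cent h.HR)
    · rw [← h.cent_eq hK hHK hd]
      exact Half.le_normalizer_inf hDK (le_normalizer_cent h.DA)
    · rw [← h'.cent_eq hK hHK hd']
      exact Half.le_normalizer_inf hDK' (le_normalizer_cent h'.DA)
  obtain ⟨K₀, hK₀⟩ := (Set.toFinite s).exists_maximal ⟨_, key U hU hU1 hHU hDU hDU'⟩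
  obtain ⟨hp0, h01, h0R, hH0, hD0, hD0'⟩ := hK₀.prop
  have hBQ : B ≤ o2 H := h'.AQ
  have h0A : K₀ ≤ centralizer (A : Set G) := fun x hx =>
    h.cent_R_le hp0 hH0 (hdis K₀ hp0 hH0 hD0 hD0') ⟨hx, h0R hx⟩
  have h0B : K₀ ≤ centralizer (B : Set G) := fun x hx =>
    h'.cent_R_le hp0 hH0 (hdis' K₀ hp0 hH0 hD0 hD0') ⟨hx, h0R hx⟩
  set M := normalizer (K₀ : Set G) with hM
  set K := o2 M with hKdef
  have hK2 : IsPGroup 2 K := o2_isPGroup M
  have hMK : M ≤ normalizer (K : Set G) := le_normalizer_o2 M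
  have hK0K : K₀ ≤ K := le_o2 le_normalizer hp0 le_rfl
  have hK1 : K ≠ ⊥ := fun h0 => h01 (le_bot_iff.1 (h0 ▸ hK0K))
  have hHK : H ≤ normalizer (K : Set G) := hH0.trans hMK
  have hDK : D ≤ normalizer (K : Set G) := hD0.trans hMK
  have hDK' : D' ≤ normalizer (K : Set G) := hD0'.trans hMK
  have hd := hdis K hK2 hHK hDK hDK'
  have hcR : K ⊓ centralizer (R : Set G) ≤ K₀ :=
    hK₀.le_of_ge (key K hK2 hK1 hHK hDK hDK') (le_inf hK0K h0R)
  -- `C = C(K₀)`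
  set C := centralizer (K₀ : Set G) with hC
  have hCM : C ≤ M := by
    intro x hx
    rw [hM, mem_normalizer_iff]
    intro y
    constructor
    · intro hy
      have := comm_of_mem_cent hx hy
      rw [← this, mul_inv_cancel_right]; exact hy
    · intro hy
      have h1 := comm_of_mem_cent hx hy
      have h2 : y = x * y * x⁻¹ := by
        calc y = x⁻¹ * (x * y * x⁻¹ * x) := by group
          _ = x⁻¹ * (x * (x * y * x⁻¹)) := by rw [h1]
          _ = x * y * x⁻¹ := by group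
      rw [h2]; exact hy
  have hMC : M ≤ normalizer (C : Set G) := le_normalizer_cent le_rfl
  have hAC : A ≤ C := by
    intro a ha
    rw [hC, mem_centralizer_iff]
    intro y hy
    exact (comm_of_mem_cent (h0A hy) ha).symm
  have hBC : B ≤ C := by
    intro a ha
    rw [hC, mem_centralizer_iff]
    intro y hy
    exact (comm_of_mem_cent (h0B hy) ha).symm
  -- `L = C_K(K₀)` is not contained in `K₀`
  have hL : ¬ K ⊓ C ≤ K₀ := by
    intro hL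
    have hchar : M ⊓ centralizer (K : Set G) ≤ K := by
      rintro x ⟨hxM, hxc⟩
      have h1 := hG.2 K₀ hp0 h01
      have h2 : (⟨x, hxM⟩ : normalizer (K₀ : Set G)) ∈
          centralizer (pCore 2 (normalizer (K₀ : Set G)) : Set _) := by
        rw [mem_centralizer_iff]
        intro q hq
        refine Subtype.ext ?_
        have h3 : (q : G) ∈ K := ⟨q, hq, rfl⟩
        exact comm_of_mem_cent hxc h3
      exact ⟨_, h1 h2, rfl⟩
    have hC2 : IsPGroup 2 C := by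
      apply isPGroup_of_odd
      intro x hx ho
      have h1 : x ∈ centralizer (K : Set G) := by
        rw [mem_centralizer_iff]
        intro k hk
        have h2 : x * k * x⁻¹ * k⁻¹ ∈ K ⊓ C := by
          refine mem_inf.2 ⟨mul_mem (conj_mem_of (hCM.trans hMK) hx hk) (inv_mem hk), ?_⟩
          have h3 : k * x⁻¹ * k⁻¹ ∈ C := conj_mem_of ((o2_le M).trans hMC) hk (inv_mem hx)
          have h4 : x * k * x⁻¹ * k⁻¹ = x * (k * x⁻¹ * k⁻¹) := by group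
          rw [h4]
          exact mul_mem hx h3
        have h5 := comm_of_mem_cent hx (hL h2)
        exact (comm_of_odd ho hK2 h2.1 h5.symm).symm
      exact eq_one_of_odd hK2 (hchar ⟨hCM hx, h1⟩) ho
    have h1 : C ≤ K := le_o2 hCM hC2 hMC
    apply h.A1
    rw [← hd]
    exact (inf_eq_left.2 (hAC.trans h1)).symm
  -- a fixed coset
  have hQM : o2 H ≤ M := (o2_le H).trans hH0
  have hLn : M ≤ normalizer ((K ⊓ C : Subgroup G) : Set G) := Half.le_normalizer_inf hMK hMC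
  have hZn : M ≤ normalizer ((K₀ ⊓ C : Subgroup G) : Set G) := Half.le_normalizer_inf le_rfl hMC
  set P := K ⊔ o2 H with hP
  have hPM : P ≤ M := sup_le (o2_le M) hQM
  have hP2 : IsPGroup 2 P := by
    rw [hP]
    exact IsPGroup.to_sup_of_normal_left' hK2 (o2_isPGroup H) ((hQM).trans hMK)
  obtain ⟨w, hw, hw0, hwc⟩ := exists_fix_mod (S := P) (M := K₀ ⊓ C) (Q := K ⊓ C) hP2
    ((inf_le_left.trans hK0K).trans le_sup_left) (inf_le_left.trans le_sup_left)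
    (hPM.trans hZn) (hPM.trans hLn) (fun h1 => hL (h1.trans inf_le_left))
  apply hw0
  refine ⟨hcR ⟨hw.1, ?_⟩, hw.2⟩
  -- `w` centralises `R`
  have hcl : closure {x | ∃ a ∈ A, ∃ b ∈ B, x = a * b * a⁻¹ * b⁻¹} ≤ centralizer ({w} : Set G) := by
    rw [closure_le]
    rintro x ⟨a, ha, b, hb, rfl⟩
    rw [SetLike.mem_coe, mem_centralizer_singleton_iff]
    have ha' : a * w * a⁻¹ * w⁻¹ ∈ K₀ ⊓ C := hwc a (mem_sup_right (h.AQ ha))
    have hb' : b * w * b⁻¹ * w⁻¹ ∈ K₀ ⊓ C := hwc b (mem_sup_right (hBQ hb))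
    set za := a * w * a⁻¹ * w⁻¹ with hza
    set zb := b * w * b⁻¹ * w⁻¹ with hzb
    -- commutation with the elements of `K₀`
    have ca : ∀ z ∈ K₀, z * a = a * z := fun z hz => comm_of_mem_cent (hAC ha) hz
    have cb : ∀ z ∈ K₀, z * b = b * z := fun z hz => comm_of_mem_cent (hBC hb) hz
    have cw : ∀ z ∈ K₀, z * w = w * z := fun z hz => comm_of_mem_cent hw.2 hz
    have cz : ∀ z ∈ K₀, ∀ y ∈ K₀ ⊓ C, z * y = y * z := fun z hz y hy => comm_of_mem_cent hy.2 hz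
    -- `w⁻¹ a w = a z`, `z ∈ K₀ ∩ C`
    have ea : w * a * w⁻¹ = za⁻¹ * a := by rw [hza]; group
    have eb : w * b * w⁻¹ = zb⁻¹ * b := by rw [hzb]; group
    have haa : Commute za⁻¹ a := (show Commute za a from ca _ ha'.1).inv_left
    have hab : Commute za⁻¹ b := (show Commute za b from cb _ ha'.1).inv_left
    have hba : Commute zb⁻¹ a := (show Commute zb a from ca _ hb'.1).inv_left
    have hbb : Commute zb⁻¹ b := (show Commute zb b from cb _ hb'.1).inv_left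
    have hzz : Commute za⁻¹ zb⁻¹ :=
      ((show Commute za zb from cz _ ha'.1 _ hb').inv_left).inv_right
    have e1 : w * (a * b * a⁻¹ * b⁻¹) * w⁻¹ = a * b * a⁻¹ * b⁻¹ := by
      calc w * (a * b * a⁻¹ * b⁻¹) * w⁻¹
          = (w * a * w⁻¹) * (w * b * w⁻¹) * (w * a * w⁻¹)⁻¹ * (w * b * w⁻¹)⁻¹ := by group
        _ = (za⁻¹ * a) * (zb⁻¹ * b) * (za⁻¹ * a)⁻¹ * (zb⁻¹ * b)⁻¹ := by rw [ea, eb]
        _ = (za⁻¹ * a) * (zb⁻¹ * b) * (a * za⁻¹)⁻¹ * (b * zb⁻¹)⁻¹ := by rw [haa.eq, hbb.eq]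
        _ = (za⁻¹ * a) * (zb⁻¹ * b) * za * a⁻¹ * zb * b⁻¹ := by group
        _ = a * b * a⁻¹ * b⁻¹ := by
          have s1 : (za⁻¹ * a) * (zb⁻¹ * b) * za = a * zb⁻¹ * b := by
            have t1 : Commute za⁻¹ (a * (zb⁻¹ * b)) := haa.mul_right (hzz.mul_right hab)
            calc (za⁻¹ * a) * (zb⁻¹ * b) * za = (za⁻¹ * (a * (zb⁻¹ * b))) * za := by group
              _ = ((a * (zb⁻¹ * b)) * za⁻¹) * za := by rw [t1.eq]
              _ = a * zb⁻¹ * b := by group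
          rw [s1]
          have t2 : Commute zb⁻¹ (b * a⁻¹) := hbb.mul_right hba.inv_right
          calc a * zb⁻¹ * b * a⁻¹ * zb * b⁻¹ = a * (zb⁻¹ * (b * a⁻¹)) * zb * b⁻¹ := by group
            _ = a * ((b * a⁻¹) * zb⁻¹) * zb * b⁻¹ := by rw [t2.eq]
            _ = a * b * a⁻¹ * b⁻¹ := by group
    calc a * b * a⁻¹ * b⁻¹ * w = (w * (a * b * a⁻¹ * b⁻¹) * w⁻¹) * w := by rw [e1]
      _ = w * (a * b * a⁻¹ * b⁻¹) := by group
  show w ∈ centralizer (R : Set G)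
  rw [mem_centralizer_iff]
  intro r hr
  exact mem_centralizer_singleton_iff.1 (hcl (hgen hr))

/-! ### `B = A^c` -/

theorem mem_cj {A : Subgroup G} {c x : G} :
    x ∈ A.map (MulAut.conj c).toMonoidHom ↔ c⁻¹ * x * c ∈ A := by
  constructor
  · rintro ⟨a, ha, rfl⟩
    have e : c⁻¹ * (MulAut.conj c).toMonoidHom a * c = a := by
      show c⁻¹ * (c * a * c⁻¹) * c = a
      group
    rw [e]; exact ha
  · intro hx
    refine ⟨_, hx, ?_⟩
    show c * (c⁻¹ * x * c) * c⁻¹ = x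
    group

theorem cj_le_normalizer_iff {A X : Subgroup G} {c : G} :
    A.map (MulAut.conj c).toMonoidHom ≤ normalizer (X : Set G) ↔
      A ≤ normalizer ((X.map (MulAut.conj c⁻¹).toMonoidHom : Subgroup G) : Set G) := by
  constructor
  · intro h
    apply le_normalizer_of
    intro k hk v hv
    rw [mem_cj, inv_inv] at hv ⊢
    have h1 : c * k * c⁻¹ ∈ A.map (MulAut.conj c).toMonoidHom := ⟨k, hk, rfl⟩
    have h2 := conj_mem_of h h1 hv
    have e : c * (k * v * k⁻¹) * c⁻¹ = c * k * c⁻¹ * (c * v * c⁻¹) * (c * k * c⁻¹)⁻¹ := by group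
    rw [e]; exact h2
  · intro h
    apply le_normalizer_of
    rintro _ ⟨k, hk, rfl⟩ v hv
    have h1 : c⁻¹ * v * c ∈ X.map (MulAut.conj c⁻¹).toMonoidHom := by
      rw [mem_cj, inv_inv]
      have e : c * (c⁻¹ * v * c) * c⁻¹ = v := by group
      rw [e]; exact hv
    have h2 := conj_mem_of h hk h1
    rw [mem_cj, inv_inv] at h2
    have e : c * (k * (c⁻¹ * v * c) * k⁻¹) * c⁻¹ = c * k * c⁻¹ * v * (c * k * c⁻¹)⁻¹ := by group
    rw [e] at h2
    exact h2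

/-- conjugation by `c ∈ H` -/
theorem Cor.cj [Finite G] {R A H D : Subgroup G} (h : Cor R A H D) {c : G} (hc : c ∈ H) :
    Cor R (A.map (MulAut.conj c).toMonoidHom) H (D.map (MulAut.conj c).toMonoidHom) where
  RA := by
    intro r hr
    rw [mem_cj]
    have := conj_mem_of h.HR (inv_mem hc) hr
    rw [inv_inv] at this
    exact h.RA this
  R1 := h.R1
  pA := h.pA.map _
  cH := h.cH
  HR := h.HR
  AQ := by
    rintro _ ⟨b, hb, rfl⟩
    exact conj_mem_of (le_normalizer_o2 H) hc (h.AQ hb)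
  com := by
    rintro _ ⟨a, ha, rfl⟩ x hx
    have hx' : c⁻¹ * x * c ∈ o2 H := by
      have := conj_mem_of (le_normalizer_o2 H) (inv_mem hc) hx
      rwa [inv_inv] at this
    have h1 := conj_mem_of h.HR hc (h.com a ha _ hx')
    have e : c * (a * (c⁻¹ * x * c) * a⁻¹ * (c⁻¹ * x * c)⁻¹) * c⁻¹ =
        c * a * c⁻¹ * x * (c * a * c⁻¹)⁻¹ * x⁻¹ := by group
    rw [e] at h1
    exact h1
  DA := by
    rw [cj_le_normalizer_iff]
    have e : ((A.map (MulAut.conj c).toMonoidHom).map (MulAut.conj c⁻¹).toMonoidHom : Subgroup G) = A := by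
      ext x
      rw [mem_cj, mem_cj, inv_inv]
      have e : c⁻¹ * (c * x * c⁻¹) * c = x := by group
      rw [e]
    rw [e]
    exact h.DA
  irr := by
    intro X hX hne
    rw [cj_le_normalizer_iff] at hX
    have h1 : A ⊓ X.map (MulAut.conj c⁻¹).toMonoidHom ≠ ⊥ := by
      obtain ⟨a, ⟨haA, haX⟩, ha1⟩ := (Subgroup.bot_or_exists_ne_one _).resolve_left hne
      have haA' : c⁻¹ * a * c ∈ A := mem_cj.1 haA
      have haX' : a ∈ X := haX
      intro h0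
      have h2 : c⁻¹ * a * c ∈ A ⊓ X.map (MulAut.conj c⁻¹).toMonoidHom := by
        refine ⟨haA', ?_⟩
        show c⁻¹ * a * c ∈ X.map (MulAut.conj c⁻¹).toMonoidHom
        rw [mem_cj, inv_inv]
        have e : c * (c⁻¹ * a * c) * c⁻¹ = a := by group
        rw [e]; exact haX'
      rw [h0, mem_bot] at h2
      apply ha1
      calc a = c * (c⁻¹ * a * c) * c⁻¹ := by group
        _ = 1 := by rw [h2]; group
    have h2 := h.irr _ hX h1
    rintro _ ⟨b, hb, rfl⟩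
    have h3 := h2 hb
    rw [mem_cj, inv_inv] at h3
    exact h3

/-- **LEMMA NL**: `R ≤ [A, A^c]`, `c ∈ H`. -/
theorem Cor.nonLoc [Finite G] (hG : IsCharacteristicTwoType G) {R A H D : Subgroup G} (h : Cor R A H D)
    {c : G} (hc : c ∈ H)
    (hgen : R ≤ closure {x | ∃ a ∈ A, ∃ b ∈ A, x = a * (c * b * c⁻¹) * a⁻¹ * (c * b * c⁻¹)⁻¹}) :
    NonLoc H D := by
  intro U hU hHU hDU
  refine nonLoc_mixed hG h (h.cj hc) (hgen.trans (closure_mono ?_)) hU hHU hDU ?_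
  · rintro x ⟨a, ha, b, hb, rfl⟩
    exact ⟨a, ha, c * b * c⁻¹, ⟨b, hb, rfl⟩, rfl⟩
  · rintro _ ⟨d, hd, rfl⟩
    have h1 := mul_mem (mul_mem (hHU hc) (hDU hd)) (inv_mem (hHU hc))
    exact h1

/-! ### `q = 2` -/

/-- `A` is a four-group. -/
theorem cor_four [Finite G] {A D : Subgroup G} {v : G} (hv1 : v ≠ 1) (hvA : v ∈ A)
    (hsq : ∀ a ∈ A, a * a = 1)
    (hAQ : A ≤ o2 (centralizer ({v} : Set G)))
    (hcom : ∀ a ∈ A, ∀ x ∈ o2 (centralizer ({v} : Set G)), a * x * a⁻¹ * x⁻¹ = 1 ∨ a * x * a⁻¹ * x⁻¹ = v)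
    (hDA : D ≤ normalizer (A : Set G))
    (htr : ∀ a ∈ A, ∀ b ∈ A, a ≠ 1 → b ≠ 1 → ∃ d ∈ D, d * a * d⁻¹ = b) :
    Cor (zpowers v) A (centralizer ({v} : Set G)) D where
  RA := zpowers_le.2 hvA
  R1 := fun h0 => hv1 (zpowers_eq_bot.1 h0)
  pA := fun a => ⟨1, Subtype.ext (by
    show (a : G) ^ 2 ^ 1 = 1
    rw [pow_one, pow_two]; exact hsq _ a.2)⟩
  cH := centralizer_le (Set.singleton_subset_iff.2 (mem_zpowers v))
  HR := by
    intro x hx
    have h1 := mem_centralizer_singleton_iff.1 hx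
    have h2 : x * v * x⁻¹ = v := by rw [h1, mul_inv_cancel_right]
    rw [mem_normalizer_iff]
    intro y
    constructor
    · rintro ⟨n, rfl⟩
      refine ⟨n, ?_⟩
      show v ^ n = x * v ^ n * x⁻¹
      rw [← conj_zpow, h2]
    · rintro ⟨n, hn⟩
      refine ⟨n, ?_⟩
      have hn' : v ^ n = x * y * x⁻¹ := hn
      show v ^ n = y
      have h3 : x⁻¹ * v ^ n * x = v ^ n := by
        have h4 : x * v ^ n * x⁻¹ = v ^ n := by rw [← conj_zpow, h2]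
        calc x⁻¹ * v ^ n * x = x⁻¹ * (x * v ^ n * x⁻¹) * x := by rw [h4]
          _ = v ^ n := by group
      calc v ^ n = x⁻¹ * v ^ n * x := h3.symm
        _ = x⁻¹ * (x * y * x⁻¹) * x := by rw [hn']
        _ = y := by group
  AQ := hAQ
  com := by
    intro a ha x hx
    rcases hcom a ha x hx with h1 | h1
    · rw [h1]; exact one_mem _
    · rw [h1]; exact mem_zpowers v
  DA := hDA
  irr := by
    intro X hX hne
    obtain ⟨a, ⟨haA, haX⟩, ha1⟩ := (Subgroup.bot_or_exists_ne_one _).resolve_left hne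
    intro b hb
    rcases eq_or_ne b 1 with rfl | hb1
    · exact one_mem _
    obtain ⟨d, hd, rfl⟩ := htr a haA b hb ha1 hb1
    exact conj_mem_of hX hd haX

/-- **LEMMA NL, `q = 2`**. -/
theorem nonLoc_four [Finite G] (hG : IsCharacteristicTwoType G) {A D : Subgroup G} {v : G} (hv1 : v ≠ 1)
    (hvA : v ∈ A) (hsq : ∀ a ∈ A, a * a = 1) (hAQ : A ≤ o2 (centralizer ({v} : Set G)))
    (hcom : ∀ a ∈ A, ∀ x ∈ o2 (centralizer ({v} : Set G)), a * x * a⁻¹ * x⁻¹ = 1 ∨ a * x * a⁻¹ * x⁻¹ = v)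
    (hDA : D ≤ normalizer (A : Set G))
    (htr : ∀ a ∈ A, ∀ b ∈ A, a ≠ 1 → b ≠ 1 → ∃ d ∈ D, d * a * d⁻¹ = b)
    {c : G} (hc : c * v = v * c) (hnc : ∃ a ∈ A, ∃ b ∈ A, a * (c * b * c⁻¹) ≠ (c * b * c⁻¹) * a) :
    NonLoc (centralizer ({v} : Set G)) D := by
  have h := cor_four hv1 hvA hsq hAQ hcom hDA htr
  have hcH : c ∈ centralizer ({v} : Set G) := mem_centralizer_singleton_iff.2 hc
  refine h.nonLoc hG hcH ?_
  rw [zpowers_le]
  obtain ⟨a, ha, b, hb, hne⟩ := hnc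
  apply Subgroup.subset_closure
  refine ⟨a, ha, b, hb, ?_⟩
  have h1 : c * b * c⁻¹ ∈ o2 (centralizer ({v} : Set G)) :=
    conj_mem_of (le_normalizer_o2 _) hcH (hAQ hb)
  rcases hcom a ha _ h1 with h2 | h2
  · exfalso
    apply hne
    calc a * (c * b * c⁻¹) = a * (c * b * c⁻¹) * a⁻¹ * (c * b * c⁻¹)⁻¹ * ((c * b * c⁻¹) * a) := by group
      _ = (c * b * c⁻¹) * a := by rw [h2, one_mul]
  · exact h2.symm

end Cfsg.Agent.Omega.IId.NLFree

end
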