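import Cfsg.Agent.Mrg.Omega.BTwo.Split
import Cfsg.Agent.Mrg.Omega.BTwo.EntryC
import Cfsg.Agent.Mrg.Omega.IId.SymHalf

section


/-!
# II.d, CASE 1, `q ≥ 4`: the entry to `BTS` (helper441 #15214 (2), (3); helper540 #15359 (1))

`V = V₁ × V₂` (`Two S So V₁ V₂ L₁ L₂`), `R₁ ≤ V₁`, `R₂ ≤ V₂` the lines normalised by `So = N_S(V₁)`.

* `nonLoc` : `⟨N_G(V₁), N_G(R₁)⟩` normalises no 2-subgroup `≠ 1`;
* `bt_of_at` : `BTwo.bt_of_at` without a Sylow 2-subgroup of `G` in `N_G(V)` (only `O₂(N_G(R)) ≤ N_G(V)` is needed);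
* `bts_of_at` : `BTS V (pt M)` from nonlocality;
* `le_CenX` : `V₂ ≤ C_G(X)`.
-/

set_option autoImplicit false
set_option linter.unusedSectionVars false

namespace Cfsg.Agent.Omega.IId.BtsOf

open Subgroup Cfsg Cfsg.Agent.ZN Cfsg.Agent.Omega.MinPar
open Cfsg.Agent.MinSimple.VModule (mem_zc zc_le)
open Cfsg.Agent.Lib.SL2Mat

/-! ### Nonlocality -/

section nonloc

open Cfsg.Agent.Omega.BTwo (exists_mem_zc)

universe u

variable {G : Type u} [Group G] [Finite G] {S : Sylow 2 G} {So V₁ V₂ L₁ L₂ : Subgroup G}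

/-- **Nonlocality of `⟨N_G(V₁), N_G(R₁)⟩`**, `So` a Sylow 2-subgroup of `N_G(R₂)`. -/
theorem nonLoc (hG : IsCharacteristicTwoType G) (h : IId.Two (S : Subgroup G) So V₁ V₂ L₁ L₂)
    {R₁ R₂ : Subgroup G} (hR₂ : R₂ ≤ V₂) (hSoR₂ : So ≤ normalizer (R₂ : Set G))
    (hSyl : ∀ T : Subgroup G, IsPGroup 2 T → So ≤ T → T ≤ normalizer (R₂ : Set G) → T ≤ So)
    (hD : ∀ c ∈ V₁, (∀ x ∈ So, x * c = c * x) → c ≠ 1 → ∃ d ∈ normalizer (R₁ : Set G),
      (∀ v ∈ V₂, d * v = v * d) ∧ d * c * d⁻¹ ∈ V₁ ∧ d * c * d⁻¹ ≠ c)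
    (hmt : ∃ g ∈ normalizer (R₁ : Set G), ∃ v ∈ V₁, ∃ w ∈ V₁, v * (g * w * g⁻¹) ≠ g * w * g⁻¹ * v) :
    NonLoc (normalizer (V₁ : Set G)) (normalizer (R₁ : Set G)) := by
  have hfact : Fact (Nat.Prime 2) := ⟨Nat.prime_two⟩
  intro T₀ hT₀ hVT hRT
  by_contra hne
  have hc := MinSimple.Basic.char2_normalizer hG hT₀ hne
  set H : Subgroup G := normalizer (T₀ : Set G) with hH
  set U : Subgroup G := ZN.o2 H with hU
  have hHU : H ≤ normalizer (U : Set G) := MinSimple.VModule.le_normalizer_o2 H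
  have hU2 : IsPGroup 2 U := MinSimple.VModule.o2_isPGroup H
  have hUconj : ∀ x ∈ H, ∀ u ∈ U, x * u * x⁻¹ ∈ U := fun x hx u hu =>
    (mem_normalizer_iff.1 (hHU hx) u).1 hu
  have hUconj' : ∀ x ∈ H, ∀ u ∈ U, x⁻¹ * u * x ∈ U := fun x hx u hu => by
    have := hUconj x⁻¹ (inv_mem hx) u hu
    rwa [inv_inv] at this
  have hSoN : So ≤ normalizer (V₁ : Set G) := Two.le_normalizer_of h.So1
  have hSoH : So ≤ H := hSoN.trans hVT
  have hL₁H : L₁ ≤ H := (Two.le_normalizer_of h.L1).trans hVT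
  have hL₂H : L₂ ≤ H := by
    intro l hl
    apply hVT
    apply centralizer_le_normalizer
    rw [mem_centralizer_iff]
    exact fun v hv => (h.L21 l hl v hv).symm
  -- conjugation of an element centralising `U`
  have conj : ∀ x ∈ H, ∀ r, (∀ u ∈ U, r * u = u * r) → ∀ u ∈ U, x * r * x⁻¹ * u = u * (x * r * x⁻¹) := by
    intro x hx r hr u hu
    have h1 := hr _ (hUconj' x hx u hu)
    calc x * r * x⁻¹ * u = x * (r * (x⁻¹ * u * x)) * x⁻¹ := by group
      _ = x * (x⁻¹ * u * x * r) * x⁻¹ := by rw [h1]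
      _ = u * (x * r * x⁻¹) := by group
  -- (#)
  have key : ∀ r ∈ V₁, r ≠ 1 → (∀ u ∈ U, r * u = u * r) → False := by
    intro r hr hr1 hru
    have hV₁ : ∀ v ∈ V₁, ∀ u ∈ U, v * u = u * v := by
      intro v hv
      by_cases hv1 : v = 1
      · intro u _
        rw [hv1, one_mul, mul_one]
      · obtain ⟨l, hl, rfl⟩ := h.t1 r hr hr1 v hv hv1
        exact conj l (hL₁H hl) r hru
    have hV₁U : V₁ ≤ U := by
      intro v hv
      refine hc (mem_inf.2 ⟨hSoH (h.V1So hv), ?_⟩)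
      rw [mem_centralizer_iff]
      exact fun u hu => (hV₁ v hv u hu).symm
    obtain ⟨g, hg, v, hv, w, hw, hvw⟩ := hmt
    exact hvw (hV₁ v hv _ (hUconj g (hRT hg) w (hV₁U hw)))
  have hSo2 : IsPGroup 2 So := S.isPGroup'.to_le h.SoS
  have hV₁2 : IsPGroup 2 V₁ := hSo2.to_le h.V1So
  have hV₁ne : V₁ ≠ ⊥ := by
    intro h0
    have h1 := h.big1
    rw [h0, card_bot] at h1
    omega
  have hSone : So ≠ ⊥ := fun h0 => hV₁ne (le_bot_iff.1 (h.V1So.trans h0.le))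
  by_cases hUS : U ≤ So
  · obtain ⟨c, hc1, hc2, hc3⟩ := exists_mem_zc hSo2 hV₁ne h.V1So hSoN
    exact key c hc1 hc2 fun u hu => ((mem_zc.1 hc3).2.1 u (hUS hu)).symm
  -- `W = U So` is a Sylow 2-subgroup of `G`
  set W : Subgroup G := U ⊔ So with hW
  have hW2 : IsPGroup 2 W := hU2.to_sup_of_normal_left' hSo2 (hSoH.trans hHU)
  have hSoW : So ≤ W := le_sup_right
  have hcard : Nat.card W = 2 * Nat.card So := by
    obtain ⟨Q, hQ⟩ := hW2.exists_le_sylow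
    have h1 : Nat.card W ∣ 2 * Nat.card So := by
      rw [← h.card]
      have h2 : Nat.card (Q : Subgroup G) = Nat.card (S : Subgroup G) := by
        rw [Q.card_eq_multiplicity, S.card_eq_multiplicity]
      rw [← h2]
      exact Subgroup.card_dvd_of_le hQ
    have h3 := Half.card_mul_relIndex hSoW
    rw [← h3, mul_comm 2] at h1
    have h4 : So.relIndex W ∣ 2 := Nat.dvd_of_mul_dvd_mul_left Nat.card_pos h1
    have h5 : So.relIndex W ≠ 1 := fun h5 =>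
      hUS (le_sup_left.trans (relIndex_eq_one.mp h5))
    rw [← h3, ((Nat.dvd_prime Nat.prime_two).1 h4).resolve_left h5, mul_comm]
  have hWn : W ≤ normalizer (So : Set G) :=
    Two.le_normalizer_of fun k hk y hy => Two.conj_mem_of_two hSoW (Two.two_cosets hSoW hcard) hk hy
  obtain ⟨a, haSo, ha1, haW⟩ := exists_mem_zc hW2 hSone hSoW hWn
  obtain ⟨-, haW2, haq⟩ := mem_zc.1 haW
  have haz : a ∈ zc So := mem_zc.2 ⟨haSo, fun x hx => haW2 x (hSoW hx), haq⟩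
  have haU : ∀ u ∈ U, a * u = u * a := fun u hu => (haW2 u (le_sup_left (a := U) hu)).symm
  obtain ⟨c, hc1, d, hd, hcd⟩ := TriangleQ.zc_prod h haz
  by_cases hc0 : c = 1
  · -- `a = d ∈ V₂`
    rw [hc0, one_mul] at hcd
    have hV₂U : ∀ v ∈ V₂, ∀ u ∈ U, v * u = u * v := by
      intro v hv
      by_cases hv1 : v = 1
      · intro u _
        rw [hv1, one_mul, mul_one]
      · obtain ⟨l, hl, rfl⟩ := h.t2 a (hcd ▸ hd.1) ha1 v hv hv1
        exact conj l (hL₂H hl) a haU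
    have hWR : W ≤ normalizer (R₂ : Set G) := by
      refine sup_le ?_ hSoR₂
      intro u hu
      apply centralizer_le_normalizer
      rw [mem_centralizer_iff]
      exact fun v hv => hV₂U v (hR₂ hv) u hu
    exact hUS (le_sup_left.trans (hSyl W hW2 hSoW hWR))
  · obtain ⟨e, he, heV, hec, hec1⟩ := hD c hc1.1 (fun x hx => mem_centralizer_iff.1 hc1.2 x hx) hc0
    have h1 : ∀ u ∈ U, c⁻¹ * (e * c * e⁻¹) * u = u * (c⁻¹ * (e * c * e⁻¹)) := by
      have h2 := conj e (hRT he) a haU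
      have h3 : a⁻¹ * (e * a * e⁻¹) = c⁻¹ * (e * c * e⁻¹) := by
        have h4 : e * d * e⁻¹ = d := by
          rw [heV d hd.1]; group
        have h5 : e * a * e⁻¹ = e * c * e⁻¹ * d := by
          rw [hcd]
          calc e * (c * d) * e⁻¹ = e * c * e⁻¹ * (e * d * e⁻¹) := by group
            _ = e * c * e⁻¹ * d := by rw [h4]
        have h6 : c⁻¹ * (e * c * e⁻¹) * d = d * (c⁻¹ * (e * c * e⁻¹)) :=
          h.c12 _ (mul_mem (inv_mem hc1.1) hec) d hd.1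
        rw [h5, hcd]
        calc (c * d)⁻¹ * (e * c * e⁻¹ * d) = d⁻¹ * (c⁻¹ * (e * c * e⁻¹) * d) := by group
          _ = c⁻¹ * (e * c * e⁻¹) := by rw [h6]; group
      intro u hu
      rw [← h3]
      have h7 : a⁻¹ * u = u * a⁻¹ := by
        have := haU u hu
        calc a⁻¹ * u = a⁻¹ * (u * a) * a⁻¹ := by group
          _ = a⁻¹ * (a * u) * a⁻¹ := by rw [this]
          _ = u * a⁻¹ := by group
      calc a⁻¹ * (e * a * e⁻¹) * u = a⁻¹ * (e * a * e⁻¹ * u) := by group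
        _ = a⁻¹ * u * (e * a * e⁻¹) := by rw [h2 u hu]; group
        _ = u * (a⁻¹ * (e * a * e⁻¹)) := by rw [h7]; group
    refine key _ (mul_mem (inv_mem hc1.1) hec) ?_ h1
    intro h8
    exact hec1 (inv_mul_eq_one.1 h8).symm

end nonloc

/-! ### The entry to `BT` -/

section entry

open Cfsg.Agent.Omega.NatPair Cfsg.Agent.Omega.BTwo

variable {G : Type*} [Group G] {F : Type*} [Field F] {V : Subgroup G}

variable [Finite G] [Finite F] [CharP F 2] (M : NatMod F V)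

theorem data {R : Subgroup G} {h : G} (a : At V R h) (hQ : QQ R ≤ normalizer (V : Set G)) :
    ∃ w, w ≠ 0 ∧ R = M.line w ∧ QQ R ≤ M.UW w ∧ (∀ B, ap B w = w → ∃ x ∈ BTwo.cj h V, M.Ind x B) ∧
      ∀ x ∈ QQ R, ∀ v ∈ V, x * v * x⁻¹ * v⁻¹ ∈ R := by
  have hR : V ⊓ BTwo.cj h V = R := a.inf
  obtain ⟨w, hw, hl, hU, hf, -, hc⟩ := bridge M (M.conj h) a.mtl (Q := QQ R) a.V'Q hQ
    (by
      show QQ R ≤ normalizer ((V ⊓ BTwo.cj h V : Subgroup G) : Set G)
      rw [hR]; exact BTwo.O2_le _) (O2_isPGroup _) (by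
      intro g _ hg x hx
      have hg' : g ∈ normalizer ((V ⊓ BTwo.cj h V : Subgroup G) : Set G) := hg
      rw [hR] at hg'
      exact conj_mem_of_normalizer (le_normalizer_O2 _ hg') hx)
  refine ⟨w, hw, ?_, hU, hf, ?_⟩
  · rw [← hl]; exact hR.symm
  · intro x hx v hv
    rw [← hR]
    exact hc x hx v hv

/-- every point is an `N(V)`-conjugate of `⟨w₀⟩` by an element acting as an element of `SL₂(F)` -/
theorem exists_cj {w₀ : Fin 2 → F} (hw₀ : w₀ ≠ 0) (i : Pt M) :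
    ∃ (A : Matrix.SpecialLinearGroup (Fin 2) F), ∀ l, M.Ind l A → BTwo.cj l (M.line w₀) = pt M i := by
  obtain ⟨_, w, hw, rfl⟩ := i
  obtain ⟨A, hA⟩ := NatPair.exists_ap hw₀ hw
  refine ⟨A, fun l hl => ?_⟩
  have := M.cj_line_of_ind hl w₀
  rw [hA] at this
  exact this

theorem QQ_le {w₀ : Fin 2 → F} (hw₀ : w₀ ≠ 0) (hQ₀ : QQ (M.line w₀) ≤ normalizer (V : Set G)) (i : Pt M) :
    QQ (pt M i) ≤ normalizer (V : Set G) := by
  obtain ⟨A, hA⟩ := exists_cj M hw₀ i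
  obtain ⟨l, hl⟩ := M.lift A
  have h1 := hA l hl
  have h2 : BTwo.cj l (QQ (M.line w₀)) = QQ (pt M i) := by
    rw [cj_O2, ← normalizer_cj, h1]
  have h3 := cj_mono (g := l) hQ₀
  rw [h2, ← normalizer_cj, cj_eq_self_iff.2 (M.mem_normalizer hl)] at h3
  exact h3

/-- `BT` from a mutual pair `(V, V^h)`, `V ≤ O₂(N(R)) ≤ N(V)` (no Sylow 2-subgroup of `G` in `N(V)` is needed). -/
theorem bt_of_at {w₀ : Fin 2 → F} (hw₀ : w₀ ≠ 0) {h : G} (a : At V (M.line w₀) h)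
    (hQ₀ : QQ (M.line w₀) ≤ normalizer (V : Set G)) : BT V (pt M) := by
  -- `O₂(N(R)) ≤ N(V)` at every point
  have hQn : ∀ i : Pt M, QQ (pt M i) ≤ normalizer (V : Set G) := fun i => QQ_le M hw₀ hQ₀ i
  -- the same at every point
  have hat : ∀ i : Pt M, ∃ h, At V (pt M i) h := by
    rintro ⟨_, w, hw, rfl⟩
    obtain ⟨A, hA⟩ := exists_ap hw₀ hw
    obtain ⟨l, hl⟩ := M.lift A
    refine ⟨l * h * l⁻¹, ?_⟩
    have h1 : BTwo.cj l (M.line w₀) = M.line w := by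
      have := M.cj_line_of_ind hl w₀
      rw [hA] at this
      exact this
    show At V (M.line w) (l * h * l⁻¹)
    rw [← h1]
    exact a.cj (M.mem_normalizer hl)
  have hmt : ∀ i : Pt M, ∀ h, At V (pt M i) h → ∀ j k : Pt M, j ≠ i → k ≠ i →
      ∃ v ∈ V, BTwo.cj (h * v * h⁻¹) (pt M j) = pt M k := by
    rintro i h a ⟨_, u, hu, rfl⟩ ⟨_, u', hu', rfl⟩ hj hk
    obtain ⟨w, hw, hR, -, hf, -⟩ := data M a (hQn i)
    have hju : dt w u ≠ 0 := by
      intro h1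
      apply hj
      apply Subtype.ext
      show M.line u = pt M i
      rw [hR, (line_eq_iff_dt M hw hu).2 h1]
    have hku : dt w u' ≠ 0 := by
      intro h1
      apply hk
      apply Subtype.ext
      show M.line u' = pt M i
      rw [hR, (line_eq_iff_dt M hw hu').2 h1]
    obtain ⟨B, hB, c, hc, hBu⟩ := exists_move hju hku
    obtain ⟨x, hx, hxB⟩ := hf B hB
    obtain ⟨v, hv, rfl⟩ := hx
    refine ⟨v, hv, ?_⟩
    show BTwo.cj _ (M.line u) = M.line u'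
    have h1 := M.cj_line_of_ind hxB u
    rw [hBu, M.line_smul hc] at h1
    exact h1
  refine
    { V_comm := fun a ha b hb => M.comm ha hb
      V_sq := fun a ha => M.sq ha
      R_le := ?_
      R_inf := ?_
      R_sup := ?_
      R_cov := ?_
      R_ne := ?_
      third := ?_
      perm := ?_
      V_Q := ?_
      QV := ?_
      QR := ?_
      mt := ?_ }
  · rintro ⟨_, w, hw, rfl⟩
    exact M.line_le w
  · rintro ⟨_, w, hw, rfl⟩ ⟨_, u, hu, rfl⟩ hne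
    have h1 : dt w u ≠ 0 := by
      intro h1
      apply hne
      apply Subtype.ext
      exact ((line_eq_iff_dt M hw hu).2 h1).symm
    rw [eq_bot_iff]
    rintro _ ⟨⟨c, hc⟩, ⟨d, hd⟩⟩
    have h2 : c • w = d • u := M.e_inj (hc.trans hd.symm)
    have h3 : d = 0 := by
      have h4 := congrArg (dt w) h2
      rw [dt_smul, dt_smul, dt_self, mul_zero] at h4
      exact (mul_eq_zero.1 h4.symm).resolve_right h1
    rw [mem_bot, ← hd, h3, zero_smul, M.e_zero]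
  · rintro ⟨_, w, hw, rfl⟩ ⟨_, u, hu, rfl⟩ hne
    have h1 : dt w u ≠ 0 := by
      intro h1
      apply hne
      apply Subtype.ext
      exact ((line_eq_iff_dt M hw hu).2 h1).symm
    apply le_antisymm
    · exact sup_le (M.line_le w) (M.line_le u)
    · intro v hv
      obtain ⟨x, rfl⟩ := (M.mem_iff v).1 hv
      obtain ⟨α, β, rfl⟩ := exists_comb h1 x
      rw [M.e_add]
      exact mul_mem (mem_sup_left ⟨α, rfl⟩) (mem_sup_right ⟨β, rfl⟩)
  · intro v hv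
    obtain ⟨x, rfl⟩ := (M.mem_iff v).1 hv
    by_cases hx : x = 0
    · refine ⟨⟨_, w₀, hw₀, rfl⟩, ?_⟩
      rw [hx, M.e_zero]
      exact one_mem _
    · exact ⟨⟨_, x, hx, rfl⟩, ⟨1, by rw [one_smul]⟩⟩
  · rintro ⟨_, w, hw, rfl⟩ h1
    have h2 : M.e w ∈ M.line w := ⟨1, by rw [one_smul]⟩
    have h3 : M.line w = ⊥ := h1
    rw [h3, mem_bot, M.e_eq_one] at h2
    exact hw h2
  · rintro ⟨_, w, hw, rfl⟩ ⟨_, u, hu, rfl⟩
    by_cases hwu : dt w u = 0
    · obtain ⟨x, hx⟩ := exists_dt hw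
      refine ⟨⟨_, x, ne_zero_of_dt hx, rfl⟩, ?_, ?_⟩
      · intro h1
        exact hx ((line_eq_iff_dt M hw (ne_zero_of_dt hx)).1 (congrArg Subtype.val h1))
      · intro h1
        have h2 : M.line x = M.line u := congrArg Subtype.val h1
        rw [(line_eq_iff_dt M hw hu).2 hwu, line_eq_iff_dt M hw (ne_zero_of_dt hx)] at h2
        exact hx h2
    · have h0 : w + u ≠ 0 := by
        intro h1
        apply hwu
        have h2 := congrArg (dt w) h1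
        rw [dt_add, dt_self, zero_add] at h2
        rw [h2]
        unfold dt
        simp
      refine ⟨⟨_, w + u, h0, rfl⟩, ?_, ?_⟩
      · intro h1
        have h2 : M.line (w + u) = M.line w := congrArg Subtype.val h1
        rw [line_eq_iff_dt M hw h0, dt_add, dt_self, zero_add] at h2
        exact hwu h2
      · intro h1
        have h2 : M.line (w + u) = M.line u := congrArg Subtype.val h1
        rw [line_eq_iff_dt M hu h0, dt_add, dt_self, add_zero] at h2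
        apply hwu
        have h3 : dt w u = - dt u w := by unfold dt; ring
        rw [h3, h2, neg_zero]
  · rintro g hg ⟨_, w, hw, rfl⟩
    exact ⟨⟨_, M.act g w, M.act_ne_zero hg hw, rfl⟩, M.cj_line hg w⟩
  · intro i
    obtain ⟨h, a⟩ := hat i
    exact a.VQ
  · intro i
    obtain ⟨h, a⟩ := hat i
    obtain ⟨w, hw, hR, -, -, hc⟩ := data M a (hQn i)
    exact hc
  · intro i g hg r hr
    obtain ⟨h, a⟩ := hat i
    obtain ⟨w, hw, hR, hU, -, -⟩ := data M a (hQn i)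
    rw [hR] at hr
    obtain ⟨c, rfl⟩ := hr
    obtain ⟨B, hB, hB'⟩ := hU hg
    rw [← mul_inv_eq_iff_eq_mul, hB', ap_smul, hB]
  · intro i
    obtain ⟨h, a⟩ := hat i
    refine ⟨h, a.norm, fun j k hj hk => ⟨hmt i h a j k hj hk, ?_⟩⟩
    obtain ⟨v, hv, h1⟩ := hmt i h⁻¹ a.inv j k hj hk
    rw [inv_inv] at h1
    exact ⟨v, hv, h1⟩


/-- `BTS` from `BT` and nonlocality -/
theorem bts_of_at (hG : IsCharacteristicTwoType G) {w₀ : Fin 2 → F} (hw₀ : w₀ ≠ 0) {h : G}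
    (a : At V (M.line w₀) h) (hQ₀ : QQ (M.line w₀) ≤ normalizer (V : Set G))
    (hnl : NonLoc (normalizer (V : Set G)) (normalizer (M.line w₀ : Set G))) : BTS V (pt M) := by
  refine { bt_of_at M hw₀ a hQ₀ with nonloc := ?_, cenQ := ?_ }
  · intro i T hT _ _ hVT hRT
    obtain ⟨A, hA⟩ := exists_cj M hw₀ i
    obtain ⟨l, hl⟩ := M.lift A
    have h1 := hA l hl
    apply hnl T hT hVT
    have hl' : l ∈ normalizer (T : Set G) := hVT (M.mem_normalizer hl)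
    intro x hx
    have h2 : l * x * l⁻¹ ∈ normalizer (pt M i : Set G) := by
      rw [← h1, normalizer_cj]
      exact conj_mem_cj hx
    have h3 : l⁻¹ * (l * x * l⁻¹) * l ∈ normalizer (T : Set G) :=
      mul_mem (mul_mem (inv_mem hl') (hRT h2)) hl'
    have h4 : l⁻¹ * (l * x * l⁻¹) * l = x := by group
    rwa [h4] at h3
  · rintro ⟨_, u, hu, rfl⟩
    have hU : IsPGroup 2 (M.line u) := fun x => ⟨1, Subtype.ext (by
      show (x : G) ^ 2 ^ 1 = 1
      rw [pow_one, pow_two]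
      exact M.sq (M.line_le u x.2))⟩
    have hne : M.line u ≠ ⊥ := by
      intro h1
      have h2 : M.e u ∈ M.line u := ⟨1, by rw [one_smul]⟩
      rw [h1, mem_bot, M.e_eq_one] at h2
      exact hu h2
    exact MinSimple.Basic.char2_normalizer hG hU hne

/-- a subgroup `A` centralising `O₂(N(R))` and centralised by elements inducing `SL₂(F)` lies in `C(X)` -/
theorem le_CenX {A : Subgroup G} {w₀ : Fin 2 → F} (hw₀ : w₀ ≠ 0) (b : BT V (pt M))
    (hA : A ≤ centralizer (QQ (M.line w₀) : Set G))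
    (hl : ∀ B : Matrix.SpecialLinearGroup (Fin 2) F, ∃ l, M.Ind l B ∧ ∀ a ∈ A, l * a = a * l) :
    A ≤ CenX V (pt M) := by
  rw [CenX, Subgroup.le_centralizer_iff, XX]
  refine iSup_le fun i => (b.W_le_Q i).trans ?_
  rw [Subgroup.le_centralizer_iff]
  obtain ⟨B, hB⟩ := exists_cj M hw₀ i
  obtain ⟨l, hlB, hla⟩ := hl B
  have h1 := hB l hlB
  have h2 : BTwo.cj l (QQ (M.line w₀)) = QQ (pt M i) := by
    rw [cj_O2, ← normalizer_cj, h1]
  intro a ha
  rw [mem_centralizer_iff]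
  intro x hx
  rw [SetLike.mem_coe, ← h2] at hx
  obtain ⟨y, hy, rfl⟩ := hx
  have h3 := mem_centralizer_iff.1 (hA ha) y hy
  change l * y * l⁻¹ * a = a * (l * y * l⁻¹)
  have h4 : l⁻¹ * a = a * l⁻¹ := by
    have := hla a ha
    calc l⁻¹ * a = l⁻¹ * (a * l) * l⁻¹ := by group
      _ = l⁻¹ * (l * a) * l⁻¹ := by rw [this]
      _ = a * l⁻¹ := by group
  calc l * y * l⁻¹ * a = l * (y * (l⁻¹ * a)) := by group
    _ = l * (y * a) * l⁻¹ := by rw [h4]; group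
    _ = l * a * y * l⁻¹ := by rw [h3]; group
    _ = a * (l * y * l⁻¹) := by rw [hla a ha]; group

end entry

end Cfsg.Agent.Omega.IId.BtsOf

end

section


/-!
# II.d, CASE 1: LEMMA Z (helper330 #16276)

`V = V₁ × V₂` (`Two S So V₁ V₂ L₁ L₂`), `Rᵢ ≤ Vᵢ` normalised by `So`, `So` a Sylow 2-subgroup of `N_G(Rᵢ)`.

* `lemZ` : `So, L₁, L₂ ≤ M`, `C_M(O₂(M)) ≤ O₂(M)` ⟹ `O₂(M) ≤ So` and `V₁, V₂ ≤ Z(O₂(M))`;
* `lemZ_normalizer` : the same for `M = N_G(K)`, `K ≠ 1` a 2-group, `G` of characteristic 2 type.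

It replaces `S ∈ Syl₂(G)` in the places where one needs `V₁ ≤ Z(O₂(N_G(C_X)))` (#14148 (9.2)).
-/

set_option autoImplicit false
set_option linter.unusedSectionVars false

namespace Cfsg.Agent.Omega.IId.LemZ

open Subgroup Cfsg Cfsg.Agent.ZN Cfsg.Agent.Omega.MinPar
open Cfsg.Agent.MinSimple.VModule (mem_zc zc_le)
open Cfsg.Agent.Omega.BTwo (exists_mem_zc)

universe u

variable {G : Type u} [Group G]

/-- conjugation of an element centralising `O₂(M)` -/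
theorem conj_cen {M : Subgroup G} {x r : G} (hx : x ∈ M) (hr : ∀ u ∈ ZN.o2 M, r * u = u * r) :
    ∀ u ∈ ZN.o2 M, x * r * x⁻¹ * u = u * (x * r * x⁻¹) := by
  intro u hu
  have h0 : x⁻¹ * u * x ∈ ZN.o2 M := by
    have h1 := (mem_normalizer_iff.1 (MinSimple.VModule.le_normalizer_o2 M (inv_mem hx)) u).1 hu
    rwa [inv_inv] at h1
  have h1 := hr _ h0
  calc x * r * x⁻¹ * u = x * (r * (x⁻¹ * u * x)) * x⁻¹ := by group
    _ = x * (x⁻¹ * u * x * r) * x⁻¹ := by rw [h1]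
    _ = u * (x * r * x⁻¹) := by group

variable [Finite G] {S : Sylow 2 G} {So V₁ V₂ L₁ L₂ : Subgroup G}

/-- a nontrivial element of `V₁` centralising `O₂(M)`: all of `V₁` centralises `O₂(M)` -/
theorem all_cen (h : IId.Two (S : Subgroup G) So V₁ V₂ L₁ L₂) {M : Subgroup G} (hL₁ : L₁ ≤ M) {r : G}
    (hr : r ∈ V₁) (hr1 : r ≠ 1) (hru : ∀ u ∈ ZN.o2 M, r * u = u * r) :
    ∀ v ∈ V₁, ∀ u ∈ ZN.o2 M, v * u = u * v := by
  intro v hv
  by_cases hv1 : v = 1
  · intro u _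
    rw [hv1, one_mul, mul_one]
  · obtain ⟨l, hl, rfl⟩ := h.t1 r hr hr1 v hv hv1
    exact conj_cen (hL₁ hl) hru

/-- a product `c d` centralising `O₂(M)`, `1 ≠ c ∈ V₁`, `d ∈ V₂`: `V₁` centralises `O₂(M)` -/
theorem all_cen_mul (h : IId.Two (S : Subgroup G) So V₁ V₂ L₁ L₂) {M : Subgroup G} (hL₁ : L₁ ≤ M) {c d : G}
    (hc : c ∈ V₁) (hd : d ∈ V₂) (hc1 : c ≠ 1) (hu : ∀ u ∈ ZN.o2 M, c * d * u = u * (c * d)) :
    ∀ v ∈ V₁, ∀ u ∈ ZN.o2 M, v * u = u * v := by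
  obtain ⟨y, hy, hy1, hyc⟩ := TriangleQ.exists_third h.big1 c
  obtain ⟨l, hl, hly⟩ := h.t1 c hc hc1 y hy hy1
  have h1 : ∀ u ∈ ZN.o2 M, c⁻¹ * y * u = u * (c⁻¹ * y) := by
    have h2 := conj_cen (hL₁ hl) hu
    have h3 : l * (c * d) * l⁻¹ = y * d := by
      rw [← hly]
      calc l * (c * d) * l⁻¹ = l * c * l⁻¹ * (l * d * l⁻¹) := by group
        _ = l * c * l⁻¹ * d := by rw [h.L12 l hl d hd]; group
    have hcd : c⁻¹ * y * d = d * (c⁻¹ * y) := h.c12 _ (mul_mem (inv_mem hc) hy) d hd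
    have h4 : c⁻¹ * y = (c * d)⁻¹ * (l * (c * d) * l⁻¹) := by
      rw [h3]
      calc c⁻¹ * y = d⁻¹ * (d * (c⁻¹ * y)) := by group
        _ = d⁻¹ * (c⁻¹ * y * d) := by rw [hcd]
        _ = (c * d)⁻¹ * (y * d) := by group
    intro u hu'
    rw [h4]
    have h5 := hu u hu'
    have h6 : (c * d)⁻¹ * u = u * (c * d)⁻¹ := by
      calc (c * d)⁻¹ * u = (c * d)⁻¹ * (u * (c * d)) * (c * d)⁻¹ := by group
        _ = (c * d)⁻¹ * (c * d * u) * (c * d)⁻¹ := by rw [h5]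
        _ = u * (c * d)⁻¹ := by group
    calc (c * d)⁻¹ * (l * (c * d) * l⁻¹) * u = (c * d)⁻¹ * (l * (c * d) * l⁻¹ * u) := by group
      _ = (c * d)⁻¹ * u * (l * (c * d) * l⁻¹) := by rw [h2 u hu']; group
      _ = u * ((c * d)⁻¹ * (l * (c * d) * l⁻¹)) := by rw [h6]; group
  refine all_cen h hL₁ (mul_mem (inv_mem hc) hy) ?_ h1
  intro h2
  exact hyc (inv_mul_eq_one.1 h2).symm

/-- **LEMMA Z** -/
theorem lemZ (h : IId.Two (S : Subgroup G) So V₁ V₂ L₁ L₂)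
    {R₁ R₂ : Subgroup G} (hR₁ : R₁ ≤ V₁) (hR₂ : R₂ ≤ V₂)
    (hSoR₁ : So ≤ normalizer (R₁ : Set G)) (hSoR₂ : So ≤ normalizer (R₂ : Set G))
    (hSyl₁ : ∀ T : Subgroup G, IsPGroup 2 T → So ≤ T → T ≤ normalizer (R₁ : Set G) → T ≤ So)
    (hSyl₂ : ∀ T : Subgroup G, IsPGroup 2 T → So ≤ T → T ≤ normalizer (R₂ : Set G) → T ≤ So)
    {M : Subgroup G} (hSo : So ≤ M) (hL₁ : L₁ ≤ M) (hL₂ : L₂ ≤ M)
    (hM : M ⊓ centralizer (ZN.o2 M : Set G) ≤ ZN.o2 M) :
    ZN.o2 M ≤ So ∧ V₁ ≤ ZN.o2 M ⊓ centralizer (ZN.o2 M : Set G) ∧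
      V₂ ≤ ZN.o2 M ⊓ centralizer (ZN.o2 M : Set G) := by
  have hfact : Fact (Nat.Prime 2) := ⟨Nat.prime_two⟩
  set U : Subgroup G := ZN.o2 M with hU
  have hMU : M ≤ normalizer (U : Set G) := MinSimple.VModule.le_normalizer_o2 M
  have hU2 : IsPGroup 2 U := MinSimple.VModule.o2_isPGroup M
  have hSo2 : IsPGroup 2 So := S.isPGroup'.to_le h.SoS
  have hSoN₁ : So ≤ normalizer (V₁ : Set G) := Two.le_normalizer_of h.So1
  have hSoN₂ : So ≤ normalizer (V₂ : Set G) := Two.le_normalizer_of h.So2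
  have ne_bot : ∀ V : Subgroup G, 2 < Nat.card V → V ≠ ⊥ := by
    intro V hV h0
    rw [h0, card_bot] at hV
    omega
  -- it is enough to show `U ≤ So`
  suffices hUS : U ≤ So by
    obtain ⟨c, hc1, hc2, hc3⟩ := exists_mem_zc hSo2 (ne_bot V₁ h.big1) h.V1So hSoN₁
    obtain ⟨d, hd1, hd2, hd3⟩ := exists_mem_zc hSo2 (ne_bot V₂ h.big2) h.V2So hSoN₂
    have h1 := all_cen h hL₁ hc1 hc2 fun u hu => ((mem_zc.1 hc3).2.1 u (hUS hu)).symm
    have h2 := all_cen h.symm hL₂ hd1 hd2 fun u hu => ((mem_zc.1 hd3).2.1 u (hUS hu)).symm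
    have h3 : V₁ ≤ centralizer (U : Set G) := fun v hv => by
      rw [mem_centralizer_iff]
      exact fun u hu => (h1 v hv u hu).symm
    have h4 : V₂ ≤ centralizer (U : Set G) := fun v hv => by
      rw [mem_centralizer_iff]
      exact fun u hu => (h2 v hv u hu).symm
    exact ⟨hUS, fun v hv => mem_inf.2 ⟨hM (mem_inf.2 ⟨hSo (h.V1So hv), h3 hv⟩), h3 hv⟩,
      fun v hv => mem_inf.2 ⟨hM (mem_inf.2 ⟨hSo (h.V2So hv), h4 hv⟩), h4 hv⟩⟩
  by_contra hUS
  -- `W = U So` is a Sylow 2-subgroup of `G`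
  set W : Subgroup G := U ⊔ So with hW
  have hW2 : IsPGroup 2 W := hU2.to_sup_of_normal_left' hSo2 (hSo.trans hMU)
  have hSoW : So ≤ W := le_sup_right
  have hcard : Nat.card W = 2 * Nat.card So := by
    obtain ⟨Q, hQ⟩ := hW2.exists_le_sylow
    have h1 : Nat.card W ∣ 2 * Nat.card So := by
      rw [← h.card]
      have h2 : Nat.card (Q : Subgroup G) = Nat.card (S : Subgroup G) := by
        rw [Q.card_eq_multiplicity, S.card_eq_multiplicity]
      rw [← h2]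
      exact Subgroup.card_dvd_of_le hQ
    have h3 := Half.card_mul_relIndex hSoW
    rw [← h3, mul_comm 2] at h1
    have h4 : So.relIndex W ∣ 2 := Nat.dvd_of_mul_dvd_mul_left Nat.card_pos h1
    have h5 : So.relIndex W ≠ 1 := fun h5 =>
      hUS (le_sup_left.trans (relIndex_eq_one.mp h5))
    rw [← h3, ((Nat.dvd_prime Nat.prime_two).1 h4).resolve_left h5, mul_comm]
  have hWn : W ≤ normalizer (So : Set G) :=
    Two.le_normalizer_of fun k hk y hy => Two.conj_mem_of_two hSoW (Two.two_cosets hSoW hcard) hk hy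
  have hSone : So ≠ ⊥ := fun h0 => ne_bot V₁ h.big1 (le_bot_iff.1 (h.V1So.trans h0.le))
  obtain ⟨a, haSo, ha1, haW⟩ := exists_mem_zc hW2 hSone hSoW hWn
  obtain ⟨-, haW2, haq⟩ := mem_zc.1 haW
  have haz : a ∈ zc So := mem_zc.2 ⟨haSo, fun x hx => haW2 x (hSoW hx), haq⟩
  have haU : ∀ u ∈ U, a * u = u * a := fun u hu => (haW2 u (le_sup_left (a := U) hu)).symm
  obtain ⟨c, hc1, d, hd, rfl⟩ := TriangleQ.zc_prod h haz
  -- `Vᵢ` centralises `U` for some `i`: `W ≤ N_G(Rᵢ)`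
  by_cases hc0 : c = 1
  · have hd1 : d ≠ 1 := fun hd0 => ha1 (by rw [hc0, hd0, one_mul])
    have h2 := all_cen h.symm hL₂ hd.1 hd1 (fun u hu => by
      have := haU u hu
      rwa [hc0, one_mul] at this)
    have hWR : W ≤ normalizer (R₂ : Set G) := by
      refine sup_le ?_ hSoR₂
      intro u hu
      apply centralizer_le_normalizer
      rw [mem_centralizer_iff]
      exact fun v hv => h2 v (hR₂ hv) u hu
    exact hUS (le_sup_left.trans (hSyl₂ W hW2 hSoW hWR))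
  · have h2 := all_cen_mul h hL₁ hc1.1 hd.1 hc0 haU
    have hWR : W ≤ normalizer (R₁ : Set G) := by
      refine sup_le ?_ hSoR₁
      intro u hu
      apply centralizer_le_normalizer
      rw [mem_centralizer_iff]
      exact fun v hv => h2 v (hR₁ hv) u hu
    exact hUS (le_sup_left.trans (hSyl₁ W hW2 hSoW hWR))

/-- **LEMMA Z** for `M = N_G(K)` -/
theorem lemZ_normalizer (hG : IsCharacteristicTwoType G) (h : IId.Two (S : Subgroup G) So V₁ V₂ L₁ L₂)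
    {R₁ R₂ : Subgroup G} (hR₁ : R₁ ≤ V₁) (hR₂ : R₂ ≤ V₂)
    (hSoR₁ : So ≤ normalizer (R₁ : Set G)) (hSoR₂ : So ≤ normalizer (R₂ : Set G))
    (hSyl₁ : ∀ T : Subgroup G, IsPGroup 2 T → So ≤ T → T ≤ normalizer (R₁ : Set G) → T ≤ So)
    (hSyl₂ : ∀ T : Subgroup G, IsPGroup 2 T → So ≤ T → T ≤ normalizer (R₂ : Set G) → T ≤ So)
    {K : Subgroup G} (hK : IsPGroup 2 K) (hK1 : K ≠ ⊥) (hSo : So ≤ normalizer (K : Set G))
    (hL₁ : L₁ ≤ normalizer (K : Set G)) (hL₂ : L₂ ≤ normalizer (K : Set G)) :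
    ZN.o2 (normalizer (K : Set G)) ≤ So ∧
      V₁ ≤ ZN.o2 (normalizer (K : Set G)) ⊓ centralizer (ZN.o2 (normalizer (K : Set G)) : Set G) ∧
      V₂ ≤ ZN.o2 (normalizer (K : Set G)) ⊓ centralizer (ZN.o2 (normalizer (K : Set G)) : Set G) :=
  lemZ h hR₁ hR₂ hSoR₁ hSoR₂ hSyl₁ hSyl₂ hSo hL₁ hL₂ (MinSimple.Basic.char2_normalizer hG hK hK1)

end Cfsg.Agent.Omega.IId.LemZ

end
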