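import Cfsg.Agent.Mrg.Omega.Half.Basic
import Cfsg.Agent.Mrg.Omega.Exit.WeakClosed
import Mathlib

section


/-!
# II.d, the triangle (helper113 #13363, helper612 #13524), `|Z| = 2`

`S` a Sylow 2-subgroup of `G` (of characteristic 2 type), `So ≤ S` of index 2, `V₁, V₂ ≤ So` elementary
abelian, swapped by `S - So`, `Lᵢ` transitive on `Vᵢ#` and trivial on `V₃₋ᵢ` (`Two`). `|Ω₁Z(S)| = 2`,
`V₁`, `V₁^g` do not commute and meet nontrivially, `1 ≠ v ∈ C_{V₁}(So)`, and `So` is not a Sylow 2-subgroup of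
`C_G(v)`: `So ≤ T ≤ C_G(v)`, `T` a Sylow 2-subgroup of `G` (`Tri`).  Then `N_G(So)` induces `S₃` on
`Y = Ω₁Z(So)`, `⟨Y^{C_G(v)}⟩` is abelian and `⟨C_G(v), N_G(Y)⟩` is nonlocal.

* `KK u = {g ∈ C_G(u) : [O₂(C_G(u)), g] ≤ ⟨u⟩}`, `KK_conj`, `KK_le_o2`;
* `Tri.nonLocF` : LEMMA F of helper612 #13793 (nonlocality from `[V₁, K_v] ≠ 1`, any partner);
* `Tri.exists_hyp`, `Tri.exists_hypF` : there is `P ∈ P*(T)` with `NO3S.Hyp T P` and `|V_P| = 4`;
* `Tri.known`, `Tri.knownF` : `G` is known by the leaf NO-3S, `q = 2` (`Cfsg.Agent.Omega.NO3S.Two K`).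
-/

set_option autoImplicit false
set_option linter.unusedSectionVars false

namespace Cfsg.Agent.Omega.IId.Triangle

open Subgroup Cfsg Cfsg.Agent.Omega.MinPar Cfsg.Agent.Omega.Frame
open Cfsg.Agent.ZN (o2 zc zl)
open Cfsg.Agent.Omega.FrameNOFF Cfsg.Agent.Omega.NO3S Cfsg.Agent.Omega.IId.Two
open Cfsg.Agent.MinSimple.VModule
open scoped Pointwise

universe u

variable {G : Type u} [Group G]

/-! ### The groups `K_u` -/

section kk

/-- `K_u = {g ∈ C_G(u) : [O₂(C_G(u)), g] ≤ ⟨u⟩}`. -/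
def KK (u : G) : Subgroup G where
  carrier := {g | g * u = u * g ∧
    ∀ x ∈ ZN.o2 (centralizer ({u} : Set G)), g * x * g⁻¹ * x⁻¹ ∈ zpowers u}
  one_mem' := ⟨by simp, fun x _ => by simp⟩
  mul_mem' := by
    rintro g k ⟨hg, hg2⟩ ⟨hk, hk2⟩
    refine ⟨by rw [mul_assoc, hk, ← mul_assoc, hg, mul_assoc], fun x hx => ?_⟩
    have h1 : ∀ y ∈ zpowers u, g * y * g⁻¹ = y := by
      rintro _ ⟨n, rfl⟩
      exact mul_inv_eq_iff_eq_mul.2 ((show Commute g u from hg).zpow_right n).eq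
    have e : g * k * x * (g * k)⁻¹ * x⁻¹ =
        (g * (k * x * k⁻¹ * x⁻¹) * g⁻¹) * (g * x * g⁻¹ * x⁻¹) := by group
    rw [e, h1 _ (hk2 x hx)]
    exact mul_mem (hk2 x hx) (hg2 x hx)
  inv_mem' := by
    rintro g ⟨hg, hg2⟩
    have hg' : g⁻¹ * u = u * g⁻¹ := ((show Commute g u from hg).inv_left).eq
    refine ⟨hg', fun x hx => ?_⟩
    have h1 : ∀ y ∈ zpowers u, g⁻¹ * y * g = y := by
      rintro _ ⟨n, rfl⟩
      have h2 := ((show Commute g⁻¹ u from hg').zpow_right n).eq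
      calc g⁻¹ * u ^ n * g = u ^ n * g⁻¹ * g := by rw [h2]
        _ = u ^ n := by group
    have e : g⁻¹ * x * g⁻¹⁻¹ * x⁻¹ = g⁻¹ * (g * x * g⁻¹ * x⁻¹)⁻¹ * g := by group
    rw [e, h1 _ (inv_mem (hg2 x hx))]
    exact inv_mem (hg2 x hx)

theorem mem_KK {u g : G} : g ∈ KK u ↔ g * u = u * g ∧
    ∀ x ∈ ZN.o2 (centralizer ({u} : Set G)), g * x * g⁻¹ * x⁻¹ ∈ zpowers u := Iff.rfl

theorem mem_zpowers_iff_of_sq {u x : G} (hu : u * u = 1) :
    x ∈ zpowers u ↔ x = 1 ∨ x = u := by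
  constructor
  · rintro ⟨n, rfl⟩
    rcases Int.even_or_odd n with ⟨k, rfl⟩ | ⟨k, rfl⟩
    · left
      show u ^ (k + k) = 1
      rw [← two_mul, zpow_mul, zpow_ofNat, pow_two, hu, one_zpow]
    · right
      show u ^ (2 * k + 1) = u
      rw [zpow_add, zpow_mul, zpow_ofNat, pow_two, hu, one_zpow, one_mul, zpow_one]
  · rintro (rfl | rfl)
    · exact one_mem _
    · exact mem_zpowers _

theorem mem_cent {u x : G} : x ∈ centralizer ({u} : Set G) ↔ x * u = u * x := by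
  rw [mem_centralizer_iff]
  constructor
  · intro h
    exact (h u rfl).symm
  · rintro h y rfl
    exact h.symm

theorem cent_conj (h u : G) : centralizer ({h * u * h⁻¹} : Set G) =
    (centralizer ({u} : Set G)).map (MulAut.conj h).toMonoidHom := by
  ext x
  rw [mem_cent]
  constructor
  · intro hx
    refine ⟨h⁻¹ * x * h, mem_cent.2 ?_, by simp [mul_assoc]⟩
    calc h⁻¹ * x * h * u = h⁻¹ * (x * (h * u * h⁻¹)) * h := by group
      _ = u * (h⁻¹ * x * h) := by rw [hx]; group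
  · rintro ⟨y, hy, rfl⟩
    have hy' := mem_cent.1 hy
    show h * y * h⁻¹ * (h * u * h⁻¹) = h * u * h⁻¹ * (h * y * h⁻¹)
    calc h * y * h⁻¹ * (h * u * h⁻¹) = h * (y * u) * h⁻¹ := by group
      _ = h * u * h⁻¹ * (h * y * h⁻¹) := by rw [hy']; group

theorem o2_cent_conj (h u : G) : ZN.o2 (centralizer ({h * u * h⁻¹} : Set G)) =
    (ZN.o2 (centralizer ({u} : Set G))).map (MulAut.conj h).toMonoidHom := by
  rw [cent_conj]
  exact o2_map_equiv (MulAut.conj h) _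

theorem KK_conj {h u k : G} (hk : k ∈ KK u) : h * k * h⁻¹ ∈ KK (h * u * h⁻¹) := by
  obtain ⟨h1, h2⟩ := hk
  refine ⟨?_, ?_⟩
  · calc h * k * h⁻¹ * (h * u * h⁻¹) = h * (k * u) * h⁻¹ := by group
      _ = h * u * h⁻¹ * (h * k * h⁻¹) := by rw [h1]; group
  · intro x hx
    rw [o2_cent_conj] at hx
    obtain ⟨y, hy, rfl⟩ := hx
    obtain ⟨n, hn⟩ := h2 y hy
    refine ⟨n, ?_⟩
    show (h * u * h⁻¹) ^ n = h * k * h⁻¹ * (h * y * h⁻¹) * (h * k * h⁻¹)⁻¹ * (h * y * h⁻¹)⁻¹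
    have hn' : u ^ n = k * y * k⁻¹ * y⁻¹ := hn
    rw [conj_zpow, hn']
    group

theorem isPGroup_two_of' {K : Subgroup G} [Finite K]
    (h : ∀ k ∈ K, ∀ n : ℕ, Odd n → k ^ n = 1 → k = 1) : IsPGroup 2 K := by
  rcases Nat.eq_two_pow_or_exists_odd_prime_and_dvd (Nat.card K) with ⟨m, hm⟩ | ⟨p, hp, hdvd, hodd⟩
  · exact IsPGroup.of_card hm
  · exfalso
    have : Fact p.Prime := ⟨hp⟩
    obtain ⟨x, hx⟩ := exists_prime_orderOf_dvd_card' p hdvd
    have h1 := h x x.2 p hodd (by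
      have h2 := pow_orderOf_eq_one x
      rw [hx] at h2
      have h3 := congrArg Subtype.val h2
      simpa using h3)
    have h2 : x = 1 := Subtype.ext h1
    rw [h2, orderOf_one] at hx
    exact hp.one_lt.ne hx

/-- `K_u ≤ O₂(C_G(u))` if `C_G(u)` has characteristic 2. -/
theorem KK_le_o2 [Finite G] {u : G} (hu : u * u = 1)
    (hc : centralizer ({u} : Set G) ⊓ centralizer (ZN.o2 (centralizer ({u} : Set G)) : Set G) ≤
      ZN.o2 (centralizer ({u} : Set G))) : KK u ≤ ZN.o2 (centralizer ({u} : Set G)) := by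
  apply le_o2 (show KK u ≤ centralizer ({u} : Set G) from fun g hg => mem_cent.2 (mem_KK.1 hg).1)
  · apply isPGroup_two_of'
    rintro k ⟨hk1, hk2⟩ n hn hkn
    have hcen : ∀ x ∈ ZN.o2 (centralizer ({u} : Set G)), k * x * k⁻¹ = x := by
      intro x hx
      rcases (mem_zpowers_iff_of_sq hu).1 (hk2 x hx) with h1 | h1
      · exact mul_inv_eq_one.1 h1
      · -- `k x k⁻¹ = u x`
        have h2 : k * x * k⁻¹ = u * x := mul_inv_eq_iff_eq_mul.1 h1
        have h3 : ∀ j : ℕ, k ^ j * x * (k ^ j)⁻¹ = u ^ j * x := by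
          intro j
          induction j with
          | zero => simp
          | succ j ih =>
            have h4 : k * u ^ j = u ^ j * k := (show Commute k u from hk1).pow_right j
            calc k ^ (j + 1) * x * (k ^ (j + 1))⁻¹ = k * (k ^ j * x * (k ^ j)⁻¹) * k⁻¹ := by
                  rw [pow_succ' k j]; group
              _ = (k * u ^ j) * x * k⁻¹ := by rw [ih]; group
              _ = u ^ j * (k * x * k⁻¹) := by rw [h4]; group
              _ = u ^ (j + 1) * x := by rw [h2, pow_succ]; group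
        have h4 := h3 n
        rw [hkn] at h4
        have h5 : x = u ^ n * x := by simpa using h4
        obtain ⟨m, rfl⟩ := hn
        have h6 : u ^ (2 * m + 1) = u := by
          rw [pow_add, pow_mul, pow_two, hu, one_pow, one_mul, pow_one]
        rw [h6] at h5
        rw [h2, ← h5]
    have hkQ : k ∈ ZN.o2 (centralizer ({u} : Set G)) :=
      hc ⟨mem_cent.2 hk1, mem_centralizer_iff.2 fun y hy =>
        (mul_inv_eq_iff_eq_mul.1 (hcen y hy)).symm⟩
    obtain ⟨m, hm⟩ := o2_isPGroup (centralizer ({u} : Set G)) ⟨k, hkQ⟩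
    have hm' : k ^ 2 ^ m = 1 := by simpa using congrArg Subtype.val hm
    have h3 : orderOf k ∣ n := orderOf_dvd_of_pow_eq_one hkn
    have h4 : orderOf k ∣ 2 ^ m := orderOf_dvd_of_pow_eq_one hm'
    have h5 : Nat.Coprime n (2 ^ m) := (Nat.Coprime.pow_right m (Nat.coprime_two_right.2 hn))
    exact orderOf_eq_one_iff.1 (Nat.dvd_one.1 (h5 ▸ Nat.dvd_gcd h3 h4))
  · apply le_normalizer_of
    intro c hcu k hk
    have h1 := KK_conj (h := c) hk
    have h2 : c * u * c⁻¹ = u := mul_inv_eq_iff_eq_mul.2 (mem_cent.1 hcu)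
    rwa [h2] at h1

/-- The computation of LEMMA F: `[x, y]` acts as the transvection with the functional of `y` and the centre
of `x`. -/
theorem comm_claim {A : Subgroup G} (hA : ∀ a ∈ A, ∀ b ∈ A, a * b = b * a) {v w x y : G}
    (hv : v ∈ A) (hw : w ∈ A) (hv1 : v ≠ 1) (hv2 : v * v = 1) (hw2 : w * w = 1)
    (hxv : x * v = v * x) (hyw : y * w = w * y) (hyv : y * v = v * y)
    (hxA : ∀ a ∈ A, x * a * x⁻¹ = a ∨ x * a * x⁻¹ = a * v)
    (hyA : ∀ a ∈ A, y * a * y⁻¹ = a ∨ y * a * y⁻¹ = a * w) (hxw : x * w ≠ w * x)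
    {a : G} (ha : a ∈ A) :
    x * y * x⁻¹ * y⁻¹ * a = a * (x * y * x⁻¹ * y⁻¹) ↔ y * a = a * y := by
  have cx : ∀ p q : G, x * (p * q) * x⁻¹ = (x * p * x⁻¹) * (x * q * x⁻¹) := fun p q => by group
  have cy : ∀ p q : G, y * (p * q) * y⁻¹ = (y * p * y⁻¹) * (y * q * y⁻¹) := fun p q => by group
  have xv : x * v * x⁻¹ = v := mul_inv_eq_iff_eq_mul.2 hxv
  have yv : y * v * y⁻¹ = v := mul_inv_eq_iff_eq_mul.2 hyv
  have yw : y * w * y⁻¹ = w := mul_inv_eq_iff_eq_mul.2 hyw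
  have xw : x * w * x⁻¹ = w * v := (hxA w hw).resolve_left fun h => hxw (mul_inv_eq_iff_eq_mul.1 h)
  have hw1 : w ≠ 1 := by
    rintro rfl
    exact hxw (by simp)
  have hvw := hA v hv w hw
  have hav := hA a ha v hv
  have haw := hA a ha w hw
  -- `y a y⁻¹ = b` determines `y⁻¹ a y`, and the same for `x`
  have inv_of : ∀ g p q : G, g * p * g⁻¹ = q → g⁻¹ * q * g = p := by
    intro g p q h
    rw [← h]; group
  have hc : ∀ d e f : G, y⁻¹ * a * y = d → x⁻¹ * d * x = e → y * e * y⁻¹ = f →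
      x * y * x⁻¹ * y⁻¹ * a * (x * y * x⁻¹ * y⁻¹)⁻¹ = x * f * x⁻¹ := by
    rintro d e f rfl rfl rfl
    group
  rcases hyA a ha with h1 | h1
  · refine iff_of_true ?_ (mul_inv_eq_iff_eq_mul.1 h1)
    have h2 : y⁻¹ * a * y = a := inv_of y a a h1
    rw [← mul_inv_eq_iff_eq_mul]
    rcases hxA a ha with h3 | h3
    · rw [hc a a a h2 (inv_of x a a h3) h1, h3]
    · have h4 : x * (a * v) * x⁻¹ = a := by rw [cx, h3, xv, mul_assoc, hv2, mul_one]
      have h5 : y * (a * v) * y⁻¹ = a * v := by rw [cy, h1, yv]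
      rw [hc a (a * v) (a * v) h2 (inv_of x _ _ h4) h5, h4]
  · refine iff_of_false ?_ ?_
    · have h2 : y * (a * w) * y⁻¹ = a := by rw [cy, h1, yw, mul_assoc, hw2, mul_one]
      have h2' := inv_of y _ _ h2
      rw [← mul_inv_eq_iff_eq_mul]
      rcases hxA a ha with h3 | h3
      · have h4 : x * (a * w * v) * x⁻¹ = a * w := by
          rw [cx, cx, h3, xw, xv]
          calc a * (w * v) * v = a * w * (v * v) := by group
            _ = a * w := by rw [hv2, mul_one]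
        have h5 : y * (a * w * v) * y⁻¹ = a * v := by
          rw [cy, cy, h1, yw, yv]
          calc a * w * w * v = a * (w * w) * v := by group
            _ = a * v := by rw [hw2, mul_one]
        rw [hc _ _ _ h2' (inv_of x _ _ h4) h5, cx, h3, xv]
        intro h6
        exact hv1 (mul_eq_left.1 h6)
      · have h4 : x * (a * w) * x⁻¹ = a * w := by
          rw [cx, h3, xw]
          calc a * v * (w * v) = a * (v * w) * v := by group
            _ = a * w * (v * v) := by rw [hvw]; group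
            _ = a * w := by rw [hv2, mul_one]
        rw [hc _ _ _ h2' (inv_of x _ _ h4) h2, h3]
        intro h6
        exact hv1 (mul_eq_left.1 h6)
    · intro h2
      apply hw1
      have h3 : y * a * y⁻¹ = a := mul_inv_eq_iff_eq_mul.2 h2
      rw [h3] at h1
      exact mul_eq_left.1 h1.symm

end kk

/-- The triangle: `So` is not a Sylow 2-subgroup of `C_G(v)`. -/
structure Tri [Finite G] (S T : Sylow 2 G) (So V₁ V₂ L₁ L₂ : Subgroup G) (s v : G) : Prop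
    extends IId.Two (S : Subgroup G) So V₁ V₂ L₁ L₂ where
  zcS : Nat.card (zc (S : Subgroup G)) = 2
  sS : s ∈ (S : Subgroup G)
  sSo : s ∉ So
  vV : v ∈ V₁
  v1 : v ≠ 1
  vSo : ∀ x ∈ So, x * v = v * x
  SoT : So ≤ (T : Subgroup G)
  Tv : ∀ x ∈ (T : Subgroup G), x * v = v * x

namespace Tri

variable [Finite G] {S T : Sylow 2 G} {So V₁ V₂ L₁ L₂ : Subgroup G} {s v : G}
  (h : Tri S T So V₁ V₂ L₁ L₂ s v)

include h

theorem two : ∀ a ∈ (S : Subgroup G), ∀ b ∈ (S : Subgroup G), a ∉ So → b ∉ So → a⁻¹ * b ∈ So :=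
  two_cosets h.SoS h.card

theorem card_T : Nat.card (T : Subgroup G) = Nat.card (S : Subgroup G) := by
  have : Fact (Nat.Prime 2) := ⟨Nat.prime_two⟩
  rw [T.card_eq_multiplicity, S.card_eq_multiplicity]

theorem twoT : ∀ a ∈ (T : Subgroup G), ∀ b ∈ (T : Subgroup G), a ∉ So → b ∉ So → a⁻¹ * b ∈ So :=
  two_cosets h.SoT (h.card_T.trans h.card)

theorem ss : s * s ∈ So := by
  have h1 := h.two s⁻¹ (inv_mem h.sS) s h.sS (fun h1 => h.sSo (inv_mem_iff.1 h1)) h.sSo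
  rwa [inv_inv] at h1

theorem conjS {x : G} (hx : x ∈ So) : s * x * s⁻¹ ∈ So := conj_mem_of_two h.SoS h.two h.sS hx

theorem conjS' {x : G} (hx : x ∈ So) : s⁻¹ * x * s ∈ So := by
  have h1 := conj_mem_of_two h.SoS h.two (inv_mem h.sS) hx
  rwa [inv_inv] at h1

theorem wV : s * v * s⁻¹ ∈ V₂ := h.sw1 s h.sS h.sSo v h.vV

theorem w1 : s * v * s⁻¹ ≠ 1 := by
  intro h1
  apply h.v1
  have h2 : v = s⁻¹ * (s * v * s⁻¹) * s := by group
  rw [h2, h1]; group

theorem wSo {x : G} (hx : x ∈ So) : x * (s * v * s⁻¹) = s * v * s⁻¹ * x := by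
  have h1 := h.vSo _ (h.conjS' hx)
  calc x * (s * v * s⁻¹) = s * (s⁻¹ * x * s * v) * s⁻¹ := by group
    _ = s * (v * (s⁻¹ * x * s)) * s⁻¹ := by rw [h1]
    _ = s * v * s⁻¹ * x := by group

theorem v_zc : v ∈ zc So := mem_zc.2 ⟨h.V1So h.vV, h.vSo, h.q1 v h.vV⟩

theorem w_zc : s * v * s⁻¹ ∈ zc So := mem_zc.2 ⟨h.V2So h.wV, fun _ hy => h.wSo hy, h.q2 _ h.wV⟩

theorem sws : s * (s * v * s⁻¹) * s⁻¹ = v := by
  have h1 := h.vSo _ h.ss
  calc s * (s * v * s⁻¹) * s⁻¹ = s * s * v * (s * s)⁻¹ := by group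
    _ = v := by rw [h1]; group

theorem vw : v ≠ s * v * s⁻¹ := by
  intro h1
  apply h.v1
  apply h.inf v h.vV
  rw [h1]
  exact h.wV

theorem vv : v * v = 1 := by rw [← pow_two]; exact h.q1 v h.vV

theorem ww : s * v * s⁻¹ * (s * v * s⁻¹) = 1 := by rw [← pow_two]; exact h.q2 _ h.wV

theorem vwc : v * (s * v * s⁻¹) = s * v * s⁻¹ * v := h.c12 v h.vV _ h.wV

theorem zne : v * (s * v * s⁻¹) ≠ 1 := by
  intro h1
  apply h.vw
  exact mul_right_cancel (h1.trans h.ww.symm)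

theorem zS : v * (s * v * s⁻¹) ∈ zc (S : Subgroup G) := by
  refine mem_zc.2 ⟨mul_mem (h.SoS (h.V1So h.vV)) (h.SoS (h.V2So h.wV)), ?_, ?_⟩
  · have key : ∀ y ∈ So, y * (v * (s * v * s⁻¹)) = v * (s * v * s⁻¹) * y := by
      intro y hy
      calc y * (v * (s * v * s⁻¹)) = (y * v) * (s * v * s⁻¹) := by group
        _ = v * (y * (s * v * s⁻¹)) := by rw [h.vSo y hy]; group
        _ = v * (s * v * s⁻¹) * y := by rw [h.wSo hy]; group
    have ks : s * (v * (s * v * s⁻¹)) = v * (s * v * s⁻¹) * s := by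
      calc s * (v * (s * v * s⁻¹)) = (s * v * s⁻¹) * (s * (s * v * s⁻¹) * s⁻¹) * s := by group
        _ = v * (s * v * s⁻¹) * s := by rw [h.sws, h.vwc]
    intro y hy
    by_cases hyS : y ∈ So
    · exact key y hyS
    · have h1 := key _ (h.two s h.sS y hy h.sSo hyS)
      calc y * (v * (s * v * s⁻¹)) = s * (s⁻¹ * y * (v * (s * v * s⁻¹))) := by group
        _ = s * (v * (s * v * s⁻¹)) * (s⁻¹ * y) := by rw [h1]; group
        _ = v * (s * v * s⁻¹) * y := by rw [ks]; group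
  · rw [pow_two]
    calc v * (s * v * s⁻¹) * (v * (s * v * s⁻¹)) = v * ((s * v * s⁻¹) * v) * (s * v * s⁻¹) := by group
      _ = (v * v) * ((s * v * s⁻¹) * (s * v * s⁻¹)) := by rw [← h.vwc]; group
      _ = 1 := by rw [h.vv, h.ww, one_mul]

theorem zcS_cases {x : G} (hx : x ∈ zc (S : Subgroup G)) : x = 1 ∨ x = v * (s * v * s⁻¹) :=
  eq_or_eq_of_card_two h.zcS h.zS h.zne hx

/-- (1) `Ω₁Z(So)` is a four-group. -/
theorem zcSo_cases {x : G} (hx : x ∈ zc So) :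
    x = 1 ∨ x = v ∨ x = s * v * s⁻¹ ∨ x = v * (s * v * s⁻¹) := by
  -- the elements fixed by `s`
  have key : ∀ y ∈ zc So, s * y * s⁻¹ = y → y = 1 ∨ y = v * (s * v * s⁻¹) := by
    intro y hy hys
    obtain ⟨hy1, hy2, hy3⟩ := mem_zc.1 hy
    apply h.zcS_cases
    refine mem_zc.2 ⟨h.SoS hy1, ?_, hy3⟩
    intro a ha
    by_cases haS : a ∈ So
    · exact hy2 a haS
    · have h1 := hy2 _ (h.two s h.sS a ha h.sSo haS)
      have h2 : s * y = y * s := mul_inv_eq_iff_eq_mul.1 hys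
      calc a * y = s * (s⁻¹ * a * y) := by group
        _ = (s * y) * (s⁻¹ * a) := by rw [h1]; group
        _ = y * a := by rw [h2]; group
  have hs : ∀ y ∈ zc So, s * y * s⁻¹ ∈ zc So := by
    intro y hy
    have h1 : s ∈ normalizer (So : Set G) := by
      rw [mem_normalizer_iff]
      intro a
      refine ⟨fun ha => h.conjS ha, fun ha => ?_⟩
      have h2 := h.conjS' ha
      have h3 : s⁻¹ * (s * a * s⁻¹) * s = a := by group
      rwa [h3] at h2
    exact (mem_normalizer_iff.1 (normalizer_le_normalizer_zc _ h1) y).1 hy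
  have hcc := zc_comm So
  have hsq : ∀ y ∈ zc So, y * y = 1 := fun y hy => by rw [← pow_two]; exact zc_sq _ y hy
  have hN : ∀ y ∈ zc So, y * (s * y * s⁻¹) = 1 ∨ y * (s * y * s⁻¹) = v * (s * v * s⁻¹) := by
    intro y hy
    apply key _ (mul_mem hy (hs y hy))
    have h1 : s * s * y = y * (s * s) := (mem_zc.1 hy).2.1 _ h.ss
    calc s * (y * (s * y * s⁻¹)) * s⁻¹ = (s * y * s⁻¹) * (s * s * y * (s * s)⁻¹) := by group
      _ = (s * y * s⁻¹) * y := by rw [h1]; group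
      _ = y * (s * y * s⁻¹) := (hcc _ hy _ (hs y hy)).symm
  have hfix : ∀ y ∈ zc So, y * (s * y * s⁻¹) = 1 → y = 1 ∨ y = v * (s * v * s⁻¹) := by
    intro y hy h1
    apply key y hy
    have h2 := hsq y hy
    rw [← h2] at h1
    exact mul_left_cancel h1
  rcases hN x hx with h1 | h1
  · rcases hfix x hx h1 with h2 | h2
    · exact Or.inl h2
    · exact Or.inr (Or.inr (Or.inr h2))
  · have hxv : x * v ∈ zc So := mul_mem hx h.v_zc
    have h2 : x * v * (s * (x * v) * s⁻¹) = 1 := by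
      calc x * v * (s * (x * v) * s⁻¹) = x * (v * (s * x * s⁻¹)) * (s * v * s⁻¹) := by group
        _ = x * (s * x * s⁻¹) * (v * (s * v * s⁻¹)) := by
            rw [hcc v h.v_zc _ (hs x hx)]; group
        _ = v * (s * v * s⁻¹) * (v * (s * v * s⁻¹)) := by rw [h1]
        _ = 1 := by rw [← pow_two]; exact zc_sq _ _ h.zS
    have hxx : x = x * v * v := by rw [mul_assoc, h.vv, mul_one]
    rcases hfix _ hxv h2 with h3 | h3
    · right; left
      rw [hxx, h3, one_mul]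
    · right; right; left
      rw [hxx, h3, h.vwc, mul_assoc, h.vv, mul_one]

/-! ### The Sylow subgroup `T` -/

theorem zcT_card : Nat.card (zc (T : Subgroup G)) = 2 :=
  (Half.card_zc_of_card_eq S T.isPGroup' h.card_T).trans h.zcS

theorem vT : v ∈ zc (T : Subgroup G) := mem_zc.2 ⟨h.SoT (h.V1So h.vV), h.Tv, h.q1 v h.vV⟩

theorem zcT_cases {x : G} (hx : x ∈ zc (T : Subgroup G)) : x = 1 ∨ x = v :=
  eq_or_eq_of_card_two h.zcT_card h.vT h.v1 hx

theorem mem_CZ {x : G} : x ∈ CZ (T : Subgroup G) ↔ x * v = v * x := by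
  rw [mem_centralizer_iff]
  constructor
  · intro h1
    exact (h1 v h.vT).symm
  · intro h1 y hy
    rcases h.zcT_cases hy with rfl | rfl
    · rw [one_mul, mul_one]
    · exact h1.symm

theorem exists_t : ∃ t ∈ (T : Subgroup G), t ∉ So := exists_not_mem h.SoT (h.card_T.trans h.card)

theorem T_zc {t x : G} (ht : t ∈ (T : Subgroup G)) (hx : x ∈ zc So) : t * x * t⁻¹ ∈ zc So := by
  have h1 : (T : Subgroup G) ≤ normalizer (So : Set G) :=
    le_normalizer_of fun k hk y hy => conj_mem_of_two h.SoT h.twoT hk hy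
  exact (mem_normalizer_iff.1 (normalizer_le_normalizer_zc _ (h1 ht)) x).1 hx

/-- `t ∈ T - So` moves `v₂` to `v₁v₂`. -/
theorem t_w {t : G} (ht : t ∈ (T : Subgroup G)) (htS : t ∉ So) :
    t * (s * v * s⁻¹) * t⁻¹ = v * (s * v * s⁻¹) := by
  have htv : t * v * t⁻¹ = v := by rw [h.Tv t ht]; group
  rcases h.zcSo_cases (h.T_zc ht h.w_zc) with h1 | h1 | h1 | h1
  · exfalso
    apply h.w1
    have h2 : s * v * s⁻¹ = t⁻¹ * (t * (s * v * s⁻¹) * t⁻¹) * t := by group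
    rw [h2, h1]; group
  · exfalso
    apply h.vw
    have h2 : t * (s * v * s⁻¹) = t * v := mul_right_cancel (h1.trans htv.symm)
    exact (mul_left_cancel h2).symm
  · exfalso
    have h2 : s * v * s⁻¹ ∈ zc (T : Subgroup G) := by
      refine mem_zc.2 ⟨h.SoT (h.V2So h.wV), ?_, h.q2 _ h.wV⟩
      intro y hy
      by_cases hyS : y ∈ So
      · exact h.wSo hyS
      · have h3 := h.wSo (h.twoT t ht y hy htS hyS)
        have h4 : t * (s * v * s⁻¹) = s * v * s⁻¹ * t := mul_inv_eq_iff_eq_mul.1 h1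
        calc y * (s * v * s⁻¹) = t * (t⁻¹ * y * (s * v * s⁻¹)) := by group
          _ = t * (s * v * s⁻¹) * (t⁻¹ * y) := by rw [h3]; group
          _ = s * v * s⁻¹ * y := by rw [h4]; group
    rcases h.zcT_cases h2 with h3 | h3
    · exact h.w1 h3
    · exact h.vw h3.symm
  · exact h1

variable (hG : IsCharacteristicTwoType G)

omit h in
theorem _root_.Cfsg.Agent.Omega.IId.Triangle.sylow_ne_bot_of {T : Sylow 2 G} {v : G}
    (hv : v ∈ (T : Subgroup G)) (hv1 : v ≠ 1) : (T : Subgroup G) ≠ ⊥ := by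
  intro h0
  rw [h0, mem_bot] at hv
  exact hv1 hv

theorem T_ne : (T : Subgroup G) ≠ ⊥ := sylow_ne_bot_of (h.SoT (h.V1So h.vV)) h.v1

include hG

theorem char2 : CZ (T : Subgroup G) ⊓ centralizer (ZN.o2 (CZ (T : Subgroup G)) : Set G) ≤
    ZN.o2 (CZ (T : Subgroup G)) :=
  (isLoc_centralizer_zc T h.T_ne).char2 T hG

theorem half' : V₂ ≤ ZN.o2 (CZ (T : Subgroup G)) ∧
    ZN.o2 (CZ (T : Subgroup G)) ≤ centralizer (V₂ : Set G) :=
  h.toTwo.half h.vV h.v1 (fun _ hx => h.mem_CZ.1 hx) (h.char2 hG)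
    (h.SoT.trans (le_centralizer_zc _)) (fun l hl => h.mem_CZ.2 (h.L21 l hl v h.vV))

/-- `O₂(C_G(v)) ≤ So`. -/
theorem o2_le_So : ZN.o2 (CZ (T : Subgroup G)) ≤ So := by
  intro x hx
  by_contra hxS
  have hxT : x ∈ (T : Subgroup G) :=
    le_of_le_normalizer T (o2_isPGroup _) ((le_centralizer_zc _).trans (le_normalizer_o2 _)) hx
  have h1 := h.t_w hxT hxS
  have h2 := mem_centralizer_iff.1 ((h.half' hG).2 hx) _ h.wV
  rw [← h2, mul_inv_cancel_right] at h1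
  exact h.v1 (mul_eq_right.1 h1.symm)

/-- `Y = Ω₁Z(So) ≤ Ω₁Z(O₂(C_G(v)))`. -/
theorem zc_le_zc : zc So ≤ zc (ZN.o2 (CZ (T : Subgroup G))) := by
  intro x hx
  obtain ⟨h1, h2, h3⟩ := mem_zc.1 hx
  have h4 : ∀ y ∈ ZN.o2 (CZ (T : Subgroup G)), y * x = x * y := fun y hy => h2 y (h.o2_le_So hG hy)
  refine mem_zc.2 ⟨?_, h4, h3⟩
  apply h.char2 hG
  refine ⟨h.mem_CZ.2 (zc_comm _ x hx v h.v_zc), mem_centralizer_iff.2 h4⟩

theorem exists_P : ∃ P : Subgroup G, IsParS (T : Subgroup G) P ∧ P ≤ normalizer (zc So : Set G) := by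
  have hT : (T : Subgroup G) ≤ normalizer (zc So : Set G) :=
    le_normalizer_of fun k hk y hy => h.T_zc hk hy
  have hzp : IsPGroup 2 (zc So) := (T.isPGroup'.to_le h.SoT).to_le (zc_le _)
  have hz1 : zc So ≠ ⊥ := by
    intro h0
    have h1 := h.v_zc
    rw [h0, mem_bot] at h1
    exact h.v1 h1
  have hloc : IsLoc (T : Subgroup G) (normalizer (zc So : Set G)) :=
    isLoc_normalizer T hzp hz1 hT
  have hs : s ∈ normalizer (zc So : Set G) := by
    have h1 : s ∈ normalizer (So : Set G) := by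
      rw [mem_normalizer_iff]
      intro a
      refine ⟨fun ha => h.conjS ha, fun ha => ?_⟩
      have h2 := h.conjS' ha
      have h3 : s⁻¹ * (s * a * s⁻¹) * s = a := by group
      rwa [h3] at h2
    exact normalizer_le_normalizer_zc _ h1
  have hnot : ¬ normalizer (zc So : Set G) ≤ normalizer (zc (T : Subgroup G) : Set G) := by
    intro h1
    have h2 := (mem_normalizer_iff.1 (h1 hs) v).1 h.vT
    rcases h.zcT_cases h2 with h3 | h3
    · exact h.w1 h3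
    · exact h.vw h3.symm
  obtain ⟨P, hP, hPL, hPn⟩ := hloc.exists_not_le T
    (inf_le_right.trans (normalizer_le_normalizer_zc _)) hnot
  exact ⟨P, ⟨hP, hPn⟩, hPL⟩

section par

variable {P : Subgroup G} (hP : IsParS (T : Subgroup G) P) (hPY : P ≤ normalizer (zc So : Set G))

include hP hPY

omit hG in
theorem exists_p : ∃ p ∈ P, p * v * p⁻¹ = s * v * s⁻¹ := by
  obtain ⟨p, hp, hpv⟩ : ∃ p ∈ P, p * v * p⁻¹ ≠ v := by
    by_contra hcon
    push Not at hcon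
    apply hP.not_zc
    apply le_normalizer_of
    intro k hk x hx
    rcases h.zcT_cases hx with rfl | rfl
    · rw [mul_one, mul_inv_cancel]; exact one_mem _
    · rw [hcon k hk]; exact hx
  have h1 := (mem_normalizer_iff.1 (hPY hp) v).1 h.v_zc
  rcases h.zcSo_cases h1 with h2 | h2 | h2 | h2
  · exfalso
    apply h.v1
    have h3 : v = p⁻¹ * (p * v * p⁻¹) * p := by group
    rw [h3, h2]; group
  · exact absurd h2 hpv
  · exact ⟨p, hp, h2⟩
  · obtain ⟨t, ht, htS⟩ := h.exists_t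
    refine ⟨t⁻¹ * p, mul_mem (inv_mem (hP.isLoc.le ht)) hp, ?_⟩
    have h3 := h.t_w ht htS
    rw [← h2] at h3
    have h4 : s * v * s⁻¹ = t⁻¹ * (p * v * p⁻¹) * t := by rw [← h3]; group
    rw [h4]; group

omit hG in
theorem zl_eq : zl (T : Subgroup G) P = zc So := by
  apply le_antisymm
  · apply zl_le _ hPY
    intro x hx
    rcases h.zcT_cases hx with rfl | rfl
    · exact one_mem _
    · exact h.v_zc
  · obtain ⟨p, hp, hpv⟩ := h.exists_p hP hPY
    have hv : v ∈ zl (T : Subgroup G) P := zc_le_zl _ _ h.vT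
    have hw : s * v * s⁻¹ ∈ zl (T : Subgroup G) P := by
      rw [← hpv]
      exact (mem_normalizer_iff.1 (le_normalizer_zl _ _ hp) v).1 hv
    intro x hx
    rcases h.zcSo_cases hx with rfl | rfl | rfl | rfl
    · exact one_mem _
    · exact hv
    · exact hw
    · exact mul_mem hv hw

omit hP hPY hG in
theorem card_zcSo : Nat.card (zc So) = 4 := by
  classical
  have h1 : (zc So : Set G) = (({1, v, s * v * s⁻¹, v * (s * v * s⁻¹)} : Finset G) : Set G) := by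
    ext x
    rw [SetLike.mem_coe, Finset.mem_coe, Finset.mem_insert, Finset.mem_insert, Finset.mem_insert,
      Finset.mem_singleton]
    constructor
    · exact fun hx => h.zcSo_cases hx
    · rintro (rfl | rfl | rfl | rfl)
      · exact one_mem _
      · exact h.v_zc
      · exact h.w_zc
      · exact mul_mem h.v_zc h.w_zc
  have h2 : Nat.card (zc So) = (zc So : Set G).ncard := Nat.card_coe_set_eq _
  rw [h2, h1, Set.ncard_coe_finset, Finset.card_insert_of_notMem, Finset.card_insert_of_notMem,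
    Finset.card_insert_of_notMem, Finset.card_singleton]
  · rw [Finset.mem_singleton]
    intro h3
    exact h.v1 (mul_eq_right.1 h3.symm)
  · rw [Finset.mem_insert, Finset.mem_singleton]
    rintro (h3 | h3)
    · exact h.vw h3
    · exact h.w1 (mul_eq_left.1 h3.symm)
  · rw [Finset.mem_insert, Finset.mem_insert, Finset.mem_singleton]
    rintro (h3 | h3 | h3)
    · exact h.v1 h3.symm
    · exact h.w1 h3.symm
    · exact h.zne h3.symm

/-- `W = ⟨Y^C⟩` is abelian. -/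
theorem WW_comm : WW (T : Subgroup G) P ≤ centralizer (WW (T : Subgroup G) P : Set G) := by
  have h1 : WW (T : Subgroup G) P ≤ zc (ZN.o2 (CZ (T : Subgroup G))) := by
    refine NoFF.Lines.W_le fun Q hQ c hc => ?_
    rw [Set.mem_singleton_iff.1 hQ]
    have h2 : zl (T : Subgroup G) P ≤ zc (ZN.o2 (CZ (T : Subgroup G))) := by
      rw [h.zl_eq hP hPY]
      exact h.zc_le_zc hG
    rintro _ ⟨x, hx, rfl⟩
    have h3 := normalizer_le_normalizer_zc _ (le_normalizer_o2 _ hc)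
    exact (mem_normalizer_iff.1 h3 x).1 (h2 hx)
  intro x hx
  rw [mem_centralizer_iff]
  intro y hy
  exact zc_comm _ y (h1 hy) x (h1 hx)

/-- `⟨P, C_G(v)⟩` is nonlocal. -/
theorem nonLoc {g r : G} (hr : r ∈ V₁) (hr1 : r ≠ 1) (hrg : g⁻¹ * r * g ∈ V₁)
    (hne : ∃ a ∈ V₁, ∃ b ∈ V₁, a * (g * b * g⁻¹) ≠ g * b * g⁻¹ * a) :
    NonLoc P (CZ (T : Subgroup G)) := by
  intro U hU hPU hCU
  by_contra hU1
  set H := normalizer (U : Set G) with hH
  have hloc : IsLoc (T : Subgroup G) H := isLoc_normalizer T hU hU1 (hP.isLoc.le.trans hPU)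
  have hvA : v ∈ zc (ZN.o2 H) := by
    have h1 : ∀ y ∈ ZN.o2 H, y * v = v * y := fun y hy => h.Tv y (hloc.o2_le T hy)
    refine mem_zc.2 ⟨?_, h1, h.q1 v h.vV⟩
    apply hloc.char2 T hG
    exact ⟨hloc.le (h.SoT (h.V1So h.vV)), mem_centralizer_iff.2 h1⟩
  have hHA : H ≤ normalizer (zc (ZN.o2 H) : Set G) :=
    (le_normalizer_o2 H).trans (normalizer_le_normalizer_zc _)
  -- `L₁ ≤ C_G(v₂) ≤ H`
  obtain ⟨p, hp, hpv⟩ := h.exists_p hP hPY
  have hL1 : L₁ ≤ H := by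
    intro l hl
    have h1 : p⁻¹ * l * p ∈ CZ (T : Subgroup G) := by
      apply h.mem_CZ.2
      have h2 := h.L12 l hl _ h.wV
      rw [← hpv] at h2
      calc p⁻¹ * l * p * v = p⁻¹ * (l * (p * v * p⁻¹)) * p := by group
        _ = v * (p⁻¹ * l * p) := by rw [h2]; group
    have h2 : l = p * (p⁻¹ * l * p) * p⁻¹ := by group
    rw [h2]
    exact mul_mem (mul_mem (hPU hp) (hCU h1)) (inv_mem (hPU hp))
  have hV1 : ∀ x ∈ V₁, x ∈ zc (ZN.o2 H) := by
    intro x hx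
    by_cases hx1 : x = 1
    · rw [hx1]; exact one_mem _
    obtain ⟨l, hl, rfl⟩ := h.t1 v h.vV h.v1 x hx hx1
    exact (mem_normalizer_iff.1 (hHA (hL1 hl)) v).1 hvA
  -- an element `l ∈ L₁` with `r^l = v`
  obtain ⟨l, hl, hlr⟩ := h.t1 r hr hr1 v h.vV h.v1
  have hgr1 : g⁻¹ * r * g ≠ 1 := by
    intro h1
    apply hr1
    have h2 : r = g * (g⁻¹ * r * g) * g⁻¹ := by group
    rw [h2, h1]; group
  obtain ⟨e, he, her⟩ := h.t1 v h.vV h.v1 _ hrg hgr1
  have hx : l * g * e ∈ CZ (T : Subgroup G) := by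
    apply h.mem_CZ.2
    calc l * g * e * v = l * (g * (e * v * e⁻¹) * g⁻¹) * g * e := by group
      _ = l * r * g * e := by rw [her]; group
      _ = (l * r * l⁻¹) * (l * g * e) := by group
      _ = v * (l * g * e) := by rw [hlr]
  have hgH : g ∈ H := by
    have h1 : g = l⁻¹ * (l * g * e) * e⁻¹ := by group
    rw [h1]
    exact mul_mem (mul_mem (inv_mem (hL1 hl)) (hCU hx)) (inv_mem (hL1 he))
  obtain ⟨a, ha, b, hb, hab⟩ := hne
  apply hab
  exact zc_comm _ a (hV1 a ha) _ ((mem_normalizer_iff.1 (hHA hgH) b).1 (hV1 b hb))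

omit hP hPY hG in
theorem o2_cent_z (hG : IsCharacteristicTwoType G) :
    ZN.o2 (centralizer ({v * (s * v * s⁻¹)} : Set G)) ≤ So := by
  obtain ⟨t, ht, htS⟩ := h.exists_t
  have h1 : v * (s * v * s⁻¹) = (t * s) * v * (t * s)⁻¹ := by
    rw [← h.t_w ht htS]; group
  have h2 : CZ (T : Subgroup G) = centralizer ({v} : Set G) := by
    ext x
    rw [h.mem_CZ, mem_cent]
  rw [h1, o2_cent_conj, ← h2]
  rintro _ ⟨x, hx, rfl⟩
  have h3 := h.o2_le_So hG hx
  show (t * s) * x * (t * s)⁻¹ ∈ So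
  have h4 : (t * s) * x * (t * s)⁻¹ = t * (s * x * s⁻¹) * t⁻¹ := by group
  rw [h4]
  exact conj_mem_of_two h.SoT h.twoT ht (h.conjS h3)

/-- LEMMA F (helper612 #13793): `⟨P, C_G(v)⟩` is nonlocal if `[V₁, K_v] ≠ 1`. -/
theorem nonLocF (hK : ∃ a ∈ V₁, ∃ k ∈ KK v, k * a ≠ a * k) : NonLoc P (CZ (T : Subgroup G)) := by
  intro U hU hPU hCU
  by_contra hU1
  set H := normalizer (U : Set G) with hH
  have hCZ : CZ (T : Subgroup G) = centralizer ({v} : Set G) := by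
    ext x
    rw [h.mem_CZ, mem_cent]
  have hloc : IsLoc (T : Subgroup G) H := isLoc_normalizer T hU hU1 (hP.isLoc.le.trans hPU)
  have hvA : v ∈ zc (ZN.o2 H) := by
    have h1 : ∀ y ∈ ZN.o2 H, y * v = v * y := fun y hy => h.Tv y (hloc.o2_le T hy)
    refine mem_zc.2 ⟨?_, h1, h.q1 v h.vV⟩
    apply hloc.char2 T hG
    exact ⟨hloc.le (h.SoT (h.V1So h.vV)), mem_centralizer_iff.2 h1⟩
  have hHA : H ≤ normalizer (zc (ZN.o2 H) : Set G) :=
    (le_normalizer_o2 H).trans (normalizer_le_normalizer_zc _)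
  have hA : ∀ {k a : G}, k ∈ H → a ∈ zc (ZN.o2 H) → k * a * k⁻¹ ∈ zc (ZN.o2 H) :=
    fun hk ha => (mem_normalizer_iff.1 (hHA hk) _).1 ha
  have hcent : ∀ k ∈ H, ∀ x, x * (k * v * k⁻¹) = k * v * k⁻¹ * x → x ∈ H := by
    intro k hk x hx
    have h1 : k⁻¹ * x * k ∈ H := by
      apply hCU
      apply h.mem_CZ.2
      calc k⁻¹ * x * k * v = k⁻¹ * (x * (k * v * k⁻¹)) * k := by group
        _ = v * (k⁻¹ * x * k) := by rw [hx]; group
    have h2 : x = k * (k⁻¹ * x * k) * k⁻¹ := by group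
    rw [h2]
    exact mul_mem (mul_mem hk h1) (inv_mem hk)
  obtain ⟨p, hp, hpv⟩ := h.exists_p hP hPY
  have hpH : p ∈ H := hPU hp
  have hL1 : L₁ ≤ H := by
    intro l hl
    apply hcent p hpH
    rw [hpv]
    exact h.L12 l hl _ h.wV
  have hV1 : ∀ x ∈ V₁, x ∈ zc (ZN.o2 H) := by
    intro x hx
    by_cases hx1 : x = 1
    · rw [hx1]; exact one_mem _
    obtain ⟨l, hl, rfl⟩ := h.t1 v h.vV h.v1 x hx hx1
    exact hA (hL1 hl) hvA
  have hwA : s * v * s⁻¹ ∈ zc (ZN.o2 H) := by rw [← hpv]; exact hA hpH hvA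
  obtain ⟨t, ht, htS⟩ := h.exists_t
  have htH : t ∈ H := hloc.le ht
  have hsH : s ∈ H := by
    apply hcent (t * p) (mul_mem htH hpH)
    have h1 : t * p * v * (t * p)⁻¹ = v * (s * v * s⁻¹) := by
      rw [← h.t_w ht htS, ← hpv]; group
    rw [h1]
    exact (mem_zc.1 h.zS).2.1 s h.sS
  have hts : (t * s) * v * (t * s)⁻¹ = v * (s * v * s⁻¹) := by
    rw [← h.t_w ht htS]; group
  -- `A ≤ O₂(C_G(u))` for the `H`-conjugates `u` of `v`
  have hAu : ∀ k ∈ H, zc (ZN.o2 H) ≤ ZN.o2 (centralizer ({k * v * k⁻¹} : Set G)) := by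
    intro k hk
    refine (zc_le _).trans (le_o2 ?_ (o2_isPGroup _) ?_)
    · intro x hx
      exact mem_cent.2 ((mem_zc.1 (hA hk hvA)).2.1 x hx)
    · intro x hx
      exact le_normalizer_o2 _ (hcent k hk x (mem_cent.1 hx))
  have hsq : ∀ k, (k * v * k⁻¹) * (k * v * k⁻¹) = 1 := by
    intro k
    calc (k * v * k⁻¹) * (k * v * k⁻¹) = k * (v * v) * k⁻¹ := by group
      _ = 1 := by rw [h.vv]; group
  have hact : ∀ k ∈ H, ∀ x ∈ KK (k * v * k⁻¹), ∀ a ∈ zc (ZN.o2 H),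
      x * a * x⁻¹ = a ∨ x * a * x⁻¹ = a * (k * v * k⁻¹) := by
    intro k hk x hx a ha
    rcases (mem_zpowers_iff_of_sq (hsq k)).1 (hx.2 a (hAu k hk ha)) with h1 | h1
    · exact Or.inl (mul_inv_eq_one.1 h1)
    · right
      rw [mul_inv_eq_iff_eq_mul.1 h1]
      exact zc_comm _ _ (hA hk hvA) a ha
  -- `K_z` centralises `V₁`
  have hzc2 : centralizer ({v * (s * v * s⁻¹)} : Set G) ⊓
      centralizer (ZN.o2 (centralizer ({v * (s * v * s⁻¹)} : Set G)) : Set G) ≤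
        ZN.o2 (centralizer ({v * (s * v * s⁻¹)} : Set G)) := by
    have h1 : IsLoc (S : Subgroup G) (centralizer ({v * (s * v * s⁻¹)} : Set G)) :=
      isLoc_centralizer S (zc_sq _ _ h.zS) h.zne fun y hy =>
        mem_cent.2 ((mem_zc.1 h.zS).2.1 y hy)
    exact h1.char2 S hG
  have hzz : v * (s * v * s⁻¹) * (v * (s * v * s⁻¹)) = 1 := by rw [← hts]; exact hsq _
  have hKz : ∀ k ∈ KK (v * (s * v * s⁻¹)), ∀ a ∈ V₁, k * a * k⁻¹ = a := by
    intro k hk a ha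
    have h1 : k ∈ So := h.o2_cent_z hG (KK_le_o2 hzz hzc2 hk)
    have h2 : k * a * k⁻¹ ∈ V₁ := h.So1 k h1 a ha
    have h3 : a ∈ ZN.o2 (centralizer ({v * (s * v * s⁻¹)} : Set G)) := by
      rw [← hts]; exact hAu _ (mul_mem htH hsH) (hV1 a ha)
    rcases (mem_zpowers_iff_of_sq hzz).1 (hk.2 a h3) with h4 | h4
    · exact mul_inv_eq_one.1 h4
    · exfalso
      have h5 : v * (s * v * s⁻¹) ∈ V₁ := by rw [← h4]; exact mul_mem h2 (inv_mem ha)
      have h6 : s * v * s⁻¹ ∈ V₁ := (mul_mem_cancel_left h.vV).1 h5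
      exact h.w1 (h.inf _ h6 h.wV)
  -- the elements `a₀`, `x`
  obtain ⟨a₀, ha₀, x, hx, hxa⟩ := hK
  have ha₀1 : a₀ ≠ 1 := by
    rintro rfl
    exact hxa (by simp)
  obtain ⟨y, hy, hya⟩ := h.t1 v h.vV h.v1 a₀ ha₀ ha₀1
  have hyH : y ∈ H := hL1 hy
  set w₀ := a₀ * (s * v * s⁻¹) with hw₀
  have hyz : y * (v * (s * v * s⁻¹)) * y⁻¹ = w₀ := by
    have h1 := h.L12 y hy _ h.wV
    calc y * (v * (s * v * s⁻¹)) * y⁻¹ = (y * v * y⁻¹) * (y * (s * v * s⁻¹)) * y⁻¹ := by group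
      _ = w₀ := by rw [h1, hya, hw₀]; group
  have hw₀A : w₀ ∈ zc (ZN.o2 H) := mul_mem (hV1 a₀ ha₀) hwA
  have hkw : (y * (t * s)) * v * (y * (t * s))⁻¹ = w₀ := by
    rw [← hyz, ← hts]; group
  have hkH : y * (t * s) ∈ H := mul_mem hyH (mul_mem htH hsH)
  -- `K_{w₀}` centralises `V₁`
  have hKw : ∀ k ∈ KK w₀, ∀ a ∈ V₁, k * a = a * k := by
    intro k hk a ha
    have h1 : y⁻¹ * k * y ∈ KK (v * (s * v * s⁻¹)) := by
      have h2 := KK_conj (h := y⁻¹) hk
      have h3 : y⁻¹ * w₀ * y⁻¹⁻¹ = v * (s * v * s⁻¹) := by rw [← hyz]; group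
      rwa [h3, inv_inv] at h2
    have h2 : y⁻¹ * a * y ∈ V₁ := by
      have h3 := h.L1 y⁻¹ (inv_mem hy) a ha
      rwa [inv_inv] at h3
    have h3 := hKz _ h1 _ h2
    have h4 : y⁻¹ * (k * a * k⁻¹) * y = y⁻¹ * a * y := by
      rw [← h3]; group
    have h5 : k * a * k⁻¹ = a := mul_left_cancel (mul_right_cancel h4)
    exact mul_inv_eq_iff_eq_mul.1 h5
  -- `x` centralises `v₂`
  have hxQ : x ∈ So := by
    apply h.o2_le_So hG
    rw [hCZ]
    apply KK_le_o2 h.vv _ hx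
    rw [← hCZ]
    exact h.char2 hG
  have hxw : x * w₀ ≠ w₀ * x := by
    intro h1
    apply hxa
    have h2 := h.wSo hxQ
    have h3 : x * a₀ * (s * v * s⁻¹) = a₀ * x * (s * v * s⁻¹) := by
      calc x * a₀ * (s * v * s⁻¹) = x * w₀ := by rw [hw₀]; group
        _ = a₀ * ((s * v * s⁻¹) * x) := by rw [h1, hw₀]; group
        _ = a₀ * x * (s * v * s⁻¹) := by rw [← h2]; group
    exact mul_right_cancel h3
  -- the families of kernels
  let Fam : G → Set (Set G) := fun u =>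
    {X | ∃ k ∈ KK u, X = {a | a ∈ zc (ZN.o2 H) ∧ k * a = a * k}}
  have hvv1 : (1 : G) * v * 1⁻¹ = v := by group
  have hsub : Fam w₀ ⊆ Fam v := by
    rintro _ ⟨y', hy', rfl⟩
    have hy'v : y' * v = v * y' := hKw y' hy' v h.vV
    refine ⟨x * y' * x⁻¹ * y'⁻¹, ?_, ?_⟩
    · have h1 := KK_conj (h := y') (inv_mem hx)
      have h2 : y' * v * y'⁻¹ = v := mul_inv_eq_iff_eq_mul.2 hy'v
      rw [h2] at h1
      have h3 : x * y' * x⁻¹ * y'⁻¹ = x * (y' * x⁻¹ * y'⁻¹) := by group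
      rw [h3]
      exact mul_mem hx h1
    · ext a
      simp only [Set.mem_ofPred_eq]
      refine and_congr_right fun ha => ?_
      refine (comm_claim (zc_comm _) hvA hw₀A h.v1 h.vv (by rw [← hkw]; exact hsq _) hx.1 hy'.1 hy'v
        ?_ ?_ hxw ha).symm
      · intro b hb
        have h1 := hact 1 (one_mem _) x (by rw [hvv1]; exact hx) b hb
        rwa [hvv1] at h1
      · intro b hb
        have h1 := hact _ hkH y' (by rw [hkw]; exact hy') b hb
        rwa [hkw] at h1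
  have hcard : (Fam w₀).ncard = (Fam v).ncard := by
    have h1 : Fam w₀ = (fun X : Set G => (fun a => (y * (t * s)) * a * (y * (t * s))⁻¹) '' X) '' Fam v := by
      ext X
      constructor
      · rintro ⟨k, hk, rfl⟩
        refine ⟨{a | a ∈ zc (ZN.o2 H) ∧ ((y * (t * s))⁻¹ * k * (y * (t * s))) * a =
          a * ((y * (t * s))⁻¹ * k * (y * (t * s)))}, ⟨_, ?_, rfl⟩, ?_⟩
        · have h2 := KK_conj (h := (y * (t * s))⁻¹) hk
          have h3 : (y * (t * s))⁻¹ * w₀ * (y * (t * s))⁻¹⁻¹ = v := by rw [← hkw]; group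
          rwa [h3, inv_inv] at h2
        · ext b
          simp only [Set.mem_image, Set.mem_ofPred_eq]
          constructor
          · rintro ⟨a, ⟨ha, hka⟩, rfl⟩
            refine ⟨hA hkH ha, ?_⟩
            calc k * (y * (t * s) * a * (y * (t * s))⁻¹)
                = (y * (t * s)) * ((y * (t * s))⁻¹ * k * (y * (t * s)) * a) * (y * (t * s))⁻¹ := by
                  group
              _ = y * (t * s) * a * (y * (t * s))⁻¹ * k := by rw [hka]; group
          · rintro ⟨hb, hkb⟩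
            refine ⟨(y * (t * s))⁻¹ * b * (y * (t * s)), ⟨?_, ?_⟩, by group⟩
            · have h2 := hA (inv_mem hkH) hb
              rwa [inv_inv] at h2
            · calc (y * (t * s))⁻¹ * k * (y * (t * s)) * ((y * (t * s))⁻¹ * b * (y * (t * s)))
                  = (y * (t * s))⁻¹ * (k * b) * (y * (t * s)) := by group
                _ = (y * (t * s))⁻¹ * b * (y * (t * s)) * ((y * (t * s))⁻¹ * k * (y * (t * s))) := by
                  rw [hkb]; group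
      · rintro ⟨_, ⟨k, hk, rfl⟩, rfl⟩
        refine ⟨(y * (t * s)) * k * (y * (t * s))⁻¹, ?_, ?_⟩
        · have h2 := KK_conj (h := y * (t * s)) hk
          rwa [hkw] at h2
        · ext b
          simp only [Set.mem_image, Set.mem_ofPred_eq]
          constructor
          · rintro ⟨a, ⟨ha, hka⟩, rfl⟩
            refine ⟨hA hkH ha, ?_⟩
            calc (y * (t * s)) * k * (y * (t * s))⁻¹ * (y * (t * s) * a * (y * (t * s))⁻¹)
                = (y * (t * s)) * (k * a) * (y * (t * s))⁻¹ := by group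
              _ = _ := by rw [hka]; group
          · rintro ⟨hb, hkb⟩
            refine ⟨(y * (t * s))⁻¹ * b * (y * (t * s)), ⟨?_, ?_⟩, by group⟩
            · have h2 := hA (inv_mem hkH) hb
              rwa [inv_inv] at h2
            · calc k * ((y * (t * s))⁻¹ * b * (y * (t * s)))
                  = (y * (t * s))⁻¹ * ((y * (t * s)) * k * (y * (t * s))⁻¹ * b) * (y * (t * s)) := by
                    group
                _ = (y * (t * s))⁻¹ * b * (y * (t * s)) * k := by rw [hkb]; group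
    rw [h1]
    apply Set.ncard_image_of_injective
    exact Set.image_injective.2 fun a b hab => mul_left_cancel (mul_right_cancel hab)
  have heq : Fam w₀ = Fam v := Set.eq_of_subset_of_ncard_le hsub hcard.ge (Set.toFinite _)
  have hxF : {a | a ∈ zc (ZN.o2 H) ∧ x * a = a * x} ∈ Fam v := ⟨x, hx, rfl⟩
  rw [← heq] at hxF
  obtain ⟨y', hy', hyy⟩ := hxF
  have h1 : w₀ ∈ {a | a ∈ zc (ZN.o2 H) ∧ x * a = a * x} := by
    rw [hyy]
    exact ⟨hw₀A, hy'.1⟩
  exact hxw h1.2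

end par

end Tri

/-- **The triangle leads to NO-3S with `|V_P| = 4`.** -/
theorem Tri.exists_hyp [Finite G] {S T : Sylow 2 G} {So V₁ V₂ L₁ L₂ : Subgroup G} {s v : G}
    (h : Tri S T So V₁ V₂ L₁ L₂ s v) (hG : Ctx G) (hF : Full (S : Subgroup G))
    {g r : G} (hr : r ∈ V₁) (hr1 : r ≠ 1) (hrg : g⁻¹ * r * g ∈ V₁)
    (hne : ∃ a ∈ V₁, ∃ b ∈ V₁, a * (g * b * g⁻¹) ≠ g * b * g⁻¹ * a) :
    ∃ P : Subgroup G, Hyp T P ∧ Nat.card (zl (T : Subgroup G) P) = 4 ∧
      P ≤ normalizer (zc So : Set G) := by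
  obtain ⟨P, hP, hPY⟩ := h.exists_P hG.char2
  have hc : Nat.card (zl (T : Subgroup G) P) = 4 := by
    rw [h.zl_eq hP hPY, h.card_zcSo]
  exact ⟨P, Hyp.of_four hG hP (h.nonLoc hG.char2 hP hPY hr hr1 hrg hne) hc (full_conj hF)
    (h.WW_comm hG.char2 hP hPY), hc, hPY⟩

/-- **The triangle leads to NO-3S with `|V_P| = 4`**, any partner: `[V₁, K_v] ≠ 1`. -/
theorem Tri.exists_hypF [Finite G] {S T : Sylow 2 G} {So V₁ V₂ L₁ L₂ : Subgroup G} {s v : G}
    (h : Tri S T So V₁ V₂ L₁ L₂ s v) (hG : Ctx G) (hF : Full (S : Subgroup G))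
    (hK : ∃ a ∈ V₁, ∃ k ∈ KK v, k * a ≠ a * k) :
    ∃ P : Subgroup G, Hyp T P ∧ Nat.card (zl (T : Subgroup G) P) = 4 ∧
      P ≤ normalizer (zc So : Set G) := by
  obtain ⟨P, hP, hPY⟩ := h.exists_P hG.char2
  have hc : Nat.card (zl (T : Subgroup G) P) = 4 := by
    rw [h.zl_eq hP hPY, h.card_zcSo]
  exact ⟨P, Hyp.of_four hG hP (h.nonLocF hG.char2 hP hPY hK) hc (full_conj hF)
    (h.WW_comm hG.char2 hP hPY), hc, hPY⟩

/-- **The triangle**, any partner, conclusion through the leaf NO-3S. -/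
theorem Tri.knownF {K : Cls.{u}} (hK : Cfsg.Agent.Omega.NO3S.Two K) [Finite G] (hKG : K G)
    {S T : Sylow 2 G} {So V₁ V₂ L₁ L₂ : Subgroup G} {s v : G} (h : Tri S T So V₁ V₂ L₁ L₂ s v)
    (hG : Ctx G) (hF : Full (S : Subgroup G)) (hV : ∃ a ∈ V₁, ∃ k ∈ KK v, k * a ≠ a * k) :
    IsKnownSimple' G := by
  obtain ⟨P, hP, hc, -⟩ := h.exists_hypF hG hF hV
  exact hK G hKG T P hP hc

/-- **The triangle**, conclusion through the leaf NO-3S. -/
theorem Tri.known {K : Cls.{u}} (hK : Cfsg.Agent.Omega.NO3S.Two K) [Finite G] (hKG : K G) {S T : Sylow 2 G}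
    {So V₁ V₂ L₁ L₂ : Subgroup G} {s v : G} (h : Tri S T So V₁ V₂ L₁ L₂ s v) (hG : Ctx G)
    (hF : Full (S : Subgroup G)) {g r : G} (hr : r ∈ V₁) (hr1 : r ≠ 1) (hrg : g⁻¹ * r * g ∈ V₁)
    (hne : ∃ a ∈ V₁, ∃ b ∈ V₁, a * (g * b * g⁻¹) ≠ g * b * g⁻¹ * a) : IsKnownSimple' G := by
  obtain ⟨P, hP, hc, -⟩ := h.exists_hyp hG hF hr hr1 hrg hne
  exact hK G hKG T P hP hc

/-- Alias of `Two.le_normalizer_of`. -/
theorem le_normalizer_of {K V : Subgroup G} (h : ∀ k ∈ K, ∀ v ∈ V, k * v * k⁻¹ ∈ V) :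
    K ≤ normalizer (V : Set G) := Two.le_normalizer_of h

end Cfsg.Agent.Omega.IId.Triangle

end

section


/-!
# The parity lemma (helper774)

`F` acts on an elementary abelian 2-group `A`, `1 ≠ z ∈ C_A(F)`, the orbit `Ω = v^F` is invariant under
multiplication with `z`, `Θ ⊆ Ω` has odd order and product `1`.  Then `4` divides the index of every subgroup
of `F` stabilizing `Θ`.  (Consequence: there are no triangles in II.d.)
-/

set_option autoImplicit false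

namespace Cfsg.Agent.Omega.IId.Parity

/-- Pairs `{x, xz}`. -/
theorem pairs {A : Type*} [CommGroup A] [DecidableEq A] (hA : ∀ a : A, a * a = 1) {z : A} (hz : z ≠ 1) :
    ∀ (n : ℕ) (W : Finset A), W.card = n → (∀ x ∈ W, x * z ∈ W) →
      ∃ k, W.card = 2 * k ∧ ∏ x ∈ W, x = z ^ k := by
  intro n
  induction n using Nat.strong_induction_on with
  | _ n ih =>
    intro W hn hW
    rcases W.eq_empty_or_nonempty with rfl | ⟨x, hx⟩
    · exact ⟨0, by simp, by simp⟩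
    · have hxz : x * z ≠ x := fun h => hz (by simpa using h)
      have hxz' : x * z ∈ W.erase x := Finset.mem_erase.2 ⟨hxz, hW x hx⟩
      have hc1 : (W.erase x).card = n - 1 := by rw [Finset.card_erase_of_mem hx, hn]
      have hc2 : ((W.erase x).erase (x * z)).card = n - 1 - 1 := by
        rw [Finset.card_erase_of_mem hxz', hc1]
      have hpos : 0 < (W.erase x).card := Finset.card_pos.2 ⟨_, hxz'⟩
      have hn2 : 2 ≤ n := by omega
      obtain ⟨k, hk, hp⟩ := ih (n - 1 - 1) (by omega) ((W.erase x).erase (x * z)) hc2 (by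
        intro y hy
        rw [Finset.mem_erase, Finset.mem_erase] at hy ⊢
        obtain ⟨h1, h2, h3⟩ := hy
        refine ⟨fun h => h2 (mul_right_cancel h), fun h => h1 ?_, hW y h3⟩
        rw [← h, mul_assoc, hA z, mul_one])
      refine ⟨k + 1, by omega, ?_⟩
      rw [← Finset.mul_prod_erase W (fun y => y) hx, ← Finset.mul_prod_erase (W.erase x) (fun y => y) hxz',
        hp, ← mul_assoc, ← mul_assoc, hA x, one_mul, pow_succ']

/-- **PARITY LEMMA.** -/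
theorem parity {F A : Type*} [Group F] [Finite F] [CommGroup A] (ρ : F → A →* A)
    (h1 : ∀ a, ρ 1 a = a) (hm : ∀ f g a, ρ (f * g) a = ρ f (ρ g a)) (hA : ∀ a : A, a * a = 1)
    {v z : A} (hz : z ≠ 1) (hzF : ∀ f, ρ f z = z) {T : Subgroup F} (h4 : ¬ 4 ∣ T.index)
    {s : F} (hs : ρ s v = v * z) {Θ : Finset A} (hΘ : ∀ x ∈ Θ, ∃ f, ρ f v = x) (hodd : Odd Θ.card)
    (hprod : ∏ x ∈ Θ, x = 1) (hT : ∀ t ∈ T, ∀ x ∈ Θ, ρ t x ∈ Θ) : False := by
  classical
  have : Fintype F := Fintype.ofFinite F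
  have : Fintype (F ⧸ T) := Fintype.ofFinite _
  set W : Finset A := Finset.univ.image (fun f => ρ f v) with hW
  have mW : ∀ x, x ∈ W ↔ ∃ f, ρ f v = x := by intro x; simp [hW]
  obtain ⟨k, hk, hp⟩ := pairs hA hz _ W rfl (by
    intro x hx
    obtain ⟨f, rfl⟩ := (mW x).1 hx
    exact (mW _).2 ⟨f * s, by rw [hm, hs, map_mul, hzF]⟩)
  have cancel : ∀ f a, ρ f⁻¹ (ρ f a) = a := by intro f a; rw [← hm, inv_mul_cancel, h1]
  have cancel' : ∀ f a, ρ f (ρ f⁻¹ a) = a := by intro f a; rw [← hm, mul_inv_cancel, h1]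
  have mem_iff : ∀ (g : F) (y : A), ρ g⁻¹ y ∈ Θ ↔ ρ ((g : F ⧸ T).out)⁻¹ y ∈ Θ := by
    intro g y
    have ht : g⁻¹ * (g : F ⧸ T).out ∈ T := by
      rw [← QuotientGroup.eq]
      exact (QuotientGroup.out_eq' _).symm
    constructor
    · intro h
      have h2 := hT _ (inv_mem ht) _ h
      rwa [← hm, mul_inv_rev, inv_inv, mul_inv_cancel_right] at h2
    · intro h
      have h2 := hT _ ht _ h
      rwa [← hm, mul_inv_cancel_right] at h2
  set P : F ⧸ T → A → Prop := fun q y => ρ (q.out)⁻¹ y ∈ Θ with hP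
  set a : A → ℕ := fun y => (Finset.univ.filter (fun q => P q y)).card with ha
  have aconst : ∀ f y, a (ρ f y) = a y := by
    intro f y
    refine Finset.card_bij' (fun q _ => f⁻¹ • q) (fun q _ => f • q) ?_ ?_ ?_ ?_
    · intro q hq
      simp only [Finset.mem_filter, Finset.mem_univ, true_and, hP] at hq ⊢
      have e : (f⁻¹ • q : F ⧸ T) = ((f⁻¹ * q.out : F) : F ⧸ T) := by
        conv_lhs => rw [← QuotientGroup.out_eq' q]
        rfl
      rw [e, ← mem_iff, mul_inv_rev, inv_inv, hm]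
      exact hq
    · intro q hq
      simp only [Finset.mem_filter, Finset.mem_univ, true_and, hP] at hq ⊢
      have e : (f • q : F ⧸ T) = ((f * q.out : F) : F ⧸ T) := by
        conv_lhs => rw [← QuotientGroup.out_eq' q]
        rfl
      rw [e, ← mem_iff, mul_inv_rev, hm, cancel]
      exact hq
    · intro q _; simp
    · intro q _; simp
  have ac : ∀ y ∈ W, a y = a v := by
    intro y hy
    obtain ⟨f, rfl⟩ := (mW y).1 hy
    exact aconst f v
  -- products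
  have e1 : ∀ q : F ⧸ T, ∏ y ∈ W.filter (P q), y = 1 := by
    intro q
    have : ∏ y ∈ W.filter (P q), y = ∏ x ∈ Θ, ρ q.out x := by
      refine Finset.prod_bij' (fun y _ => ρ (q.out)⁻¹ y) (fun x _ => ρ q.out x) ?_ ?_ ?_ ?_ ?_
      · intro y hy
        exact (Finset.mem_filter.1 hy).2
      · intro x hx
        obtain ⟨f, rfl⟩ := hΘ x hx
        refine Finset.mem_filter.2 ⟨(mW _).2 ⟨q.out * f, hm _ _ _⟩, ?_⟩
        simp only [hP]
        rw [cancel]; exact hx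
      · intro y _; exact cancel' _ _
      · intro x _; exact cancel _ _
      · intro y _; exact (cancel' _ _).symm
    rw [this, ← map_prod, hprod, map_one]
  have c1 : ∀ q : F ⧸ T, (W.filter (P q)).card = Θ.card := by
    intro q
    refine Finset.card_bij' (fun y _ => ρ (q.out)⁻¹ y) (fun x _ => ρ q.out x) ?_ ?_ ?_ ?_
    · intro y hy
      exact (Finset.mem_filter.1 hy).2
    · intro x hx
      obtain ⟨f, rfl⟩ := hΘ x hx
      refine Finset.mem_filter.2 ⟨(mW _).2 ⟨q.out * f, hm _ _ _⟩, ?_⟩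
      simp only [hP]
      rw [cancel]; exact hx
    · intro y _; exact cancel' _ _
    · intro x _; exact cancel _ _
  have e2 : ∏ q : F ⧸ T, ∏ y ∈ W.filter (P q), y = ∏ y ∈ W, y ^ a y := by
    have h2 : ∀ y ∈ W, y ^ a y = ∏ q ∈ Finset.univ.filter (fun q => P q y), y := by
      intro y _
      rw [Finset.prod_const]
    rw [Finset.prod_congr rfl h2]
    refine Finset.prod_comm' ?_
    intro q y
    simp only [Finset.mem_filter, Finset.mem_univ, true_and]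
    tauto
  have c2 : ∑ q : F ⧸ T, (W.filter (P q)).card = ∑ y ∈ W, a y := by
    simp only [Finset.card_eq_sum_ones, ha]
    refine Finset.sum_comm' ?_
    intro q y
    simp only [Finset.mem_filter, Finset.mem_univ, true_and]
    tauto
  have e3 : z ^ (k * a v) = 1 := by
    rw [pow_mul, ← hp, ← Finset.prod_pow]
    rw [← Finset.prod_congr rfl (fun y hy => by rw [ac y hy] : ∀ y ∈ W, y ^ a y = y ^ a v), ← e2]
    exact Finset.prod_eq_one fun q _ => e1 q
  have c3 : T.index * Θ.card = 2 * k * a v := by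
    have h2 : ∑ y ∈ W, a y = W.card * a v := by
      rw [Finset.sum_congr rfl ac, Finset.sum_const, smul_eq_mul]
    rw [← hk, ← h2, ← c2, Finset.sum_congr rfl (fun q _ => c1 q), Finset.sum_const, smul_eq_mul,
      Subgroup.index, Nat.card_eq_fintype_card, Finset.card_univ]
  have hev : Even (k * a v) := by
    by_contra hcon
    rw [Nat.not_even_iff_odd] at hcon
    obtain ⟨j, hj⟩ := hcon
    rw [hj, pow_succ, pow_mul, pow_two, hA z, one_pow, one_mul] at e3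
    exact hz e3
  obtain ⟨j, hj⟩ := hev
  have h5 : 4 ∣ T.index * Θ.card := ⟨j, by rw [c3, mul_assoc, hj]; ring⟩
  have h6 : Nat.Coprime 4 Θ.card := by
    have : Nat.Coprime 2 Θ.card := by
      rw [Nat.coprime_two_left]; exact hodd
    exact Nat.Coprime.pow_left 2 this
  exact h4 (h6.dvd_of_dvd_mul_right h5)

/-- The product of all elements of an elementary abelian 2-group of order divisible by 4 is 1. -/
theorem prod_eq_one {A : Type*} [CommGroup A] [DecidableEq A] (hA : ∀ a : A, a * a = 1) {W : Finset A}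
    (h1 : (1 : A) ∈ W) (hm : ∀ x ∈ W, ∀ y ∈ W, x * y ∈ W) (h4 : 4 ∣ W.card) :
    Odd (W.erase 1).card ∧ ∏ x ∈ W.erase 1, x = 1 := by
  have hpos : 0 < W.card := Finset.card_pos.2 ⟨1, h1⟩
  obtain ⟨j, hj⟩ := h4
  have hc := Finset.card_erase_of_mem h1
  obtain ⟨a, ha⟩ : (W.erase 1).Nonempty := by
    rw [← Finset.card_pos]; omega
  rw [Finset.mem_erase] at ha
  refine ⟨⟨2 * j - 1, by omega⟩, ?_⟩
  obtain ⟨k, hk, hp⟩ := pairs hA ha.1 _ W rfl fun x hx => hm x hx a ha.2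
  have h2 : ∏ x ∈ W, x = 1 := by
    rw [hp, show k = 2 * j by omega, pow_mul, pow_two, hA, one_pow]
  rw [← Finset.mul_prod_erase W (fun x => x) h1, one_mul] at h2
  exact h2

section group

variable {G : Type*} [Group G] [Finite G] {F U T : Subgroup G} {v z s : G}

/-- **PARITY LEMMA in a group**, `Θ` given by a list. -/
theorem false_of_list (hc : ∀ a ∈ U, ∀ b ∈ U, a * b = b * a) (hq : ∀ a ∈ U, a * a = 1)
    (hn : ∀ f ∈ F, ∀ u ∈ U, f * u * f⁻¹ ∈ U) (hv : v ∈ U) (hz : z ≠ 1) (hzF : ∀ f ∈ F, f * z = z * f)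
    (h4 : ¬ 4 ∣ T.relIndex F) (hs : s ∈ F) (hsv : s * v * s⁻¹ = v * z) {L : List G}
    (hL : L.Nodup) (hodd : Odd L.length) (hprod : L.prod = 1) (horb : ∀ x ∈ L, ∃ f ∈ F, f * v * f⁻¹ = x)
    (hT : ∀ t ∈ T, ∀ x ∈ L, t * x * t⁻¹ ∈ L) : False := by
  classical
  have hzU : z ∈ U := by
    have h1 : z = v⁻¹ * (v * z) := by group
    rw [h1, ← hsv]
    exact mul_mem (inv_mem hv) (hn s hs v hv)
  let : CommGroup U := { (inferInstance : Group U) with
    mul_comm := fun a b => Subtype.ext (hc a a.2 b b.2) }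
  let ρ : F → U →* U := fun f =>
    { toFun := fun u => ⟨f * u * (f : G)⁻¹, hn f f.2 u u.2⟩
      map_one' := Subtype.ext (by simp)
      map_mul' := fun a b => Subtype.ext (by simp [mul_assoc]) }
  have hρ : ∀ (f : F) (u : U), ((ρ f u : U) : G) = f * u * (f : G)⁻¹ := fun _ _ => rfl
  have hLU : ∀ x ∈ L, x ∈ U := by
    intro x hx
    obtain ⟨f, hf, rfl⟩ := horb x hx
    exact hn f hf v hv
  set L' : List U := L.pmap (fun x hx => (⟨x, hx⟩ : U)) hLU with hL'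
  have mL : ∀ u : U, u ∈ L' ↔ (u : G) ∈ L := by
    intro u
    rw [hL', List.mem_pmap]
    constructor
    · rintro ⟨x, hx, rfl⟩; exact hx
    · intro h; exact ⟨u, h, rfl⟩
  have hmap : L'.map (Subtype.val : U → G) = L := by
    rw [hL', List.map_pmap]
    exact List.pmap_eq_self.2 fun _ _ => rfl
  have hnd : L'.Nodup := List.Nodup.of_map (Subtype.val : U → G) (by rw [hmap]; exact hL)
  have hlen : L'.length = L.length := by rw [hL', List.length_pmap]
  refine parity (F := F) (A := U) ρ ?_ ?_ ?_ (v := ⟨v, hv⟩) (z := ⟨z, hzU⟩) ?_ ?_ (T := T.subgroupOf F) h4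
    (s := ⟨s, hs⟩) ?_ (Θ := L'.toFinset) ?_ ?_ ?_ ?_
  · intro a; exact Subtype.ext (by rw [hρ]; simp)
  · intro f g a; exact Subtype.ext (by rw [hρ, hρ, hρ]; simp [mul_assoc])
  · intro a; exact Subtype.ext (hq a a.2)
  · intro h; exact hz (congrArg Subtype.val h)
  · intro f
    refine Subtype.ext ?_
    rw [hρ]
    show (f : G) * z * (f : G)⁻¹ = z
    rw [hzF f f.2, mul_inv_cancel_right]
  · refine Subtype.ext ?_
    rw [hρ]
    exact hsv
  · intro x hx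
    obtain ⟨f, hf, h⟩ := horb x ((mL x).1 (List.mem_toFinset.1 hx))
    exact ⟨⟨f, hf⟩, Subtype.ext h⟩
  · rw [List.toFinset_card_of_nodup hnd, hlen]; exact hodd
  · rw [List.prod_toFinset _ hnd, List.map_id']
    apply Subtype.ext
    rw [Subgroup.val_list_prod, hmap, hprod]; rfl
  · intro t ht x hx
    rw [List.mem_toFinset, mL] at hx ⊢
    exact hT t (Subgroup.mem_subgroupOf.1 ht) x hx

/-- **PARITY LEMMA in a group**, `Θ = V' - 1`. -/
theorem false_of_sub (hc : ∀ a ∈ U, ∀ b ∈ U, a * b = b * a) (hq : ∀ a ∈ U, a * a = 1)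
    (hn : ∀ f ∈ F, ∀ u ∈ U, f * u * f⁻¹ ∈ U) (hv : v ∈ U) (hz : z ≠ 1) (hzF : ∀ f ∈ F, f * z = z * f)
    (h4 : ¬ 4 ∣ T.relIndex F) (hs : s ∈ F) (hsv : s * v * s⁻¹ = v * z) {V : Subgroup G}
    (hV4 : 4 ∣ Nat.card V) (horb : ∀ x ∈ V, x ≠ 1 → ∃ f ∈ F, f * v * f⁻¹ = x)
    (hT : ∀ t ∈ T, ∀ x ∈ V, t * x * t⁻¹ ∈ V) : False := by
  classical
  have hzU : z ∈ U := by
    have h1 : z = v⁻¹ * (v * z) := by group
    rw [h1, ← hsv]
    exact mul_mem (inv_mem hv) (hn s hs v hv)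
  have hVU : V ≤ U := by
    intro x hx
    by_cases hx1 : x = 1
    · rw [hx1]; exact one_mem _
    obtain ⟨f, hf, rfl⟩ := horb x hx hx1
    exact hn f hf v hv
  let : CommGroup U := { (inferInstance : Group U) with
    mul_comm := fun a b => Subtype.ext (hc a a.2 b b.2) }
  let ρ : F → U →* U := fun f =>
    { toFun := fun u => ⟨f * u * (f : G)⁻¹, hn f f.2 u u.2⟩
      map_one' := Subtype.ext (by simp)
      map_mul' := fun a b => Subtype.ext (by simp [mul_assoc]) }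
  have hρ : ∀ (f : F) (u : U), ((ρ f u : U) : G) = f * u * (f : G)⁻¹ := fun _ _ => rfl
  have : Fintype U := Fintype.ofFinite _
  have hA : ∀ a : U, a * a = 1 := fun a => Subtype.ext (hq a a.2)
  set W : Finset U := Finset.univ.filter (fun u => (u : G) ∈ V) with hW
  have mW : ∀ u : U, u ∈ W ↔ (u : G) ∈ V := by intro u; simp [hW]
  have hcard : W.card = Nat.card V := by
    have h1 : W.card = Nat.card (V.subgroupOf U) := by
      rw [Nat.card_eq_fintype_card, Fintype.card_subtype]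
      congr 1
    rw [h1]
    exact Nat.card_congr (Subgroup.subgroupOfEquivOfLe hVU).toEquiv
  obtain ⟨ho, hp⟩ := prod_eq_one hA (W := W) ((mW 1).2 (one_mem V))
    (fun x hx y hy => (mW _).2 (mul_mem ((mW x).1 hx) ((mW y).1 hy))) (hcard ▸ hV4)
  refine parity (F := F) (A := U) ρ ?_ ?_ hA (v := ⟨v, hv⟩) (z := ⟨z, hzU⟩) ?_ ?_ (T := T.subgroupOf F) h4
    (s := ⟨s, hs⟩) ?_ (Θ := W.erase 1) ?_ ho hp ?_
  · intro a; exact Subtype.ext (by rw [hρ]; simp)
  · intro f g a; exact Subtype.ext (by rw [hρ, hρ, hρ]; simp [mul_assoc])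
  · intro h; exact hz (congrArg Subtype.val h)
  · intro f
    refine Subtype.ext ?_
    rw [hρ]
    show (f : G) * z * (f : G)⁻¹ = z
    rw [hzF f f.2, mul_inv_cancel_right]
  · refine Subtype.ext ?_
    rw [hρ]
    exact hsv
  · intro x hx
    rw [Finset.mem_erase, mW] at hx
    obtain ⟨f, hf, h⟩ := horb x hx.2 (fun h => hx.1 (Subtype.ext h))
    exact ⟨⟨f, hf⟩, Subtype.ext h⟩
  · intro t ht x hx
    rw [Finset.mem_erase, mW] at hx ⊢
    refine ⟨fun h => hx.1 ?_, hT t (Subgroup.mem_subgroupOf.1 ht) x hx.2⟩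
    have h2 : (x : G) = (t : G)⁻¹ * ((ρ t x : U) : G) * t := by rw [hρ]; group
    rw [h] at h2
    exact Subtype.ext (by rw [h2]; simp)

end group

end Cfsg.Agent.Omega.IId.Parity

end

section


/-!
# II.d, the triangle with `q_0 = 2 < q`, any natural partner (helper814 #14625 (2+))

* `exists_inj` : `η : F → F`, `η ≠ 0`; a left `F`-space of additive maps `F → F` which contains all
  `a ↦ η (μ a)` contains an injective map;
* `Ks M U R f` : the `F`-space of the additive maps `κ : U → F`, `κ(R) = 0`, such that all `u ↦ u f(λ κ(u))` are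
  induced by elements of `M`;
* `Ks.false_of` : `m ∈ M`, `R ≤ V ≤ U`, all `κ ∈ Ks` vanish on `m⁻¹ V m`; some `ε ∈ Ks` does not vanish on
  `V` and does not vanish on `m R m⁻¹`: contradiction;
* `KX_cent` : the group `{g ∈ H : [A, g] ≤ X, [X, g] = 1}` centralises `V` if its elements in a Sylow
  2-subgroup of `N_H(X)` do;
* `exists_X` : the conjugate `X = R^y ∋ z = v v^s`, `N_H(X)` has a Sylow 2-subgroup `Q`, `So ≤ Q ≤ S`;
* `nonLocR` : in the triangle `⟨P, C_G(v)⟩` is nonlocal if there is a group `E` (a factor of the partner)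
  acting on `V₁` as a full root group with centre `R`, `v ∈ R < V₁`;
* `RootE` (the hypotheses on `E`), `exists_hypR`, `knownR` : the exit, NO-3S with `|V_P| = 4`.
-/

set_option autoImplicit false
set_option linter.unusedSectionVars false

namespace Cfsg.Agent.Omega.IId.TwoPlus

open Subgroup Cfsg Cfsg.Agent.ZN Cfsg.Agent.Omega.MinPar Cfsg.Agent.Omega.Frame
open Cfsg.Agent.Omega.FrameNOFF Cfsg.Agent.Omega.NO3S Cfsg.Agent.Omega.IId.Two
open Cfsg.Agent.Omega.IId.Triangle Cfsg.Agent.MinSimple.VModule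
open scoped Pointwise

universe u

/-! ### An injective map -/

section inj

variable {F : Type*} [Field F] [Finite F]

theorem exists_inj (Θ : Submodule F (F → F)) (hΘ : ∀ θ ∈ Θ, ∀ a b, θ (a + b) = θ a + θ b)
    {η : F → F} (hη : ∀ μ : F, (fun a => η (μ * a)) ∈ Θ) (hne : ∃ a, η a ≠ 0) :
    ∃ θ ∈ Θ, ∀ a b, θ a = θ b → a = b := by
  classical
  have : Fintype F := Fintype.ofFinite F
  obtain ⟨μ, hμ⟩ := IsCyclic.exists_generator (α := Fˣ)
  set n := Fintype.card F - 1 with hn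
  have hcard : Fintype.card Fˣ = n := Fintype.card_units F
  have hn0 : 0 < n := by rw [← hcard]; exact Fintype.card_pos
  let θ : Fˣ → F → F := fun ζ a => ∑ i ∈ Finset.range n, ((ζ⁻¹ ^ i : Fˣ) : F) * η ((μ ^ i : Fˣ) * a)
  have h1 : ∀ ζ, θ ζ ∈ Θ := by
    intro ζ
    have h2 : θ ζ = ∑ i ∈ Finset.range n, ((ζ⁻¹ ^ i : Fˣ) : F) • fun a => η ((μ ^ i : Fˣ) * a) := by
      funext a
      simp only [Finset.sum_apply, Pi.smul_apply, smul_eq_mul, θ]
    rw [h2]
    exact Submodule.sum_mem _ fun i _ => Submodule.smul_mem _ _ (hη _)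
  have h2 : ∀ (ζ : Fˣ) (a : F), θ ζ (μ * a) = ζ * θ ζ a := by
    intro ζ a
    have e1 : θ ζ (μ * a) = ζ * ∑ i ∈ Finset.range n,
        ((ζ⁻¹ ^ (i + 1) : Fˣ) : F) * η ((μ ^ (i + 1) : Fˣ) * a) := by
      simp only [θ]
      rw [Finset.mul_sum]
      refine Finset.sum_congr rfl fun i _ => ?_
      have e2 : ((μ ^ (i + 1) : Fˣ) : F) * a = ((μ ^ i : Fˣ) : F) * (μ * a) := by
        rw [pow_succ, Units.val_mul, mul_assoc]
      have e3 : (ζ : F) * ((ζ⁻¹ ^ (i + 1) : Fˣ) : F) = ((ζ⁻¹ ^ i : Fˣ) : F) := by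
        rw [← Units.val_mul, pow_succ, mul_comm (ζ⁻¹ ^ i), mul_inv_cancel_left]
      rw [e2, ← mul_assoc (ζ : F) _ (η _), e3]
    have e2 : ∑ i ∈ Finset.range n, ((ζ⁻¹ ^ (i + 1) : Fˣ) : F) * η ((μ ^ (i + 1) : Fˣ) * a) = θ ζ a := by
      have e3 := Finset.sum_range_succ (fun i => ((ζ⁻¹ ^ i : Fˣ) : F) * η ((μ ^ i : Fˣ) * a)) n
      have e4 := Finset.sum_range_succ' (fun i => ((ζ⁻¹ ^ i : Fˣ) : F) * η ((μ ^ i : Fˣ) * a)) n
      have e5 : ζ⁻¹ ^ n = 1 := by rw [← hcard]; exact pow_card_eq_one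
      have e6 : μ ^ n = 1 := by rw [← hcard]; exact pow_card_eq_one
      rw [e3, e5, e6, pow_zero, pow_zero] at e4
      exact (add_right_cancel e4).symm
    rw [e1, e2]
  have h3 : ∀ a, ∑ ζ : Fˣ, θ ζ a = - η a := by
    intro a
    simp only [θ]
    rw [Finset.sum_comm]
    have e1 : ∀ i ∈ Finset.range n, ∑ ζ : Fˣ, ((ζ⁻¹ ^ i : Fˣ) : F) * η ((μ ^ i : Fˣ) * a) =
        (if i = 0 then -1 else 0) * η ((μ ^ i : Fˣ) * a) := by
      intro i hi
      rw [← Finset.sum_mul]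
      congr 1
      have e2 : ∑ ζ : Fˣ, ((ζ⁻¹ ^ i : Fˣ) : F) = ∑ ζ : Fˣ, ((ζ : F) ^ i) := by
        refine (Equiv.sum_comp (Equiv.inv Fˣ) (fun ζ => ((ζ ^ i : Fˣ) : F))).trans ?_
        exact Finset.sum_congr rfl fun ζ _ => Units.val_pow_eq_pow_val ζ i
      rw [e2, FiniteField.sum_pow_units]
      have e3 : Fintype.card F - 1 ∣ i ↔ i = 0 := by
        rw [Finset.mem_range] at hi
        exact ⟨fun h => Nat.eq_zero_of_dvd_of_lt h hi, fun h => by rw [h]; exact dvd_zero _⟩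
      simp only [e3]
    rw [Finset.sum_congr rfl e1, Finset.sum_eq_single 0]
    · rw [if_pos rfl, pow_zero, Units.val_one, one_mul, neg_one_mul]
    · intro i _ hi
      rw [if_neg hi, zero_mul]
    · intro h
      exact absurd (Finset.mem_range.2 hn0) h
  obtain ⟨a, ha⟩ := hne
  obtain ⟨ζ, hζ⟩ : ∃ ζ, θ ζ a ≠ 0 := by
    by_contra hcon
    push Not at hcon
    apply ha
    have e := h3 a
    rw [Finset.sum_eq_zero fun ζ _ => hcon ζ] at e
    exact neg_eq_zero.1 e.symm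
  have hadd := hΘ _ (h1 ζ)
  have h4 : ∀ b, θ ζ b = 0 → b = 0 := by
    intro b hb
    by_contra hb0
    have ha0 : a ≠ 0 := by
      rintro rfl
      apply hζ
      have e := hadd 0 0
      rw [add_zero] at e
      exact left_eq_add.1 e
    -- `a = μ ^ k b`
    obtain ⟨k, hk⟩ := Subgroup.mem_zpowers_iff.1 (hμ (Units.mk0 (a / b) (div_ne_zero ha0 hb0)))
    obtain ⟨k', hk'⟩ : ∃ k' : ℕ, μ ^ k' = Units.mk0 (a / b) (div_ne_zero ha0 hb0) := by
      have e := hμ (Units.mk0 (a / b) (div_ne_zero ha0 hb0))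
      rw [← mem_powers_iff_mem_zpowers] at e
      exact e
    have h5 : ∀ j : ℕ, θ ζ ((μ ^ j : Fˣ) * b) = 0 := by
      intro j
      induction j with
      | zero => rw [pow_zero, Units.val_one, one_mul]; exact hb
      | succ j ih =>
        have e : ((μ ^ (j + 1) : Fˣ) : F) * b = μ * (((μ ^ j : Fˣ) : F) * b) := by
          rw [pow_succ', Units.val_mul, mul_assoc]
        rw [e, h2, ih, mul_zero]
    have h6 := h5 k'
    rw [hk', Units.val_mk0, div_mul_cancel₀ _ hb0] at h6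
    exact hζ h6
  refine ⟨θ ζ, h1 ζ, fun b c hbc => ?_⟩
  have h5 : θ ζ (b - c) = 0 := by
    have e := hadd (b - c) c
    rw [sub_add_cancel, hbc] at e
    exact right_eq_add.1 e
  exact sub_eq_zero.1 (h4 _ h5)

end inj

/-! ### The space of the transvections with centre `R` -/

section ks

variable {G : Type u} [Group G] {F : Type} [Field F]

/-- The `F`-space of the additive maps `κ : U → F`, `κ(R) = 0`, such that all `u ↦ u f(λ κ(u))` are induced by
elements of `M`. -/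
def Ks (M U R : Subgroup G) (f : F → G) (hf : ∀ a b, f (a + b) = f a * f b) (hfR : ∀ a, f a ∈ R)
    (hRU : R ≤ U) : Submodule F (U → F) where
  carrier := {κ | (∀ u u', κ (u * u') = κ u + κ u') ∧ (∀ u : U, (u : G) ∈ R → κ u = 0) ∧
    ∀ l : F, ∃ g ∈ M, ∀ u : U, g * u * g⁻¹ = u * f (l * κ u)}
  zero_mem' := by
    refine ⟨fun _ _ => by simp, fun _ _ => rfl, fun l => ⟨1, one_mem _, fun u => ?_⟩⟩
    have h0 : f 0 = 1 := by
      have h := hf 0 0
      rw [add_zero] at h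
      exact left_eq_mul.1 h
    simp [h0]
  add_mem' := by
    rintro κ κ' ⟨h1, h2, h3⟩ ⟨h1', h2', h3'⟩
    refine ⟨fun u u' => ?_, fun u hu => ?_, fun l => ?_⟩
    · simp only [Pi.add_apply, h1, h1']; ring
    · simp only [Pi.add_apply, h2 u hu, h2' u hu, add_zero]
    · obtain ⟨g, hg, hgu⟩ := h3 l
      obtain ⟨g', hg', hgu'⟩ := h3' l
      refine ⟨g * g', mul_mem hg hg', fun u => ?_⟩
      have hr : g * f (l * κ' u) * g⁻¹ = f (l * κ' u) := by
        have e := hgu ⟨f (l * κ' u), hRU (hfR _)⟩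
        have e2 : κ ⟨f (l * κ' u), hRU (hfR _)⟩ = 0 := h2 _ (hfR _)
        rw [e2, mul_zero] at e
        have h0 : f 0 = 1 := by
          have h := hf 0 0
          rw [add_zero] at h
          exact left_eq_mul.1 h
        rw [h0, mul_one] at e
        exact e
      calc g * g' * u * (g * g')⁻¹ = g * (g' * u * g'⁻¹) * g⁻¹ := by group
        _ = (g * u * g⁻¹) * (g * f (l * κ' u) * g⁻¹) := by rw [hgu']; group
        _ = u * f (l * κ u) * f (l * κ' u) := by rw [hr, hgu]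
        _ = u * f (l * (κ + κ') u) := by rw [mul_assoc, ← hf, Pi.add_apply, mul_add]
  smul_mem' := by
    rintro c κ ⟨h1, h2, h3⟩
    refine ⟨fun u u' => ?_, fun u hu => ?_, fun l => ?_⟩
    · simp only [Pi.smul_apply, smul_eq_mul, h1, mul_add]
    · simp only [Pi.smul_apply, smul_eq_mul, h2 u hu, mul_zero]
    · obtain ⟨g, hg, hgu⟩ := h3 (l * c)
      refine ⟨g, hg, fun u => ?_⟩
      rw [hgu, Pi.smul_apply, smul_eq_mul, mul_assoc]

theorem map_zero_of {f : F → G} (hf : ∀ a b, f (a + b) = f a * f b) : f 0 = 1 := by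
  have h := hf 0 0
  rw [add_zero] at h
  exact left_eq_mul.1 h

/-- The counting argument of #14625 (iv), (v). -/
theorem Ks.false_of [Finite F] [Finite G] {M U R V : Subgroup G} {f : F → G}
    (hf : ∀ a b, f (a + b) = f a * f b) (hfR : ∀ a, f a ∈ R) (hRV : R ≤ V) (hVU : V ≤ U)
    (hM : ∀ g ∈ M, ∀ u ∈ U, g * u * g⁻¹ ∈ U) (hUc : ∀ a ∈ U, ∀ b ∈ U, a * b = b * a)
    {m : G} (hm : m ∈ M)
    (hKm : ∀ κ ∈ Ks M U R f hf hfR (hRV.trans hVU), ∀ u : U, m * u * m⁻¹ ∈ V → κ u = 0)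
    {ε : U → F} (hε : ε ∈ Ks M U R f hf hfR (hRV.trans hVU)) (hεV : ∃ u : U, (u : G) ∈ V ∧ ε u ≠ 0)
    (hεR : ∃ (a : F) (u : U), (u : G) = m * f a * m⁻¹ ∧ ε u ≠ 0) : False := by
  classical
  have hRU : R ≤ U := hRV.trans hVU
  set K := Ks M U R f hf hfR hRU with hK
  have hf0 : f 0 = 1 := map_zero_of hf
  have hm' : m⁻¹ ∈ M := inv_mem hm
  -- the conjugation map
  have hcU : ∀ u ∈ U, m⁻¹ * u * m ∈ U := fun u hu => by
    have h := hM _ hm' u hu
    rwa [inv_inv] at h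
  let c : U → U := fun u => ⟨m⁻¹ * u * m, hcU u u.2⟩
  have hcm : ∀ u u', c (u * u') = c u * c u' := fun u u' => Subtype.ext (by
    change m⁻¹ * ((u : G) * u') * m = m⁻¹ * u * m * (m⁻¹ * u' * m)
    group)
  let c' : U → U := fun u => ⟨m * u * m⁻¹, hM m hm u u.2⟩
  have hcc' : ∀ u, c (c' u) = u := fun u => Subtype.ext (by
    change m⁻¹ * (m * (u : G) * m⁻¹) * m = u
    group)
  -- the elements `m f(a) m⁻¹`
  have hfm : ∀ a, m * f a * m⁻¹ ∈ U := fun a => hM m hm _ (hRU (hfR a))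
  let fm : F → U := fun a => ⟨m * f a * m⁻¹, hfm a⟩
  have hfma : ∀ a b, fm (a + b) = fm a * fm b := fun a b => Subtype.ext (by
    change m * f (a + b) * m⁻¹ = m * f a * m⁻¹ * (m * f b * m⁻¹)
    rw [hf]; group)
  have hεa := hε.1
  let η : F → F := fun a => ε (fm a)
  have hηa : ∀ a b, η (a + b) = η a + η b := fun a b => by
    change ε (fm (a + b)) = ε (fm a) + ε (fm b)
    rw [hfma, hεa]
  have hη0 : η 0 = 0 := by
    have h := hηa 0 0
    rw [add_zero] at h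
    exact left_eq_add.1 h
  have hηne : ∃ a, η a ≠ 0 := by
    obtain ⟨a, u, hu, hne⟩ := hεR
    refine ⟨a, ?_⟩
    have h : u = fm a := Subtype.ext hu
    change ε (fm a) ≠ 0
    rwa [← h]
  have hKc : ∀ κ ∈ K, ∀ u : U, (u : G) ∈ V → κ (c u) = 0 := by
    intro κ hκ u hu
    apply hKm κ hκ
    change m * (m⁻¹ * (u : G) * m) * m⁻¹ ∈ V
    have h : m * (m⁻¹ * (u : G) * m) * m⁻¹ = u := by group
    rwa [h]
  -- the elements of `K` which vanish on `V`
  let KV : Submodule F (U → F) := K ⊓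
    { carrier := {κ | ∀ u : U, (u : G) ∈ V → κ u = 0}
      zero_mem' := fun _ _ => rfl
      add_mem' := fun {a b} ha hb u hu => by
        change a u + b u = 0
        rw [ha u hu, hb u hu, add_zero]
      smul_mem' := fun r a ha u hu => by
        change r * a u = 0
        rw [ha u hu, mul_zero] }
  have hKV : ∀ κ, κ ∈ KV ↔ κ ∈ K ∧ ∀ u : U, (u : G) ∈ V → κ u = 0 := fun κ => Iff.rfl
  let Θ : Submodule F (F → F) :=
    { carrier := {θ | (∀ a b, θ (a + b) = θ a + θ b) ∧ ∀ κ ∈ K, (fun u => θ (κ (c u))) ∈ KV}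
      zero_mem' := ⟨fun _ _ => by simp, fun κ _ => KV.zero_mem⟩
      add_mem' := by
        rintro θ θ' ⟨h1, h2⟩ ⟨h1', h2'⟩
        refine ⟨fun a b => ?_, fun κ hκ => KV.add_mem (h2 κ hκ) (h2' κ hκ)⟩
        simp only [Pi.add_apply, h1, h1']; ring
      smul_mem' := by
        rintro r θ ⟨h1, h2⟩
        refine ⟨fun a b => ?_, fun κ hκ => KV.smul_mem r (h2 κ hκ)⟩
        simp only [Pi.smul_apply, smul_eq_mul, h1, mul_add] }
  have key : ∀ μ : F, (fun a => η (μ * a)) ∈ Θ := by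
    intro μ
    refine ⟨fun a b => by change η (μ * (a + b)) = η (μ * a) + η (μ * b); rw [mul_add, hηa], fun κ hκ => ?_⟩
    rw [hKV]
    have hκV : ∀ u : U, (u : G) ∈ V → η (μ * κ (c u)) = 0 := by
      intro u hu
      rw [hKc κ hκ u hu, mul_zero, hη0]
    refine ⟨⟨fun u u' => ?_, fun u hu => hκV u (hRV hu), fun l => ?_⟩, hκV⟩
    · change η (μ * κ (c (u * u'))) = η (μ * κ (c u)) + η (μ * κ (c u'))
      rw [hcm, hκ.1, mul_add, hηa]
    · obtain ⟨g, hg, hgu⟩ := hκ.2.2 μ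
      obtain ⟨d, hd, hdu⟩ := hε.2.2 l
      set g1 := m * g * m⁻¹ with hg1
      have hg1M : g1 ∈ M := mul_mem (mul_mem hm hg) hm'
      -- the actions
      have a1 : ∀ u : U, g1 * u * g1⁻¹ = u * fm (μ * κ (c u)) := by
        intro u
        have h := hgu (c u)
        have h' : g * (m⁻¹ * (u : G) * m) * g⁻¹ = m⁻¹ * (u : G) * m * f (μ * κ (c u)) := h
        calc g1 * u * g1⁻¹ = m * (g * (m⁻¹ * (u : G) * m) * g⁻¹) * m⁻¹ := by rw [hg1]; group
          _ = u * (m * f (μ * κ (c u)) * m⁻¹) := by rw [h']; group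
      have a1R : ∀ a, g1 * f a * g1⁻¹ = f a := by
        intro a
        have h := a1 ⟨f a, hRU (hfR a)⟩
        have h2 : κ (c ⟨f a, hRU (hfR a)⟩) = 0 := hKc κ hκ _ (hRV (hfR a))
        rw [h2, mul_zero] at h
        have h3 : ((fm 0 : U) : G) = 1 := by
          change m * f 0 * m⁻¹ = 1
          rw [hf0]; group
        rw [h3, mul_one] at h
        exact h
      have dR : ∀ a, d * f a * d⁻¹ = f a := by
        intro a
        have h := hdu ⟨f a, hRU (hfR a)⟩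
        rw [hε.2.1 _ (hfR a), mul_zero, hf0, mul_one] at h
        exact h
      refine ⟨d⁻¹ * g1⁻¹ * d * g1, mul_mem (mul_mem (mul_mem (inv_mem hd) (inv_mem hg1M)) hd) hg1M,
        fun u => ?_⟩
      set t := f (l * η (μ * κ (c u))) with ht
      -- `d g1 u (d g1)⁻¹`
      have e1 : d * (g1 * u * g1⁻¹) * d⁻¹ = u * f (l * ε u) * (fm (μ * κ (c u)) * t) := by
        have h := hdu (fm (μ * κ (c u)))
        calc d * (g1 * u * g1⁻¹) * d⁻¹ = (d * u * d⁻¹) * (d * (fm (μ * κ (c u)) : U) * d⁻¹) := by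
              rw [a1]; group
          _ = u * f (l * ε u) * (fm (μ * κ (c u)) * t) := by rw [hdu, h]
      -- `g1 d (u t) (g1 d)⁻¹`
      have e2 : g1 * (d * (u * t) * d⁻¹) * g1⁻¹ = u * fm (μ * κ (c u)) * (f (l * ε u) * t) := by
        calc g1 * (d * (u * t) * d⁻¹) * g1⁻¹
            = g1 * ((d * u * d⁻¹) * (d * t * d⁻¹)) * g1⁻¹ := by group
          _ = g1 * (u * f (l * ε u) * t) * g1⁻¹ := by rw [hdu, dR]
          _ = (g1 * u * g1⁻¹) * (g1 * f (l * ε u) * g1⁻¹) * (g1 * t * g1⁻¹) := by group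
          _ = u * fm (μ * κ (c u)) * (f (l * ε u) * t) := by rw [a1, a1R, ht, a1R]; group
      have e3 : u * f (l * ε u) * ((fm (μ * κ (c u)) : U) * t) =
          u * fm (μ * κ (c u)) * (f (l * ε u) * t) := by
        have h := hUc _ (hRU (hfR (l * ε u))) _ (fm (μ * κ (c u))).2
        calc u * f (l * ε u) * ((fm (μ * κ (c u)) : U) * t)
            = u * (f (l * ε u) * (fm (μ * κ (c u)) : U)) * t := by group
          _ = u * fm (μ * κ (c u)) * (f (l * ε u) * t) := by rw [h]; group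
      have e4 : d * (g1 * u * g1⁻¹) * d⁻¹ = g1 * (d * (u * t) * d⁻¹) * g1⁻¹ := by rw [e1, e2, e3]
      calc d⁻¹ * g1⁻¹ * d * g1 * u * (d⁻¹ * g1⁻¹ * d * g1)⁻¹
          = d⁻¹ * g1⁻¹ * (d * (g1 * u * g1⁻¹) * d⁻¹) * g1 * d := by group
        _ = u * t := by rw [e4]; group
  obtain ⟨θ, hθ, hinj⟩ := exists_inj Θ (fun θ hθ => hθ.1) key hηne
  -- counting
  have h1 : (K : Set (U → F)).ncard ≤ (KV : Set (U → F)).ncard := by
    refine Set.ncard_le_ncard_of_injOn (fun κ u => θ (κ (c u))) (fun κ hκ => hθ.2 κ hκ) ?_ (Set.toFinite _)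
    intro κ _ κ' _ h
    funext u
    have h2 := congrFun h (c' u)
    simp only [hcc'] at h2
    exact hinj _ _ h2
  have h2 : (KV : Set (U → F)) ⊂ (K : Set (U → F)) := by
    refine ⟨fun κ hκ => hκ.1, fun h => ?_⟩
    obtain ⟨u, hu, hne⟩ := hεV
    exact hne ((h hε).2 u hu)
  have h3 := Set.ncard_lt_ncard h2 (Set.toFinite _)
  omega

end ks

/-! ### The 2-groups -/

section sylow

variable {G : Type u} [Group G]

/-- A 2-subgroup of `C` is conjugate in `C` into a Sylow 2-subgroup of `C`. -/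
theorem exists_conj_le [Finite G] {C S X : Subgroup G} (hX : X ≤ C) (hSp : IsPGroup 2 S)
    (hXp : IsPGroup 2 X) (hidx : ¬ 2 ∣ S.relIndex C) : ∃ c ∈ C, ∀ x ∈ X, c * x * c⁻¹ ∈ S := by
  have : Fact (Nat.Prime 2) := ⟨Nat.prime_two⟩
  have hS' : IsPGroup 2 (S.subgroupOf C) := hSp.comap_of_injective C.subtype Subtype.val_injective
  have hX' : IsPGroup 2 (X.subgroupOf C) := hXp.comap_of_injective C.subtype Subtype.val_injective
  obtain ⟨Q, hQ⟩ := hX'.exists_le_sylow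
  obtain ⟨c, hc⟩ := MulAction.exists_smul_eq C Q (hS'.toSylow hidx)
  refine ⟨c, c.2, ?_⟩
  intro y hy
  have h1 : (⟨y, hX hy⟩ : C) ∈ (Q : Subgroup C) := hQ (Subgroup.mem_subgroupOf.2 hy)
  have h2 : c * ⟨y, hX hy⟩ * c⁻¹ ∈ ((c • Q : Sylow 2 C) : Subgroup C) := by
    have : c * ⟨y, hX hy⟩ * c⁻¹ = (MulAut.conj c) • (⟨y, hX hy⟩ : C) := rfl
    rw [this]
    exact Subgroup.smul_mem_pointwise_smul _ _ _ h1
  rw [hc] at h2
  exact Subgroup.mem_subgroupOf.1 h2

/-- `T ∩ N` is a Sylow 2-subgroup of the normal subgroup `N`. -/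
theorem not_dvd_inf [Finite G] {H T N : Subgroup G} (hTH : T ≤ H) (hTS : ¬ 2 ∣ T.relIndex H)
    (hNH : N ≤ H) (hN : H ≤ normalizer (N : Set G)) : ¬ 2 ∣ (N ⊓ T).relIndex N := by
  have hn : (N.subgroupOf H).Normal := (normal_subgroupOf_iff_le_normalizer hNH).2 hN
  have h1 : N.relIndex (N ⊔ T) = N.relIndex T := by
    have h := Subgroup.relIndex_sup_left (K := N.subgroupOf H) (H := T.subgroupOf H)
    rw [← Subgroup.subgroupOf_sup hNH hTH, Subgroup.relIndex_subgroupOf (sup_le hNH hTH),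
      Subgroup.relIndex_subgroupOf hTH] at h
    exact h
  have h2 := Subgroup.relIndex_mul_relIndex (N ⊓ T) N (N ⊔ T) inf_le_left le_sup_left
  have h3 := Subgroup.relIndex_mul_relIndex (N ⊓ T) T (N ⊔ T) inf_le_right le_sup_right
  have h4 : (N ⊓ T).relIndex T = N.relIndex T := Subgroup.inf_relIndex_right N T
  rw [h1] at h2
  rw [h4, ← h2, mul_comm] at h3
  have h5 : T.relIndex (N ⊔ T) = (N ⊓ T).relIndex N :=
    Nat.eq_of_mul_eq_mul_right (Nat.pos_of_ne_zero (Subgroup.index_ne_zero_of_finite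
      (H := N.subgroupOf T))) h3
  intro h
  have h6 := Subgroup.relIndex_mul_relIndex T (N ⊔ T) H le_sup_right (sup_le hNH hTH)
  exact hTS (h6 ▸ (h5 ▸ h : 2 ∣ T.relIndex (N ⊔ T)).mul_right _)

/-- The group `{g ∈ H : [A, g] ≤ X, [X, g] = 1}`. -/
def KX (H A X : Subgroup G) : Subgroup G where
  carrier := {g | g ∈ H ∧ (∀ u ∈ A, g * u * g⁻¹ * u⁻¹ ∈ X) ∧ ∀ x ∈ X, g * x * g⁻¹ = x}
  one_mem' := ⟨one_mem _, fun u _ => by simp, fun x _ => by simp⟩
  mul_mem' := by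
    rintro g k ⟨hg1, hg2, hg3⟩ ⟨hk1, hk2, hk3⟩
    refine ⟨mul_mem hg1 hk1, fun u hu => ?_, fun x hx => ?_⟩
    · have e : g * k * u * (g * k)⁻¹ * u⁻¹ =
          (g * (k * u * k⁻¹ * u⁻¹) * g⁻¹) * (g * u * g⁻¹ * u⁻¹) := by group
      rw [e, hg3 _ (hk2 u hu)]
      exact mul_mem (hk2 u hu) (hg2 u hu)
    · calc g * k * x * (g * k)⁻¹ = g * (k * x * k⁻¹) * g⁻¹ := by group
        _ = x := by rw [hk3 x hx, hg3 x hx]
  inv_mem' := by
    rintro g ⟨hg1, hg2, hg3⟩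
    have hg4 : ∀ x ∈ X, g⁻¹ * x * g = x := by
      intro x hx
      calc g⁻¹ * x * g = g⁻¹ * (g * x * g⁻¹) * g := by rw [hg3 x hx]
        _ = x := by group
    refine ⟨inv_mem hg1, fun u hu => ?_, fun x hx => by rw [inv_inv]; exact hg4 x hx⟩
    have e : g⁻¹ * u * g⁻¹⁻¹ * u⁻¹ = g⁻¹ * (g * u * g⁻¹ * u⁻¹)⁻¹ * g := by group
    rw [e, hg4 _ (inv_mem (hg2 u hu))]
    exact inv_mem (hg2 u hu)

theorem mem_KX {H A X : Subgroup G} {g : G} : g ∈ KX H A X ↔
    g ∈ H ∧ (∀ u ∈ A, g * u * g⁻¹ * u⁻¹ ∈ X) ∧ ∀ x ∈ X, g * x * g⁻¹ = x := Iff.rfl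

/-- #14625 (iii), the reduction to a Sylow subgroup: `K_X` induces an elementary abelian 2-group on `A`. -/
theorem KX_cent [Finite G] {H A X T V : Subgroup G} (hA : ∀ a ∈ A, ∀ b ∈ A, a * b = b * a)
    (hA2 : ∀ a ∈ A, a * a = 1) (hHA : ∀ k ∈ H, ∀ a ∈ A, k * a * k⁻¹ ∈ A) (hXA : X ≤ A)
    (hT : IsPGroup 2 T) (hTN : T ≤ H ⊓ normalizer (X : Set G))
    (hTS : ¬ 2 ∣ T.relIndex (H ⊓ normalizer (X : Set G))) (hVA : V ≤ A)
    (hTV : ∀ g ∈ T, g ∈ KX H A X → ∀ a ∈ V, g * a * g⁻¹ = a) :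
    ∀ g ∈ KX H A X, ∀ a ∈ V, g * a * g⁻¹ = a := by
  set K := KX H A X with hK
  set N := H ⊓ normalizer (X : Set G) with hN
  have hKN : K ≤ N := by
    intro g hg
    refine ⟨hg.1, mem_normalizer_iff.2 fun x => ?_⟩
    constructor
    · intro hx
      rw [hg.2.2 x hx]
      exact hx
    · intro hx
      have h1 := (inv_mem hg : g⁻¹ ∈ K).2.2 _ hx
      have h2 : g⁻¹ * (g * x * g⁻¹) * g⁻¹⁻¹ = x := by group
      have h3 : x = g * x * g⁻¹ := h2.symm.trans h1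
      rw [h3]
      exact hx
  have hNK : N ≤ normalizer (K : Set G) := by
    apply Cfsg.Agent.Omega.IId.Two.le_normalizer_of
    intro n hn g hg
    have hX : ∀ x ∈ X, n * x * n⁻¹ ∈ X := fun x hx => (mem_normalizer_iff.1 hn.2 x).1 hx
    have hX' : ∀ x ∈ X, n⁻¹ * x * n ∈ X := fun x hx => by
      have h1 := (mem_normalizer_iff.1 (inv_mem hn.2) x).1 hx
      rwa [inv_inv] at h1
    refine ⟨mul_mem (mul_mem hn.1 hg.1) (inv_mem hn.1), fun u hu => ?_, fun x hx => ?_⟩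
    · have h1 : n⁻¹ * u * n ∈ A := by
        have h2 := hHA n⁻¹ (inv_mem hn.1) u hu
        rwa [inv_inv] at h2
      have h2 := hX _ (hg.2.1 _ h1)
      have h3 : n * g * n⁻¹ * u * (n * g * n⁻¹)⁻¹ * u⁻¹ =
          n * (g * (n⁻¹ * u * n) * g⁻¹ * (n⁻¹ * u * n)⁻¹) * n⁻¹ := by group
      rw [h3]
      exact h2
    · calc n * g * n⁻¹ * x * (n * g * n⁻¹)⁻¹ = n * (g * (n⁻¹ * x * n) * g⁻¹) * n⁻¹ := by group
        _ = n * (n⁻¹ * x * n) * n⁻¹ := by rw [hg.2.2 _ (hX' x hx)]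
        _ = x := by group
  -- conjugate elements of `K` act in the same way on `A`
  have hsame : ∀ g ∈ K, ∀ k ∈ K, ∀ u ∈ A, k * g * k⁻¹ * u * (k * g * k⁻¹)⁻¹ = g * u * g⁻¹ := by
    intro g hg k hk u hu
    obtain ⟨d, hd⟩ : ∃ d, d = k⁻¹ * u * k * u⁻¹ := ⟨_, rfl⟩
    obtain ⟨e, he⟩ : ∃ e, e = g * u * g⁻¹ * u⁻¹ := ⟨_, rfl⟩
    have hdX : d ∈ X := by
      have h1 := (inv_mem hk : k⁻¹ ∈ K).2.1 u hu
      rw [inv_inv] at h1
      rw [hd]; exact h1
    have heX : e ∈ X := by rw [he]; exact hg.2.1 u hu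
    have h1 : k⁻¹ * u * k = d * u := by rw [hd]; group
    have h2 : g * u * g⁻¹ = e * u := by rw [he]; group
    have h3 : k * u * k⁻¹ = d⁻¹ * u := by
      have h4 : u = d * (k * u * k⁻¹) := by
        calc u = k * (k⁻¹ * u * k) * k⁻¹ := by group
          _ = (k * d * k⁻¹) * (k * u * k⁻¹) := by rw [h1]; group
          _ = d * (k * u * k⁻¹) := by rw [hk.2.2 d hdX]
      calc k * u * k⁻¹ = d⁻¹ * (d * (k * u * k⁻¹)) := by group
        _ = d⁻¹ * u := by rw [← h4]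
    have h5 := hA d (hXA hdX) e (hXA heX)
    calc k * g * k⁻¹ * u * (k * g * k⁻¹)⁻¹ = k * (g * (k⁻¹ * u * k) * g⁻¹) * k⁻¹ := by group
      _ = k * ((g * d * g⁻¹) * (g * u * g⁻¹)) * k⁻¹ := by rw [h1]; group
      _ = (k * d * k⁻¹) * (k * e * k⁻¹) * (k * u * k⁻¹) := by rw [hg.2.2 d hdX, h2]; group
      _ = d * e * (d⁻¹ * u) := by rw [hk.2.2 d hdX, hk.2.2 e heX, h3]
      _ = e * u := by rw [h5]; group
      _ = g * u * g⁻¹ := h2.symm
  -- squares act trivially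
  have hsq : ∀ g ∈ K, ∀ u ∈ A, ∀ j : ℕ, (g ^ 2) ^ j * u * ((g ^ 2) ^ j)⁻¹ = u := by
    intro g hg u hu j
    obtain ⟨e, he⟩ : ∃ e, e = g * u * g⁻¹ * u⁻¹ := ⟨_, rfl⟩
    have heX : e ∈ X := by rw [he]; exact hg.2.1 u hu
    have h2 : g * u * g⁻¹ = e * u := by rw [he]; group
    have h3 : g ^ 2 * u * (g ^ 2)⁻¹ = u := by
      calc g ^ 2 * u * (g ^ 2)⁻¹ = g * (g * u * g⁻¹) * g⁻¹ := by rw [pow_two]; group
        _ = g * (e * u) * g⁻¹ := by rw [h2]
        _ = (g * e * g⁻¹) * (g * u * g⁻¹) := by group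
        _ = e * e * u := by rw [hg.2.2 e heX, h2]; group
        _ = u := by rw [hA2 e (hXA heX), one_mul]
    induction j with
    | zero => simp
    | succ j ih =>
      calc (g ^ 2) ^ (j + 1) * u * ((g ^ 2) ^ (j + 1))⁻¹
          = (g ^ 2) ^ j * (g ^ 2 * u * (g ^ 2)⁻¹) * ((g ^ 2) ^ j)⁻¹ := by rw [pow_succ]; group
        _ = u := by rw [h3, ih]
  have hodd : ∀ g ∈ K, ∀ u ∈ A, ∀ n : ℕ, Odd n → g ^ n * u * (g ^ n)⁻¹ = g * u * g⁻¹ := by
    rintro g hg u hu n ⟨j, rfl⟩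
    calc g ^ (2 * j + 1) * u * (g ^ (2 * j + 1))⁻¹
        = g * ((g ^ 2) ^ j * u * ((g ^ 2) ^ j)⁻¹) * g⁻¹ := by rw [pow_succ', pow_mul]; group
      _ = g * u * g⁻¹ := by rw [hsq g hg u hu j]
  intro g hg a ha
  have haA := hVA ha
  -- the 2-part of `g`
  obtain ⟨m, n, hn, hmn⟩ := Nat.exists_eq_two_pow_mul_odd (orderOf_pos g).ne'
  have h1 : (g ^ n) ^ 2 ^ m = 1 := by
    rw [← pow_mul, mul_comm, ← hmn]
    exact pow_orderOf_eq_one g
  have h2 : IsPGroup 2 (zpowers (g ^ n)) := by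
    have hd := orderOf_dvd_of_pow_eq_one h1
    obtain ⟨k, -, hk⟩ := (Nat.dvd_prime_pow Nat.prime_two).1 hd
    exact IsPGroup.of_card (n := k) (by rw [Nat.card_zpowers, hk])
  have h3 : zpowers (g ^ n) ≤ K := by
    rw [zpowers_le]
    exact pow_mem hg n
  obtain ⟨c, hc, hcg⟩ := exists_conj_le h3 (hT.to_le inf_le_right) h2 (not_dvd_inf hTN hTS hKN hNK)
  have h4 := hcg _ (mem_zpowers _)
  have h5 := hTV _ h4.2 h4.1 a ha
  rw [hsame _ (pow_mem hg n) c hc a haA, hodd g hg a haA n hn] at h5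
  exact h5

end sylow

/-! ### The point `X = R^y` -/

section tri

variable {G : Type u} [Group G] [Finite G] {S T : Sylow 2 G} {So V₁ V₂ L₁ L₂ : Subgroup G} {s v : G}
  (h : Tri S T So V₁ V₂ L₁ L₂ s v)

include h

theorem z_notMem : v * (s * v * s⁻¹) ∉ V₁ := by
  intro h5
  have h6 : s * v * s⁻¹ ∈ V₁ := (mul_mem_cancel_left h.vV).1 h5
  exact h.w1 (h.inf _ h6 h.wV)

theorem fix_of_mem {x : G} (hx : x ∈ normalizer (So : Set G)) (hxV : x * v * x⁻¹ ∈ V₁) :
    x * v * x⁻¹ = v := by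
  have h1 := (mem_normalizer_iff.1 (normalizer_le_normalizer_zc _ hx) v).1 h.v_zc
  rcases h.zcSo_cases h1 with h2 | h2 | h2 | h2
  · exfalso
    apply h.v1
    have h3 : v = x⁻¹ * (x * v * x⁻¹) * x := by group
    rw [h3, h2]; group
  · exact h2
  · exfalso
    rw [h2] at hxV
    exact h.w1 (h.inf _ hxV h.wV)
  · exfalso
    rw [h2] at hxV
    exact z_notMem h hxV

theorem exists_X {H R : Subgroup G} (hRV : R ≤ V₁) (hvR : v ∈ R)
    (hSR : So ≤ normalizer (R : Set G)) (hTH : (T : Subgroup G) ≤ H) (hsH : s ∈ H)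
    (hzH : centralizer ({v * (s * v * s⁻¹)} : Set G) ≤ H) :
    ∃ y ∈ H, y ∈ normalizer (So : Set G) ∧ y * v * y⁻¹ = v * (s * v * s⁻¹) ∧
      ∃ Q : Subgroup G, IsPGroup 2 Q ∧ So ≤ Q ∧ Q ≤ (S : Subgroup G) ∧
        Q ≤ H ⊓ normalizer (R.map (MulAut.conj y).toMonoidHom : Set G) ∧
        ¬ 2 ∣ Q.relIndex (H ⊓ normalizer (R.map (MulAut.conj y).toMonoidHom : Set G)) := by
  have : Fact (Nat.Prime 2) := ⟨Nat.prime_two⟩
  obtain ⟨T₂, hSoT, hT₂N, hT₂p, hT₂s⟩ := Half.exists_sylow_le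
    (H := H ⊓ normalizer (R : Set G)) (T.isPGroup'.to_le h.SoT) (le_inf (h.SoT.trans hTH) hSR)
  have hfix : ∀ x ∈ T₂, x ∈ normalizer (So : Set G) → x * v * x⁻¹ = v := fun x hx hxn =>
    fix_of_mem h hxn (hRV ((mem_normalizer_iff.1 (hT₂N hx).2 v).1 hvR))
  have hT₂So : T₂ ≤ normalizer (So : Set G) := by
    by_contra hcon
    have hne : ¬ T₂ ≤ So := fun h1 => hcon (h1.trans le_normalizer)
    set N := T₂ ⊓ normalizer (So : Set G) with hN
    have hSoN : So ≤ N := le_inf hSoT le_normalizer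
    have hNSo : ¬ N ≤ So := by
      intro h1
      have hlt : So.subgroupOf T₂ < ⊤ := by
        rw [lt_top_iff_ne_top, Ne, subgroupOf_eq_top]
        exact hne
      have hnc : NormalizerCondition T₂ := by
        have := hT₂p.isNilpotent
        exact Group.normalizerCondition_of_isNilpotent
      obtain ⟨x, hx, hxB⟩ := SetLike.exists_of_lt (hnc _ hlt)
      apply hxB
      rw [mem_subgroupOf]
      apply h1
      refine ⟨x.2, mem_normalizer_iff.2 fun y => ⟨fun hy => ?_, fun hy => ?_⟩⟩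
      · exact mem_subgroupOf.1 ((mem_normalizer_iff.1 hx ⟨y, hSoT hy⟩).1 (mem_subgroupOf.2 hy))
      · have h2 := mem_subgroupOf.1 ((mem_normalizer_iff.1 (inv_mem hx)
          ⟨x * y * (x : G)⁻¹, hSoT hy⟩).1 (mem_subgroupOf.2 hy))
        have h3 : (x : G)⁻¹ * (x * y * (x : G)⁻¹) * (x : G)⁻¹⁻¹ = y := by group
        have h4 : (x : G)⁻¹ * (x * y * (x : G)⁻¹) * (x : G)⁻¹⁻¹ ∈ So := h2
        rwa [h3] at h4
    have h1 := Half.card_mul_relIndex hSoN
    have h2 : So.relIndex N ≠ 1 := fun h3 => hNSo (relIndex_eq_one.1 h3)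
    have h3 : So.relIndex N ≠ 0 := index_ne_zero_of_finite
    have h4 : 2 * Nat.card So ≤ Nat.card N := by
      rw [← h1, mul_comm]
      exact Nat.mul_le_mul_left _ (by omega)
    have h5 := Half.card_le_sylow S hT₂p
    rw [h.card] at h5
    have h6 : N = T₂ := Subgroup.eq_of_le_of_card_ge inf_le_left (h5.trans h4)
    exact hcon (inf_eq_left.1 h6)
  obtain ⟨t, ht, htS⟩ := h.exists_t
  have hts : (t * s) * v * (t * s)⁻¹ = v * (s * v * s⁻¹) := by
    rw [← h.t_w ht htS]; group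
  have htsN : t * s ∈ normalizer (So : Set G) := by
    refine mul_mem ?_ ?_
    · exact Cfsg.Agent.Omega.IId.Two.le_normalizer_of
        (fun k hk y hy => conj_mem_of_two h.SoT h.twoT hk hy) ht
    · exact Cfsg.Agent.Omega.IId.Two.le_normalizer_of
        (fun k hk y hy => conj_mem_of_two h.SoS h.two hk hy) h.sS
  set D := normalizer (So : Set G) ⊓ centralizer ({v * (s * v * s⁻¹)} : Set G) with hD
  have hSD : (S : Subgroup G) ≤ D := le_inf
    (Cfsg.Agent.Omega.IId.Two.le_normalizer_of fun k hk y hy => conj_mem_of_two h.SoS h.two hk hy)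
    (fun x hx => mem_cent.2 ((mem_zc.1 h.zS).2.1 x hx))
  have hT₃ : T₂.map (MulAut.conj (t * s)).toMonoidHom ≤ D := by
    rintro _ ⟨x, hx, rfl⟩
    refine mem_inf.2 ⟨mul_mem (mul_mem htsN (hT₂So hx)) (inv_mem htsN), mem_cent.2 ?_⟩
    have h1 := hfix x hx (hT₂So hx)
    have h2 : x * v = v * x := mul_inv_eq_iff_eq_mul.1 h1
    rw [← hts]
    change (t * s) * x * (t * s)⁻¹ * ((t * s) * v * (t * s)⁻¹) =
      (t * s) * v * (t * s)⁻¹ * ((t * s) * x * (t * s)⁻¹)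
    calc (t * s) * x * (t * s)⁻¹ * ((t * s) * v * (t * s)⁻¹) = (t * s) * (x * v) * (t * s)⁻¹ := by
          group
      _ = (t * s) * v * (t * s)⁻¹ * ((t * s) * x * (t * s)⁻¹) := by rw [h2]; group
  have hSs : ¬ 2 ∣ (S : Subgroup G).relIndex D := fun h1 =>
    S.not_dvd_index (h1.trans (relIndex_dvd_index_of_le hSD))
  obtain ⟨c, hc, hcS⟩ := exists_conj_le hT₃ S.isPGroup' (hT₂p.map _) hSs
  have hcz : c * (v * (s * v * s⁻¹)) = v * (s * v * s⁻¹) * c := mem_cent.1 hc.2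
  have htH : t ∈ H := hTH ht
  have hyH : c * (t * s) ∈ H := mul_mem (hzH hc.2) (mul_mem htH hsH)
  have hyN : c * (t * s) ∈ normalizer (So : Set G) := mul_mem hc.1 htsN
  set y := c * (t * s) with hy
  have hmap : (H ⊓ normalizer (R : Set G)).map (MulAut.conj y).toMonoidHom =
      H ⊓ normalizer (R.map (MulAut.conj y).toMonoidHom : Set G) := by
    have key : ∀ (y : G), y ∈ H → ∀ R : Subgroup G,
        (H ⊓ normalizer (R : Set G)).map (MulAut.conj y).toMonoidHom ≤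
          H ⊓ normalizer (R.map (MulAut.conj y).toMonoidHom : Set G) := by
      rintro y hy R _ ⟨n, hn, rfl⟩
      refine mem_inf.2 ⟨mul_mem (mul_mem hy (mem_inf.1 hn).1) (inv_mem hy),
        mem_normalizer_iff.2 fun a => ?_⟩
      have h1 : ∀ b, b ∈ R.map (MulAut.conj y).toMonoidHom ↔ y⁻¹ * b * y ∈ R := by
        intro b
        constructor
        · rintro ⟨x, hx, rfl⟩
          have h2 : y⁻¹ * (y * x * y⁻¹) * y = x := by group
          change y⁻¹ * (y * x * y⁻¹) * y ∈ R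
          rw [h2]; exact hx
        · intro hb
          refine ⟨_, hb, ?_⟩
          change y * (y⁻¹ * b * y) * y⁻¹ = b
          group
      rw [h1, h1, mem_normalizer_iff.1 hn.2 (y⁻¹ * a * y)]
      have h2 : n * (y⁻¹ * a * y) * n⁻¹ = y⁻¹ * ((MulAut.conj y).toMonoidHom n * a *
          ((MulAut.conj y).toMonoidHom n)⁻¹) * y := by
        change n * (y⁻¹ * a * y) * n⁻¹ = y⁻¹ * (y * n * y⁻¹ * a * (y * n * y⁻¹)⁻¹) * y
        group
      rw [h2]
    apply le_antisymm (key y hyH R)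
    intro x hx
    have h1 := key y⁻¹ (inv_mem hyH) (R.map (MulAut.conj y).toMonoidHom) (mem_map_of_mem _ hx)
    have h2 : (R.map (MulAut.conj y).toMonoidHom).map (MulAut.conj y⁻¹).toMonoidHom = R := by
      rw [Subgroup.map_map]
      convert Subgroup.map_id R
      ext a
      change y⁻¹ * (y * a * y⁻¹) * y⁻¹⁻¹ = a
      group
    rw [h2] at h1
    refine ⟨_, h1, ?_⟩
    change y * (y⁻¹ * x * y⁻¹⁻¹) * y⁻¹ = x
    group
  refine ⟨y, hyH, hyN, ?_, T₂.map (MulAut.conj y).toMonoidHom, hT₂p.map _, ?_, ?_, ?_, ?_⟩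
  · calc y * v * y⁻¹ = c * ((t * s) * v * (t * s)⁻¹) * c⁻¹ := by rw [hy]; group
      _ = v * (s * v * s⁻¹) := by rw [hts, hcz]; group
  · intro x hx
    refine ⟨y⁻¹ * x * y, hSoT ?_, ?_⟩
    · have h1 := (mem_normalizer_iff.1 (inv_mem hyN) x).1 hx
      rwa [inv_inv] at h1
    · change y * (y⁻¹ * x * y) * y⁻¹ = x
      group
  · rintro _ ⟨x, hx, rfl⟩
    have h1 := hcS _ (mem_map_of_mem _ hx)
    have h2 : c * ((MulAut.conj (t * s)).toMonoidHom x) * c⁻¹ = y * x * y⁻¹ := by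
      change c * (t * s * x * (t * s)⁻¹) * c⁻¹ = y * x * y⁻¹
      rw [hy]; group
    rw [h2] at h1
    exact h1
  · rw [← hmap]
    exact Subgroup.map_mono hT₂N
  · rw [← hmap, relIndex_map_map_of_injective _ _ (MulAut.conj y).injective]
    exact hT₂s

end tri

/-! ### The theorem -/

section main

variable {G : Type u} [Group G] [Finite G] {S T : Sylow 2 G} {So V₁ V₂ L₁ L₂ : Subgroup G} {s v : G}

/-- **(2+) of #14625**: `⟨P, C_G(v)⟩` is nonlocal if some group `E` acts on `V₁` as a full root group with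
centre `R`, `v ∈ R < V₁`. -/
theorem nonLocR (h : Tri S T So V₁ V₂ L₁ L₂ s v) (hG : IsCharacteristicTwoType G)
    {P : Subgroup G} (hP : IsParS (T : Subgroup G) P) (hPY : P ≤ normalizer (zc So : Set G))
    {R : Subgroup G} (hRV : R ≤ V₁) (hRne : R ≠ V₁) (hvR : v ∈ R)
    (hSR : So ≤ normalizer (R : Set G))
    {F : Type} [Field F] [Finite F] {f : F → G} (hfi : Function.Injective f)
    (hf : ∀ a b, f (a + b) = f a * f b) (hfR : ∀ x, x ∈ R ↔ ∃ a, f a = x)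
    {v' : G} (hv'R : v' ∈ R) (hv'1 : v' ≠ 1) {E : Set G}
    (hEV : ∀ e ∈ E, ∀ x ∈ V₂, e * x = x * e) (hER : ∀ e ∈ E, ∀ x ∈ R, e * x = x * e)
    (hEc : ∀ e ∈ E, ∀ x ∈ ZN.o2 (centralizer ({v'} : Set G)), (∀ y ∈ R, x * y = y * x) →
      e * x * e⁻¹ * x⁻¹ ∈ R)
    (hEl : ∀ (l : F), ∀ e ∈ E, ∃ e' ∈ E, ∀ x ∈ ZN.o2 (centralizer ({v'} : Set G)),
      (∀ y ∈ R, x * y = y * x) → ∀ a, e * x * e⁻¹ * x⁻¹ = f a → e' * x * e'⁻¹ * x⁻¹ = f (l * a))
    (hEne : ∃ a ∈ V₁, ∃ e ∈ E, e * a ≠ a * e) : NonLoc P (CZ (T : Subgroup G)) := by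
  intro U hU hPU hCU
  by_contra hU1
  set H := normalizer (U : Set G) with hH
  have hCZ : CZ (T : Subgroup G) = centralizer ({v} : Set G) := by
    ext x
    rw [h.mem_CZ, mem_cent]
  have hloc : IsLoc (T : Subgroup G) H := isLoc_normalizer T hU hU1 (hP.isLoc.le.trans hPU)
  have hvA : v ∈ zc (ZN.o2 H) := by
    have h1 : ∀ y ∈ ZN.o2 H, y * v = v * y := fun y hy => h.Tv y (hloc.o2_le T hy)
    refine mem_zc.2 ⟨?_, h1, h.q1 v h.vV⟩
    apply hloc.char2 T hG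
    exact ⟨hloc.le (h.SoT (h.V1So h.vV)), mem_centralizer_iff.2 h1⟩
  have hHA : H ≤ normalizer (zc (ZN.o2 H) : Set G) :=
    (le_normalizer_o2 H).trans (normalizer_le_normalizer_zc _)
  have hA : ∀ {k a : G}, k ∈ H → a ∈ zc (ZN.o2 H) → k * a * k⁻¹ ∈ zc (ZN.o2 H) :=
    fun hk ha => (mem_normalizer_iff.1 (hHA hk) _).1 ha
  have hcent : ∀ k ∈ H, ∀ x, x * (k * v * k⁻¹) = k * v * k⁻¹ * x → x ∈ H := by
    intro k hk x hx
    have h1 : k⁻¹ * x * k ∈ H := by
      apply hCU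
      apply h.mem_CZ.2
      calc k⁻¹ * x * k * v = k⁻¹ * (x * (k * v * k⁻¹)) * k := by group
        _ = v * (k⁻¹ * x * k) := by rw [hx]; group
    have h2 : x = k * (k⁻¹ * x * k) * k⁻¹ := by group
    rw [h2]
    exact mul_mem (mul_mem hk h1) (inv_mem hk)
  obtain ⟨p, hp, hpv⟩ := h.exists_p hP hPY
  have hpH : p ∈ H := hPU hp
  have hL1 : L₁ ≤ H := by
    intro l hl
    apply hcent p hpH
    rw [hpv]
    exact h.L12 l hl _ h.wV
  have hV1 : V₁ ≤ zc (ZN.o2 H) := by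
    intro x hx
    by_cases hx1 : x = 1
    · rw [hx1]; exact one_mem _
    obtain ⟨l, hl, rfl⟩ := h.t1 v h.vV h.v1 x hx hx1
    exact hA (hL1 hl) hvA
  obtain ⟨t, ht, htS⟩ := h.exists_t
  have htH : t ∈ H := hloc.le ht
  have htpv : t * p * v * (t * p)⁻¹ = v * (s * v * s⁻¹) := by
    rw [← h.t_w ht htS, ← hpv]; group
  have hzH : centralizer ({v * (s * v * s⁻¹)} : Set G) ≤ H := by
    intro x hx
    apply hcent (t * p) (mul_mem htH hpH)
    rw [htpv]
    exact mem_cent.1 hx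
  have hsH : s ∈ H := hzH (mem_cent.2 ((mem_zc.1 h.zS).2.1 s h.sS))
  -- `A ≤ O₂(C_G(u))` for the `H`-conjugates `u` of `v`
  have hAu : ∀ k ∈ H, zc (ZN.o2 H) ≤ ZN.o2 (centralizer ({k * v * k⁻¹} : Set G)) := by
    intro k hk
    refine (zc_le _).trans (le_o2 ?_ (o2_isPGroup _) ?_)
    · intro x hx
      exact mem_cent.2 ((mem_zc.1 (hA hk hvA)).2.1 x hx)
    · intro x hx
      exact le_normalizer_o2 _ (hcent k hk x (mem_cent.1 hx))
  obtain ⟨k', hk', hkv'⟩ := h.t1 v h.vV h.v1 v' (hRV hv'R) hv'1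
  have hAv' : ∀ x ∈ zc (ZN.o2 H), x ∈ ZN.o2 (centralizer ({v'} : Set G)) ∧ ∀ y ∈ R, x * y = y * x := by
    intro x hx
    refine ⟨?_, fun y hy => zc_comm _ x hx y (hV1 (hRV hy))⟩
    rw [← hkv']
    exact hAu k' (hL1 hk') hx
  set A := zc (ZN.o2 H) with hAdef
  have hAc : ∀ a ∈ A, ∀ b ∈ A, a * b = b * a := zc_comm _
  have hA2 : ∀ a ∈ A, a * a = 1 := fun a ha => by rw [← pow_two]; exact zc_sq _ a ha
  have hRA : R ≤ A := hRV.trans hV1
  -- the point `X = R^y`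
  obtain ⟨y, hyH, hyN, hyv, Q, hQp, hSoQ, hQS, hQN, hQs⟩ :=
    exists_X h hRV hvR hSR (hP.isLoc.le.trans hPU) hsH hzH
  set X := R.map (MulAut.conj y).toMonoidHom with hX
  have hXA : X ≤ A := by
    rintro _ ⟨x, hx, rfl⟩
    exact hA hyH (hRA hx)
  have hSon : ∀ g ∈ So, y⁻¹ * g * y ∈ So := fun g hg => by
    have h1 := (mem_normalizer_iff.1 (inv_mem hyN) g).1 hg
    rwa [inv_inv] at h1
  -- `X ∩ V₁ = 1`
  have hXV : ∀ x ∈ X, x ∈ V₁ → x = 1 := by
    by_contra hcon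
    push Not at hcon
    obtain ⟨x, hxX, hxV, hx1⟩ := hcon
    have hn : So ≤ normalizer ((V₁ ⊓ X : Subgroup G) : Set G) := by
      apply Cfsg.Agent.Omega.IId.Two.le_normalizer_of
      intro g hg a ha
      exact ⟨h.So1 g hg a ha.1, (mem_normalizer_iff.1 (hQN (hSoQ hg)).2 a).1 ha.2⟩
    obtain ⟨u, hu, hu1, huf⟩ := Half.exists_fixed (V := V₁ ⊓ X)
      ((T.isPGroup'.to_le (h.V1So.trans h.SoT)).to_le inf_le_left)
      (fun h0 => hx1 ((eq_bot_iff_forall _).1 h0 x ⟨hxV, hxX⟩)) (T.isPGroup'.to_le h.SoT) hn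
    have key : ∀ a ∈ V₁, (∀ g ∈ So, g * a * g⁻¹ = a) → a = 1 ∨ a = v := by
      intro a ha haf
      have h1 : a ∈ zc So := mem_zc.2 ⟨h.V1So ha, fun g hg => mul_inv_eq_iff_eq_mul.1 (haf g hg),
        h.q1 a ha⟩
      rcases h.zcSo_cases h1 with h2 | h2 | h2 | h2
      · exact Or.inl h2
      · exact Or.inr h2
      · exfalso
        rw [h2] at ha
        exact h.w1 (h.inf _ ha h.wV)
      · exfalso
        rw [h2] at ha
        exact z_notMem h ha
    obtain ⟨r, hr, hru⟩ := hu.2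
    have hru' : y * r * y⁻¹ = u := hru
    have h1 : r = 1 ∨ r = v := by
      apply key r (hRV hr)
      intro g hg
      have h2 : y * g * y⁻¹ ∈ So := (mem_normalizer_iff.1 hyN g).1 hg
      have h3 := huf _ h2
      rw [← hru'] at h3
      calc g * r * g⁻¹ = y⁻¹ * (y * g * y⁻¹ * (y * r * y⁻¹) * (y * g * y⁻¹)⁻¹) * y := by group
        _ = r := by rw [h3]; group
    rcases h1 with h1 | h1
    · apply hu1
      rw [← hru', h1]; group
    · rcases key u hu.1 huf with h2 | h2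
      · exact hu1 h2
      · rw [h1, hyv] at hru'
        rw [h2] at hru'
        exact h.w1 (mul_eq_left.1 hru')
  -- `K_X` centralises `V₁`
  have hKX : ∀ g ∈ KX H A X, ∀ a ∈ V₁, g * a * g⁻¹ = a := by
    refine KX_cent hAc hA2 (fun k hk a ha => hA hk ha) hXA hQp hQN hQs hV1 ?_
    intro g hgQ hg a ha
    by_cases hgS : g ∈ So
    · have h1 := hg.2.1 a (hV1 ha)
      have h2 := hXV _ h1 (mul_mem (h.So1 g hgS a ha) (inv_mem ha))
      exact mul_inv_eq_one.1 h2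
    · exfalso
      -- `a ↦ [g, a]` is an injective map `V₁ → X`
      have h1 : Nat.card V₁ ≤ Nat.card X := by
        refine Nat.card_le_card_of_injective
          (fun a : V₁ => (⟨g * a * g⁻¹ * (a : G)⁻¹, hg.2.1 a (hV1 a.2)⟩ : X)) ?_
        intro a b hab
        have h2 : g * a * g⁻¹ * (a : G)⁻¹ = g * b * g⁻¹ * (b : G)⁻¹ := congrArg Subtype.val hab
        have hga : g * a * g⁻¹ ∈ A := hA hg.1 (hV1 a.2)
        have hgb : g * b * g⁻¹ ∈ A := hA hg.1 (hV1 b.2)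
        have h3 : g * ((a : G) * (b : G)⁻¹) * g⁻¹ = (a : G) * (b : G)⁻¹ := by
          have e1 : (g * b * g⁻¹) * (b : G)⁻¹ = (b : G)⁻¹ * (g * b * g⁻¹) :=
            hAc _ hgb _ (inv_mem (hV1 b.2))
          have e2 : (b : G)⁻¹ * (a : G) = (a : G) * (b : G)⁻¹ :=
            hAc _ (inv_mem (hV1 b.2)) _ (hV1 a.2)
          have e3 : g * b * g⁻¹ * ((a : G) * (b : G)⁻¹) = (a : G) * (b : G)⁻¹ * (g * b * g⁻¹) :=
            hAc _ hgb _ (mul_mem (hV1 a.2) (inv_mem (hV1 b.2)))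
          calc g * ((a : G) * (b : G)⁻¹) * g⁻¹
              = (g * a * g⁻¹ * (a : G)⁻¹) * a * (g * b * g⁻¹)⁻¹ := by group
            _ = g * b * g⁻¹ * ((b : G)⁻¹ * a) * (g * b * g⁻¹)⁻¹ := by rw [h2]; group
            _ = (a : G) * (b : G)⁻¹ * (g * b * g⁻¹) * (g * b * g⁻¹)⁻¹ := by rw [e2, e3]
            _ = (a : G) * (b : G)⁻¹ := by group
        have h4 : (a : G) * (b : G)⁻¹ ∈ V₂ := by
          rw [← h3]
          exact h.sw1 g (hQS hgQ) hgS _ (mul_mem a.2 (inv_mem b.2))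
        have h5 := h.inf _ (mul_mem a.2 (inv_mem b.2)) h4
        exact Subtype.ext (mul_inv_eq_one.1 h5)
      have h2 : Nat.card X = Nat.card R :=
        Nat.card_congr (R.equivMapOfInjective _ (MulAut.conj y).injective).symm.toEquiv
      rw [h2] at h1
      exact hRne (Subgroup.eq_of_le_of_card_ge hRV h1)
  -- the elements `e`, `a₀`, `m = h₀ y`
  obtain ⟨a₀, ha₀, e, he, hea⟩ := hEne
  have ha₀1 : a₀ ≠ 1 := by
    rintro rfl
    exact hea (by simp)
  obtain ⟨h₀, hh₀, hh₀v⟩ := h.t1 v h.vV h.v1 a₀ ha₀ ha₀1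
  have hEH : ∀ e ∈ E, e ∈ H := fun e he => hCU (h.mem_CZ.2 (hER e he v hvR))
  have hfR' : ∀ a, f a ∈ R := fun a => (hfR _).2 ⟨a, rfl⟩
  have hf0 : f 0 = 1 := map_zero_of hf
  have hf1 : ∀ {a}, f a = 1 → a = 0 := fun {a} ha => hfi (ha.trans hf0.symm)
  -- the functional of `e`
  have hex : ∀ u : A, ∃ a, f a = e * u * e⁻¹ * (u : G)⁻¹ := fun u =>
    (hfR _).1 (hEc e he u (hAv' u u.2).1 (hAv' u u.2).2)
  choose ε hε using hex
  have hε' : ∀ u : A, e * u * e⁻¹ = u * f (ε u) := fun u => by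
    have h1 := hAc _ (hRA (hfR' (ε u))) u u.2
    rw [← h1, hε]; group
  have hεK : ε ∈ Ks H A R f hf hfR' hRA := by
    refine ⟨fun u u' => ?_, fun u hu => ?_, fun l => ?_⟩
    · apply hfi
      have h1 : ((u * u' : A) : G) * f (ε (u * u')) = ((u * u' : A) : G) * f (ε u + ε u') := by
        rw [← hε' (u * u'), hf]
        have h2 := hAc _ (hRA (hfR' (ε u))) u' u'.2
        calc e * ((u : G) * u') * e⁻¹ = (e * u * e⁻¹) * (e * u' * e⁻¹) := by group
          _ = u * (f (ε u) * u') * f (ε u') := by rw [hε', hε']; group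
          _ = (u : G) * u' * (f (ε u) * f (ε u')) := by rw [h2]; group
      exact mul_left_cancel h1
    · apply hf1
      rw [hε, hER e he u hu]; group
    · obtain ⟨e', he', hee⟩ := hEl l e he
      refine ⟨e', hEH e' he', fun u => ?_⟩
      have h1 := hee u (hAv' u u.2).1 (hAv' u u.2).2 (ε u) (hε u).symm
      have h2 := hAc _ (hRA (hfR' (l * ε u))) u u.2
      rw [← h2, ← h1]; group
  -- the elements of `Ks` vanish on `m⁻¹ V₁ m`
  have hmH : h₀ * y ∈ H := mul_mem (hL1 hh₀) hyH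
  refine Ks.false_of hf hfR' hRV hV1 (fun g hg u hu => hA hg hu) hAc hmH ?_ hεK
    ⟨⟨a₀, hV1 ha₀⟩, ha₀, fun h0 => ?_⟩ ?_
  · intro κ hκ u hu
    obtain ⟨g, hg, hgu⟩ := hκ.2.2 1
    have hg1 : y * g * y⁻¹ ∈ KX H A X := by
      refine ⟨mul_mem (mul_mem hyH hg) (inv_mem hyH), fun b hb => ?_, ?_⟩
      · have hb' : y⁻¹ * b * y ∈ A := by
          have h1 := hA (inv_mem hyH) hb
          rwa [inv_inv] at h1
        have h1 : g * (y⁻¹ * b * y) * g⁻¹ = y⁻¹ * b * y * f (1 * κ ⟨_, hb'⟩) := hgu ⟨_, hb'⟩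
        have h2 := hAc _ (hRA (hfR' (1 * κ ⟨_, hb'⟩))) _ hb'
        refine ⟨f (1 * κ ⟨_, hb'⟩), hfR' _, ?_⟩
        change y * f (1 * κ ⟨_, hb'⟩) * y⁻¹ = y * g * y⁻¹ * b * (y * g * y⁻¹)⁻¹ * b⁻¹
        calc y * f (1 * κ ⟨_, hb'⟩) * y⁻¹
            = y * (f (1 * κ ⟨_, hb'⟩) * (y⁻¹ * b * y)) * y⁻¹ * b⁻¹ := by group
          _ = y * (g * (y⁻¹ * b * y) * g⁻¹) * y⁻¹ * b⁻¹ := by rw [h2, h1]
          _ = y * g * y⁻¹ * b * (y * g * y⁻¹)⁻¹ * b⁻¹ := by group
      · rintro _ ⟨r, hr, rfl⟩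
        have h1 : g * r * g⁻¹ = r * f (1 * κ ⟨r, hRA hr⟩) := hgu ⟨r, hRA hr⟩
        rw [hκ.2.1 ⟨r, hRA hr⟩ hr, mul_zero, hf0, mul_one] at h1
        change y * g * y⁻¹ * (y * r * y⁻¹) * (y * g * y⁻¹)⁻¹ = y * r * y⁻¹
        calc y * g * y⁻¹ * (y * r * y⁻¹) * (y * g * y⁻¹)⁻¹ = y * (g * r * g⁻¹) * y⁻¹ := by group
          _ = y * r * y⁻¹ := by rw [h1]
    have hyu : y * u * y⁻¹ ∈ V₁ := by
      have h1 := h.L1 h₀⁻¹ (inv_mem hh₀) _ hu
      have h2 : h₀⁻¹ * (h₀ * y * (u : G) * (h₀ * y)⁻¹) * h₀⁻¹⁻¹ = y * u * y⁻¹ := by group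
      rwa [h2] at h1
    have h1 := hKX _ hg1 _ hyu
    have h2 : (u : G) * f (1 * κ u) = u := by
      rw [← hgu u]
      calc g * u * g⁻¹ = y⁻¹ * (y * g * y⁻¹ * (y * u * y⁻¹) * (y * g * y⁻¹)⁻¹) * y := by group
        _ = u := by rw [h1]; group
    have h3 := hf1 (mul_eq_left.1 h2)
    rwa [one_mul] at h3
  · apply hea
    have h1 := hε' ⟨a₀, hV1 ha₀⟩
    rw [h0, hf0, mul_one] at h1
    exact mul_inv_eq_iff_eq_mul.1 h1
  · obtain ⟨a, ha⟩ := (hfR v).1 hvR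
    have h1 : h₀ * y * f a * (h₀ * y)⁻¹ = a₀ * (s * v * s⁻¹) := by
      have h2 := h.L12 h₀ hh₀ _ h.wV
      calc h₀ * y * f a * (h₀ * y)⁻¹ = h₀ * (y * v * y⁻¹) * h₀⁻¹ := by rw [ha]; group
        _ = (h₀ * v * h₀⁻¹) * (h₀ * (s * v * s⁻¹)) * h₀⁻¹ := by rw [hyv]; group
        _ = a₀ * (s * v * s⁻¹) := by rw [h2, hh₀v]; group
    have h2 : h₀ * y * f a * (h₀ * y)⁻¹ ∈ A := hA hmH (hRA (hfR' a))
    refine ⟨a, ⟨_, h2⟩, rfl, fun h0 => ?_⟩
    apply hea
    have h3 := hε' ⟨_, h2⟩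
    rw [h0, hf0, mul_one] at h3
    have h4 : e * (h₀ * y * f a * (h₀ * y)⁻¹) = (h₀ * y * f a * (h₀ * y)⁻¹) * e :=
      mul_inv_eq_iff_eq_mul.1 h3
    rw [h1] at h4
    have h5 := hEV e he _ h.wV
    apply mul_right_cancel (b := s * v * s⁻¹)
    calc e * a₀ * (s * v * s⁻¹) = e * (a₀ * (s * v * s⁻¹)) := by group
      _ = a₀ * ((s * v * s⁻¹) * e) := by rw [h4]; group
      _ = a₀ * e * (s * v * s⁻¹) := by rw [← h5]; group

end main

/-! ### The conclusion through the leaf NO-3S -/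

section leaf

/-- The root group `E` of the partner: `v ∈ R < V₁`, `R` a line over `F`, `v' ∈ R#`, `E` centralises `V₂` and `R`
and induces on `V₁` a full root group with centre `R`. -/
structure RootE {G : Type u} [Group G] (So V₁ V₂ R : Subgroup G) (v v' : G) (F : Type) [Field F] (f : F → G)
    (E : Set G) : Prop where
  RV : R ≤ V₁
  ne : R ≠ V₁
  vR : v ∈ R
  SR : So ≤ normalizer (R : Set G)
  fi : Function.Injective f
  fa : ∀ a b, f (a + b) = f a * f b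
  fR : ∀ x, x ∈ R ↔ ∃ a, f a = x
  vR' : v' ∈ R
  v1' : v' ≠ 1
  EV : ∀ e ∈ E, ∀ x ∈ V₂, e * x = x * e
  ER : ∀ e ∈ E, ∀ x ∈ R, e * x = x * e
  Ec : ∀ e ∈ E, ∀ x ∈ ZN.o2 (centralizer ({v'} : Set G)), (∀ y ∈ R, x * y = y * x) →
    e * x * e⁻¹ * x⁻¹ ∈ R
  El : ∀ (l : F), ∀ e ∈ E, ∃ e' ∈ E, ∀ x ∈ ZN.o2 (centralizer ({v'} : Set G)),
    (∀ y ∈ R, x * y = y * x) → ∀ a, e * x * e⁻¹ * x⁻¹ = f a → e' * x * e'⁻¹ * x⁻¹ = f (l * a)
  Ene : ∃ a ∈ V₁, ∃ e ∈ E, e * a ≠ a * e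

variable {G : Type u} [Group G] [Finite G] {S T : Sylow 2 G} {So V₁ V₂ L₁ L₂ : Subgroup G} {s v : G}

/-- **The triangle leads to NO-3S with `|V_P| = 4`**, (2+) of #14625. -/
theorem exists_hypR (h : Tri S T So V₁ V₂ L₁ L₂ s v) (hG : Ctx G) (hF : Full (S : Subgroup G))
    {R : Subgroup G} {v' : G} {F : Type} [Field F] [Finite F] {f : F → G} {E : Set G}
    (hE : RootE So V₁ V₂ R v v' F f E) :
    ∃ P : Subgroup G, Hyp T P ∧ Nat.card (zl (T : Subgroup G) P) = 4 ∧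
      P ≤ normalizer (zc So : Set G) := by
  obtain ⟨P, hP, hPY⟩ := h.exists_P hG.char2
  have hc : Nat.card (zl (T : Subgroup G) P) = 4 := by
    rw [h.zl_eq hP hPY, h.card_zcSo]
  exact ⟨P, Hyp.of_four hG hP (nonLocR h hG.char2 hP hPY hE.RV hE.ne hE.vR hE.SR hE.fi hE.fa hE.fR
    hE.vR' hE.v1' hE.EV hE.ER hE.Ec hE.El hE.Ene) hc (full_conj hF) (h.WW_comm hG.char2 hP hPY), hc,
    hPY⟩

/-- **The triangle**, any natural partner, conclusion through the leaf NO-3S ((2+) of #14625). -/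
theorem knownR {K : Cls.{u}} (hK : Cfsg.Agent.Omega.NO3S.Two K) (hKG : K G)
    (h : Tri S T So V₁ V₂ L₁ L₂ s v) (hG : Ctx G) (hF : Full (S : Subgroup G))
    {R : Subgroup G} {v' : G} {F : Type} [Field F] [Finite F] {f : F → G} {E : Set G}
    (hE : RootE So V₁ V₂ R v v' F f E) : IsKnownSimple' G := by
  obtain ⟨P, hP, hc, -⟩ := exists_hypR h hG hF hE
  exact hK G hKG T P hP hc

end leaf

end Cfsg.Agent.Omega.IId.TwoPlus

end
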