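import Cfsg.Agent.Mrg.Omega.IId.LineAct
import Cfsg.Agent.Mrg.Omega.IId.Triangle
import Cfsg.Agent.Mrg.Omega.IId.SymHalf

section


/-!
# II.d, CASE 2: the structure `Tri` and `|Z| = 2 ⟹ q = 2` (helper113 #14389)

`h : Two S So V₁ V₂ L₁ L₂`, `C_{V₁}(So) ≤ R ≤ V₁`, `T` a 2-subgroup of `N_G(R)` with `So < T`.

* `card_fix_eq` : `|C_{V₁}(So)| = |Ω₁Z(S)|`;
* `exists_tri` : if `|Ω₁Z(S)| = 2`, then `Tri` holds for a Sylow 2-subgroup `T` of `G`, `So ≤ T ≤ N_G(R)`;
* `card_line_dvd` : if moreover the elements of `L₁ ∩ N_G(R)` are transitive on `R#`, then `|R|` divides 2.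
-/

set_option autoImplicit false
set_option linter.unusedSectionVars false

namespace Cfsg.Agent.Omega.IId.TriOf

open Subgroup Cfsg Cfsg.Agent.Omega.MinPar Cfsg.Agent.Omega.IId.Two
open Cfsg.Agent.ZN (o2 zc zl)
open Cfsg.Agent.Omega.IId.Triangle (Tri)
open Cfsg.Agent.MinSimple.VModule

universe u

variable {G : Type u} [Group G]

/-- Orbits and stabilisers for a conjugation action with orbit `R w`. -/
theorem card_eq_mul [Finite G] {X R : Subgroup G} {w : G} (h1 : ∀ g ∈ X, g * w * g⁻¹ * w⁻¹ ∈ R)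
    (h2 : ∀ r ∈ R, ∃ g ∈ X, g * w * g⁻¹ = r * w) :
    Nat.card X = Nat.card R * Nat.card (X ⊓ centralizer ({w} : Set G) : Subgroup G) := by
  let f : X → R := fun g => ⟨g * w * (g : G)⁻¹ * w⁻¹, h1 g g.2⟩
  have hf : Function.Surjective f := by
    intro r
    obtain ⟨g, hg, h3⟩ := h2 r r.2
    refine ⟨⟨g, hg⟩, Subtype.ext ?_⟩
    change g * w * g⁻¹ * w⁻¹ = r
    rw [h3, mul_inv_cancel_right]
  have hff : ∀ x y : X, f x = f y ↔ (x⁻¹ * y : X) ∈ (centralizer ({w} : Set G)).subgroupOf X := by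
    intro x y
    rw [mem_subgroupOf, mem_centralizer_singleton_iff]
    constructor
    · intro h
      have h3 : (x : G) * w * (x : G)⁻¹ * w⁻¹ = (y : G) * w * (y : G)⁻¹ * w⁻¹ := congrArg Subtype.val h
      have h4 := mul_right_cancel h3
      change (x : G)⁻¹ * y * w = w * ((x : G)⁻¹ * y)
      calc (x : G)⁻¹ * y * w = (x : G)⁻¹ * (y * w * (y : G)⁻¹) * y := by group
        _ = w * ((x : G)⁻¹ * y) := by rw [← h4]; group
    · intro h
      have h3 : (x : G)⁻¹ * y * w = w * ((x : G)⁻¹ * y) := h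
      refine Subtype.ext ?_
      change (x : G) * w * (x : G)⁻¹ * w⁻¹ = (y : G) * w * (y : G)⁻¹ * w⁻¹
      congr 1
      calc (x : G) * w * (x : G)⁻¹ = x * (w * ((x : G)⁻¹ * y)) * (y : G)⁻¹ := by group
        _ = y * w * (y : G)⁻¹ := by rw [← h3]; group
  let q : X ⧸ ((centralizer ({w} : Set G)).subgroupOf X) → R :=
    fun z => Quotient.liftOn' z f fun x y hxy => (hff x y).2 (QuotientGroup.leftRel_apply.1 hxy)
  have hq : Function.Bijective q := by
    constructor
    · intro z w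
      induction z using QuotientGroup.induction_on with | _ x =>
      induction w using QuotientGroup.induction_on with | _ y =>
      intro h
      exact QuotientGroup.eq.2 ((hff x y).1 h)
    · intro j
      obtain ⟨x, hx⟩ := hf j
      exact ⟨(QuotientGroup.mk x : X ⧸ ((centralizer ({w} : Set G)).subgroupOf X)), hx⟩
  have h5 : (X ⊓ centralizer ({w} : Set G) : Subgroup G).relIndex X = Nat.card R := by
    rw [inf_relIndex_left, relIndex, index, Nat.card_congr (Equiv.ofBijective q hq)]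
  rw [← Half.card_mul_relIndex (inf_le_left : X ⊓ centralizer ({w} : Set G) ≤ X), h5, mul_comm]

section

variable [Finite G] {S : Sylow 2 G} {So V₁ V₂ L₁ L₂ : Subgroup G}
  (h : IId.Two (S : Subgroup G) So V₁ V₂ L₁ L₂)

include h

theorem mul_conj_mem {s : G} (hs : s ∈ (S : Subgroup G)) (hsS : s ∉ So) {y : G}
    (hy : y ∈ V₁ ⊓ centralizer (So : Set G)) : y * (s * y * s⁻¹) ∈ zc (S : Subgroup G) := by
  have two := two_cosets h.SoS h.card
  have hss : s * s ∈ So := by
    have h1 := two s⁻¹ (inv_mem hs) s hs (fun h1 => hsS (inv_mem_iff.1 h1)) hsS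
    rwa [inv_inv] at h1
  have hyc : ∀ a ∈ So, a * y = y * a := fun a ha => mem_centralizer_iff.1 hy.2 a ha
  have hys : s * y * s⁻¹ ∈ V₂ := h.sw1 s hs hsS y hy.1
  have hysc : ∀ a ∈ So, a * (s * y * s⁻¹) = s * y * s⁻¹ * a := fun a ha =>
    mem_centralizer_iff.1 (TriangleQ.conj_cent h hs hy.2) a ha
  have hcomm : y * (s * y * s⁻¹) = s * y * s⁻¹ * y := h.c12 y hy.1 _ hys
  have hSo : ∀ a ∈ So, a * (y * (s * y * s⁻¹)) = y * (s * y * s⁻¹) * a := by
    intro a ha
    calc a * (y * (s * y * s⁻¹)) = a * y * (s * y * s⁻¹) := by group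
      _ = y * (a * (s * y * s⁻¹)) := by rw [hyc a ha]; group
      _ = y * (s * y * s⁻¹) * a := by rw [hysc a ha]; group
  have hsc : s * (y * (s * y * s⁻¹)) = y * (s * y * s⁻¹) * s := by
    calc s * (y * (s * y * s⁻¹)) = s * y * s⁻¹ * (s * s * y) * s⁻¹ := by group
      _ = s * y * s⁻¹ * (y * (s * s)) * s⁻¹ := by rw [hyc _ hss]
      _ = s * y * s⁻¹ * y * s := by group
      _ = y * (s * y * s⁻¹) * s := by rw [← hcomm]
  refine mem_zc.2 ⟨h.SoS (mul_mem (h.V1So hy.1) (h.V2So hys)), ?_, ?_⟩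
  · intro a ha
    by_cases haS : a ∈ So
    · exact hSo a haS
    · have h2 := hSo _ (two s hs a ha hsS haS)
      calc a * (y * (s * y * s⁻¹)) = s * (s⁻¹ * a * (y * (s * y * s⁻¹))) := by group
        _ = s * (y * (s * y * s⁻¹)) * (s⁻¹ * a) := by rw [h2]; group
        _ = y * (s * y * s⁻¹) * a := by rw [hsc]; group
  · have h3 := h.q1 y hy.1
    have h4 := h.q2 _ hys
    calc (y * (s * y * s⁻¹)) ^ 2 = y * (s * y * s⁻¹ * y) * (s * y * s⁻¹) := by rw [pow_two]; group
      _ = y * (y * (s * y * s⁻¹)) * (s * y * s⁻¹) := by rw [hcomm]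
      _ = y ^ 2 * (s * y * s⁻¹) ^ 2 := by rw [pow_two, pow_two]; group
      _ = 1 := by rw [h3, h4, one_mul]

/-- `|C_{V₁}(So)| = |Ω₁Z(S)|` -/
theorem card_fix_eq : Nat.card (V₁ ⊓ centralizer (So : Set G) : Subgroup G) =
    Nat.card (zc (S : Subgroup G)) := by
  refine le_antisymm ?_ h.z1
  obtain ⟨s, hs, hsS⟩ := exists_not_mem h.SoS h.card
  refine Nat.card_le_card_of_injective
    (fun y => ⟨(y : G) * (s * y * s⁻¹), mul_conj_mem h hs hsS y.2⟩) ?_
  intro x y hxy
  have h1 : (x : G) * (s * x * s⁻¹) = (y : G) * (s * y * s⁻¹) := congrArg Subtype.val hxy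
  have hx := x.2.1
  have hy := y.2.1
  have h2 : (y : G)⁻¹ * x = s * y * s⁻¹ * (s * x * s⁻¹)⁻¹ := by
    calc (y : G)⁻¹ * x = (y : G)⁻¹ * (x * (s * x * s⁻¹)) * (s * x * s⁻¹)⁻¹ := by group
      _ = s * y * s⁻¹ * (s * x * s⁻¹)⁻¹ := by rw [h1]; group
  have h3 : (y : G)⁻¹ * x ∈ V₂ := by
    rw [h2]
    exact mul_mem (h.sw1 s hs hsS _ hy) (inv_mem (h.sw1 s hs hsS _ hx))
  have h4 := h.inf _ (mul_mem (inv_mem hy) hx) h3
  exact Subtype.ext (inv_mul_eq_one.1 h4).symm

/-- The 2-part of `|G|`. -/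
theorem card_le_of_two_group {T : Subgroup G} (hT : IsPGroup 2 T) : Nat.card T ∣ 2 * Nat.card So := by
  rw [← h.card]
  obtain ⟨Q, hQ⟩ := hT.exists_le_sylow
  have h1 : Nat.card (Q : Subgroup G) = Nat.card (S : Subgroup G) := by
    have : Fact (Nat.Prime 2) := ⟨Nat.prime_two⟩
    rw [Q.card_eq_multiplicity, S.card_eq_multiplicity]
  rw [← h1]
  exact card_dvd_of_le hQ

/-- A 2-group over `So`, not contained in `So`, is a Sylow 2-subgroup of `G`. -/
theorem exists_sylow {T : Subgroup G} (hT : IsPGroup 2 T) (hSoT : So ≤ T) (hne : ¬ T ≤ So) :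
    ∃ Q : Sylow 2 G, (Q : Subgroup G) = T := by
  obtain ⟨Q, hQ⟩ := hT.exists_le_sylow
  refine ⟨Q, (eq_of_le_of_card_ge hQ ?_).symm⟩
  have h1 : Nat.card (Q : Subgroup G) = Nat.card (S : Subgroup G) := by
    have : Fact (Nat.Prime 2) := ⟨Nat.prime_two⟩
    rw [Q.card_eq_multiplicity, S.card_eq_multiplicity]
  rw [h1, h.card]
  obtain ⟨m, hm⟩ := card_dvd_of_le hSoT
  have h2 : 0 < Nat.card So := Nat.card_pos
  have h3 : 0 < Nat.card T := Nat.card_pos
  have h4 : m ≠ 1 := by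
    rintro rfl
    rw [mul_one] at hm
    exact hne (eq_of_le_of_card_ge hSoT hm.le).symm.le
  have h5 : m ≠ 0 := by
    rintro rfl
    omega
  have h6 : 2 ≤ m := by omega
  rw [hm, mul_comm]
  exact Nat.mul_le_mul_left _ h6

/-- **The structure `Tri`.** -/
theorem exists_tri (hz : Nat.card (zc (S : Subgroup G)) = 2) {R T : Subgroup G}
    (hRV : R ≤ V₁) (hR : V₁ ⊓ centralizer (So : Set G) ≤ R) (hT : IsPGroup 2 T) (hSoT : So ≤ T)
    (hTR : T ≤ normalizer (R : Set G)) (hne : ¬ T ≤ So) :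
    ∃ (Q : Sylow 2 G) (s v : G), (Q : Subgroup G) = T ∧ Tri S Q So V₁ V₂ L₁ L₂ s v := by
  obtain ⟨Q, hQ⟩ := exists_sylow h hT hSoT hne
  obtain ⟨s, hs, hsS⟩ := exists_not_mem h.SoS h.card
  have h1 := card_fix_eq h
  rw [hz] at h1
  obtain ⟨v, hv1, -⟩ := (Nat.card_eq_two_iff' (1 : (V₁ ⊓ centralizer (So : Set G) : Subgroup G))).1 h1
  have hv1' : (v : G) ≠ 1 := fun h2 => hv1 (Subtype.ext h2)
  have hvc : ∀ x ∈ So, x * (v : G) = v * x := fun x hx => mem_centralizer_iff.1 v.2.2 x hx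
  have hcT : Nat.card T = 2 * Nat.card So := by
    rw [← h.card, ← hQ]
    have : Fact (Nat.Prime 2) := ⟨Nat.prime_two⟩
    rw [Q.card_eq_multiplicity, S.card_eq_multiplicity]
  refine ⟨Q, s, v, hQ, ?_⟩
  refine { h with
    zcS := hz
    sS := hs
    sSo := hsS
    vV := v.2.1
    v1 := hv1'
    vSo := hvc
    SoT := hQ ▸ hSoT
    Tv := ?_ }
  intro x hx
  rw [hQ] at hx
  have h2 : x * v * x⁻¹ ∈ R := (mem_normalizer_iff.1 (hTR hx) _).1 (hR v.2)
  have h3 : x * (v : G) * x⁻¹ ∈ V₁ ⊓ centralizer (So : Set G) := by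
    refine ⟨hRV h2, mem_centralizer_iff.2 fun y hy => ?_⟩
    have h4 : x⁻¹ * y * x ∈ So := by
      have := conj_mem_of_two hSoT (two_cosets hSoT hcT) (inv_mem hx) hy
      rwa [inv_inv] at this
    calc y * (x * v * x⁻¹) = x * (x⁻¹ * y * x * v) * x⁻¹ := by group
      _ = x * v * x⁻¹ * y := by rw [hvc _ h4]; group
  rcases eq_or_eq_of_card_two h1 v.2 hv1' h3 with h4 | h4
  · exfalso
    apply hv1'
    calc (v : G) = x⁻¹ * (x * v * x⁻¹) * x := by group
      _ = 1 := by rw [h4]; group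
  · exact mul_inv_eq_iff_eq_mul.1 h4

end

/-- **`|Z| = 2` forces `q = 2`** (helper113 #14389). -/
theorem card_line_dvd [Finite G] {S T : Sylow 2 G} {So V₁ V₂ L₁ L₂ : Subgroup G} {s v : G}
    (h : Tri S T So V₁ V₂ L₁ L₂ s v) {R : Subgroup G} (hRV : R ≤ V₁)
    (hTR : (T : Subgroup G) ≤ normalizer (R : Set G))
    (htor : ∀ r ∈ R, r ≠ 1 → ∃ l ∈ L₁, l ∈ normalizer (R : Set G) ∧ l * v * l⁻¹ = r) :
    Nat.card R ∣ 2 := by
  obtain ⟨t, ht, htS⟩ := h.exists_t
  have htw := h.t_w ht htS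
  set w := s * v * s⁻¹ with hw
  have hwV : w ∈ V₂ := h.wV
  let X : Subgroup G :=
    { carrier := {g | g ∈ normalizer (R : Set G) ∧ g * w * g⁻¹ * w⁻¹ ∈ R}
      one_mem' := ⟨one_mem _, by simp⟩
      mul_mem' := by
        rintro a b ⟨ha, ha'⟩ ⟨hb, hb'⟩
        refine ⟨mul_mem ha hb, ?_⟩
        have e : a * b * w * (a * b)⁻¹ * w⁻¹ = (a * (b * w * b⁻¹ * w⁻¹) * a⁻¹) * (a * w * a⁻¹ * w⁻¹) := by
          group
        rw [e]
        exact mul_mem ((mem_normalizer_iff.1 ha _).1 hb') ha'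
      inv_mem' := by
        rintro a ⟨ha, ha'⟩
        refine ⟨inv_mem ha, ?_⟩
        have e : a⁻¹ * w * a⁻¹⁻¹ * w⁻¹ = a⁻¹ * (a * w * a⁻¹ * w⁻¹)⁻¹ * a⁻¹⁻¹ := by group
        rw [e]
        exact (mem_normalizer_iff.1 (inv_mem ha) _).1 (inv_mem ha') }
  have hX : ∀ g, g ∈ X ↔ g ∈ normalizer (R : Set G) ∧ g * w * g⁻¹ * w⁻¹ ∈ R := fun _ => Iff.rfl
  have hcomm : ∀ r ∈ R, r * w = w * r := fun r hr => h.c12 r (hRV hr) w hwV
  have h1 := card_eq_mul (X := X) (R := R) (w := w) (fun g hg => ((hX g).1 hg).2) (by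
    intro r hr
    by_cases hr1 : r = 1
    · refine ⟨1, one_mem _, ?_⟩
      rw [hr1]; group
    obtain ⟨l, hl, hlR, hlr⟩ := htor r hr hr1
    have hlw : l * w = w * l := h.L12 l hl w hwV
    have e : l * t * w * (l * t)⁻¹ = r * w := by
      calc l * t * w * (l * t)⁻¹ = l * (t * w * t⁻¹) * l⁻¹ := by group
        _ = l * v * l⁻¹ * (l * w * l⁻¹) := by rw [htw]; group
        _ = r * w := by rw [hlr, hlw, mul_inv_cancel_right]
    refine ⟨l * t, (hX _).2 ⟨mul_mem hlR (hTR ht), ?_⟩, e⟩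
    rw [e, mul_inv_cancel_right]
    exact hr)
  have hSo : So ≤ X ⊓ centralizer ({w} : Set G) := by
    intro x hx
    have h2 : x * w = w * x := h.wSo hx
    refine ⟨(hX x).2 ⟨hTR (h.SoT hx), ?_⟩, mem_centralizer_singleton_iff.2 h2⟩
    rw [h2, mul_inv_cancel_right, mul_inv_cancel]
    exact one_mem _
  have h2 : Nat.card R * Nat.card So ∣ Nat.card X := by
    rw [h1]
    exact mul_dvd_mul_left _ (card_dvd_of_le hSo)
  have hpR : IsPGroup 2 R := S.isPGroup'.to_le (hRV.trans (h.V1So.trans h.SoS))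
  have hpSo : IsPGroup 2 So := S.isPGroup'.to_le h.SoS
  have : Fact (Nat.Prime 2) := ⟨Nat.prime_two⟩
  obtain ⟨a, ha⟩ := IsPGroup.iff_card.1 hpR
  obtain ⟨b, hb⟩ := IsPGroup.iff_card.1 hpSo
  have h3 : 2 ^ (a + b) ∣ Nat.card G := by
    rw [pow_add, ← ha, ← hb]
    exact h2.trans X.card_subgroup_dvd_card
  have h4 : 2 ^ (a + b) ∣ Nat.card (S : Subgroup G) := by
    rw [S.card_eq_multiplicity]
    exact (pow_dvd_pow_iff (by norm_num) (by norm_num)).2
      ((Nat.Prime.pow_dvd_iff_le_factorization Nat.prime_two Nat.card_pos.ne').1 h3)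
  have h5 : Nat.card R * Nat.card So ∣ 2 * Nat.card So := by
    rw [← h.card, ha, hb, ← pow_add]
    exact h4
  exact Nat.dvd_of_mul_dvd_mul_right Nat.card_pos h5

end Cfsg.Agent.Omega.IId.TriOf

end

section


/-!
# `k = 2` natural factors: the tori `Tor`

`M : NatK F S P (zl S P) ⊥ k`.

* `cent_le_line` : `C_{V_i}(S_i) ≤ line M i` (`S_i = stab M i`);
* `exists_torus` : `N_G(S_i) ∩ N_G(V_i) ∩ C_G(V_j : j ≠ i)`-ish elements are transitive on `C_{V_i}(S_i)#`
  (`exists_torus`: the diagonal elements of `SL₂(F)` with entries fixed by the field automorphisms induced by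
  `S_i`, Frattini);
* `tor_of` : the structure `TriangleQ.Tor` for `k = 2`;
* `zc_le_two` : if `k = 2` and `N_S(V_i)` is not a Sylow 2-subgroup of `N_G(line M i)`, then `|Ω₁Z(S)| ≤ 2`.
-/

set_option autoImplicit false

namespace Cfsg.Agent.Omega.IId

open Subgroup Cfsg Cfsg.Agent.ZN Cfsg.Agent.ZN.ChoiceBase
open Cfsg.Agent.Omega.MinPar Cfsg.Agent.Omega.FFThm
open Cfsg.Agent.MinSimple.VModule (le_normalizer_zl mem_normalizer_of_map_le)
open Cfsg.Agent.Lib.SL2Mat
open Cfsg.Agent.Omega.NatPair (ap ap_mul ap_one ap_inv_ap ap_ap_inv exists_ap ap_add)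

universe u

variable {G : Type u} [Group G] {F : Type} [Field F] {P : Subgroup G}

section tor

variable {S : Subgroup G} {k : ℕ} (M : NatK F S P (zl S P) ⊥ k)

/-- The elements `up b` of the factor `i` are induced by elements of `stab M i`. -/
theorem exists_unip (hSP : S ≤ P) (i : Fin k) (b : F) :
    ∃ u ∈ stab M i, u ∈ grp M {i} ∧ ActsSL M.e (zl S P) ⊥ u (Function.update 1 i (up b)) := by
  classical
  obtain ⟨u, hu, h1⟩ := M.unip (Function.update 0 i b)
  have e : (fun j => up ((Function.update 0 i b : Fin k → F) j)) =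
      (Function.update 1 i (up b) : Fin k → Matrix.SpecialLinearGroup (Fin 2) F) := by
    funext j
    by_cases hj : j = i
    · subst hj
      rw [Function.update_self, Function.update_self]
    · rw [Function.update_of_ne hj, Function.update_of_ne hj, Pi.zero_apply, up_zero, Pi.one_apply]
  rw [e] at h1
  have h2 : u ∈ grp M {i} := ⟨hSP hu, _, h1, fun j hj => Function.update_of_ne hj _ _⟩
  exact ⟨u, ⟨hu, grp_normalizes M {i} {i} h2⟩, h2, h1⟩

/-- `C_{V_i}(S_i) ≤ line M i`. -/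
theorem cent_le_line (hSP : S ≤ P) (i : Fin k) :
    fac M i ⊓ centralizer (stab M i : Set G) ≤ line M i := by
  rintro v ⟨hv, hc⟩
  rw [mem_line]
  refine ⟨hv, ?_⟩
  obtain ⟨u, hu, -, h1⟩ := exists_unip M hSP i 1
  have h2 := mem_centralizer_iff.1 hc u hu
  have h3 := h1.1 v hv.1 i
  have e : u * v * u⁻¹ = v := by rw [h2]; group
  rw [e, Function.update_self] at h3
  have h4 := congrFun h3 0
  rw [NatPair.ap_zero', up_00, up_01, one_mul, one_mul] at h4
  exact left_eq_add.1 h4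

theorem normalizer_cent {A X : Subgroup G} {g : G} (h1 : g ∈ normalizer (A : Set G))
    (h2 : g ∈ normalizer (X : Set G)) : g ∈ normalizer ((A ⊓ centralizer (X : Set G) : Subgroup G) : Set G) := by
  have key : ∀ g, g ∈ normalizer (A : Set G) → g ∈ normalizer (X : Set G) →
      ∀ v ∈ A ⊓ centralizer (X : Set G), g * v * g⁻¹ ∈ A ⊓ centralizer (X : Set G) := by
    rintro g h1 h2 v ⟨hv, hc⟩
    refine ⟨(mem_normalizer_iff.1 h1 v).1 hv, mem_centralizer_iff.2 fun y hy => ?_⟩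
    have h3 := (mem_normalizer_iff.1 (inv_mem h2) y).1 hy
    rw [inv_inv] at h3
    have h4 := mem_centralizer_iff.1 hc _ h3
    calc y * (g * v * g⁻¹) = g * (g⁻¹ * y * g * v) * g⁻¹ := by group
      _ = g * v * g⁻¹ * y := by rw [h4]; group
  rw [mem_normalizer_iff]
  intro v
  refine ⟨key g h1 h2 v, fun hv => ?_⟩
  have h3 := key g⁻¹ (inv_mem h1) (inv_mem h2) _ hv
  have e : g⁻¹ * (g * v * g⁻¹) * g⁻¹⁻¹ = v := by group
  rwa [e] at h3

/-- **The torus**: `N(S_i) ∩ N(V_i)` is transitive on `C_{V_i}(S_i)#`, by elements which centralise the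
elements of `V_j`, `j ≠ i`, centralised by `S_i`. -/
theorem exists_torus [Finite G] (hSP : S ≤ P) (hS2 : IsPGroup 2 S) (hSyl : ¬ 2 ∣ S.relIndex P) (i : Fin k)
    {v w : G} (hv : v ∈ fac M i ⊓ centralizer (stab M i : Set G)) (hv1 : v ≠ 1)
    (hw : w ∈ fac M i ⊓ centralizer (stab M i : Set G)) (hw1 : w ≠ 1) :
    ∃ a ∈ normalizer (stab M i : Set G) ⊓ normalizer (fac M i : Set G) ⊓
      centralizer ((part M {i}ᶜ ⊓ centralizer (stab M i : Set G) : Subgroup G) : Set G),
      a * v * a⁻¹ = w := by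
  classical
  have hvl := (mem_line M).1 (cent_le_line M hSP i hv)
  have hwl := (mem_line M).1 (cent_le_line M hSP i hw)
  have hx : M.e v i 0 ≠ 0 := by
    intro h0
    exact hv1 ((fac_eq_one M hv.1).1 (NatPair.ext2 h0 hvl.2))
  have hy : M.e w i 0 ≠ 0 := by
    intro h0
    exact hw1 ((fac_eq_one M hw.1).1 (NatPair.ext2 h0 hwl.2))
  set l : F := M.e w i 0 / M.e v i 0 with hl
  have hl0 : l ≠ 0 := div_ne_zero hy hx
  obtain ⟨g, hg, h1⟩ := M.lift (Function.update 1 i (dg l hl0))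
  have hgrp : g ∈ grp M {i} := ⟨hg, _, h1, fun j hj => Function.update_of_ne hj _ _⟩
  have hgN : g ∈ normalizer (fac M i : Set G) := grp_normalizes M {i} {i} hgrp
  have hgv : g * v * g⁻¹ = w := by
    refine ext_fac M ((mem_normalizer_iff.1 hgN v).1 hv.1) hw.1 ?_
    rw [h1.1 v hv.1.1 i, Function.update_self]
    apply NatPair.ext2
    · rw [NatPair.ap_zero', dg, mk_00, mk_01, hl, zero_mul, add_zero, div_mul_cancel₀ _ hx]
    · rw [NatPair.ap_one', dg, mk_10, mk_11, hvl.2, hwl.2, zero_mul, mul_zero, add_zero]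
  -- `Y = S_i C_P(V)`
  set Y : Subgroup G := stab M i ⊔ grp M ∅ with hY
  have hnE : grp M ∅ ≤ normalizer (fac M i : Set G) := grp_normalizes M ∅ {i}
  have hYP : Y ≤ P := sup_le ((stab_le M i).trans hSP) (grp_le M _)
  have hYN : Y ≤ normalizer (fac M i : Set G) := sup_le (stab_normalizes M i) hnE
  -- `[t, g] ∈ Y` for `t ∈ S_i`
  have hcom : ∀ t ∈ stab M i, g * t * g⁻¹ ∈ Y := by
    have key : ∀ t ∈ stab M i, t * g * t⁻¹ * g⁻¹ ∈ Y := by
      intro t ht
      have h2 : t * g * t⁻¹ ∈ grp M {i} :=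
        (mem_normalizer_iff.1 (stab_normalizes_grp M hSP i ht) g).1 hgrp
      obtain ⟨h2P, B, hB, hB1⟩ := h2
      have hfix : t * g * t⁻¹ * v * (t * g * t⁻¹)⁻¹ = w := by
        have e1 : t⁻¹ * v * t = v := by
          have := mem_centralizer_iff.1 hv.2 t⁻¹ (inv_mem ht)
          calc t⁻¹ * v * t = v * t⁻¹ * t := by rw [this]
            _ = v := by group
        have e2 : t * w * t⁻¹ = w := by
          have := mem_centralizer_iff.1 hw.2 t ht
          rw [this]; group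
        calc t * g * t⁻¹ * v * (t * g * t⁻¹)⁻¹ = t * (g * (t⁻¹ * v * t) * g⁻¹) * t⁻¹ := by group
          _ = w := by rw [e1, hgv, e2]
      have h3 := hB.1 v hv.1.1 i
      rw [hfix] at h3
      have h4 := congrFun h3 0
      have h5 := congrFun h3 1
      rw [NatPair.ap_zero', hvl.2, mul_zero, add_zero] at h4
      rw [NatPair.ap_one', hvl.2, hwl.2, mul_zero, add_zero] at h5
      have h6 : ent (B i) 1 0 = 0 := (mul_eq_zero.1 h5.symm).resolve_right hx
      have h7 : ent (B i) 0 0 = l := by rw [hl, h4, mul_div_assoc, div_self hx, mul_one]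
      have h8 := det_eq (B i)
      rw [h6, h7, mul_zero, sub_zero] at h8
      have h9 : ent (B i) 1 1 = l⁻¹ := eq_inv_of_mul_eq_one_right h8
      obtain ⟨β, hβ⟩ : ∃ β : F, β = ent (B i) 0 1 * l := ⟨_, rfl⟩
      have hBi : B i = up β * dg l hl0 := by
        apply ext_ent
        · rw [ent_mul, up_00, up_01, dg, mk_00, mk_10, h7]; ring
        · rw [ent_mul, up_00, up_01, dg, mk_01, mk_11, hβ]
          field_simp
          ring
        · rw [ent_mul, up_10, up_11, dg, mk_00, mk_10, h6]; ring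
        · rw [ent_mul, up_10, up_11, dg, mk_01, mk_11, h9]; ring
      obtain ⟨u, hu, hug, h10⟩ := exists_unip M hSP i β
      -- `u⁻¹ (t g t⁻¹) g⁻¹` acts trivially
      have h11 : u⁻¹ * (t * g * t⁻¹) * g⁻¹ ∈ grp M ∅ := by
        have h12 := acts_mul (mul_mem (inv_mem hug.1) h2P |> fun _ => inv_mem hg)
          (acts_mul h2P (acts_inv hug.1 h10) hB) (acts_inv hg h1)
        refine ⟨mul_mem (mul_mem (inv_mem hug.1) h2P) (inv_mem hg), _, h12, fun j _ => ?_⟩
        rw [Pi.mul_apply, Pi.mul_apply, Pi.inv_apply, Pi.inv_apply]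
        by_cases hj : j = i
        · subst hj
          rw [Function.update_self, Function.update_self, hBi]
          group
        · rw [Function.update_of_ne hj, Function.update_of_ne hj, hB1 j hj, Pi.one_apply]
          group
      have e : t * g * t⁻¹ * g⁻¹ = u * (u⁻¹ * (t * g * t⁻¹) * g⁻¹) := by group
      rw [e]
      exact mul_mem (mem_sup_left hu) (mem_sup_right h11)
    intro t ht
    have h2 := key t⁻¹ (inv_mem ht)
    have e : g * t * g⁻¹ = t * (t⁻¹ * g * t⁻¹⁻¹ * g⁻¹) := by group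
    rw [e]
    exact mul_mem (mem_sup_left ht) h2
  have hst2 : IsPGroup 2 (stab M i) := hS2.to_le (stab_le M i)
  obtain ⟨c, hc, hcS⟩ := Lib.GoldschmidtFusion.exists_conj_le_in (p := 2) hst2
    (not_dvd_stab M hSP hSyl i le_sup_left hYP hYN : ¬ 2 ∣ (stab M i).relIndex Y)
    (show (stab M i).map (MulAut.conj g).toMonoidHom ≤ Y by
      rintro _ ⟨t, ht, rfl⟩
      exact hcom t ht) (hst2.map _)
  -- `Y` centralises `C_V(S_i)`
  have hYc : ∀ y ∈ Y, ∀ x ∈ zl S P, x ∈ centralizer (stab M i : Set G) → y * x = x * y := by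
    intro y hy x hx hxc
    have h2 : Y ≤ centralizer ({x} : Set G) := by
      refine sup_le ?_ ?_
      · intro t ht
        rw [mem_centralizer_iff]
        intro x' hx'
        rw [Set.mem_singleton_iff.1 hx']
        exact (mem_centralizer_iff.1 hxc t ht).symm
      · intro t ht
        rw [mem_centralizer_iff]
        intro x' hx'
        rw [Set.mem_singleton_iff.1 hx']
        exact (grp_comm M (Set.disjoint_left.2 fun _ h => h.elim) ht
          (show x ∈ part M Set.univ by rw [part_univ]; exact hx)).symm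
    exact (mem_centralizer_iff.1 (h2 hy) x rfl).symm
  have hcv : c * w * c⁻¹ = w := by
    rw [hYc c hc w hw.1.1 hw.2]; group
  have hcgS : ∀ t ∈ stab M i, c * g * t * (c * g)⁻¹ ∈ stab M i := by
    intro t ht
    have h2 : c * (g * t * g⁻¹) * c⁻¹ ∈ stab M i := hcS ⟨g * t * g⁻¹, ⟨t, ht, rfl⟩, rfl⟩
    have e : c * g * t * (c * g)⁻¹ = c * (g * t * g⁻¹) * c⁻¹ := by group
    rw [e]; exact h2
  refine ⟨c * g, mem_inf.2 ⟨mem_inf.2 ⟨?_, mul_mem (hYN hc) hgN⟩, ?_⟩, ?_⟩
  · apply mem_normalizer_of_map_le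
    rintro _ ⟨t, ht, rfl⟩
    exact hcgS t ht
  · rw [mem_centralizer_iff]
    rintro x ⟨hx, hxc⟩
    have h2 : g * x = x * g := grp_comm M (by
      rw [Set.disjoint_left]; intro a ha hb; exact hb ha) hgrp hx
    have h3 := hYc c hc x hx.1 hxc
    calc x * (c * g) = x * c * g := by group
      _ = c * (x * g) := by rw [← h3]; group
      _ = c * g * x := by rw [← h2]; group
  · calc c * g * v * (c * g)⁻¹ = c * (g * v * g⁻¹) * c⁻¹ := by group
      _ = w := by rw [hgv, hcv]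

end tor

section two

variable [Finite G] [Finite F] [CharP F 2]

/-- **The tori**, `k = 2`, `|Ω₁Z(S)| > 2`. -/
theorem tor_of (hc : IsCharacteristicTwoType G) {S : Sylow 2 G} (hP : IsParS (S : Subgroup G) P)
    (M : NatK F (S : Subgroup G) P (zl (S : Subgroup G) P) ⊥ 2) {i j : Fin 2} (hij : i ≠ j)
    (hz : 2 < Nat.card (zc (S : Subgroup G))) :
    TriangleQ.Tor (stab M i) (fac M i) (fac M j)
      (normalizer (stab M i : Set G) ⊓ normalizer (fac M i : Set G) ⊓
        centralizer ((fac M j ⊓ centralizer (stab M i : Set G) : Subgroup G) : Set G))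
      (normalizer (stab M i : Set G) ⊓ normalizer (fac M j : Set G) ⊓
        centralizer ((fac M i ⊓ centralizer (stab M i : Set G) : Subgroup G) : Set G)) := by
  have hSP : (S : Subgroup G) ≤ P := hP.isLoc.le
  have hSyl : ¬ 2 ∣ (S : Subgroup G).relIndex P := MinSimple.Basic.not_dvd_relIndex S hSP
  have h := two_of hc hP M hij
  have hst : stab M i = stab M j := stab_eq M hSP hij
  exact
  { n1 := inf_le_left.trans inf_le_left
    n2 := inf_le_left.trans inf_le_left
    a1 := fun a ha v hv => (mem_normalizer_iff.1 (normalizer_cent ha.1.2 ha.1.1) v).1 hv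
    a2 := fun a ha v hv => (mem_normalizer_iff.1 (normalizer_cent ha.1.2 ha.1.1) v).1 hv
    t1 := fun v hv hv1 w hw hw1 => by
      have h1 := exists_torus M hSP S.isPGroup' hSyl i hv hv1 hw hw1
      rw [compl_eq hij] at h1
      exact h1
    t2 := fun v hv hv1 w hw hw1 => by
      rw [hst] at hv hw ⊢
      have h1 := exists_torus M hSP S.isPGroup' hSyl j hv hv1 hw hw1
      rw [compl_eq hij.symm] at h1
      exact h1
    c12 := fun a ha v hv => (mem_centralizer_iff.1 ha.2 v hv).symm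
    c21 := fun a ha v hv => (mem_centralizer_iff.1 ha.2 v hv).symm
    big1 := lt_of_lt_of_le hz h.z1
    big2 := lt_of_lt_of_le hz h.z2 }

/-- **If `N_S(V_i)` is not a Sylow 2-subgroup of `N_G(R)`, `R = line M i`, then `|Ω₁Z(S)| ≤ 2`.** -/
theorem zc_le_two (hc : IsCharacteristicTwoType G) {S : Sylow 2 G} (hP : IsParS (S : Subgroup G) P)
    (M : NatK F (S : Subgroup G) P (zl (S : Subgroup G) P) ⊥ 2) (i : Fin 2)
    (h2 : 2 ∣ (stab M i).relIndex (normalizer (line M i : Set G))) :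
    Nat.card (zc (S : Subgroup G)) ≤ 2 := by
  by_contra hz
  push Not at hz
  obtain ⟨j, hij⟩ : ∃ j : Fin 2, i ≠ j := ⟨i + 1, by omega⟩
  have hSP : (S : Subgroup G) ≤ P := hP.isLoc.le
  have hR : stab M i ≤ normalizer (line M i : Set G) := stab_normalizes_line M hSP i
  have h := two_of hc hP M hij
  have τ := tor_of hc hP M hij hz
  have : Fact (Nat.Prime 2) := ⟨Nat.prime_two⟩
  -- a 2-subgroup of `N(R)` bigger than `S_i`
  have hst2 : IsPGroup 2 (stab M i) := S.isPGroup'.to_le (stab_le M i)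
  have hst2' : IsPGroup 2 ((stab M i).subgroupOf (normalizer (line M i : Set G))) :=
    hst2.comap_of_injective (Subgroup.subtype _) (Subgroup.subtype_injective _)
  obtain ⟨Q, hQ⟩ := hst2'.exists_le_sylow
  set Q' : Subgroup G := (Q : Subgroup (normalizer (line M i : Set G))).map (Subgroup.subtype _) with hQ'
  have hQ'N : Q' ≤ normalizer (line M i : Set G) := by
    rintro _ ⟨x, -, rfl⟩
    exact x.2
  have hQ'2 : IsPGroup 2 Q' := Q.isPGroup'.map _
  have hle : stab M i ≤ Q' := by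
    intro x hx
    exact ⟨⟨x, hR hx⟩, hQ (mem_subgroupOf.2 hx), rfl⟩
  have hlt : stab M i < Q' := by
    refine lt_of_le_of_ne hle fun h0 => ?_
    have h3 : (stab M i).subgroupOf (normalizer (line M i : Set G)) =
        (Q : Subgroup (normalizer (line M i : Set G))) := by
      rw [h0, hQ']
      exact Subgroup.comap_map_eq_self_of_injective (Subgroup.subtype_injective _) _
    have h4 : (stab M i).relIndex (normalizer (line M i : Set G)) =
        (Q : Subgroup (normalizer (line M i : Set G))).index := by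
      rw [relIndex, h3]
    rw [h4] at h2
    exact Q.not_dvd_index h2
  have hlt' := Lib.GoldschmidtFusion.lt_inf_normalizer hQ'2 hlt
  refine hlt'.not_ge (TriangleQ.le_So h τ (hQ'2.to_le inf_le_left) hlt'.le fun t ht v hv => ?_)
  have e : fac M i ⊓ centralizer (stab M i : Set G) = line M i ⊓ centralizer (stab M i : Set G) :=
    le_antisymm (le_inf (cent_le_line M hSP i) inf_le_right)
      (inf_le_inf_right _ (line_le M i))
  rw [e] at hv ⊢
  exact (mem_normalizer_iff.1 (normalizer_cent (hQ'N ht.1) ht.2) v).1 hv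

end two

end Cfsg.Agent.Omega.IId

end
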