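import Cfsg.Agent.Mrg.Omega.IId.Fac

section


/-!
# The action of `S` and of the tori on the lines `line M i`

`M : NatK F S P (zl S P) ⊥ k`.

* `conj_line` : `s (line M i) s⁻¹ = line M (σ(s) i)` for `s ∈ S`; `stab_normalizes_line`;
* `fix_le_line` : `C_{fac M i}(stab M i) ≤ line M i`;
* `exists_tor` : `N_{grp M {i}}(line M i)` is transitive on `(line M i)#`;
* `conj_stab` : `s (stab M i) s⁻¹ = stab M (σ(s) i)`.
-/

set_option autoImplicit false

namespace Cfsg.Agent.Omega.IId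

open Subgroup Cfsg Cfsg.Agent.ZN Cfsg.Agent.ZN.ChoiceBase
open Cfsg.Agent.Omega.MinPar Cfsg.Agent.Omega.FFThm
open Cfsg.Agent.MinSimple.VModule (le_normalizer_zl)
open Cfsg.Agent.Lib.SL2Mat
open Cfsg.Agent.Omega.NatPair (ap ap_mul ap_one ap_inv_ap ap_ap_inv exists_ap ap_add)

universe u

variable {G : Type u} [Group G] {F : Type} [Field F] {S P : Subgroup G} {k : ℕ}
  (M : NatK F S P (zl S P) ⊥ k)

open Classical in
/-- An element of `S` maps the line of the factor `i` to the line of its image. -/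
theorem e_conj_line (hSP : S ≤ P) {s : G} (hs : s ∈ S) {v : G} (hv : v ∈ zl S P) (i : Fin k) :
    M.e (s * v * s⁻¹) (sg M (hSP hs) i) 1 = 0 ↔ M.e v i 1 = 0 := by
  obtain ⟨τ, hτ⟩ := M.line s hs
  have h1 : τ i = sg M (hSP hs) i := by
    by_contra hne
    obtain ⟨w, hw, hwe⟩ := exists_fac M i ![0, 1]
    have h2 : s * w * s⁻¹ ∈ fac M (sg M (hSP hs) i) := by
      have h3 := conj_fac M (hSP hs) i
      rw [← h3, mem_cj_iff]
      have e : s⁻¹ * (s * w * s⁻¹) * s = w := by group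
      rwa [e]
    have h4 : M.e (s * w * s⁻¹) (τ i) 1 = 0 := by
      rw [h2.2 (τ i) hne]; rfl
    have h5 := (hτ w hw.1 i).1 h4
    rw [hwe] at h5
    simp at h5
  rw [← h1]
  exact hτ v hv i

theorem conj_line (hSP : S ≤ P) {s : G} (hs : s ∈ S) (i : Fin k) :
    cj s (line M i) = line M (sg M (hSP hs) i) := by
  have key : ∀ {t : G} (ht : t ∈ S) (j : Fin k), ∀ v ∈ line M j, t * v * t⁻¹ ∈ line M (sg M (hSP ht) j) := by
    intro t ht j v hv
    rw [mem_line] at hv ⊢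
    refine ⟨?_, (e_conj_line M hSP ht hv.1.1 j).2 hv.2⟩
    rw [← conj_fac M (hSP ht), mem_cj_iff]
    have e : t⁻¹ * (t * v * t⁻¹) * t = v := by group
    rw [e]
    exact hv.1
  ext v
  rw [mem_cj_iff]
  constructor
  · intro h
    have h1 := key hs i _ h
    have e : s * (s⁻¹ * v * s) * s⁻¹ = v := by group
    rwa [e] at h1
  · intro h
    have h1 := key (inv_mem hs) _ _ h
    rw [inv_inv] at h1
    have h2 : sg M (hSP (inv_mem hs)) (sg M (hSP hs) i) = i := by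
      rw [sg_eq_iff, ← conj_fac M (hSP hs), cj_inv_cj]
    rwa [h2] at h1

theorem stab_normalizes_line (hSP : S ≤ P) (i : Fin k) : stab M i ≤ normalizer (line M i : Set G) := by
  intro s hs
  rw [mem_normalizer_iff_cj, conj_line M hSP hs.1]
  congr 1
  exact (mem_normalizer_fac_iff M (hSP hs.1)).1 hs.2

open Classical in
/-- The root group of the factor `i` is in the stabiliser. -/
theorem exists_root (hSP : S ≤ P) (i : Fin k) (b : F) :
    ∃ t ∈ stab M i, t ∈ grp M {i} ∧ ActsSL M.e (zl S P) ⊥ t fun j => up ((Function.update 0 i b : Fin k → F) j) := by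
  obtain ⟨t, ht, h1⟩ := M.unip (Function.update 0 i b)
  have h2 : t ∈ grp M {i} := ⟨hSP ht, _, h1, fun j hj => by
    have hj' : j ≠ i := by simpa using hj
    rw [Function.update_of_ne hj']
    exact up_zero⟩
  exact ⟨t, ⟨ht, grp_normalizes M {i} {i} h2⟩, h2, h1⟩

/-- `C_{fac M i}(stab M i) ≤ line M i`. -/
theorem fix_le_line (hSP : S ≤ P) {i : Fin k} {v : G} (hv : v ∈ fac M i)
    (hc : ∀ t ∈ stab M i, t * v = v * t) : v ∈ line M i := by
  classical
  rw [mem_line]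
  refine ⟨hv, ?_⟩
  obtain ⟨t, ht, -, h1⟩ := exists_root M hSP i 1
  have h2 : t * v * t⁻¹ = v := by rw [hc t ht, mul_inv_cancel_right]
  have h3 := h1.1 v hv.1 i
  rw [h2] at h3
  have h4 := congrFun h3 0
  rw [NatPair.ap_zero'] at h4
  simp only [Function.update_self, up_00, up_01, one_mul] at h4
  exact (left_eq_add.1 h4)

open Classical in
/-- The torus of the factor `i` is transitive on the nontrivial elements of the line. -/
theorem exists_tor {i : Fin k} {v w : G} (hv : v ∈ line M i) (hw : w ∈ line M i) (hv1 : v ≠ 1) (hw1 : w ≠ 1) :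
    ∃ g ∈ grp M {i}, g ∈ normalizer (line M i : Set G) ∧ g * v * g⁻¹ = w := by
  rw [mem_line] at hv hw
  have a0 : M.e v i 0 ≠ 0 := by
    intro h0
    apply hv1
    rw [← fac_eq_one M hv.1]
    exact NatPair.ext2 h0 hv.2
  have b0 : M.e w i 0 ≠ 0 := by
    intro h0
    apply hw1
    rw [← fac_eq_one M hw.1]
    exact NatPair.ext2 h0 hw.2
  set c : F := M.e w i 0 / M.e v i 0 with hc
  have c0 : c ≠ 0 := div_ne_zero b0 a0
  obtain ⟨g, hg, h1⟩ := M.lift (Function.update 1 i (mk c 0 0 c⁻¹ (by rw [mul_inv_cancel₀ c0]; ring)))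
  have hg' : g ∈ grp M {i} := ⟨hg, _, h1, fun j hj => Function.update_of_ne hj _ _⟩
  have hfac : ∀ u ∈ fac M i, g * u * g⁻¹ ∈ fac M i := fun u hu =>
    (mem_normalizer_iff.1 (grp_normalizes M {i} {i} hg') u).1 hu
  have he0 : ∀ u ∈ fac M i, M.e (g * u * g⁻¹) i 0 = c * M.e u i 0 := by
    intro u hu
    rw [h1.1 u hu.1 i, Function.update_self, NatPair.ap_zero']
    simp
  have he1 : ∀ u ∈ fac M i, M.e (g * u * g⁻¹) i 1 = c⁻¹ * M.e u i 1 := by
    intro u hu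
    rw [h1.1 u hu.1 i, Function.update_self, NatPair.ap_one']
    simp
  refine ⟨g, hg', ?_, ?_⟩
  · rw [mem_normalizer_iff]
    intro u
    rw [mem_line, mem_line]
    constructor
    · rintro ⟨h2, h3⟩
      exact ⟨hfac u h2, by rw [he1 u h2, h3, mul_zero]⟩
    · rintro ⟨h2, h3⟩
      have h4 : u ∈ fac M i := (mem_normalizer_iff.1 (grp_normalizes M {i} {i} hg') u).2 h2
      refine ⟨h4, ?_⟩
      rw [he1 u h4] at h3
      exact (mul_eq_zero.1 h3).resolve_left (inv_ne_zero c0)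
  · refine ext_fac M (hfac v hv.1) hw.1 (NatPair.ext2 ?_ ?_)
    · rw [he0 v hv.1, hc, div_mul_cancel₀ _ a0]
    · rw [he1 v hv.1, hv.2, hw.2, mul_zero]

theorem mem_stab {i : Fin k} {x : G} : x ∈ stab M i ↔ x ∈ S ∧ cj x (fac M i) = fac M i := by
  rw [stab, mem_inf, mem_normalizer_iff_cj]

theorem conj_stab (hSP : S ≤ P) {s : G} (hs : s ∈ S) (i : Fin k) :
    cj s (stab M i) = stab M (sg M (hSP hs) i) := by
  ext x
  rw [mem_cj_iff, mem_stab, mem_stab, ← conj_fac M (hSP hs), cj_cj, ← cj_cj, ← cj_cj]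
  have h1 : s⁻¹ * x * s ∈ S ↔ x ∈ S := by
    rw [mul_mem_cancel_right hs, mul_mem_cancel_left (inv_mem hs)]
  have h2 : cj s⁻¹ (cj x (cj s (fac M i))) = fac M i ↔ cj (x * s) (fac M i) = cj s (fac M i) := by
    rw [← cj_cj]
    constructor
    · intro h
      have := congrArg (cj s) h
      rwa [cj_cj_inv] at this
    · intro h
      rw [h, cj_inv_cj]
  rw [h1, h2]

end Cfsg.Agent.Omega.IId

end

section


/-!
# The lines of a factor (helper437)

`M : NatK F S P (zl S P) ⊥ k`; `lns M i` is the set of all `F`-lines of `fac M i`, as subgroups: the conjugates of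
`line M i` under `grp M {i}`.

* `cj_lns`, `cj_stab_lns` : `S` permutes the lines;
* `exists_coef`, `exists_lns` : the lines `≠ line M i` are `{v | e v i 0 = c * e v i 1}`;
* `exists_torus`, `exists_torus'` : the torus is transitive on `line M i` and on `fac M i / line M i`;
* `exists_up` : an element which centralises `line M i` and `fac M i / line M i` acts as `up b` on `fac M i`;
* `mem_line_of_cent` : `C_{fac M i}(stab M i) ≤ line M i`.
-/

set_option autoImplicit false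

namespace Cfsg.Agent.Omega.IId.Lns

open Subgroup Cfsg Cfsg.Agent.ZN Cfsg.Agent.ZN.ChoiceBase
open Cfsg.Agent.Omega.MinPar Cfsg.Agent.Omega.FFThm
open Cfsg.Agent.MinSimple.VModule (le_normalizer_zl)
open Cfsg.Agent.Lib.SL2Mat
open Cfsg.Agent.Omega.NatPair (ap ap_mul ap_one ap_inv_ap ap_ap_inv exists_ap ap_add)

universe u

variable {G : Type u} [Group G] {F : Type} [Field F] {S P : Subgroup G} {k : ℕ}
  (M : NatK F S P (zl S P) ⊥ k)

/-! ### Lifts -/

open Classical in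
/-- An element of `grp M {i}` inducing a given element of `SL₂(F)`. -/
theorem exists_lift (i : Fin k) (A : Matrix.SpecialLinearGroup (Fin 2) F) :
    ∃ g ∈ grp M {i}, ∀ v ∈ zl S P, M.e (g * v * g⁻¹) i = ap A (M.e v i) := by
  obtain ⟨g, hg, h1⟩ := M.lift (Function.update 1 i A)
  refine ⟨g, ⟨hg, _, h1, fun j hj => Function.update_of_ne hj _ _⟩, fun v hv => ?_⟩
  rw [h1.1 v hv i, Function.update_self]

variable {M}

theorem grp_act {i : Fin k} {g : G} (hg : g ∈ grp M {i}) :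
    ∃ A : Matrix.SpecialLinearGroup (Fin 2) F, ∀ v ∈ zl S P, M.e (g * v * g⁻¹) i = ap A (M.e v i) := by
  obtain ⟨-, A, hA, -⟩ := hg
  exact ⟨A i, fun v hv => hA.1 v hv i⟩

theorem grp_conj_fac {i : Fin k} {g v : G} (hg : g ∈ grp M {i}) (hv : v ∈ fac M i) :
    g * v * g⁻¹ ∈ fac M i := (mem_normalizer_iff.1 (grp_normalizes M {i} {i} hg) v).1 hv

/-- `g ∈ grp M {i}` normalises `line M i` if it acts as an upper triangular matrix. -/
theorem normalizes_line {i : Fin k} {g : G} (hg : g ∈ grp M {i}) {A : Matrix.SpecialLinearGroup (Fin 2) F}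
    (hA : ∀ v ∈ zl S P, M.e (g * v * g⁻¹) i = ap A (M.e v i)) (h : ent A 1 0 = 0) (h' : ent A 1 1 ≠ 0) :
    g ∈ normalizer (line M i : Set G) := by
  rw [mem_normalizer_iff]
  intro v
  constructor
  · intro hv
    rw [mem_line] at hv ⊢
    refine ⟨grp_conj_fac hg hv.1, ?_⟩
    rw [hA v hv.1.1, NatPair.ap_one', h, hv.2]
    ring
  · intro hv
    rw [mem_line] at hv ⊢
    have h1 : v ∈ fac M i := (mem_normalizer_iff.1 (grp_normalizes M {i} {i} hg) v).2 hv.1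
    refine ⟨h1, ?_⟩
    have h2 := hv.2
    rw [hA v h1.1, NatPair.ap_one', h, zero_mul, zero_add] at h2
    exact (mul_eq_zero.1 h2).resolve_left h'

theorem ne_one_e {i : Fin k} {v : G} (hv : v ∈ line M i) (h1 : v ≠ 1) : M.e v i 0 ≠ 0 := by
  intro h
  apply h1
  rw [← fac_eq_one M (line_le M i hv)]
  exact NatPair.ext2 h ((mem_line M).1 hv).2

/-- The torus is transitive on `line M i`. -/
theorem exists_torus {i : Fin k} {r r' : G} (hr : r ∈ line M i) (hr' : r' ∈ line M i) (h1 : r ≠ 1)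
    (h1' : r' ≠ 1) : ∃ g ∈ grp M {i}, g ∈ normalizer (line M i : Set G) ∧ g * r * g⁻¹ = r' := by
  have e1 := ne_one_e hr h1
  have e2 := ne_one_e hr' h1'
  have hb : M.e r' i 0 / M.e r i 0 ≠ 0 := div_ne_zero e2 e1
  obtain ⟨g, hg, hA⟩ := exists_lift M i (dg _ hb)
  refine ⟨g, hg, normalizes_line hg hA rfl (inv_ne_zero hb), ?_⟩
  have hrf := line_le M i hr
  refine ext_fac M (grp_conj_fac hg hrf) (line_le M i hr') ?_
  rw [hA r hrf.1]
  apply NatPair.ext2
  · rw [NatPair.ap_zero', dg_00, dg_01, ((mem_line M).1 hr).2]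
    field_simp
    ring
  · rw [NatPair.ap_one', dg_10, dg_11, ((mem_line M).1 hr).2, ((mem_line M).1 hr').2]
    ring

/-- The torus is transitive on `fac M i / line M i`. -/
theorem exists_torus' {i : Fin k} {v v' : G} (hv : v ∈ fac M i) (hv' : v' ∈ fac M i) (h1 : v ∉ line M i)
    (h1' : v' ∉ line M i) :
    ∃ g ∈ grp M {i}, g ∈ normalizer (line M i : Set G) ∧ v'⁻¹ * (g * v * g⁻¹) ∈ line M i := by
  have e1 : M.e v i 1 ≠ 0 := fun h => h1 ((mem_line M).2 ⟨hv, h⟩)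
  have e2 : M.e v' i 1 ≠ 0 := fun h => h1' ((mem_line M).2 ⟨hv', h⟩)
  have hb : M.e v i 1 / M.e v' i 1 ≠ 0 := div_ne_zero e1 e2
  obtain ⟨g, hg, hA⟩ := exists_lift M i (dg _ hb)
  refine ⟨g, hg, normalizes_line hg hA rfl (inv_ne_zero hb), ?_⟩
  have h2 := grp_conj_fac hg hv
  rw [mem_line]
  refine ⟨mul_mem (inv_mem hv') h2, ?_⟩
  rw [M.mul _ (inv_mem hv'.1) _ h2.1, e_inv M hv'.1, Pi.add_apply, Pi.add_apply, Pi.neg_apply, Pi.neg_apply,
    hA v hv.1, NatPair.ap_one', dg_10, dg_11]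
  field_simp
  ring

/-! ### The lines -/

variable (M) in
/-- The `F`-lines of `fac M i`. -/
def lns (i : Fin k) : Set (Subgroup G) := {X | ∃ l ∈ grp M {i}, cj l (line M i) = X}

theorem line_mem_lns (i : Fin k) : line M i ∈ lns M i := ⟨1, one_mem _, cj_one _⟩

theorem cj_mem_lns {i : Fin k} {X : Subgroup G} (hX : X ∈ lns M i) {l : G} (hl : l ∈ grp M {i}) :
    cj l X ∈ lns M i := by
  obtain ⟨m, hm, rfl⟩ := hX
  exact ⟨l * m, mul_mem hl hm, (cj_cj _ _ _).symm⟩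

theorem lns_le {i : Fin k} {X : Subgroup G} (hX : X ∈ lns M i) : X ≤ fac M i := by
  obtain ⟨m, hm, rfl⟩ := hX
  intro v hv
  rw [mem_cj] at hv
  have := grp_conj_fac hm (line_le M i hv)
  have e : m * (m⁻¹ * v * m) * m⁻¹ = v := by group
  rwa [e] at this

/-- The coordinates of a line. -/
theorem exists_coef {i : Fin k} {X : Subgroup G} (hX : X ∈ lns M i) (hne : X ≠ line M i) :
    ∃ c : F, ∀ v, v ∈ X ↔ v ∈ fac M i ∧ M.e v i 0 = c * M.e v i 1 := by
  obtain ⟨l, hl, rfl⟩ := hX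
  obtain ⟨A, hA⟩ := grp_act (inv_mem hl)
  have hA' : ∀ v ∈ fac M i, v ∈ cj l (line M i) ↔ ent A 1 0 * M.e v i 0 + ent A 1 1 * M.e v i 1 = 0 := by
    intro v hv
    rw [mem_cj, mem_line]
    have e : l⁻¹ * v * l = l⁻¹ * v * l⁻¹⁻¹ := by group
    rw [e, hA v hv.1, NatPair.ap_one']
    exact ⟨fun h => h.2, fun h => ⟨grp_conj_fac (inv_mem hl) hv, h⟩⟩
  have hA0 : ent A 1 0 ≠ 0 := by
    intro h0
    apply hne
    have h11 : ent A 1 1 ≠ 0 := by
      intro h11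
      have := det_eq A
      rw [h0, h11] at this
      simp at this
    have h2 := normalizes_line (inv_mem hl) hA h0 h11
    exact cj_eq_of_mem_normalizer (inv_mem_iff.1 h2)
  refine ⟨- (ent A 1 1 / ent A 1 0), fun v => ?_⟩
  constructor
  · intro hv
    have h1 : v ∈ fac M i := lns_le ⟨l, hl, rfl⟩ hv
    refine ⟨h1, ?_⟩
    have h2 := (hA' v h1).1 hv
    field_simp
    linear_combination h2
  · rintro ⟨h1, h2⟩
    rw [hA' v h1, h2]
    field_simp
    ring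

/-- All lines. -/
theorem exists_lns (i : Fin k) (c : F) :
    ∃ X ∈ lns M i, ∀ v, v ∈ X ↔ v ∈ fac M i ∧ M.e v i 0 = c * M.e v i 1 := by
  obtain ⟨g, hg, hA⟩ := exists_lift M i (mk 0 (-1) 1 (-c) (by ring))
  refine ⟨cj g⁻¹ (line M i), ⟨g⁻¹, inv_mem hg, rfl⟩, fun v => ?_⟩
  rw [mem_cj, mem_line]
  have e : g⁻¹⁻¹ * v * g⁻¹ = g * v * g⁻¹ := by group
  rw [e]
  constructor
  · rintro ⟨h1, h2⟩
    have h3 : v ∈ fac M i := (mem_normalizer_iff.1 (grp_normalizes M {i} {i} hg) v).2 h1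
    refine ⟨h3, ?_⟩
    rw [hA v h3.1, NatPair.ap_one'] at h2
    change 1 * M.e v i 0 + -c * M.e v i 1 = 0 at h2
    linear_combination h2
  · rintro ⟨h1, h2⟩
    refine ⟨grp_conj_fac hg h1, ?_⟩
    rw [hA v h1.1, NatPair.ap_one']
    change 1 * M.e v i 0 + -c * M.e v i 1 = 0
    rw [h2]
    ring

open Classical in
/-- Every vector is on a line. -/
theorem exists_mem_lns {i : Fin k} {v : G} (hv : v ∈ fac M i) : ∃ X ∈ lns M i, v ∈ X := by
  by_cases h : M.e v i 1 = 0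
  · exact ⟨line M i, line_mem_lns i, (mem_line M).2 ⟨hv, h⟩⟩
  · obtain ⟨X, hX, h1⟩ := exists_lns (M := M) i (M.e v i 0 / M.e v i 1)
    refine ⟨X, hX, (h1 v).2 ⟨hv, ?_⟩⟩
    field_simp

theorem lns_inf {i : Fin k} {X Y : Subgroup G} (hX : X ∈ lns M i) (hY : Y ∈ lns M i) (hne : X ≠ Y) {v : G}
    (hvX : v ∈ X) (hvY : v ∈ Y) : v = 1 := by
  have hv := lns_le hX hvX
  -- move `X` to `line M i`
  obtain ⟨l, hl, rfl⟩ := hX
  have hY' : cj l⁻¹ Y ∈ lns M i := cj_mem_lns hY (inv_mem hl)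
  have hne' : cj l⁻¹ Y ≠ line M i := by
    intro e
    apply hne
    rw [← e, cj_cj_inv]
  obtain ⟨c, hc⟩ := exists_coef hY' hne'
  have h1 : l⁻¹ * v * l ∈ cj l⁻¹ Y := by
    rw [mem_cj]
    have e : l⁻¹⁻¹ * (l⁻¹ * v * l) * l⁻¹ = v := by group
    rwa [e]
  rw [mem_cj, mem_line] at hvX
  obtain ⟨h2, h3⟩ := hvX
  have h4 := ((hc _).1 h1).2
  rw [h3, mul_zero] at h4
  have h5 := (fac_eq_one M h2).1 (NatPair.ext2 h4 h3)
  calc v = l * (l⁻¹ * v * l) * l⁻¹ := by group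
    _ = 1 := by rw [h5]; group

open Classical in
/-- There are at least three lines. -/
theorem exists_third_lns {i : Fin k} {X Y : Subgroup G} (hX : X ∈ lns M i) (hY : Y ∈ lns M i) :
    ∃ Z ∈ lns M i, Z ≠ X ∧ Z ≠ Y := by
  -- move `X` to `line M i`
  obtain ⟨l, hl, rfl⟩ := hX
  have hY' : cj l⁻¹ Y ∈ lns M i := cj_mem_lns hY (inv_mem hl)
  suffices h : ∃ Z ∈ lns M i, Z ≠ line M i ∧ Z ≠ cj l⁻¹ Y by
    obtain ⟨Z, hZ, h1, h2⟩ := h
    refine ⟨cj l Z, cj_mem_lns hZ hl, fun e => h1 ?_, fun e => h2 ?_⟩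
    · have := congrArg (cj l⁻¹) e
      rwa [cj_inv_cj, cj_inv_cj] at this
    · rw [← e, cj_inv_cj]
  have key : ∀ {c d : F}, c ≠ d → ∀ {Z Z' : Subgroup G},
      (∀ v, v ∈ Z ↔ v ∈ fac M i ∧ M.e v i 0 = c * M.e v i 1) →
      (∀ v, v ∈ Z' ↔ v ∈ fac M i ∧ M.e v i 0 = d * M.e v i 1) → Z ≠ Z' := by
    intro c d hcd Z Z' h1 h2 e
    obtain ⟨v, hv, hev⟩ := exists_fac M i ![c, 1]
    have h3 : v ∈ Z := (h1 v).2 ⟨hv, by rw [hev]; simp⟩
    rw [e, h2] at h3
    have h4 := h3.2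
    rw [hev] at h4
    exact hcd (by simpa using h4)
  have key2 : ∀ {c : F} {Z : Subgroup G}, (∀ v, v ∈ Z ↔ v ∈ fac M i ∧ M.e v i 0 = c * M.e v i 1) →
      Z ≠ line M i := by
    intro c Z h1 e
    obtain ⟨v, hv, hev⟩ := exists_fac M i ![c, 1]
    have h3 : v ∈ Z := (h1 v).2 ⟨hv, by rw [hev]; simp⟩
    rw [e, mem_line] at h3
    have h4 := h3.2
    rw [hev] at h4
    simp at h4
  by_cases hY1 : cj l⁻¹ Y = line M i
  · obtain ⟨Z, hZ, h1⟩ := exists_lns (M := M) i 0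
    exact ⟨Z, hZ, key2 h1, by rw [hY1]; exact key2 h1⟩
  · obtain ⟨c, hc⟩ := exists_coef hY' hY1
    obtain ⟨Z, hZ, h1⟩ := exists_lns (M := M) i (c + 1)
    exact ⟨Z, hZ, key2 h1, key (by simp) h1 hc⟩

/-! ### `S` and the lines -/

/-- `S` permutes the lines. -/
theorem cj_lns (hSP : S ≤ P) {t : G} (ht : t ∈ S) {i : Fin k} {X : Subgroup G} (hX : X ∈ lns M i) :
    cj t X ∈ lns M (sg M (hSP ht) i) := by
  obtain ⟨l, hl, rfl⟩ := hX
  refine ⟨t * l * t⁻¹, ?_, ?_⟩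
  · have h1 := conj_grp M (hSP ht) {i}
    rw [Set.image_singleton] at h1
    rw [← h1]
    exact ⟨l, hl, rfl⟩
  · rw [← conj_line M hSP ht, cj_cj, cj_cj]
    congr 1
    group

theorem cj_stab_lns (hSP : S ≤ P) {t : G} {i : Fin k} (ht : t ∈ stab M i) {X : Subgroup G}
    (hX : X ∈ lns M i) : cj t X ∈ lns M i := by
  have h1 := cj_lns hSP ht.1 hX
  rwa [(mem_normalizer_fac_iff M (hSP ht.1)).1 ht.2] at h1

/-- An element of `P` which acts as an element of `SL₂(F)^k` normalises the factors. -/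
theorem normalizes_of_acts {g : G} (hg : g ∈ P) {A : Fin k → Matrix.SpecialLinearGroup (Fin 2) F}
    (hA : ActsSL M.e (zl S P) ⊥ g A) (i : Fin k) : g ∈ normalizer (fac M i : Set G) := by
  rw [mem_normalizer_fac_iff M hg]
  obtain ⟨v, hv, hev⟩ := exists_fac M i ![0, 1]
  by_contra hne
  have h1 : g * v * g⁻¹ ∈ fac M (sg M hg i) := by
    rw [← conj_fac M hg, mem_cj]
    have e : g⁻¹ * (g * v * g⁻¹) * g = v := by group
    rwa [e]
  have h2 := h1.2 i (Ne.symm hne)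
  rw [hA.1 v hv.1 i] at h2
  have h3 := ap_inv_ap (A i) (M.e v i)
  rw [h2, hev] at h3
  have h4 := congrFun h3 1
  rw [NatPair.ap_one'] at h4
  simp at h4

/-- `C_{fac M i}(stab M i) ≤ line M i`. -/
theorem mem_line_of_cent (hSP : S ≤ P) {i : Fin k} {v : G} (hv : v ∈ fac M i)
    (hc : ∀ t ∈ stab M i, t * v * t⁻¹ = v) : v ∈ line M i := by
  obtain ⟨t, ht, h1⟩ := M.unip fun _ => 1
  have ht' : t ∈ stab M i := ⟨ht, normalizes_of_acts (hSP ht) h1 i⟩
  rw [mem_line]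
  refine ⟨hv, ?_⟩
  have h2 := h1.1 v hv.1 i
  rw [hc t ht'] at h2
  have h3 := congrFun h2 0
  rw [NatPair.ap_zero', up_00, up_01, one_mul, one_mul] at h3
  exact left_eq_add.1 h3

/-- An element which centralises `line M i` and `fac M i / line M i` acts as `up b` on `fac M i`. -/
theorem exists_up {i : Fin k} {w : G} (hw : w ∈ P) (h1 : ∀ r ∈ line M i, w * r * w⁻¹ = r)
    (h2 : ∀ v ∈ fac M i, w * v * w⁻¹ * v⁻¹ ∈ line M i) :
    ∃ b : F, ∀ v ∈ fac M i, M.e (w * v * w⁻¹) i = ap (up b) (M.e v i) := by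
  have hwf : ∀ v ∈ fac M i, w * v * w⁻¹ ∈ fac M i := fun v hv => by
    have := mul_mem (line_le M i (h2 v hv)) hv
    rwa [inv_mul_cancel_right] at this
  obtain ⟨g, hg, hgA⟩ := exists_lift M i (wm 1 one_ne_zero)
  have hg0 := hg
  obtain ⟨hgP, A, hA, -⟩ := hg
  obtain ⟨B, hB⟩ := M.norm w hw g hgP A hA.1
  refine ⟨- ent (B i) 0 0, fun v hv => ?_⟩
  obtain ⟨r, hr, her⟩ := exists_fac M i ![- M.e v i 1, 0]
  have hrl : r ∈ line M i := (mem_line M).2 ⟨hr, by rw [her]; rfl⟩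
  have hu : g * r * g⁻¹ ∈ fac M i := grp_conj_fac hg0 hr
  have heu : M.e (g * r * g⁻¹) i = ![0, M.e v i 1] := by
    rw [hgA r hr.1, her]
    apply NatPair.ext2
    · rw [NatPair.ap_zero', wm_00, wm_01]; simp
    · rw [NatPair.ap_one', wm_10, wm_11]; simp
  -- `w (g r g⁻¹) w⁻¹`
  have hwu : M.e (w * (g * r * g⁻¹) * w⁻¹) i 0 = ent (B i) 0 0 * (- M.e v i 1) := by
    have h3 := hB r hr.1 i
    have h4 : w⁻¹ * r * w = r := by
      calc w⁻¹ * r * w = w⁻¹ * (w * r * w⁻¹) * w := by rw [h1 r hrl]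
        _ = r := by group
    have e : w * g * w⁻¹ * r * (w * g * w⁻¹)⁻¹ = w * (g * (w⁻¹ * r * w) * g⁻¹) * w⁻¹ := by group
    rw [e, h4, her] at h3
    rw [h3, NatPair.ap_zero']
    simp
  -- `v` and `g r g⁻¹` agree modulo `line M i`
  have h5 : v * (g * r * g⁻¹)⁻¹ ∈ line M i := by
    rw [mem_line]
    refine ⟨mul_mem hv (inv_mem hu), ?_⟩
    rw [M.mul _ hv.1 _ (inv_mem hu.1), e_inv M hu.1, Pi.add_apply, Pi.add_apply, Pi.neg_apply,
      Pi.neg_apply, heu]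
    simp
  have e6 : w * v * w⁻¹ = v * (g * r * g⁻¹)⁻¹ * (w * (g * r * g⁻¹) * w⁻¹) := by
    have h7 := h1 _ h5
    calc w * v * w⁻¹ = w * (v * (g * r * g⁻¹)⁻¹) * w⁻¹ * (w * (g * r * g⁻¹) * w⁻¹) := by group
      _ = _ := by rw [h7]
  apply NatPair.ext2
  · rw [e6, M.mul _ (mul_mem hv.1 (inv_mem hu.1)) _ (hwf _ hu).1, M.mul _ hv.1 _ (inv_mem hu.1),
      e_inv M hu.1, Pi.add_apply, Pi.add_apply, Pi.add_apply, Pi.add_apply, Pi.neg_apply, Pi.neg_apply,
      heu, hwu, NatPair.ap_zero', up_00, up_01]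
    simp
  · have h8 := ((mem_line M).1 (h2 v hv)).2
    rw [M.mul _ (hwf v hv).1 _ (inv_mem hv.1), e_inv M hv.1, Pi.add_apply, Pi.add_apply, Pi.neg_apply,
      Pi.neg_apply] at h8
    rw [NatPair.ap_one', up_10, up_11]
    linear_combination h8

end Cfsg.Agent.Omega.IId.Lns

end
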