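import Cfsg.Agent.Mrg.Omega.IId.SymHalf
import Cfsg.Agent.Mrg.Omega.IId.Fac
import Cfsg.Agent.Mrg.Omega.IId.Triangle
import Cfsg.Agent.Mrg.Omega.S5.Pair
import Cfsg.Agent.Mrg.Omega.S5.Syl
import Cfsg.Agent.Mrg.Omega.Half.Basic


/-!
# II.d, mixed pairs: `k ≥ 2` natural factors against one factor `S_{2^m'+1}`

* `card_two` : `|F| = 2`;
* `exists_lab5` : one `O₄⁻(2)`-module: labels adapted to `S` and to an offender `A ≤ S`;
* `false_of_univ` : `k = 2`, `m' = 2`, `|[V, V']| ≠ 2`: contradiction;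
* `line_eq` : `k = 2`, `m' = 2`, `[V, V'] = line M i`: `line M i = {1, n}`, `n = N.e nn`.
-/

set_option autoImplicit false
set_option linter.unusedSectionVars false

namespace Cfsg.Agent.Omega.IId.Sym

open Subgroup Cfsg Cfsg.Agent.ZN.ChoiceBase
open Cfsg.Agent.ZN (o2 zc zl)
open Cfsg.Agent.Omega.MinPar Cfsg.Agent.Omega.FFThm
open Cfsg.Agent.Omega.FrameFF (cv Free)
open Cfsg.Agent.Omega.FrameMulti (IsSym IsNat Typed AllTyped)
open Cfsg.Agent.Omega.S5.Def Cfsg.Agent.Omega.S5.Mod Cfsg.Agent.Omega.S5.TT Cfsg.Agent.Omega.S5.Types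
open Cfsg.Agent.MinSimple.VModule (le_normalizer_zl)
open Cfsg.Agent.Lib.SL2Mat
open Cfsg.Agent.Omega.NatPair (ap)
open scoped commutatorElement

universe u

variable {G : Type u} [Group G]

/-! ### `|F| = 2` -/

section card

variable {F : Type} [Field F] {S P : Subgroup G} {k : ℕ} {M : NatK F S P (zl S P) ⊥ k}

/-- An element of `V` which does not commute with an element of `A` has a coordinate which is moved by `A`. -/
theorem exists_coord {A : Subgroup G} {I : Set (Fin k)} (h : Ind M A I) (hA : A ≤ P) {v a : G}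
    (hv : v ∈ zl S P) (ha : a ∈ A) (hne : v * a ≠ a * v) : ∃ i ∈ I, M.e v i 1 ≠ 0 := by
  obtain ⟨b, hb, h1⟩ := h.act a ha
  by_contra hcon
  push Not at hcon
  apply hne
  have h2 : ⁅v, a⁆ = 1 := by
    by_cases hk : k = 0
    · subst hk
      have h3 : ⁅v, a⁆ ∈ zl S P := by
        have e : ⁅v, a⁆ = v * (a * v⁻¹ * a⁻¹) := by rw [commutatorElement_def]; group
        rw [e]
        exact mul_mem hv (cj_mem (hA ha) (inv_mem hv))
      exact (e_eq_zero M h3).1 (funext fun i => i.elim0)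
    · have i0 : Fin k := ⟨0, Nat.pos_of_ne_zero hk⟩
      refine (e_eq_zero M (e_comm hv (hA ha) h1 i0).1).1 (funext fun i => ?_)
      obtain ⟨-, h3, h4⟩ := e_comm hv (hA ha) h1 i
      apply NatPair.ext2
      · rw [h3]
        by_cases hi : i ∈ I
        · rw [hcon i hi]; simp
        · rw [hb i hi]; simp
      · rw [h4]; rfl
  rwa [commutatorElement_eq_one_iff_mul_comm] at h2

/-- The commutators of `v` with the root group of a coordinate. -/
theorem exists_root {A : Subgroup G} {I : Set (Fin k)} (h : Ind M A I) (hA : A ≤ P) {v : G}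
    (hv : v ∈ zl S P) {i : Fin k} (hi : i ∈ I) (c : F) :
    ∃ a ∈ A, ⁅v, a⁆ ∈ fac M i ∧ M.e ⁅v, a⁆ i 0 = - (c * M.e v i 1) ∧ M.e ⁅v, a⁆ i 1 = 0 := by
  classical
  obtain ⟨a, ha, h1⟩ := h.ex (Function.update 0 i c) fun j hj => by
    have : j ≠ i := fun h => hj (h ▸ hi)
    rw [Function.update_of_ne this]; rfl
  refine ⟨a, ha, ⟨(e_comm hv (hA ha) h1 i).1, fun j hj => ?_⟩, ?_, (e_comm hv (hA ha) h1 i).2.2⟩
  · have hj' : j ≠ i := hj
    apply NatPair.ext2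
    · rw [(e_comm hv (hA ha) h1 j).2.1, Function.update_of_ne hj']
      simp
    · exact (e_comm hv (hA ha) h1 j).2.2
  · rw [(e_comm hv (hA ha) h1 i).2.1, Function.update_self]

theorem root_ne {v a : G} {i : Fin k} {c : F} (hc : c ≠ 0) (hv : M.e v i 1 ≠ 0)
    (h : M.e ⁅v, a⁆ i 0 = - (c * M.e v i 1)) : ⁅v, a⁆ ≠ 1 := by
  intro h0
  rw [h0, e_one] at h
  have h1 : c * M.e v i 1 = 0 := by
    have : (0 : F) = - (c * M.e v i 1) := h
    rw [← neg_eq_zero, ← this]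
  rcases mul_eq_zero.1 h1 with h2 | h2
  · exact hc h2
  · exact hv h2

/-- If the commutators of an element `v ∈ V` with `A` lie in `{1, n}`, then `|F| = 2`. -/
theorem card_two_of [Finite F] {A : Subgroup G} {I : Set (Fin k)} (h : Ind M A I) (hA : A ≤ P) {v n : G}
    (hv : v ∈ zl S P) {a : G} (ha : a ∈ A) (hne : v * a ≠ a * v) (hn : ∀ a ∈ A, ⁅v, a⁆ = 1 ∨ ⁅v, a⁆ = n) :
    Nat.card F = 2 := by
  classical
  obtain ⟨i, hi, hvi⟩ := exists_coord h hA hv ha hne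
  choose f hf1 hf2 hf3 hf4 using fun c : F => exists_root h hA hv hi c
  have hinj : Function.Injective fun c => ⁅v, f c⁆ := by
    intro c d hcd
    have h1 : M.e ⁅v, f c⁆ i 0 = M.e ⁅v, f d⁆ i 0 := congrArg (fun g => M.e g i 0) hcd
    rw [hf3, hf3, neg_inj] at h1
    exact mul_right_cancel₀ hvi h1
  have hle2 : Nat.card F ≤ 2 := by
    have : Fintype F := Fintype.ofFinite F
    rw [Nat.card_eq_fintype_card, ← Finset.card_univ]
    refine (Finset.card_le_card_of_injOn (fun c => ⁅v, f c⁆) (t := {1, n}) ?_ hinj.injOn).trans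
      Finset.card_le_two
    intro c _
    rw [Finset.coe_insert, Finset.coe_singleton]
    exact hn _ (hf1 c)
  have hge2 : 2 ≤ Nat.card F := by
    have : Nontrivial F := inferInstance
    exact Finite.one_lt_card
  exact le_antisymm hle2 hge2

end card

/-- **`|F| = 2`** if `V'` is one even-subset module. -/
theorem card_two [Finite G] (hc : IsCharacteristicTwoType G) {S S' : Sylow 2 G} {P P' : Subgroup G}
    (hp : Pair S S' P P') (hN : NoOver (zl (S : Subgroup G) P) P)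
    (hN' : NoOver (zl (S' : Subgroup G) P') P') {F : Type} [Field F] [Finite F] {k : ℕ}
    (M : NatK F (S : Subgroup G) P (zl (S : Subgroup G) P) ⊥ k) {m' : ℕ} (hm' : 2 ≤ m')
    (h' : IsSym (S' : Subgroup G) P' 1 m') (hF' : Free (S' : Subgroup G) P') : Nat.card F = 2 := by
  have o1 := hp.off hc hN'
  have o2 := hp.symm.off hc hN
  obtain ⟨ε, hε, -, hs⟩ := S5.Pair.exists_lab (S' : Subgroup G) hm' hp.star'.isLoc.le h' hF'
  have hn : 3 ≤ 2 ^ m' + 1 := (by norm_num : 3 ≤ 5).trans (S5.Syl.five_le hm')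
  obtain ⟨b, hb, i, j, hij, hbs⟩ := S5.Nat.exists_swap hε (hs _ hp.le' o2) o2.ne
  obtain ⟨I, hI⟩ := exists_ind M hp.le o1
  have hVP : zl (S' : Subgroup G) P' ≤ P := hp.le.trans hp.star.isLoc.le
  refine card_two_of hI hVP hb (a := ε (Pi.single i 1)) (hε.mem _)
    (n := ε (Pi.single i 1 + Pi.single j 1)) ?_ ?_
  · intro h1
    have h2 := (S5.Pair.swap_comm_iff hε hn hij hbs _).1 h1
    rw [Pi.single_eq_same, Pi.single_eq_of_ne hij.symm] at h2
    exact one_ne_zero h2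
  · intro a ha
    obtain ⟨u, rfl⟩ := hε.surj a ha
    rw [commutatorElement_def]
    by_cases hu : u i = u j
    · left
      rw [(S5.Pair.acts_swap hε hbs u).1 hu]
      group
    · right
      rw [(S5.Pair.acts_swap hε hbs u).2 hu, hε.comm]
      group

/-! ### Labels -/

theorem swap_d8 : ∀ i j : Fin 5, i ≠ j → Equiv.swap i j * dd = dd * Equiv.swap i j →
    Equiv.swap i j = Equiv.swap 0 1 ∨ Equiv.swap i j = Equiv.swap 2 3 := by
  decide +kernel

theorem only_swap : ∀ p : Equiv.Perm (Fin 5), (∀ i, p i ≠ i → Equiv.swap i (p i) = Equiv.swap 0 1) →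
    p = 1 ∨ p = Equiv.swap 0 1 := by
  decide +kernel

/-- The action of an offender: products of disjoint transpositions induced by the offender. -/
def SideM {V L : Subgroup G} (A : Subgroup G) (N : FiveMod V L) : Prop :=
  ∀ a ∈ A, ∃ p : Equiv.Perm (Fin 5), N.Ind a p ∧ ∀ i, p i ≠ i → p (p i) = i ∧
    ∃ b ∈ A, N.Ind b (Equiv.swap i (p i))

theorem SideM.relabel {V L A : Subgroup G} {N : FiveMod V L} (h : SideM A N) (σ : Equiv.Perm (Fin 5)) :
    SideM A (N.relabel σ) := by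
  intro a ha
  obtain ⟨p, hp, h1⟩ := h a ha
  refine ⟨σ⁻¹ * p * σ, FiveMod.relabel_ind σ hp, fun i hi => ?_⟩
  have e : (σ⁻¹ * p * σ) i = σ⁻¹ (p (σ i)) := rfl
  have e1 : ∀ x, σ (σ⁻¹ x) = x := σ.apply_symm_apply
  have e2 : ∀ x, σ⁻¹ (σ x) = x := σ.symm_apply_apply
  have hi' : p (σ i) ≠ σ i := by
    intro h2
    apply hi
    rw [e, h2]
    exact σ.symm_apply_apply i
  obtain ⟨h2, b, hb, h3⟩ := h1 (σ i) hi'
  refine ⟨?_, b, hb, ?_⟩
  · rw [e]
    change σ⁻¹ (p (σ (σ⁻¹ (p (σ i))))) = i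
    rw [e1, h2, e2]
  · have h4 := FiveMod.relabel_ind σ h3
    have h5 : σ⁻¹ * Equiv.swap (σ i) (p (σ i)) * σ = Equiv.swap i ((σ⁻¹ * p * σ) i) := by
      rw [e]
      have h6 := Equiv.swap_apply_apply σ⁻¹ (σ i) (p (σ i))
      rw [e2, inv_inv] at h6
      exact h6.symm
    rwa [h5] at h4

theorem Adapt.relabel {V L S : Subgroup G} {N : FiveMod V L} (h : Adapt S N) {σ : Equiv.Perm (Fin 5)}
    (hσ : σ * dd = dd * σ) : Adapt S (N.relabel σ) where
  SL := h.SL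
  d8 g hg p hp := by
    have h1 := h.d8 g hg _ (FiveMod.ind_of_relabel σ hp)
    have h2 : σ⁻¹ * dd = dd * σ⁻¹ := by
      calc σ⁻¹ * dd = σ⁻¹ * (dd * σ) * σ⁻¹ := by group
        _ = σ⁻¹ * (σ * dd) * σ⁻¹ := by rw [hσ]
        _ = dd * σ⁻¹ := by group
    calc p * dd = σ⁻¹ * (σ * p * σ⁻¹) * (σ * dd) := by group
      _ = σ⁻¹ * (σ * p * σ⁻¹) * (dd * σ) := by rw [hσ]
      _ = σ⁻¹ * (σ * p * σ⁻¹ * dd) * σ := by group
      _ = σ⁻¹ * (dd * (σ * p * σ⁻¹)) * σ := by rw [h1]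
      _ = σ⁻¹ * dd * (σ * p) := by group
      _ = dd * σ⁻¹ * (σ * p) := by rw [h2]
      _ = dd * p := by group
  ex p hp := by
    have h1 : σ * p * σ⁻¹ * dd = dd * (σ * p * σ⁻¹) := by
      have h2 : σ⁻¹ * dd = dd * σ⁻¹ := by
        calc σ⁻¹ * dd = σ⁻¹ * (dd * σ) * σ⁻¹ := by group
          _ = σ⁻¹ * (σ * dd) * σ⁻¹ := by rw [hσ]
          _ = dd * σ⁻¹ := by group
      calc σ * p * σ⁻¹ * dd = σ * p * (σ⁻¹ * dd) := by group
        _ = σ * p * (dd * σ⁻¹) := by rw [h2]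
        _ = σ * (p * dd) * σ⁻¹ := by group
        _ = σ * (dd * p) * σ⁻¹ := by rw [hp]
        _ = (σ * dd) * p * σ⁻¹ := by group
        _ = (dd * σ) * p * σ⁻¹ := by rw [hσ]
        _ = dd * (σ * p * σ⁻¹) := by group
    obtain ⟨g, hg, hi⟩ := h.ex _ h1
    refine ⟨g, hg, ?_⟩
    have h2 := FiveMod.relabel_ind σ hi
    have e : σ⁻¹ * (σ * p * σ⁻¹) * σ = p := by group
    rwa [e] at h2
  zc := h.zc

/-- **Labels of one `O₄⁻(2)`-module**, adapted to `S` and an offender `A ≤ S`. -/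
theorem exists_lab5 [Finite G] (S : Sylow 2 G) {P : Subgroup G}
    (hP : IsParS (S : Subgroup G) P) (h : IsSym (S : Subgroup G) P 1 2) (hF : Free (S : Subgroup G) P)
    {A : Subgroup G} (hA : A ≤ S) (ho : Off (zl (S : Subgroup G) P) A) :
    ∃ N : FiveMod (zl (S : Subgroup G) P) P, Adapt (S : Subgroup G) N ∧
      (∃ a ∈ A, N.Ind a (Equiv.swap 0 1)) ∧
      ((∀ a ∈ A, N.Ind a 1 ∨ N.Ind a (Equiv.swap 0 1)) ∨ ∃ b ∈ A, N.Ind b (Equiv.swap 2 3)) := by
  obtain ⟨ε, hε, -, hs⟩ := S5.Pair.exists_lab (S : Subgroup G) le_rfl hP.isLoc.le h hF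
  have hε' : EvenSet 5 (zl (S : Subgroup G) P) P ε := hε
  have hs1 : SideM A (S5.OfEven.ofEven hε') := hs A hA ho
  obtain ⟨σ, h1, h2⟩ := exists_relabel (S5.OfEven.ofEven hε') S hP.isLoc.le
  set N₀ := (S5.OfEven.ofEven hε').relabel σ with hN₀
  have hs2 : SideM A N₀ := hs1.relabel σ
  have hA0 : Adapt (S : Subgroup G) N₀ := ⟨hP.isLoc.le, h1, h2, ZN.ChoiceSit.zc_le_zl _ _⟩
  -- the transpositions
  have hsw : ∀ {N : FiveMod (zl (S : Subgroup G) P) P}, Adapt (S : Subgroup G) N → SideM A N →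
      ∀ a ∈ A, ∀ p, N.Ind a p → ∀ i, p i ≠ i → ∃ b ∈ A, N.Ind b (Equiv.swap i (p i)) ∧
        (Equiv.swap i (p i) = Equiv.swap 0 1 ∨ Equiv.swap i (p i) = Equiv.swap 2 3) := by
    intro N hN hs a ha p hp i hi
    obtain ⟨q, hq, h3⟩ := hs a ha
    obtain rfl := hp.unique hq
    obtain ⟨-, b, hb, h4⟩ := h3 i hi
    exact ⟨b, hb, h4, swap_d8 i (p i) (Ne.symm hi) (hN.d8 b (hA hb) _ h4)⟩
  obtain ⟨a, ha, hac⟩ : ∃ a ∈ A, a ∉ centralizer (zl (S : Subgroup G) P : Set G) := by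
    by_contra hcon
    push Not at hcon
    exact ho.ne hcon
  obtain ⟨p, hp, -⟩ := hs2 a ha
  obtain ⟨i, hi⟩ : ∃ i, p i ≠ i := by
    by_contra hcon
    push Not at hcon
    apply hac
    have h3 : p = 1 := Equiv.ext hcon
    rw [h3] at hp
    exact FiveMod.ind_one_iff.1 hp
  obtain ⟨b, hb, h3, h4⟩ := hsw hA0 hs2 a ha p hp i hi
  obtain ⟨N, hN, hs3, b, hb, hbN⟩ : ∃ N : FiveMod (zl (S : Subgroup G) P) P, Adapt (S : Subgroup G) N ∧
      SideM A N ∧ ∃ b ∈ A, N.Ind b (Equiv.swap 0 1) := by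
    rcases h4 with h4 | h4
    · exact ⟨N₀, hA0, hs2, b, hb, h4 ▸ h3⟩
    · refine ⟨N₀.relabel S5.TT.tt, hA0.relabel (by decide), hs2.relabel _, b, hb, ?_⟩
      rw [h4] at h3
      have h5 := FiveMod.relabel_ind S5.TT.tt h3
      have e : S5.TT.tt⁻¹ * Equiv.swap 2 3 * S5.TT.tt = Equiv.swap 0 1 := by decide
      rwa [e] at h5
  refine ⟨N, hN, ⟨b, hb, hbN⟩, ?_⟩
  by_cases h5 : ∃ b ∈ A, N.Ind b (Equiv.swap 2 3)
  · exact Or.inr h5
  left
  intro a ha
  obtain ⟨p, hp, -⟩ := hs3 a ha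
  rcases only_swap p fun i hi => by
    obtain ⟨c, hc', h6, h7⟩ := hsw hN hs3 a ha p hp i hi
    rcases h7 with h7 | h7
    · exact h7
    · exact absurd ⟨c, hc', h7 ▸ h6⟩ h5 with h6 | h6
  · left; rw [← h6]; exact hp
  · right; rw [← h6]; exact hp

/-! ### Two natural factors against one `O₄⁻(2)`-module -/

theorem fix_bc : ∀ p : Equiv.Perm (Fin 5), (bb ∘ p.symm = bb ∨ bb ∘ p.symm = bb + 1) →
    (cc ∘ p.symm = cc ∨ cc ∘ p.symm = cc + 1) → p = 1 ∨ p = Equiv.swap 0 1 := by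
  decide +kernel

section mixed

theorem comm_swap {V L : Subgroup G} {N : FiveMod V L} {a w : G} (ha : N.Ind a (Equiv.swap 0 1)) (hw : w ∈ V) :
    ⁅a, w⁆ = 1 ∨ ⁅a, w⁆ = N.e nn := by
  obtain ⟨y, rfl⟩ := (N.mem_iff w).1 hw
  rw [commutatorElement_def, ha.comm_eq, N.ker, N.e_eq_iff]
  exact swap_comm y

theorem swap_ne {V L : Subgroup G} {N : FiveMod V L} {a : G} (ha : N.Ind a (Equiv.swap 0 1)) :
    a * N.e (Pi.single 0 1) ≠ N.e (Pi.single 0 1) * a := by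
  intro h
  rcases (ha.commute_iff _).1 h with h1 | h1
  · revert h1; decide
  · revert h1; decide

variable {S S' P P' : Subgroup G} {F : Type} [Field F] {k : ℕ} {M : NatK F S P (zl S P) ⊥ k}
  {N : FiveMod (zl S' P') P'}

/-- `n` lies in a line of `V`. -/
theorem n_mem_line {I : Set (Fin k)} (hI : Ind M (zl S' P') I) (hVP : zl S' P' ≤ P) {a : G} (ha : a ∈ zl S P)
    (has : N.Ind a (Equiv.swap 0 1)) : ∃ i ∈ I, N.e nn ∈ line M i := by
  obtain ⟨i, hi, h1⟩ := exists_coord hI hVP ha (N.e_mem (Pi.single 0 1)) (swap_ne has)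
  obtain ⟨w, hw, h2, h3, h4⟩ := exists_root hI hVP ha hi 1
  refine ⟨i, hi, ?_⟩
  rcases comm_swap has hw with h5 | h5
  · exact absurd h5 (root_ne one_ne_zero h1 h3)
  · rw [← h5, mem_line]
    exact ⟨h2, h4⟩

/-- An element of `fac M i` which does not commute with an element of `V'`. -/
theorem exists_move {I : Set (Fin k)} (hI : Ind M (zl S' P') I) (hVP : zl S' P' ≤ P) {i : Fin k} (hi : i ∈ I) :
    ∃ w ∈ fac M i, ∃ a ∈ zl S' P', ⁅w, a⁆ ∈ fac M i ∧ ⁅w, a⁆ ≠ 1 := by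
  obtain ⟨w, hw, h1⟩ := exists_fac M i ![0, 1]
  obtain ⟨a, ha, h2, h3, -⟩ := exists_root hI hVP hw.1 hi 1
  refine ⟨w, hw, a, ha, h2, root_ne one_ne_zero ?_ h3⟩
  rw [h1]
  exact one_ne_zero

end mixed

/-- **`|[V, V']| ≠ 2`, `k = 2` against one `O₄⁻(2)`-module**: contradiction (HALF LEMMA twice). -/
theorem false_of_univ [Finite G] (hc : IsCharacteristicTwoType G) {S S' : Sylow 2 G} {P P' : Subgroup G}
    (hp : Pair S S' P P') {F : Type} [Field F]
    {M : NatK F (S : Subgroup G) P (zl (S : Subgroup G) P) ⊥ 2}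
    {N : FiveMod (zl (S' : Subgroup G) P') P'} (hI : Ind M (zl (S' : Subgroup G) P') Set.univ)
    (hN : Adapt (S' : Subgroup G) N) {a : G} (ha : a ∈ zl (S : Subgroup G) P)
    (has : N.Ind a (Equiv.swap 0 1)) : False := by
  have hVP : zl (S' : Subgroup G) P' ≤ P := hp.le.trans hp.star.isLoc.le
  obtain ⟨i, -, h1⟩ := n_mem_line hI hVP ha has
  have h2 : N.e nn ∈ fac M i := line_le M i h1
  obtain ⟨j, hij⟩ : ∃ j, i ≠ j := ⟨1 - i, by clear h1 h2; revert i; decide⟩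
  obtain ⟨w, hw, c, hc', h3, h4⟩ := exists_move hI hVP (Set.mem_univ j)
  have h5 := (Half.NatA.app_two' hc S M hp.star.isLoc hij h2.1 (fun x hx => h2.2 x hx) (n_ne_one N) hw.1
    (fun x hx => hw.2 x hx)).2
  obtain ⟨h6, -⟩ := half hN hc
  have h7 : ∀ x ∈ vn N, w * x = x * w := fun x hx => (mem_centralizer_iff.1 h5 x (h6 hx)).symm
  obtain ⟨p, hpw⟩ := N.exists_ind (hN.SL (hp.le' hw.1))
  rcases fix_bc p ((hpw.commute_iff bb).1 (h7 _ (bb_mem N))) ((hpw.commute_iff cc).1 (h7 _ (cc_mem N))) with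
    rfl | rfl
  · apply h4
    rw [commutatorElement_eq_one_iff_mul_comm]
    exact (mem_centralizer_iff.1 (FiveMod.ind_one_iff.1 hpw) _ hc').symm
  · rcases comm_swap hpw hc' with h8 | h8
    · exact h4 h8
    · apply n_ne_one N
      have h9 : N.e nn ∈ fac M i ⊓ fac M j := ⟨h2, h8 ▸ h3⟩
      rwa [fac_inf M hij, mem_bot] at h9

/-- The supply for the partner `O₄⁻(2)`: `V' ≤ K_n`. -/
theorem le_KK [Finite G] (hc : IsCharacteristicTwoType G) {S' : Sylow 2 G} {V L : Subgroup G}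
    {N : FiveMod V L} (hN : Adapt (S' : Subgroup G) N) : V ≤ Triangle.KK (N.e nn) := by
  intro v hv
  refine ⟨N.comm hv (N.e_mem nn), fun x hx => ?_⟩
  rw [Triangle.mem_zpowers_iff_of_sq (N.e_sq nn)]
  exact supply hN hc hx hv

/-- The supply in the form of `One`. -/
theorem le_Kk [Finite G] (hc : IsCharacteristicTwoType G) {S' : Sylow 2 G} {V L : Subgroup G}
    {N : FiveMod V L} (hN : Adapt (S' : Subgroup G) N) : V ≤ One.Kk (N.e nn) := by
  intro v hv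
  refine ⟨One.mem_cz.2 (N.comm hv (N.e_mem nn)), fun x hx => ?_⟩
  exact (Triangle.mem_zpowers_iff_of_sq (N.e_sq nn)).2 (supply hN hc hx hv)

end Cfsg.Agent.Omega.IId.Sym
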