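import Cfsg.Agent.Mrg.Omega.IId.Match
import Cfsg.Agent.Mrg.Omega.IId.TriOf
import Cfsg.Agent.Mrg.Omega.IId.Fac
import Cfsg.Agent.Mrg.Omega.IId.Triangle
import Cfsg.Agent.Mrg.Omega.IId.SymMix
import Cfsg.Agent.Mrg.Omega.IId.Cv.Cut
import Cfsg.Agent.Mrg.Omega.IId.LineAct

section


/-!
# II.d, `q = 2`: the supply `[V_i, K_v] ≠ 1` (helper612 #13793 (S), helper593 #14067)

`M : NatK F S P (zl S P) ⊥ k`, `|F| = 2`, `line M i = {1, v}`, `K_v = {g ∈ C_G(v) : [O₂(C_G(v)), g] ≤ ⟨v⟩}`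
(`Triangle.KK v`).

* `mem_line_two`, `comm_mem_line` : `[V_i, stab M i] ≤ line M i`;
* `o2_cent_le_stab` : `k ≤ 2`: `O₂(C_G(v)) ≤ stab M i` (whether or not `stab M i` is a Sylow 2-subgroup of
  `C_G(v)`);
* `fac_le_KK` : `k ≤ 2`: `fac M i ≤ K_v`;
* `supply` : for a pair in normal position with `[V, V'] = line M i = {1, v}`, `k' ≤ 2` natural factors on the
  other side: `[V_i, K_v] ≠ 1`.
-/

set_option autoImplicit false
set_option linter.unusedSectionVars false

namespace Cfsg.Agent.Omega.IId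

open Subgroup Pointwise Cfsg Cfsg.Agent.ZN Cfsg.Agent.ZN.ChoiceBase
open Cfsg.Agent.Omega.MinPar Cfsg.Agent.Omega.Frame Cfsg.Agent.Omega.FFThm Cfsg.Agent.Omega.FrameMulti
open Cfsg.Agent.Lib.SL2Mat
open Cfsg.Agent.Omega.IId.Triangle (KK)
open Cfsg.Agent.Omega.NatPair (ap)
open scoped commutatorElement

universe u

variable {G : Type u} [Group G] {F : Type} [Field F] {P : Subgroup G}

section line

variable {S : Subgroup G} {k : ℕ} (M : NatK F S P (zl S P) ⊥ k)

/-- In a field of order 2 the only nonzero element is `1`. -/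
theorem eq_one_of_card_two (hF : Nat.card F = 2) {x : F} (hx : x ≠ 0) : x = 1 := by
  obtain ⟨y, -, hu⟩ := (Nat.card_eq_two_iff' (0 : F)).1 hF
  exact (hu x hx).trans (hu 1 one_ne_zero).symm

variable [Finite F]

/-- `line M i = {1, v}` -/
theorem mem_line_two (hF : Nat.card F = 2) {i : Fin k} {v x : G} (hv : v ∈ line M i) (hv1 : v ≠ 1)
    (hx : x ∈ line M i) : x = 1 ∨ x = v :=
  Two.eq_or_eq_of_card_two ((card_line M i).trans hF) hv hv1 hx

theorem line_eq_zpowers (hF : Nat.card F = 2) {i : Fin k} {v : G} (hv : v ∈ line M i) (hv1 : v ≠ 1) :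
    line M i = zpowers v := by
  refine le_antisymm (fun x hx => ?_) ((zpowers_le).2 hv)
  rcases mem_line_two M hF hv hv1 hx with rfl | rfl
  · exact one_mem _
  · exact mem_zpowers _

/-- `stab M i` centralises `line M i`. -/
theorem stab_comm_line (hSP : S ≤ P) (hF : Nat.card F = 2) {i : Fin k} {v x : G} (hv : v ∈ line M i)
    (hx : x ∈ stab M i) : x * v = v * x := by
  by_cases hv1 : v = 1
  · rw [hv1, one_mul, mul_one]
  · have h1 := (mem_normalizer_iff.1 (stab_normalizes_line M hSP i hx) v).1 hv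
    rcases mem_line_two M hF hv hv1 h1 with h2 | h2
    · exfalso
      apply hv1
      have e : v = x⁻¹ * (x * v * x⁻¹) * x := by group
      rw [e, h2]; group
    · exact mul_inv_eq_iff_eq_mul.1 h2

/-- `[V_i, stab M i] ≤ line M i`. -/
theorem comm_mem_line (hSP : S ≤ P) (hF : Nat.card F = 2) {i : Fin k} {a x : G} (ha : a ∈ fac M i)
    (hx : x ∈ stab M i) : a * x * a⁻¹ * x⁻¹ ∈ line M i := by
  have h1 : x * a⁻¹ * x⁻¹ ∈ fac M i := (mem_normalizer_iff.1 hx.2 _).1 (inv_mem ha)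
  have h2 : x * a * x⁻¹ ∈ fac M i := (mem_normalizer_iff.1 hx.2 _).1 ha
  have e : a * x * a⁻¹ * x⁻¹ = a * (x * a * x⁻¹)⁻¹ := by group
  rw [e, mem_line]
  refine ⟨mul_mem ha (inv_mem h2), ?_⟩
  have hsg : sg M (hSP hx.1) i = i := (mem_normalizer_fac_iff M (hSP hx.1)).1 hx.2
  have h3 := e_conj_line M hSP hx.1 ha.1 i
  rw [hsg] at h3
  rw [M.mul a ha.1 _ (inv_mem h2.1), e_inv M h2.1, Pi.add_apply, Pi.add_apply, Pi.neg_apply, Pi.neg_apply]
  by_cases h0 : M.e a i 1 = 0
  · rw [h0, h3.2 h0]; ring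
  · rw [eq_one_of_card_two hF h0, eq_one_of_card_two hF (fun h4 => h0 (h3.1 h4))]; ring

end line

section o2

variable [Finite G] [Finite F] [CharP F 2] {S : Sylow 2 G}

omit [Finite F] [CharP F 2] in
/-- A 2-group `A ≤ N`, not a Sylow 2-subgroup of `N`, is properly contained in a 2-subgroup of `N`. -/
theorem exists_bigger {A N : Subgroup G} (hA : IsPGroup 2 A) (hAN : A ≤ N) (h2 : 2 ∣ A.relIndex N) :
    ∃ T : Subgroup G, IsPGroup 2 T ∧ A ≤ T ∧ T ≤ N ∧ ¬ T ≤ A := by
  have : Fact (Nat.Prime 2) := ⟨Nat.prime_two⟩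
  have h1 : IsPGroup 2 (A.subgroupOf N) := hA.comap_of_injective (Subgroup.subtype _) (Subgroup.subtype_injective _)
  obtain ⟨Q, hQ⟩ := h1.exists_le_sylow
  refine ⟨(Q : Subgroup N).map N.subtype, Q.isPGroup'.map _, ?_, ?_, fun hcon => ?_⟩
  · intro x hx
    exact ⟨⟨x, hAN hx⟩, hQ (mem_subgroupOf.2 hx), rfl⟩
  · rintro _ ⟨x, -, rfl⟩
    exact x.2
  · have h3 : A.subgroupOf N = (Q : Subgroup N) := by
      refine le_antisymm hQ fun x hx => ?_
      exact mem_subgroupOf.2 (hcon ⟨x, hx, rfl⟩)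
    rw [relIndex, h3] at h2
    exact Q.not_dvd_index h2

omit [CharP F 2] in
/-- `C_G(v) = N_G(line M i)`. -/
theorem normalizer_line_eq {S : Subgroup G} {k : ℕ} (M : NatK F S P (zl S P) ⊥ k) (hF : Nat.card F = 2)
    {i : Fin k} {v : G} (hv : v ∈ line M i) (hv1 : v ≠ 1) :
    normalizer (line M i : Set G) = centralizer ({v} : Set G) := by
  ext x
  rw [Triangle.mem_cent]
  constructor
  · intro hx
    rcases mem_line_two M hF hv hv1 ((mem_normalizer_iff.1 hx v).1 hv) with h2 | h2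
    · exfalso
      apply hv1
      have e : v = x⁻¹ * (x * v * x⁻¹) * x := by group
      rw [e, h2]; group
    · exact mul_inv_eq_iff_eq_mul.1 h2
  · intro hx
    have h1 : x * v * x⁻¹ = v := mul_inv_eq_iff_eq_mul.2 hx
    have h3 : x⁻¹ * v * x = v := by
      calc x⁻¹ * v * x = x⁻¹ * (v * x) := by group
        _ = v := by rw [← hx]; group
    rw [mem_normalizer_iff]
    intro y
    constructor
    · intro hy
      rcases mem_line_two M hF hv hv1 hy with rfl | rfl
      · rw [mul_one, mul_inv_cancel]; exact one_mem _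
      · rw [h1]; exact hv
    · intro hy
      have e : y = x⁻¹ * (x * y * x⁻¹) * x := by group
      rcases mem_line_two M hF hv hv1 hy with h2 | h2
      · rw [e, h2, mul_one, inv_mul_cancel]; exact one_mem _
      · rw [e, h2, h3]; exact hv

/-- **`O₂(C_G(v)) ≤ stab M i`**, `line M i = {1, v}`, `k ≤ 2`. -/
theorem o2_cent_le_stab (hc : IsCharacteristicTwoType G) (hP : IsParS (S : Subgroup G) P) {k : ℕ}
    (M : NatK F (S : Subgroup G) P (zl (S : Subgroup G) P) ⊥ k) (hk1 : 1 ≤ k) (hk2 : k ≤ 2)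
    (hF : Nat.card F = 2) {i : Fin k} {v : G} (hv : v ∈ line M i) (hv1 : v ≠ 1) :
    ZN.o2 (centralizer ({v} : Set G)) ≤ stab M i := by
  have hSP : (S : Subgroup G) ≤ P := hP.isLoc.le
  have hst : stab M i ≤ centralizer ({v} : Set G) := fun x hx =>
    Triangle.mem_cent.2 (stab_comm_line M hSP hF hv hx)
  have hst2 : IsPGroup 2 (stab M i) := S.isPGroup'.to_le (stab_le M i)
  by_cases hd : 2 ∣ (stab M i).relIndex (centralizer ({v} : Set G))
  swap
  · exact Cfsg.Agent.MinSimple.VModule.o2_le_of_sylow hst2 hd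
  rcases Nat.lt_or_ge k 2 with h1 | h1
  · -- one factor
    exfalso
    have h2 : k = 1 := by omega
    subst h2
    have h3 : stab M i = (S : Subgroup G) := by
      refine le_antisymm (stab_le M i) (le_inf le_rfl fun x hx => ?_)
      rw [mem_normalizer_fac_iff M (hSP hx)]
      exact Subsingleton.elim _ _
    rw [h3] at hd hst
    exact MinSimple.Basic.not_dvd_relIndex S hst hd
  · have h2 : k = 2 := by omega
    subst h2
    obtain ⟨j, hij⟩ : ∃ j : Fin 2, i ≠ j := ⟨i + 1, by omega⟩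
    have h := two_of hc hP M hij
    obtain ⟨T, hT2, hT, hTN, hTne⟩ := exists_bigger hst2 hst hd
    have hfix : fac M i ⊓ centralizer (stab M i : Set G) ≤ line M i := cent_le_line M hSP i
    have hvf : v ∈ fac M i ⊓ centralizer (stab M i : Set G) :=
      ⟨line_le M i hv, mem_centralizer_iff.2 fun t ht => stab_comm_line M hSP hF hv ht⟩
    have hz : Nat.card (zc (S : Subgroup G)) = 2 := by
      rw [← TriOf.card_fix_eq h]
      refine le_antisymm ?_ ?_
      · calc Nat.card (fac M i ⊓ centralizer (stab M i : Set G) : Subgroup G) ≤ Nat.card (line M i) :=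
            Subgroup.card_le_of_le hfix
          _ = 2 := (card_line M i).trans hF
      · have : Nontrivial (fac M i ⊓ centralizer (stab M i : Set G) : Subgroup G) :=
          ⟨⟨v, hvf⟩, 1, fun h => hv1 (congrArg Subtype.val h)⟩
        exact Finite.one_lt_card
    rw [← normalizer_line_eq M hF hv hv1] at hTN
    obtain ⟨Q, s, w, hQ, ht⟩ := TriOf.exists_tri h hz (line_le M i) hfix hT2 hT hTN hTne
    have hw : w = v := by
      have h3 : w ∈ line M i := hfix ⟨ht.vV, mem_centralizer_iff.2 fun t ht' => ht.vSo t ht'⟩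
      exact (mem_line_two M hF hv hv1 h3).resolve_left ht.v1
    subst hw
    have h4 := ht.o2_le_So hc
    have h5 : Cfsg.Agent.Omega.FrameNOFF.CZ (Q : Subgroup G) = centralizer ({w} : Set G) := by
      ext x
      rw [ht.mem_CZ, Triangle.mem_cent]
    rwa [h5] at h4

/-- **`fac M i ≤ K_v`**, `line M i = {1, v}`, `k ≤ 2`. -/
theorem fac_le_KK (hc : IsCharacteristicTwoType G) (hP : IsParS (S : Subgroup G) P) {k : ℕ}
    (M : NatK F (S : Subgroup G) P (zl (S : Subgroup G) P) ⊥ k) (hk1 : 1 ≤ k) (hk2 : k ≤ 2)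
    (hF : Nat.card F = 2) {i : Fin k} {v : G} (hv : v ∈ line M i) (hv1 : v ≠ 1) :
    fac M i ≤ KK v := by
  have hSP : (S : Subgroup G) ≤ P := hP.isLoc.le
  intro a ha
  refine Triangle.mem_KK.2 ⟨comm M ha.1 (line_le M i hv).1, fun x hx => ?_⟩
  rw [← line_eq_zpowers M hF hv hv1]
  exact comm_mem_line M hSP hF ha (o2_cent_le_stab hc hP M hk1 hk2 hF hv hv1 hx)

end o2

section supply

variable [Finite G] [Finite F] {F' : Type} [Field F'] [Finite F'] [CharP F' 2]

/-- The partner of the factor `i`: `[V, V'] = line M i`. -/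
theorem exists_partner (hc : IsCharacteristicTwoType G) {S S' : Sylow 2 G} {P P' : Subgroup G}
    (h : Pair S S' P P') (hT : NoOver (zl (S : Subgroup G) P) P)
    (hT' : NoOver (zl (S' : Subgroup G) P') P') {k k' : ℕ}
    (M : NatK F (S : Subgroup G) P (zl (S : Subgroup G) P) ⊥ k)
    (M' : NatK F' (S' : Subgroup G) P' (zl (S' : Subgroup G) P') ⊥ k') (hk' : 0 < k') {i : Fin k}
    (hR : ⁅zl (S : Subgroup G) P, zl (S' : Subgroup G) P'⁆ = line M i) :
    ∃ j, line M i = line M' j ∧ Nat.card F' = Nat.card F ∧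
      ∃ a ∈ fac M i, ∃ b ∈ fac M' j, b * a ≠ a * b := by
  obtain ⟨I, hI⟩ := exists_ind M h.le (h.off hc hT')
  obtain ⟨I', hI'⟩ := exists_ind M' h.le' (h.symm.off hc hT)
  have hVP : zl (S' : Subgroup G) P' ≤ P := h.le.trans h.star.le
  have hVP' : zl (S : Subgroup G) P ≤ P' := h.le'.trans h.star'.le
  have hcomm := hI.commutator_eq hVP
  have hi : i ∈ I := by
    obtain ⟨j, hj⟩ := lines_ne_bot (M := M) (hcomm ▸ h.ne)
    have h1 : line M j ≤ line M i := by
      rw [← hR, hcomm]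
      exact lines_mono M (Set.singleton_subset_iff.2 hj)
    rw [← line_inj h1]
    exact hj
  obtain ⟨j, -, hl, hact⟩ := exists_match hI hI' hVP hVP' hk' hi
  refine ⟨j, hl, ?_, ?_⟩
  · rw [← card_line M' j, ← hl, card_line M i]
  · obtain ⟨a, ha, hae⟩ := exists_fac M i ![0, 1]
    obtain ⟨c, hcj, -, hca⟩ := hact a ha (by rw [hae]; exact one_ne_zero)
    obtain ⟨b, hb, hbe⟩ := exists_fac M' j ![0, 1]
    refine ⟨a, ha, b, hb, fun h0 => ?_⟩
    have h1 := (e_comm hb.1 (hVP' ha.1) hca j).2.1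
    have h2 : ⁅b, a⁆ = 1 := commutatorElement_eq_one_iff_mul_comm.2 h0
    rw [h2, e_one, hbe] at h1
    apply hcj
    have h3 : (0 : F') = -(c j * 1) := h1
    rw [mul_one] at h3
    exact neg_eq_zero.1 h3.symm

/-- **The supply (S)**: `[V_i, K_v] ≠ 1`. -/
theorem supply (hc : IsCharacteristicTwoType G) {S S' : Sylow 2 G} {P P' : Subgroup G}
    (h : Pair S S' P P') (hT : NoOver (zl (S : Subgroup G) P) P)
    (hT' : NoOver (zl (S' : Subgroup G) P') P') {k k' : ℕ}
    (M : NatK F (S : Subgroup G) P (zl (S : Subgroup G) P) ⊥ k)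
    (M' : NatK F' (S' : Subgroup G) P' (zl (S' : Subgroup G) P') ⊥ k') (hk' : 1 ≤ k') (hk2 : k' ≤ 2)
    {i : Fin k} (hR : ⁅zl (S : Subgroup G) P, zl (S' : Subgroup G) P'⁆ = line M i)
    (hF : Nat.card F = 2) {v : G} (hv : v ∈ line M i) (hv1 : v ≠ 1) :
    ∃ a ∈ fac M i, ∃ b ∈ KK v, b * a ≠ a * b := by
  obtain ⟨j, hl, hcard, a, ha, b, hb, hne⟩ := exists_partner hc h hT hT' M M' hk' hR
  refine ⟨a, ha, b, ?_, hne⟩
  exact fac_le_KK hc h.star' M' hk' hk2 (hcard.trans hF) (hl ▸ hv) hv1 hb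

end supply

end Cfsg.Agent.Omega.IId

end

section


/-!
# II.d, CASE 2: `WrTri` from the supply and from NO-3S

* `exists_big` : if 2 divides `|N_G(line M i) : stab M i|`, there is a 2-subgroup `T > stab M i` of
  `N_G(line M i)`;
* `exists_tri_of` : then the structure `Triangle.Tri` holds, and `|F| = 2` (`card_two`);
* `wrTri` : `NO3S.Two K → WrTri K` (with helper774's supply `[V_i, K_v] ≠ 1`, `Sup.lean`).
-/

set_option autoImplicit false

namespace Cfsg.Agent.Omega.IId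

open Subgroup Cfsg Cfsg.Agent.ZN Cfsg.Agent.ZN.ChoiceBase
open Cfsg.Agent.Omega.MinPar Cfsg.Agent.Omega.Frame Cfsg.Agent.Omega.FFThm Cfsg.Agent.Omega.FrameMulti
open Cfsg.Agent.Omega.IId.Triangle (Tri KK)

universe u

section

variable {G : Type u} [Group G] {F : Type} [Field F] {P : Subgroup G}

/-- A 2-group properly above `stab M i` in the normaliser of the line. -/
theorem exists_big [Finite G] {S : Sylow 2 G} (hSP : (S : Subgroup G) ≤ P) {k : ℕ}
    (M : NatK F (S : Subgroup G) P (zl (S : Subgroup G) P) ⊥ k) (i : Fin k)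
    (h2 : 2 ∣ (stab M i).relIndex (normalizer (line M i : Set G))) :
    ∃ T : Subgroup G, IsPGroup 2 T ∧ stab M i ≤ T ∧ T ≤ normalizer (line M i : Set G) ∧ ¬ T ≤ stab M i := by
  obtain ⟨T, h3, h4, h5, h6⟩ := Half.exists_sylow_le (S.isPGroup'.to_le (stab_le M i))
    (stab_normalizes_line M hSP i)
  refine ⟨T, h5, h3, h4, fun h7 => h6 ?_⟩
  rwa [le_antisymm h7 h3]

/-- **The structure `Tri` in CASE 2**; `|F| = 2`. -/
theorem exists_tri_of [Finite G] [Finite F] [CharP F 2] (hc : IsCharacteristicTwoType G) {S : Sylow 2 G}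
    (hP : IsParS (S : Subgroup G) P) (M : NatK F (S : Subgroup G) P (zl (S : Subgroup G) P) ⊥ 2)
    {i j : Fin 2} (hij : i ≠ j) (h2 : 2 ∣ (stab M i).relIndex (normalizer (line M i : Set G))) :
    ∃ (T : Sylow 2 G) (s v : G), (T : Subgroup G) ≤ normalizer (line M i : Set G) ∧ v ∈ line M i ∧
      Tri S T (stab M i) (fac M i) (fac M j) (grp M {i}) (grp M {j}) s v ∧ Nat.card F = 2 := by
  have hSP : (S : Subgroup G) ≤ P := hP.isLoc.le
  have hT := two_of hc hP M hij
  have hS1 : (S : Subgroup G) ≠ ⊥ := fun h0 => by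
    have h1 := hT.big1
    have h3 : fac M i ≤ ⊥ := (hT.V1So.trans hT.SoS).trans h0.le
    rw [eq_bot_iff.2 h3, card_bot] at h1
    omega
  have hz : Nat.card (zc (S : Subgroup G)) = 2 := by
    refine le_antisymm (zc_le_two hc hP M i h2) ?_
    have h1 : zc (S : Subgroup G) ≠ ⊥ := MinSimple.Basic.zc_ne_bot S.isPGroup' hS1
    have : 1 < Nat.card (zc (S : Subgroup G)) := (Subgroup.one_lt_card_iff_ne_bot _).2 h1
    omega
  obtain ⟨T, hT2, hST, hTR, hne⟩ := exists_big hSP M i h2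
  obtain ⟨Q, s, v, hQ, hTri⟩ := TriOf.exists_tri hT hz (line_le M i) (cent_le_line M hSP i) hT2 hST hTR hne
  have hvl : v ∈ line M i := cent_le_line M hSP i
    ⟨hTri.vV, mem_centralizer_iff.2 fun y hy => hTri.vSo y hy⟩
  rw [← hQ] at hTR
  have h3 := TriOf.card_line_dvd hTri (line_le M i) hTR (by
    intro r hr hr1
    obtain ⟨g, hg, hgn, hgv⟩ := exists_tor M hvl hr hTri.v1 hr1
    exact ⟨g, hg, hgn, hgv⟩)
  rw [card_line] at h3
  refine ⟨Q, s, v, hTR, hvl, hTri, ?_⟩
  have h4 : 2 ≤ Nat.card F := by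
    rcases FrameFF.two_le_card (F := F) with h | h
    · omega
    · omega
  exact le_antisymm (Nat.le_of_dvd (by norm_num) h3) h4

end

/-- **`WrTri`** from NO-3S. -/
theorem wrTri {K : Cls.{u}} (hK : NO3S.Two K) : WrTri K := by
  intro G _ _ S S' hH P P' hp F F' _ _ _ _ _ _ k' M M' hk' hk2 i hi h2
  obtain ⟨j, hij⟩ : ∃ j : Fin 2, i ≠ j := ⟨i + 1, by omega⟩
  obtain ⟨T, s, v, hTR, hvl, hTri, hq⟩ := exists_tri_of hH.ctx.char2 hp.star M hij h2
  exact hTri.knownF hK hH.cls hH.ctx hH.full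
    (supply hH.ctx.char2 hp (hH.typed' hp).1.noOver (hH.typed' hp).2.noOver M M' hk' hk2 hi hq hvl hTri.v1)

end Cfsg.Agent.Omega.IId

end

section


/-!
# II.d: there is no triangle (helper774)

`v₂ = v^s`, `z = v v₂`, `t ∈ T - So` fixes `v` and moves `v₂` to `z`.  In `F = C_G(z)` the orbit `v^F` lies in
`Ω₁Z(O₂(F))` and is invariant under multiplication with `z` (`v^s = v z`); the conjugate `V₁^t` is
`So`-invariant and `V₁^t - 1 ⊆ v^F` (`L₁^t ≤ F`); `|F : So|` is not divisible by 4.  The parity lemma gives a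
contradiction.
-/

set_option autoImplicit false

namespace Cfsg.Agent.Omega.IId.TriFalse

open Subgroup Cfsg Cfsg.Agent.Omega.MinPar Cfsg.Agent.Omega.Frame
open Cfsg.Agent.ZN (o2 zc zl)
open Cfsg.Agent.Omega.FrameNOFF Cfsg.Agent.Omega.NO3S Cfsg.Agent.Omega.IId.Two
open Cfsg.Agent.MinSimple.VModule
open Cfsg.Agent.Omega.IId.Triangle (Tri)

universe u

variable {G : Type u} [Group G] [Finite G]

/-- A 2-group of order `> 2` has order divisible by 4. -/
theorem four_dvd {V : Subgroup G} (hV : IsPGroup 2 V) (h : 2 < Nat.card V) : 4 ∣ Nat.card V := by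
  have : Fact (Nat.Prime 2) := ⟨Nat.prime_two⟩
  obtain ⟨n, hn⟩ := IsPGroup.iff_card.1 hV
  rw [hn] at h ⊢
  rcases n with _ | _ | n
  · omega
  · omega
  · exact ⟨2 ^ n, by ring⟩

/-- **There is no triangle.** -/
theorem false_of {S T : Sylow 2 G} {So V₁ V₂ L₁ L₂ : Subgroup G} {s v : G}
    (h : Tri S T So V₁ V₂ L₁ L₂ s v) (hG : IsCharacteristicTwoType G) : False := by
  obtain ⟨t, ht, htS⟩ := h.exists_t
  set w := s * v * s⁻¹ with hw
  set z := v * w with hz
  have tw : t * w * t⁻¹ = z := h.t_w ht htS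
  have tv : t * v * t⁻¹ = v := by rw [h.Tv t ht]; group
  have hz1 : z ≠ 1 := h.zne
  have hzS : z ∈ zc (S : Subgroup G) := h.zS
  have hSne : (S : Subgroup G) ≠ ⊥ := by
    intro h0
    rw [h0, mem_zc] at hzS
    exact hz1 (mem_bot.1 hzS.1)
  set F := CZ (S : Subgroup G) with hF
  have mF : ∀ x, x ∈ F ↔ x * z = z * x := by
    intro x
    rw [hF, mem_centralizer_iff]
    constructor
    · intro h1
      exact (h1 z hzS).symm
    · intro h1 y hy
      rcases h.zcS_cases hy with rfl | rfl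
      · rw [one_mul, mul_one]
      · exact h1.symm
  have hF' : F = centralizer ({z} : Set G) := by
    ext x
    rw [mF, Triangle.mem_cent]
  have hloc := isLoc_centralizer_zc S hSne
  have ho : ZN.o2 F ≤ So := by rw [hF']; exact h.o2_cent_z hG
  have hvF : v ∈ F := (mF v).2 (by
    show v * (v * w) = v * w * v
    rw [mul_assoc, h.vwc])
  have hvU : v ∈ zc (ZN.o2 F) := by
    have h1 : ∀ y ∈ ZN.o2 F, y * v = v * y := fun y hy => h.vSo y (ho hy)
    refine mem_zc.2 ⟨?_, h1, h.q1 v h.vV⟩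
    apply hloc.char2 S hG
    exact ⟨hvF, mem_centralizer_iff.2 h1⟩
  have hFU : F ≤ normalizer (zc (ZN.o2 F) : Set G) :=
    (le_normalizer_o2 F).trans (normalizer_le_normalizer_zc _)
  have hSF : (S : Subgroup G) ≤ F := le_centralizer_zc _
  have hidx : ¬ 4 ∣ So.relIndex F := by
    have h1 := Subgroup.relIndex_mul_relIndex So (S : Subgroup G) F h.SoS hSF
    have h2 : So.relIndex (S : Subgroup G) = 2 := by
      have h3 := Half.card_mul_relIndex h.SoS
      rw [h.card, mul_comm 2] at h3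
      exact Nat.eq_of_mul_eq_mul_left Nat.card_pos h3
    have h3 : ¬ 2 ∣ (S : Subgroup G).relIndex F := by
      intro h4
      apply S.not_dvd_index
      exact h4.trans (Subgroup.relIndex_dvd_index_of_le hSF)
    rw [← h1, h2]
    intro h4
    apply h3
    obtain ⟨k, hk⟩ := h4
    exact ⟨k, by omega⟩
  refine Parity.false_of_sub (F := F) (U := zc (ZN.o2 F)) (T := So) (v := v) (z := z) (s := s)
    (V := V₁.map (MulAut.conj t).toMonoidHom) (fun a ha b hb => zc_comm _ a ha b hb) ?_ ?_ hvU hz1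
    (fun f hf => (mF f).1 hf) hidx (hSF h.sS) ?_ ?_ ?_ ?_
  · intro a ha
    rw [← pow_two]
    exact (mem_zc.1 ha).2.2
  · intro f hf u hu
    exact (mem_normalizer_iff.1 (hFU hf) u).1 hu
  · show w = v * (v * w)
    rw [← mul_assoc, h.vv, one_mul]
  · rw [Nat.card_congr (V₁.equivMapOfInjective _ (MulAut.conj t).injective).toEquiv.symm]
    exact four_dvd (S.isPGroup'.to_le (h.V1So.trans h.SoS)) h.big1
  · rintro _ ⟨x, hx, rfl⟩ hx1
    have hx2 : x ≠ 1 := by
      rintro rfl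
      exact hx1 (map_one _)
    obtain ⟨l, hl, e⟩ := h.t1 v h.vV h.v1 x hx hx2
    refine ⟨t * l * t⁻¹, ?_, ?_⟩
    · apply (mF _).2
      have h1 := h.L12 l hl w h.wV
      rw [← tw]
      calc t * l * t⁻¹ * (t * w * t⁻¹) = t * (l * w) * t⁻¹ := by group
        _ = t * w * t⁻¹ * (t * l * t⁻¹) := by rw [h1]; group
    · show t * l * t⁻¹ * v * (t * l * t⁻¹)⁻¹ = t * x * t⁻¹
      have h1 : t⁻¹ * v * t = v := by
        have h2 := h.Tv t ht
        rw [mul_assoc, ← h2]; group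
      calc t * l * t⁻¹ * v * (t * l * t⁻¹)⁻¹ = t * (l * (t⁻¹ * v * t) * l⁻¹) * t⁻¹ := by group
        _ = t * x * t⁻¹ := by rw [h1, e]
  · rintro x hx _ ⟨y, hy, rfl⟩
    have h1 : t⁻¹ * x * t ∈ So := by
      have h2 := conj_mem_of_two h.SoT h.twoT (inv_mem ht) hx
      rwa [inv_inv] at h2
    refine ⟨_, h.So1 _ h1 y hy, ?_⟩
    show t * (t⁻¹ * x * t * y * (t⁻¹ * x * t)⁻¹) * t⁻¹ = x * (t * y * t⁻¹) * x⁻¹
    group

/-- **No triangle** for natural `SL₂(q) ≀ 2`: `stab M i` contains a Sylow 2-subgroup of `N_G(line M i)`. -/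
theorem not_dvd {F : Type} [Field F] [Finite F] [CharP F 2] {P : Subgroup G} (hc : IsCharacteristicTwoType G)
    {S : Sylow 2 G} (hP : IsParS (S : Subgroup G) P)
    (M : FFThm.NatK F (S : Subgroup G) P (zl (S : Subgroup G) P) ⊥ 2) (i : Fin 2) :
    ¬ 2 ∣ (stab M i).relIndex (normalizer (line M i : Set G)) := by
  intro h2
  obtain ⟨j, hij⟩ : ∃ j : Fin 2, i ≠ j := ⟨i + 1, by omega⟩
  obtain ⟨T, s, v, hTR, hvl, hTri, hq⟩ := exists_tri_of hc hP M hij h2
  exact false_of hTri hc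

/-- **`WrTri` holds for every class** (no NO-3S needed). -/
theorem wrTri {K : Cls.{u}} : WrTri K := by
  intro G _ _ S S' hH P P' hp F F' _ _ _ _ _ _ k' M M' hk' hk2 i hi h2
  exact absurd h2 (not_dvd hH.ctx.char2 hp.star M i)

end Cfsg.Agent.Omega.IId.TriFalse

end

section


/-!
# II.d, `WrSym K` from its sub-leaves

* `Pair.mutual` : a pair in normal position is a mutual pair over `S`;
* `WrSymBig K` : `|F| = 2`, one factor `S_{2^m'+1}`, `k > 2` or `m' > 2`;
* `WrSymMain` : CASE 1: `k = 2`, `|F| = 2`, one `O₄⁻(2)`-module, `[V, V'] = line M i`, `N_S(V_i)` is a Sylow 2-subgroup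
  of `C_G(n)`;
* `wrSym_free` : these and `LeafSymWr K` imply `WrSym K`.
-/

set_option autoImplicit false
set_option linter.unusedSectionVars false

namespace Cfsg.Agent.Omega.IId.Sym

open Subgroup Pointwise Cfsg Cfsg.Agent.ZN.ChoiceBase
open Cfsg.Agent.ZN (o2 zc zl)
open Cfsg.Agent.Omega.MinPar Cfsg.Agent.Omega.FFThm Cfsg.Agent.Omega.Frame
open Cfsg.Agent.Omega.FrameFF (cv Free)
open Cfsg.Agent.Omega.FrameMulti (IsSym IsNat Typed AllTyped LeafSymWr)
open Cfsg.Agent.Omega.S5.Def Cfsg.Agent.Omega.S5.Mod Cfsg.Agent.Omega.S5.TT Cfsg.Agent.Omega.S5.Types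
open Cfsg.Agent.MinSimple.VModule (le_normalizer_zl)
open scoped commutatorElement

universe u

/-! ### The pair over `S` -/

section pair

variable {G : Type u} [Group G] [Finite G]

/-- A pair in normal position is a mutual pair over `S`. -/
theorem exists_mutual {S S' : Sylow 2 G} {P P' : Subgroup G} (hp : Pair S S' P P') :
    ∃ g : G, (S' : Subgroup G) = cj g (S : Subgroup G) ∧ Mutual (S : Subgroup G) (cj g⁻¹ P') P g⁻¹ := by
  obtain ⟨g, hg⟩ := MulAction.exists_smul_eq G S S'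
  have h1 : (S' : Subgroup G) = cj g (S : Subgroup G) := by
    rw [← hg]; rfl
  have h2 : cj g⁻¹ (S' : Subgroup G) = (S : Subgroup G) := by rw [h1, cj_inv_cj]
  have h3 : zl (S : Subgroup G) (cj g⁻¹ P') = cj g⁻¹ (zl (S' : Subgroup G) P') := by
    rw [← zl_cj, h2]
  refine ⟨g, h1, ?_, hp.star, ?_, ?_, ?_⟩
  · have h4 := isParS_cj hp.star' g⁻¹
    rwa [h2] at h4
  · change _ ≤ normalizer ((cj g⁻¹ (zl (S : Subgroup G) P) : Subgroup G) : Set G)
    rw [h3, ← cj_normalizer]
    exact cj_mono _ (hp.le.trans (hp.star.isLoc.le.trans (le_normalizer_zl _ _)))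
  · change cj g⁻¹ (zl (S : Subgroup G) P) ≤ _
    rw [h3, ← cj_normalizer]
    exact cj_mono _ (hp.le'.trans (hp.star'.isLoc.le.trans (le_normalizer_zl _ _)))
  · change ⁅_, cj g⁻¹ (zl (S : Subgroup G) P)⁆ ≠ _
    rw [h3]
    intro h0
    apply hp.ne
    have h5 : cj g⁻¹ ⁅zl (S' : Subgroup G) P', zl (S : Subgroup G) P⁆ = ⊥ := by
      change Subgroup.map _ _ = _
      rw [Subgroup.map_commutator]
      exact h0
    have h6 := congrArg (cj g) h5
    rw [cj_cj_inv] at h6
    rw [commutator_comm, h6]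
    exact Subgroup.map_bot _

/-- Both members of a pair are typed. -/
theorem typed_of {S S' : Sylow 2 G} {P P' : Subgroup G} (hT : AllTyped (S : Subgroup G)) (hp : Pair S S' P P') :
    Typed (S : Subgroup G) P ∧ Typed (S' : Subgroup G) P' := by
  obtain ⟨g, h1, hm⟩ := exists_mutual hp
  obtain ⟨h2, h3⟩ := hT _ _ _ hm
  refine ⟨h3, ?_⟩
  have h4 := typed_cj h2 g
  rw [cj_cj_inv] at h4
  rwa [h1]

end pair

/-! ### The sub-leaves -/

section leaves

variable (K : Cls.{u})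

/-- `|F| = 2`, one factor `S_{2^m'+1}`, more than two factors or `m' ≥ 3`. -/
def WrSymBig : Prop :=
  ∀ (G : Type u) [Group G] [Finite G] (S S' : Sylow 2 G), Hyp K S → ∀ (P P' : Subgroup G), Pair S S' P P' →
    ∀ (F : Type) [Field F] [Finite F] [CharP F 2] (k m' : ℕ)
      (_ : NatK F (S : Subgroup G) P (zl (S : Subgroup G) P) ⊥ k)
      (_ : SymK (S' : Subgroup G) P' (zl (S' : Subgroup G) P') ⊥ 1 m'), 2 ≤ k → 2 ≤ m' → Nat.card F = 2 →
      2 < k ∨ 2 < m' → IsKnownSimple' G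

/-- CASE 1: `k = 2`, `|F| = 2`, one `O₄⁻(2)`-module, `[V, V'] = line M i = {1, n}`, `N_S(V_i)` is a Sylow 2-subgroup
of `C_G(n)`. -/
def WrSymMain : Prop :=
  ∀ (G : Type u) [Group G] [Finite G] (S S' : Sylow 2 G), Hyp K S → ∀ (P P' : Subgroup G), Pair S S' P P' →
    ∀ (F : Type) [Field F] [Finite F] [CharP F 2]
      (M : NatK F (S : Subgroup G) P (zl (S : Subgroup G) P) ⊥ 2)
      (N : FiveMod (zl (S' : Subgroup G) P') P') (i : Fin 2), Nat.card F = 2 → Adapt (S' : Subgroup G) N →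
      Ind M (zl (S' : Subgroup G) P') {i} → N.e nn ∈ line M i →
      (∃ a ∈ zl (S : Subgroup G) P, N.Ind a (Equiv.swap 0 1)) →
      (∀ a ∈ zl (S : Subgroup G) P, N.Ind a 1 ∨ N.Ind a (Equiv.swap 0 1)) →
      ¬ 2 ∣ (stab M i).relIndex (centralizer ({N.e nn} : Set G)) → False

end leaves

/-! ### CASE 2 -/

section tri

variable {G : Type u} [Group G] [Finite G] {S : Sylow 2 G} {P : Subgroup G} {F : Type} [Field F]
  {M : NatK F (S : Subgroup G) P (zl (S : Subgroup G) P) ⊥ 2}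

/-- `N_S(V_i)` centralises the line of `V_i`, `q = 2`. -/
theorem stab_line {i : Fin 2} {t v : G} (ht : t ∈ stab M i) (hv : v ∈ line M i) :
    t * v * t⁻¹ ∈ line M i := by
  obtain ⟨hv1, hv2⟩ := (mem_line M).1 hv
  have ht1 : t * v * t⁻¹ ∈ fac M i := (mem_normalizer_iff.1 ht.2 v).1 hv1
  refine (mem_line M).2 ⟨ht1, ?_⟩
  obtain ⟨σ, hσ⟩ := M.line t ht.1
  have hσi : σ i = i := by
    obtain ⟨w, hw, h1⟩ := exists_fac M i ![0, 1]
    by_contra hne
    have h2 := (mem_normalizer_iff.1 ht.2 w).1 hw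
    have h3 : M.e (t * w * t⁻¹) (σ i) = 0 := h2.2 _ hne
    have h4 := (hσ w hw.1 i).1 (by rw [h3]; rfl)
    rw [h1] at h4
    exact one_ne_zero h4
  have h5 := (hσ v hv1.1 i).2 hv2
  rwa [hσi] at h5

theorem line_eq_of_two [Finite F] (hF : Nat.card F = 2) {i : Fin 2} {n v : G} (hn : n ∈ line M i)
    (hn1 : n ≠ 1) (hv : v ∈ line M i) (hv1 : v ≠ 1) : v = n := by
  have h1 : Nat.card (line M i) = 2 := by rw [card_line, hF]
  exact (Two.eq_or_eq_of_card_two h1 hn hn1 hv).resolve_left hv1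

theorem stab_comm [Finite F] (hF : Nat.card F = 2) {i : Fin 2} {n : G}
    (hn : n ∈ line M i) (hn1 : n ≠ 1) {t : G} (ht : t ∈ stab M i) : t * n = n * t := by
  have h1 : t * n * t⁻¹ = n := line_eq_of_two hF hn hn1 (stab_line ht hn) fun h => hn1 (by
    have : n = t⁻¹ * (t * n * t⁻¹) * t := by group
    rw [this, h]; group)
  exact mul_inv_eq_iff_eq_mul.1 h1

/-- `|Ω₁Z(S)| = 2` if `q = 2`. -/
theorem card_zcS [Finite F] (M : NatK F (S : Subgroup G) P (zl (S : Subgroup G) P) ⊥ 2)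
    (hc : IsCharacteristicTwoType G) (hP : IsParS (S : Subgroup G) P)
    (hF : Nat.card F = 2) : Nat.card (ZN.zc (S : Subgroup G)) = 2 := by
  classical
  have hSP := hP.isLoc.le
  have hz : ZN.zc (S : Subgroup G) ≤ zl (S : Subgroup G) P := ZN.ChoiceSit.zc_le_zl _ _
  have hle : Nat.card (ZN.zc (S : Subgroup G)) ≤ Nat.card (line M 0) := by
    -- the component in the first factor is centralised by the root group, so it lies in the line
    have hex : ∀ z : ZN.zc (S : Subgroup G), ∃ a ∈ line M 0, M.e a 0 = M.e z 0 := by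
      intro z
      obtain ⟨a, ha, h1, -⟩ := exists_component M (hz z.2) 0
      refine ⟨a, (mem_line M).2 ⟨ha, ?_⟩, h1⟩
      obtain ⟨t, ht, h2⟩ := M.unip fun _ => 1
      have h3 := h2.1 z (hz z.2) 0
      have h4 : t * (z : G) * t⁻¹ = z := by
        rw [(MinSimple.VModule.mem_zc.1 z.2).2.1 t ht, mul_inv_cancel_right]
      rw [h4] at h3
      have h5 := congrFun h3 0
      rw [NatPair.ap_zero', Lib.SL2Mat.up_00, Lib.SL2Mat.up_01, one_mul, one_mul, left_eq_add] at h5
      rw [h1]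
      exact h5
    choose f hf hfe using hex
    refine Nat.card_le_card_of_injective (fun z => ⟨f z, hf z⟩) ?_
    intro z w hzw
    have h1 : f z = f w := congrArg Subtype.val hzw
    have h2 : M.e ((z : G) * (w : G)⁻¹) 0 = 0 := by
      rw [M.mul _ (hz z.2) _ (inv_mem (hz w.2)), e_inv M (hz w.2), Pi.add_apply, Pi.neg_apply, ← hfe z, ← hfe w,
        h1, add_neg_cancel]
    have h3 : (z : G) * (w : G)⁻¹ = 1 := by
      refine eq_one_of_cent M (mul_mem (hz z.2) (inv_mem (hz w.2))) (fun s hs => ?_) h2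
      exact (MinSimple.VModule.mem_zc.1 (mul_mem z.2 (inv_mem w.2))).2.1 s hs
    exact Subtype.ext (mul_inv_eq_one.1 h3)
  rw [card_line, hF] at hle
  have h1 : 1 < Nat.card (ZN.zc (S : Subgroup G)) := by
    have h2 : ZN.zc (S : Subgroup G) ≠ ⊥ := by
      refine MinSimple.Basic.zc_ne_bot S.isPGroup' fun h0 => ?_
      apply fac_ne_bot M 0
      rw [eq_bot_iff, ← h0]
      exact (fac_le M 0).trans (zl_le_sylow hc S hP.isLoc)
    exact (Subgroup.one_lt_card_iff_ne_bot _).2 h2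
  omega

/-- **The structure `Tri`**, `q = 2`. -/
theorem exists_tri [Finite F] [CharP F 2] (hc : IsCharacteristicTwoType G) (hP : IsParS (S : Subgroup G) P)
    (M : NatK F (S : Subgroup G) P (zl (S : Subgroup G) P) ⊥ 2) (hF : Nat.card F = 2) {i j : Fin 2}
    (hij : i ≠ j) {n : G} (hn : n ∈ line M i) (hn1 : n ≠ 1)
    (h2 : 2 ∣ (stab M i).relIndex (centralizer ({n} : Set G))) :
    ∃ (T : Sylow 2 G) (s : G),
      Triangle.Tri S T (stab M i) (fac M i) (fac M j) (grp M {i}) (grp M {j}) s n := by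
  have hSP := hP.isLoc.le
  have hT := two_of hc hP M hij
  have hst : stab M i ≤ centralizer ({n} : Set G) := fun t ht =>
    mem_centralizer_singleton_iff.2 (stab_comm hF hn hn1 ht)
  obtain ⟨T0, h3, h4, h5, h6⟩ := Half.exists_sylow_le (S.isPGroup'.to_le (stab_le M i)) hst
  have hne : T0 ≠ stab M i := fun h => h6 (h ▸ h2)
  obtain ⟨T, hT1⟩ := h5.exists_le_sylow
  have hcard : Nat.card (S : Subgroup G) ≤ Nat.card T0 := by
    have h7 := Half.card_mul_relIndex h3
    have h8 : (stab M i).relIndex T0 ≠ 1 := by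
      intro h9
      rw [relIndex_eq_one] at h9
      exact hne (le_antisymm h9 h3)
    have h9 : (stab M i).relIndex T0 ≠ 0 := by
      intro h9
      rw [h9, mul_zero] at h7
      exact Nat.card_pos.ne h7
    rw [card_stab M hSP i, ← h7, mul_comm]
    exact Nat.mul_le_mul_left _ (by omega)
  have hT0 : T0 = (T : Subgroup G) := by
    refine eq_of_le_of_card_ge hT1 ?_
    exact (Half.card_le_sylow S T.isPGroup').trans hcard
  obtain ⟨s, hs, hs1⟩ := Two.exists_not_mem hT.SoS hT.card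
  exact ⟨T, s,
    { toTwo := hT
      zcS := card_zcS M hc hP hF
      sS := hs
      sSo := hs1
      vV := line_le M i hn
      v1 := hn1
      vSo := fun x hx => stab_comm hF hn hn1 hx
      SoT := h3.trans hT0.le
      Tv := fun x hx => mem_centralizer_singleton_iff.1 (h4 (by rw [hT0]; exact hx)) }⟩

end tri

/-! ### The node -/

/-- **`WrSym K` from its sub-leaves** (`NO3S.Two K` is not needed: there is no triangle, `TriFalse`). -/
theorem wrSym_free {K : Cls.{u}} (hSW : LeafSymWr K) (hBig : WrSymBig K) (hMain : WrSymMain K) : WrSym K := by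
  intro G _ _ S S' hH P P' hp k hk hN f1 f2 k' m' hk' hm' hS'
  have hc := hH.ctx.char2
  obtain ⟨t1, t2⟩ := typed_of hH.typed hp
  obtain rfl | hk2 : k' = 1 ∨ 2 ≤ k' := by omega
  · obtain ⟨F, i1, i2, i3, ⟨M⟩⟩ := hN
    rw [show cv (S : Subgroup G) P = ⊥ from f1] at M
    have hF : Nat.card F = 2 := card_two hc hp t1.noOver t2.noOver M hm' hS' f2
    by_cases hb : 2 < k ∨ 2 < m'
    · obtain ⟨M'⟩ := hS'
      rw [show cv (S' : Subgroup G) P' = ⊥ from f2] at M'
      exact hBig G S S' hH P P' hp F k m' M M' hk hm' hF hb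
    · push Not at hb
      obtain rfl : k = 2 := le_antisymm hb.1 hk
      obtain rfl : m' = 2 := le_antisymm hb.2 hm'
      have o1 := hp.off hc t2.noOver
      have o2 := hp.symm.off hc t1.noOver
      obtain ⟨N, hNa, ⟨a, ha, has⟩, hcase⟩ := exists_lab5 S' hp.star' hS' f2 hp.le' o2
      obtain ⟨I, hI⟩ := exists_ind M hp.le o1
      have hVP : zl (S' : Subgroup G) P' ≤ P := hp.le.trans hp.star.isLoc.le
      obtain ⟨i, hi, hn⟩ := n_mem_line hI hVP ha has
      by_cases hu : I = Set.univ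
      · rw [hu] at hI
        exact (false_of_univ hc hp hI hNa ha has).elim
      have hIi : I = {i} := by
        ext x
        rw [Set.mem_singleton_iff]
        refine ⟨fun hx => ?_, fun hx => hx ▸ hi⟩
        by_contra hne
        apply hu
        ext y
        refine ⟨fun _ => Set.mem_univ y, fun _ => ?_⟩
        rcases eq_or_ne y i with h | h
        · rw [h]; exact hi
        · have : y = x := by omega
          rw [this]; exact hx
      rw [hIi] at hI
      have hcase' : ∀ a ∈ zl (S : Subgroup G) P, N.Ind a 1 ∨ N.Ind a (Equiv.swap 0 1) := by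
        rcases hcase with h | ⟨b, hb, hbs⟩
        · exact h
        · exfalso
          have h3 : ⁅b, N.e (Pi.single 2 1)⁆ = N.e aa := by
            rw [commutatorElement_def, hbs.comm_eq, N.e_eq_iff]
            left; decide
          have h4 : N.e aa ∈ ⁅zl (S : Subgroup G) P, zl (S' : Subgroup G) P'⁆ := by
            rw [← h3]; exact commutator_mem_commutator hb (N.e_mem _)
          rw [hI.commutator_eq hVP] at h4
          have h5 : N.e aa ≠ 1 := by
            intro h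
            rcases (N.ker aa).1 h with h1 | h1
            · revert h1; decide
            · revert h1; decide
          have h6 := line_eq_of_two hF hn (n_ne_one N) h4 h5
          rcases N.e_eq_iff.1 h6 with h7 | h7
          · revert h7; decide
          · revert h7; decide
      by_cases h2 : 2 ∣ (stab M i).relIndex (centralizer ({N.e nn} : Set G))
      · obtain ⟨j, hij⟩ : ∃ j, i ≠ j := ⟨1 - i, by clear * -; revert i; decide⟩
        obtain ⟨T, s, hT⟩ := exists_tri hc hp.star M hF hij hn (n_ne_one N) h2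
        exact (TriFalse.false_of hT hc).elim
      · exact (hMain G S S' hH P P' hp F M N i hF hNa hI hn ⟨a, ha, has⟩ hcase' h2).elim
  · obtain ⟨g, h1, hm⟩ := exists_mutual hp
    have h2 : cj g⁻¹ (S' : Subgroup G) = (S : Subgroup G) := by rw [h1, cj_inv_cj]
    have h3 := isSym_cj hS' g⁻¹
    rw [h2] at h3
    exact hSW G hH.ctx hH.cls S hH.full hH.allIn hH.typed _ _ _ hm k' m' hk2 hm' h3

/-- The old interface (with the unused `NO3S.Two K`). -/
theorem wrSym {K : Cls.{u}} (hSW : LeafSymWr K) (hBig : WrSymBig K) (_hTwo : Cfsg.Agent.Omega.NO3S.Two K)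
    (hMain : WrSymMain K) : WrSym K := wrSym_free hSW hBig hMain

end Cfsg.Agent.Omega.IId.Sym

end

section


/-!
# II.d: the socket `CvSym` of `Cv/Cut.lean`: one factor is enough (assembler: helper36)

* `CvSymOne K` : `CvSym K` for `P'` with ONE factor `S_{2^m'+1}`; `cvSym_of : LeafSymWr K → CvSymOne K → CvSym K`.
-/

set_option autoImplicit false

namespace Cfsg.Agent.Omega.IId.Cv

open Subgroup Pointwise Cfsg Cfsg.Agent.ZN.ChoiceBase
open Cfsg.Agent.ZN (o2 zc zl)
open Cfsg.Agent.Omega.MinPar Cfsg.Agent.Omega.Frame Cfsg.Agent.Omega.FFThm Cfsg.Agent.Omega.FrameMulti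
open Cfsg.Agent.Omega.FrameLE (AllIn)
open Cfsg.Agent.Omega.FrameFF (cv Free)

universe u

/-- `CvSym`, `P'` with one factor `S_{2^m'+1}`. (head: helper356) -/
def CvSymOne (K : Cls.{u}) : Prop :=
  ∀ (G : Type u) [Group G] [Finite G] (S S' : Sylow 2 G), HypN K S → ∀ (P P' : Subgroup G), Pair S S' P P' →
    ∀ (F : Type) [Field F] [Finite F] [CharP F 2] (k m' : ℕ)
      (_ : NatK F (S : Subgroup G) P (zl (S : Subgroup G) P) (cv (S : Subgroup G) P) k)
      (_ : SymK (S' : Subgroup G) P' (zl (S' : Subgroup G) P') (cv (S' : Subgroup G) P') 1 m'), 2 ≤ k → 2 ≤ m' →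
      ¬ (Free (S : Subgroup G) P ∧ Free (S' : Subgroup G) P') → IsKnownSimple' G

/-- A pair with a member which has at least two factors `S_{2^m'+1}` is `LeafSymWr`. -/
theorem of_symWr {K : Cls.{u}} (hSW : LeafSymWr K) {G : Type u} [Group G] [Finite G] {S S' : Sylow 2 G}
    (hH : Hyp K S) {P P' : Subgroup G} (hp : Pair S S' P P') {k' m' : ℕ} (hk : 2 ≤ k') (hm : 2 ≤ m')
    (h : IsSym (S' : Subgroup G) P' k' m') : IsKnownSimple' G := by
  obtain ⟨g, hg, hmu⟩ := Sym.exists_mutual hp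
  have h2 : cj g⁻¹ (S' : Subgroup G) = (S : Subgroup G) := by rw [hg, cj_inv_cj]
  have h3 : IsSym (S : Subgroup G) (cj g⁻¹ P') k' m' := by
    have h4 := isSym_cj h g⁻¹
    rwa [h2] at h4
  exact hSW G hH.ctx hH.cls S hH.full hH.allIn hH.typed _ _ _ hmu k' m' hk hm h3

/-- `CvSym` from its one-factor part. -/
theorem cvSym_of {K : Cls.{u}} (hSW : LeafSymWr K) (h : CvSymOne K) : CvSym K := by
  intro G _ _ S S' hH P P' hp k hk hN hf k' m' hk' hm' hS'
  obtain rfl | hk2 : k' = 1 ∨ 2 ≤ k' := by omega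
  · obtain ⟨F, i1, i2, i3, ⟨M⟩⟩ := hN
    obtain ⟨M'⟩ := hS'
    exact h G S S' hH P P' hp F k m' M M' hk hm' hf
  · exact of_symWr hSW hH.toHyp hp hk2 hm' hS'

end Cfsg.Agent.Omega.IId.Cv

end

section


/-!
# `BigFour.CaseTwo`: the ending (#19425 helper428, #19731 helper873, #19329 helper473)

`M : NatK F S P (zl S P) ⊥ k`, `T = stab M i`.

* `perm_line` : (LEMMA 3) `A ≤ T` with `{[v, a] | a ∈ A} = Z` for all `v ∈ line M i ⊕ part M {i}ᶜ` moved by `A`,
  `|Z| = |F|`, `A` centralises `line M i`: `Z` is a `line M m`, `m ≠ i`;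
* `permL M` : the group of all `g` permuting the lines `line M l`;
* `not_dvd_of_perm` : if `N_G(line M i) ∩ N_G(T)` permutes the lines, then `T` is Sylow in `N_G(line M i)`.
-/

set_option autoImplicit false
set_option linter.unusedSectionVars false

namespace Cfsg.Agent.Omega.IId.BigFour

open Subgroup Cfsg Cfsg.Agent.ZN.ChoiceBase
open Cfsg.Agent.ZN (o2 zc zl)
open Cfsg.Agent.Omega.MinPar Cfsg.Agent.Omega.FFThm

universe u

section base

variable {G : Type u} [Group G] {F : Type} [Field F] {S P : Subgroup G} {k : ℕ}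
  (M : NatK F S P (zl S P) ⊥ k)

theorem line_ne_bot' (i : Fin k) : line M i ≠ ⊥ := by
  obtain ⟨v, hv, h⟩ := exists_fac M i ![1, 0]
  intro h0
  have h1 : v ∈ line M i := (mem_line M).2 ⟨hv, by rw [h]; rfl⟩
  rw [h0, mem_bot] at h1
  rw [h1, e_one] at h
  exact one_ne_zero (congrFun h 0).symm

theorem line_inj' {i j : Fin k} (h : line M i ≤ line M j) : i = j := by
  by_contra hij
  apply line_ne_bot' M i
  rw [eq_bot_iff, ← fac_inf M hij]
  exact le_inf (line_le M i) (h.trans (line_le M j))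

/-- `A` centralises `line M i` and the other factors, hence all `v` with `i`-coordinate in the line. -/
theorem cent_of_fac {A : Subgroup G} {i : Fin k} (hi : ∀ a ∈ A, ∀ r ∈ line M i, a * r = r * a)
    (hf : ∀ m, m ≠ i → ∀ a ∈ A, ∀ r ∈ fac M m, a * r = r * a) (s : Finset (Fin k)) :
    ∀ v ∈ part M (s : Set (Fin k)), M.e v i 1 = 0 → ∀ a ∈ A, a * v = v * a := by
  classical
  induction s using Finset.induction_on with
  | empty =>
    intro v hv _ a _
    rw [Finset.coe_empty, part_empty, mem_bot] at hv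
    rw [hv, mul_one, one_mul]
  | insert j s hj ih =>
    intro v hv h1 a ha
    obtain ⟨w, hw, hwe⟩ := exists_fac M j (M.e v j)
    have hvz := hv.1
    have h2 : v * w⁻¹ ∈ part M (s : Set (Fin k)) := by
      refine ⟨mul_mem hvz (inv_mem hw.1), fun l hl => ?_⟩
      rw [M.mul v hvz _ (inv_mem hw.1), e_inv M hw.1, Pi.add_apply, Pi.neg_apply]
      by_cases hlj : l = j
      · rw [hlj, hwe, add_neg_cancel]
      · rw [hv.2 l (by simpa [hlj] using hl), hw.2 l hlj, neg_zero, add_zero]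
    have h3 : M.e (v * w⁻¹) i 1 = 0 := by
      rw [M.mul v hvz _ (inv_mem hw.1), e_inv M hw.1, Pi.add_apply, Pi.add_apply, Pi.neg_apply, Pi.neg_apply, h1]
      by_cases hij : i = j
      · rw [hij, hwe, ← hij, h1, neg_zero, add_zero]
      · rw [hw.2 i hij]
        simp
    have h4 := ih _ h2 h3 a ha
    have h5 : a * w = w * a := by
      by_cases hji : j = i
      · subst hji
        exact hi a ha w ((mem_line M).2 ⟨hw, by rw [hwe, h1]⟩)
      · exact hf j hji a ha w hw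
    have e : v = v * w⁻¹ * w := by group
    calc a * v = a * (v * w⁻¹) * w := by rw [mul_assoc, ← e]
      _ = v * w⁻¹ * (a * w) := by rw [h4, mul_assoc]
      _ = v * w⁻¹ * w * a := by rw [h5, ← mul_assoc]
      _ = v * a := by rw [← e]

/-- (LEMMA 3) -/
theorem perm_line [Finite G] [Finite F] (hSP : S ≤ P) {i : Fin k} {A Z : Subgroup G} (hA : A ≤ stab M i)
    (hZ : Nat.card Z = Nat.card F)
    (hcomm : ∀ v ∈ zl S P, M.e v i 1 = 0 → (∀ a ∈ A, a * v = v * a) ∨
      ((∀ a ∈ A, v * a * v⁻¹ * a⁻¹ ∈ Z) ∧ ∀ z ∈ Z, ∃ a ∈ A, v * a * v⁻¹ * a⁻¹ = z))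
    (hAi : ∀ a ∈ A, ∀ r ∈ line M i, a * r = r * a)
    (hne : ∃ v ∈ zl S P, M.e v i 1 = 0 ∧ ∃ a ∈ A, a * v ≠ v * a)
    (hf1 : ∀ m, ∀ a ∈ A, a ∈ stab M m → (∀ r ∈ line M m, a * r = r * a) →
      ∀ v ∈ fac M m, a * v * a⁻¹ * v⁻¹ ∈ line M m) :
    ∃ m, m ≠ i ∧ Z = line M m := by
  classical
  have hq : 2 ≤ Nat.card F := Finite.one_lt_card
  have hc0 : ∀ m, m ≠ i → ∀ v ∈ fac M m, M.e v i 1 = 0 := by
    intro m hm v hv
    rw [hv.2 i (Ne.symm hm)]
    rfl
  -- `A` normalises all factors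
  have h1 : ∀ m, m ≠ i → ∀ a ∈ A, cj a (fac M m) = fac M m := by
    intro m hm a ha
    by_contra hcon
    have haS : a ∈ S := (hA ha).1
    have haP := hSP haS
    rw [conj_fac M haP] at hcon
    set m' := sg M haP m with hm'
    have hmm : m' ≠ m := fun h => hcon (by rw [h])
    have key : ∀ v ∈ fac M m, a * v⁻¹ * a⁻¹ ∈ fac M m' := by
      intro v hv
      rw [hm', ← conj_fac M haP, mem_cj_iff]
      have e : a⁻¹ * (a * v⁻¹ * a⁻¹) * a = v⁻¹ := by group
      rw [e]
      exact inv_mem hv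
    have hcc : ∀ v ∈ fac M m, v * a * v⁻¹ * a⁻¹ ∈ Z := by
      intro v hv
      rcases hcomm v hv.1 (hc0 m hm v hv) with h2 | h2
      · have h3 : v * a * v⁻¹ * a⁻¹ = 1 := by
          rw [← h2 a ha]; group
        rw [h3]
        exact one_mem _
      · exact h2.1 a ha
    let f : fac M m → Z := fun v => ⟨v * a * (v : G)⁻¹ * a⁻¹, hcc v v.2⟩
    have hf : Function.Injective f := by
      intro v w hvw
      have h3 : (v : G) * a * (v : G)⁻¹ * a⁻¹ = w * a * (w : G)⁻¹ * a⁻¹ := congrArg Subtype.val hvw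
      have h4 : (w : G)⁻¹ * v ∈ fac M m := mul_mem (inv_mem w.2) v.2
      have h5 : (w : G)⁻¹ * v = (a * (w : G)⁻¹ * a⁻¹) * (a * (v : G)⁻¹ * a⁻¹)⁻¹ := by
        have e : (w : G)⁻¹ * (v * a * (v : G)⁻¹ * a⁻¹) * (a * (v : G)⁻¹ * a⁻¹)⁻¹ = (w : G)⁻¹ * v := by group
        rw [← e, h3]
        group
      have h6 : (w : G)⁻¹ * v ∈ fac M m' := by
        rw [h5]
        exact mul_mem (key w w.2) (inv_mem (key v v.2))
      have h7 : (w : G)⁻¹ * v = 1 := by
        have : (w : G)⁻¹ * v ∈ fac M m' ⊓ fac M m := ⟨h6, h4⟩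
        rwa [fac_inf M hmm, mem_bot] at this
      exact (Subtype.ext (inv_mul_eq_one.1 h7)).symm
    have h8 := Nat.card_le_card_of_injective f hf
    rw [card_fac M, hZ, pow_two] at h8
    nlinarith
  -- a factor which is not centralised
  obtain ⟨m, hm, v₀, hv₀, a₀, ha₀, hne₀⟩ : ∃ m, m ≠ i ∧ ∃ v ∈ fac M m, ∃ a ∈ A, a * v ≠ v * a := by
    by_contra hcon
    push Not at hcon
    obtain ⟨v, hv, hv1, a, ha, hav⟩ := hne
    apply hav
    refine cent_of_fac M hAi (fun m hm a ha r hr => hcon m hm r hr a ha) Finset.univ v ?_ hv1 a ha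
    rw [Finset.coe_univ, part_univ]
    exact hv
  refine ⟨m, hm, ?_⟩
  have hfac : ∀ a ∈ A, a ∈ stab M m := fun a ha => (mem_stab M).2 ⟨(hA ha).1, h1 m hm a ha⟩
  have hall : ∀ z ∈ Z, ∃ a ∈ A, v₀ * a * v₀⁻¹ * a⁻¹ = z := by
    rcases hcomm v₀ hv₀.1 (hc0 m hm v₀ hv₀) with h2 | h2
    · exact (hne₀ (h2 a₀ ha₀)).elim
    · exact h2.2
  have hle : Z ≤ line M m := by
    by_cases hz : ∀ r ∈ line M m, ∀ a ∈ A, a * r = r * a
    · intro z hzZ
      obtain ⟨a, ha, rfl⟩ := hall z hzZ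
      have h2 := hf1 m a ha (hfac a ha) (fun r hr => hz r hr a ha) v₀ hv₀
      have e : v₀ * a * v₀⁻¹ * a⁻¹ = (a * v₀ * a⁻¹ * v₀⁻¹)⁻¹ := by group
      rw [e]
      exact inv_mem h2
    · push Not at hz
      obtain ⟨r, hr, a₁, ha₁, hra⟩ := hz
      rcases hcomm r (line_le M m hr).1 (hc0 m hm r (line_le M m hr)) with h2 | h2
      · exact (hra (h2 a₁ ha₁)).elim
      · intro z hzZ
        obtain ⟨a, ha, rfl⟩ := h2.2 z hzZ
        have h3 := stab_normalizes_line M hSP m (hfac a ha)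
        have e : r * a * r⁻¹ * a⁻¹ = r * (a * r⁻¹ * a⁻¹) := by group
        rw [e]
        exact mul_mem hr ((mem_normalizer_iff.1 h3 _).1 (inv_mem hr))
  refine eq_of_le_of_card_ge hle ?_
  rw [hZ, card_line M]

/-- The elements of `G` which permute the lines. -/
def permL : Subgroup G where
  carrier := {g | ∀ l, ∃ m, cj g (line M l) = line M m}
  one_mem' := fun l => ⟨l, cj_one _⟩
  mul_mem' := by
    intro a b ha hb l
    obtain ⟨m, hm⟩ := hb l
    obtain ⟨n, hn⟩ := ha m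
    exact ⟨n, by rw [← cj_cj, hm, hn]⟩
  inv_mem' := by
    intro a ha l
    choose f hf using ha
    have hinj : Function.Injective f := by
      intro x y hxy
      have h1 : cj a (line M x) = cj a (line M y) := by rw [hf, hf, hxy]
      have h2 := congrArg (cj a⁻¹) h1
      rw [cj_inv_cj, cj_inv_cj] at h2
      exact line_inj' M h2.le
    obtain ⟨m, hm⟩ := (Finite.injective_iff_surjective.1 hinj) l
    refine ⟨m, ?_⟩
    rw [← hm, ← hf, cj_inv_cj]

variable {M} in
theorem mem_permL {g : G} : g ∈ permL M ↔ ∀ l, ∃ m, cj g (line M l) = line M m := Iff.rfl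

theorem le_permL (hSP : S ≤ P) : S ≤ permL M := fun _ hs l => ⟨_, conj_line M hSP hs l⟩

/-- `N_{permL M}(line M i)` has index `k` in `permL M`. -/
theorem relIndex_permL (hSP : S ≤ P) (i : Fin k) :
    (permL M ⊓ normalizer (line M i : Set G)).relIndex (permL M) = k := by
  classical
  rw [inf_relIndex_left]
  choose f hf using fun x : permL M => x.2 i
  have hsurj : Function.Surjective f := by
    intro j
    obtain ⟨t, ht, h1⟩ := exists_trans M hSP i j
    refine ⟨⟨t, le_permL M hSP ht⟩, ?_⟩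
    have h2 : sg M (hSP ht) i = j := (sg_eq_iff M _).2 h1
    have h3 := hf ⟨t, le_permL M hSP ht⟩
    have h4 := conj_line M hSP ht i
    rw [h2] at h4
    exact line_inj' M (h3.symm.trans h4).le
  have hff : ∀ x y : permL M, f x = f y ↔ (x⁻¹ * y : permL M) ∈ (normalizer (line M i : Set G)).subgroupOf (permL M) := by
    intro x y
    have h1 : f x = f y ↔ cj (x : G) (line M i) = cj (y : G) (line M i) := by
      rw [hf x, hf y]
      exact ⟨fun h => by rw [h], fun h => line_inj' M h.le⟩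
    rw [h1, mem_subgroupOf, mem_normalizer_iff_cj]
    change _ ↔ cj ((x : G)⁻¹ * y) _ = _
    rw [← cj_cj]
    constructor
    · intro h
      rw [← h, cj_inv_cj]
    · intro h
      have := congrArg (cj (x : G)) h
      rw [cj_cj_inv] at this
      exact this.symm
  let q : permL M ⧸ ((normalizer (line M i : Set G)).subgroupOf (permL M)) → Fin k :=
    fun z => Quotient.liftOn' z f fun x y hxy => (hff x y).2 (QuotientGroup.leftRel_apply.1 hxy)
  have hq : Function.Bijective q := by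
    constructor
    · intro z w
      induction z using QuotientGroup.induction_on with | _ x =>
      induction w using QuotientGroup.induction_on with | _ y =>
      intro h
      exact QuotientGroup.eq.2 ((hff x y).1 h)
    · intro j
      obtain ⟨x, hx⟩ := hsurj j
      exact ⟨(QuotientGroup.mk x : permL M ⧸ ((normalizer (line M i : Set G)).subgroupOf (permL M))), hx⟩
  rw [relIndex, index, Nat.card_congr (Equiv.ofBijective q hq), Nat.card_fin]

end base

section main

variable {G : Type u} [Group G] [Finite G] {F : Type} [Field F] {S : Sylow 2 G} {P : Subgroup G} {k : ℕ}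
  (M : NatK F (S : Subgroup G) P (zl (S : Subgroup G) P) ⊥ k)

/-- **The ending**: if `N_G(line M i) ∩ N_G(stab M i)` permutes the other lines, then `stab M i` is a Sylow
2-subgroup of `N_G(line M i)`. -/
theorem not_dvd_of_perm (hSP : (S : Subgroup G) ≤ P) {i : Fin k}
    (hperm : ∀ t ∈ normalizer (line M i : Set G), t ∈ normalizer (stab M i : Set G) → ∀ l, l ≠ i →
      ∃ m, m ≠ i ∧ cj t (line M l) = line M m) :
    ¬ 2 ∣ (stab M i).relIndex (normalizer (line M i : Set G)) := by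
  have : Fact (Nat.Prime 2) := ⟨Nat.prime_two⟩
  intro hd
  have hT2 : IsPGroup 2 (stab M i) := S.isPGroup'.to_le (stab_le M i)
  obtain ⟨X, hX2, hTX, hXN, hXT⟩ := exists_bigger hT2 (stab_normalizes_line M hSP i) hd
  -- an element of `X` normalising `T`, not in `T`
  have hlt : stab M i < X := lt_iff_le_not_ge.2 ⟨hTX, hXT⟩
  obtain ⟨t, htX, htT, htN⟩ : ∃ t ∈ X, t ∉ stab M i ∧ t ∈ normalizer (stab M i : Set G) := by
    have : Group.IsNilpotent X := hX2.isNilpotent
    have h1 : (stab M i).subgroupOf X < ⊤ := by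
      rw [lt_top_iff_ne_top]
      intro h
      rw [subgroupOf_eq_top] at h
      exact hXT h
    have h2 := Group.normalizerCondition_of_isNilpotent (G := X) _ h1
    obtain ⟨⟨t, ht⟩, h3, h4⟩ := SetLike.exists_of_lt h2
    refine ⟨t, ht, fun h => h4 (mem_subgroupOf.2 h), ?_⟩
    rw [mem_normalizer_iff]
    intro y
    constructor
    · intro hy
      have h5 := (mem_normalizer_iff.1 h3 ⟨y, hTX hy⟩).1 (mem_subgroupOf.2 hy)
      exact mem_subgroupOf.1 h5
    · intro hy
      have h6 : y ∈ X := by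
        have h7 := hTX hy
        have e : y = t⁻¹ * (t * y * t⁻¹) * t := by group
        rw [e]
        exact mul_mem (mul_mem (inv_mem ht) h7) ht
      have h5 := (mem_normalizer_iff.1 h3 ⟨y, h6⟩).2 (mem_subgroupOf.2 hy)
      exact mem_subgroupOf.1 h5
  -- `Y = X ∩ N(T)` permutes the lines
  set Y : Subgroup G := X ⊓ normalizer (stab M i : Set G) with hY
  have hYL : Y ≤ permL M ⊓ normalizer (line M i : Set G) := by
    intro y hy
    refine ⟨fun l => ?_, hXN hy.1⟩
    by_cases hl : l = i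
    · refine ⟨i, ?_⟩
      rw [hl]
      exact mem_normalizer_iff_cj.1 (hXN hy.1)
    · obtain ⟨m, -, h⟩ := hperm y (hXN hy.1) hy.2 l hl
      exact ⟨m, h⟩
  have hTY : stab M i ≤ Y := le_inf hTX le_normalizer
  have hcard : Nat.card (stab M i) < Nat.card Y := by
    refine lt_of_le_of_ne (Subgroup.card_le_of_le hTY) fun h => ?_
    have h1 := eq_of_le_of_card_ge hTY h.ge
    exact htT (h1 ▸ (⟨htX, htN⟩ : t ∈ Y))
  -- Sylow
  have e1 := card_stab M hSP i
  have e2 := Lib.SylowNormalInf.card_mul_relIndex (permL M ⊓ normalizer (line M i : Set G)) (permL M) inf_le_left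
  rw [relIndex_permL M hSP i] at e2
  have e3 := Lib.SylowNormalInf.card_mul_relIndex (S : Subgroup G) (permL M) (le_permL M hSP)
  have hodd : ¬ 2 ∣ (S : Subgroup G).relIndex (permL M) := by
    intro h
    have h1 : (S : Subgroup G).relIndex (permL M) ∣ (S : Subgroup G).index :=
      relIndex_dvd_index_of_le (le_permL M hSP)
    exact S.not_dvd_index (h.trans h1)
  have hk : 0 < k := Fin.pos i
  have hs : 0 < Nat.card (stab M i) := Nat.card_pos
  have e4 : Nat.card (permL M ⊓ normalizer (line M i : Set G) : Subgroup G) =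
      Nat.card (stab M i) * (S : Subgroup G).relIndex (permL M) := by
    have h4 : Nat.card (permL M ⊓ normalizer (line M i : Set G) : Subgroup G) * k =
        Nat.card (stab M i) * (S : Subgroup G).relIndex (permL M) * k := by
      rw [e2, ← e3, e1]
      ring
    exact Nat.eq_of_mul_eq_mul_right hk h4
  have hY2 : IsPGroup 2 Y := hX2.to_le inf_le_left
  obtain ⟨n, hn⟩ := IsPGroup.iff_card.1 hY2
  obtain ⟨m, hm⟩ := IsPGroup.iff_card.1 hT2
  have h5 : Nat.card Y ∣ Nat.card (stab M i) * (S : Subgroup G).relIndex (permL M) := by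
    rw [← e4]
    exact Subgroup.card_dvd_of_le hYL
  have h6 : Nat.Coprime (Nat.card Y) ((S : Subgroup G).relIndex (permL M)) := by
    rw [hn]
    exact Nat.Coprime.pow_left _ ((Nat.Prime.coprime_iff_not_dvd Nat.prime_two).2 hodd)
  have h7 := h6.dvd_of_dvd_mul_right h5
  exact absurd (Nat.le_of_dvd hs h7) (not_le.2 hcard)

end main

end Cfsg.Agent.Omega.IId.BigFour

end

section


/-!
# II.d: the structure `Base` (`Omega/IId/One.lean`) for two natural `SL₂(2)`-factors

* `Pre S So V₁ V₂ L₁ L₂ s v` : `Two`, `|Ω₁Z(S)| = 2`, `s ∈ S - So`, `1 ≠ v ∈ C_{V₁}(So)`; `Pre.zcSo_cases` :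
  `Ω₁Z(So) = {1, v, v^s, v v^s}`;
* `Pre.base` : if moreover `|V₁| = |V₂| = 4` and `So` is a Sylow 2-subgroup of `C_G(v)`, then `Base` holds.
-/

set_option autoImplicit false
set_option linter.unusedSectionVars false

namespace Cfsg.Agent.Omega.IId.Sym

open Subgroup Cfsg Cfsg.Agent.Omega.MinPar Cfsg.Agent.Omega.Frame
open Cfsg.Agent.ZN (o2 zc zl)
open Cfsg.Agent.Omega.IId.Two
open Cfsg.Agent.MinSimple.VModule
open scoped Pointwise

universe u

variable {G : Type u} [Group G]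

/-- `Two`, `|Ω₁Z(S)| = 2`, `s ∈ S - So`, `1 ≠ v ∈ C_{V₁}(So)`. -/
structure Pre [Finite G] (S : Sylow 2 G) (So V₁ V₂ L₁ L₂ : Subgroup G) (s v : G) : Prop
    extends IId.Two (S : Subgroup G) So V₁ V₂ L₁ L₂ where
  zcS : Nat.card (zc (S : Subgroup G)) = 2
  sS : s ∈ (S : Subgroup G)
  sSo : s ∉ So
  vV : v ∈ V₁
  v1 : v ≠ 1
  vSo : ∀ x ∈ So, x * v = v * x

namespace Pre

variable [Finite G] {S : Sylow 2 G} {So V₁ V₂ L₁ L₂ : Subgroup G} {s v : G}
  (h : Pre S So V₁ V₂ L₁ L₂ s v)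

include h

theorem two : ∀ a ∈ (S : Subgroup G), ∀ b ∈ (S : Subgroup G), a ∉ So → b ∉ So → a⁻¹ * b ∈ So :=
  two_cosets h.SoS h.card

theorem ss : s * s ∈ So := by
  have h1 := h.two s⁻¹ (inv_mem h.sS) s h.sS (fun h1 => h.sSo (inv_mem_iff.1 h1)) h.sSo
  rwa [inv_inv] at h1

theorem conjS {x : G} (hx : x ∈ So) : s * x * s⁻¹ ∈ So := conj_mem_of_two h.SoS h.two h.sS hx

theorem conjS' {x : G} (hx : x ∈ So) : s⁻¹ * x * s ∈ So := by
  have h1 := conj_mem_of_two h.SoS h.two (inv_mem h.sS) hx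
  rwa [inv_inv] at h1

theorem wV : s * v * s⁻¹ ∈ V₂ := h.sw1 s h.sS h.sSo v h.vV

theorem w1 : s * v * s⁻¹ ≠ 1 := by
  intro h1
  apply h.v1
  have h2 : v = s⁻¹ * (s * v * s⁻¹) * s := by group
  rw [h2, h1]; group

theorem wSo {x : G} (hx : x ∈ So) : x * (s * v * s⁻¹) = s * v * s⁻¹ * x := by
  have h1 := h.vSo _ (h.conjS' hx)
  calc x * (s * v * s⁻¹) = s * (s⁻¹ * x * s * v) * s⁻¹ := by group
    _ = s * (v * (s⁻¹ * x * s)) * s⁻¹ := by rw [h1]
    _ = s * v * s⁻¹ * x := by group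

theorem v_zc : v ∈ zc So := mem_zc.2 ⟨h.V1So h.vV, h.vSo, h.q1 v h.vV⟩

theorem w_zc : s * v * s⁻¹ ∈ zc So := mem_zc.2 ⟨h.V2So h.wV, fun _ hy => h.wSo hy, h.q2 _ h.wV⟩

theorem sws : s * (s * v * s⁻¹) * s⁻¹ = v := by
  have h1 := h.vSo _ h.ss
  calc s * (s * v * s⁻¹) * s⁻¹ = s * s * v * (s * s)⁻¹ := by group
    _ = v := by rw [h1]; group

theorem vw : v ≠ s * v * s⁻¹ := by
  intro h1
  apply h.v1
  apply h.inf v h.vV
  rw [h1]
  exact h.wV

theorem vv : v * v = 1 := by rw [← pow_two]; exact h.q1 v h.vV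

theorem ww : s * v * s⁻¹ * (s * v * s⁻¹) = 1 := by rw [← pow_two]; exact h.q2 _ h.wV

theorem vwc : v * (s * v * s⁻¹) = s * v * s⁻¹ * v := h.c12 v h.vV _ h.wV

theorem zne : v * (s * v * s⁻¹) ≠ 1 := by
  intro h1
  apply h.vw
  exact mul_right_cancel (h1.trans h.ww.symm)

theorem zS : v * (s * v * s⁻¹) ∈ zc (S : Subgroup G) := by
  refine mem_zc.2 ⟨mul_mem (h.SoS (h.V1So h.vV)) (h.SoS (h.V2So h.wV)), ?_, ?_⟩
  · have key : ∀ y ∈ So, y * (v * (s * v * s⁻¹)) = v * (s * v * s⁻¹) * y := by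
      intro y hy
      calc y * (v * (s * v * s⁻¹)) = (y * v) * (s * v * s⁻¹) := by group
        _ = v * (y * (s * v * s⁻¹)) := by rw [h.vSo y hy]; group
        _ = v * (s * v * s⁻¹) * y := by rw [h.wSo hy]; group
    have ks : s * (v * (s * v * s⁻¹)) = v * (s * v * s⁻¹) * s := by
      calc s * (v * (s * v * s⁻¹)) = (s * v * s⁻¹) * (s * (s * v * s⁻¹) * s⁻¹) * s := by group
        _ = v * (s * v * s⁻¹) * s := by rw [h.sws, h.vwc]
    intro y hy
    by_cases hyS : y ∈ So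
    · exact key y hyS
    · have h1 := key _ (h.two s h.sS y hy h.sSo hyS)
      calc y * (v * (s * v * s⁻¹)) = s * (s⁻¹ * y * (v * (s * v * s⁻¹))) := by group
        _ = s * (v * (s * v * s⁻¹)) * (s⁻¹ * y) := by rw [h1]; group
        _ = v * (s * v * s⁻¹) * y := by rw [ks]; group
  · rw [pow_two]
    calc v * (s * v * s⁻¹) * (v * (s * v * s⁻¹)) = v * ((s * v * s⁻¹) * v) * (s * v * s⁻¹) := by group
      _ = (v * v) * ((s * v * s⁻¹) * (s * v * s⁻¹)) := by rw [← h.vwc]; group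
      _ = 1 := by rw [h.vv, h.ww, one_mul]

theorem zcS_cases {x : G} (hx : x ∈ zc (S : Subgroup G)) : x = 1 ∨ x = v * (s * v * s⁻¹) :=
  eq_or_eq_of_card_two h.zcS h.zS h.zne hx

/-- (1) `Ω₁Z(So)` is a four-group. -/
theorem zcSo_cases {x : G} (hx : x ∈ zc So) :
    x = 1 ∨ x = v ∨ x = s * v * s⁻¹ ∨ x = v * (s * v * s⁻¹) := by
  -- the elements fixed by `s`
  have key : ∀ y ∈ zc So, s * y * s⁻¹ = y → y = 1 ∨ y = v * (s * v * s⁻¹) := by
    intro y hy hys
    obtain ⟨hy1, hy2, hy3⟩ := mem_zc.1 hy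
    apply h.zcS_cases
    refine mem_zc.2 ⟨h.SoS hy1, ?_, hy3⟩
    intro a ha
    by_cases haS : a ∈ So
    · exact hy2 a haS
    · have h1 := hy2 _ (h.two s h.sS a ha h.sSo haS)
      have h2 : s * y = y * s := mul_inv_eq_iff_eq_mul.1 hys
      calc a * y = s * (s⁻¹ * a * y) := by group
        _ = (s * y) * (s⁻¹ * a) := by rw [h1]; group
        _ = y * a := by rw [h2]; group
  have hs : ∀ y ∈ zc So, s * y * s⁻¹ ∈ zc So := by
    intro y hy
    have h1 : s ∈ normalizer (So : Set G) := by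
      rw [mem_normalizer_iff]
      intro a
      refine ⟨fun ha => h.conjS ha, fun ha => ?_⟩
      have h2 := h.conjS' ha
      have h3 : s⁻¹ * (s * a * s⁻¹) * s = a := by group
      rwa [h3] at h2
    exact (mem_normalizer_iff.1 (normalizer_le_normalizer_zc _ h1) y).1 hy
  have hcc := zc_comm So
  have hsq : ∀ y ∈ zc So, y * y = 1 := fun y hy => by rw [← pow_two]; exact zc_sq _ y hy
  have hN : ∀ y ∈ zc So, y * (s * y * s⁻¹) = 1 ∨ y * (s * y * s⁻¹) = v * (s * v * s⁻¹) := by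
    intro y hy
    apply key _ (mul_mem hy (hs y hy))
    have h1 : s * s * y = y * (s * s) := (mem_zc.1 hy).2.1 _ h.ss
    calc s * (y * (s * y * s⁻¹)) * s⁻¹ = (s * y * s⁻¹) * (s * s * y * (s * s)⁻¹) := by group
      _ = (s * y * s⁻¹) * y := by rw [h1]; group
      _ = y * (s * y * s⁻¹) := (hcc _ hy _ (hs y hy)).symm
  have hfix : ∀ y ∈ zc So, y * (s * y * s⁻¹) = 1 → y = 1 ∨ y = v * (s * v * s⁻¹) := by
    intro y hy h1
    apply key y hy
    have h2 := hsq y hy
    rw [← h2] at h1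
    exact mul_left_cancel h1
  rcases hN x hx with h1 | h1
  · rcases hfix x hx h1 with h2 | h2
    · exact Or.inl h2
    · exact Or.inr (Or.inr (Or.inr h2))
  · have hxv : x * v ∈ zc So := mul_mem hx h.v_zc
    have h2 : x * v * (s * (x * v) * s⁻¹) = 1 := by
      calc x * v * (s * (x * v) * s⁻¹) = x * (v * (s * x * s⁻¹)) * (s * v * s⁻¹) := by group
        _ = x * (s * x * s⁻¹) * (v * (s * v * s⁻¹)) := by
            rw [hcc v h.v_zc _ (hs x hx)]; group
        _ = v * (s * v * s⁻¹) * (v * (s * v * s⁻¹)) := by rw [h1]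
        _ = 1 := by rw [← pow_two]; exact zc_sq _ _ h.zS
    have hxx : x = x * v * v := by rw [mul_assoc, h.vv, mul_one]
    rcases hfix _ hxv h2 with h3 | h3
    · right; left
      rw [hxx, h3, one_mul]
    · right; right; left
      rw [hxx, h3, h.vwc, mul_assoc, h.vv, mul_one]

/-- `Pre` for the other factor. -/
theorem symm : Pre S So V₂ V₁ L₂ L₁ s (s * v * s⁻¹) where
  toTwo := h.toTwo.symm
  zcS := h.zcS
  sS := h.sS
  sSo := h.sSo
  vV := h.wV
  v1 := h.w1
  vSo := fun _ hx => h.wSo hx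

/-- **The structure `Base`.** -/
theorem base (hG : IsCharacteristicTwoType G) (hc1 : Nat.card V₁ = 4) (hc2 : Nat.card V₂ = 4)
    (hsyl : ¬ 2 ∣ So.relIndex (centralizer ({v} : Set G))) :
    One.Base So V₁ V₂ L₁ L₂ v (s * v * s⁻¹) s := by
  have pSo : IsPGroup 2 So := S.isPGroup'.to_le h.SoS
  have hSoC : So ≤ centralizer ({v} : Set G) := fun x hx => mem_centralizer_singleton_iff.2 (h.vSo x hx)
  have syl1 : ∀ U : Subgroup G, IsPGroup 2 U → So ≤ U → (∀ x ∈ U, x * v = v * x) → U ≤ So := by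
    intro U hU hle hUv
    have hfact : Fact (Nat.Prime 2) := ⟨Nat.prime_two⟩
    have hUC : U ≤ centralizer ({v} : Set G) := fun x hx => mem_centralizer_singleton_iff.2 (hUv x hx)
    have h1 : So.relIndex U ∣ So.relIndex (centralizer ({v} : Set G)) :=
      Dvd.intro _ (relIndex_mul_relIndex _ _ _ hle hUC)
    have h2 : ¬ 2 ∣ So.relIndex U := fun h3 => hsyl (h3.trans h1)
    obtain ⟨n, hn⟩ := IsPGroup.iff_card.1 hU
    have h3 : So.relIndex U ∣ 2 ^ n := by
      rw [← hn, ← Half.card_mul_relIndex hle]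
      exact dvd_mul_left _ _
    obtain ⟨m, -, hm⟩ := (Nat.dvd_prime_pow Nat.prime_two).1 h3
    rcases Nat.eq_zero_or_pos m with h4 | h4
    · rw [h4, pow_zero, relIndex_eq_one] at hm
      exact hm
    · exfalso
      apply h2
      rw [hm]
      exact dvd_pow_self 2 h4.ne'
  have hq1 : ∀ x ∈ V₁, x * x = 1 := fun x hx => by rw [← pow_two]; exact h.q1 x hx
  have hq2 : ∀ x ∈ V₂, x * x = 1 := fun x hx => by rw [← pow_two]; exact h.q2 x hx
  have half1 := h.toTwo.half h.vV h.v1 (H := One.cz v) (fun x hx => One.mem_cz.1 hx)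
    (MinSimple.Basic.char2_centralizer hG (h.q1 _ h.vV) h.v1) hSoC
    (fun l hl => One.mem_cz.2 (h.L21 l hl _ h.vV))
  have half2 := h.toTwo.symm.half h.wV h.w1 (H := One.cz (s * v * s⁻¹)) (fun x hx => One.mem_cz.1 hx)
    (MinSimple.Basic.char2_centralizer hG (h.q2 _ h.wV) h.w1)
    (fun x hx => One.mem_cz.2 (h.wSo hx)) (fun l hl => One.mem_cz.2 (h.L12 l hl _ h.wV))
  exact
  { C2T := hG
    pT := pSo
    V1T := h.V1So
    V2T := h.V2So
    card1 := hc1
    card2 := hc2
    c1 := h.c1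
    c2 := h.c2
    q1 := hq1
    q2 := hq2
    c12 := h.c12
    inf := h.inf
    vV1 := h.vV
    vV2 := h.wV
    v1 := h.v1
    v2 := h.w1
    Tv1 := h.vSo
    Tv2 := fun x hx => h.wSo hx
    T1 := h.So1
    T2 := h.So2
    L1 := h.L1
    L2 := h.L2
    L12 := h.L12
    L21 := h.L21
    t1 := h.t1
    t2 := h.t2
    fix := fun x hx hxx hc => h.zcSo_cases (mem_zc.2 ⟨hx, hc, by rw [pow_two]; exact hxx⟩)
    syl1 := syl1
    syl2 := by
      intro U hU hle hUv
      -- conjugate by `s⁻¹`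
      have h1 : U.map (MulAut.conj s⁻¹).toMonoidHom ≤ So := by
        refine syl1 _ (hU.map _) ?_ ?_
        · intro x hx
          exact ⟨s * x * s⁻¹, hle (h.conjS hx), by simp [mul_assoc]⟩
        · rintro _ ⟨x, hx, rfl⟩
          have h2 := hUv x hx
          change s⁻¹ * x * s⁻¹⁻¹ * v = v * (s⁻¹ * x * s⁻¹⁻¹)
          calc s⁻¹ * x * s⁻¹⁻¹ * v = s⁻¹ * (x * (s * v * s⁻¹)) * s := by group
            _ = v * (s⁻¹ * x * s⁻¹⁻¹) := by rw [h2]; group
      intro x hx
      have h2 : s⁻¹ * x * s ∈ So := by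
        have := h1 ⟨x, hx, rfl⟩
        simpa using this
      have h3 := h.conjS h2
      have e : s * (s⁻¹ * x * s) * s⁻¹ = x := by group
      rwa [e] at h3
    half1 := half1.1
    half2 := half2.1
    halfc1 := fun x hx v hv => (mem_centralizer_iff.1 (half1.2 hx) v hv).symm
    halfc2 := fun x hx v hv => (mem_centralizer_iff.1 (half2.2 hx) v hv).symm
    sT := fun x hx => h.conjS hx
    s1 := fun v hv => h.sw1 s h.sS h.sSo v hv
    s2 := fun v hv => h.sw2 s h.sS h.sSo v hv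
    sv1 := rfl
    sv2 := h.sws }

end Pre

section nat

variable [Finite G] {S : Sylow 2 G} {P : Subgroup G} {F : Type} [Field F] [Finite F] [CharP F 2]

/-- **`Pre` for two natural `SL₂(2)`-factors.** -/
theorem pre_of (hc : IsCharacteristicTwoType G) (hP : IsParS (S : Subgroup G) P)
    (M : FFThm.NatK F (S : Subgroup G) P (zl (S : Subgroup G) P) ⊥ 2) (hF : Nat.card F = 2) {i j : Fin 2}
    (hij : i ≠ j) {n : G} (hn : n ∈ line M i) (hn1 : n ≠ 1) {s : G} (hs : s ∈ (S : Subgroup G))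
    (hs1 : s ∉ stab M i) : Pre S (stab M i) (fac M i) (fac M j) (grp M {i}) (grp M {j}) s n where
  toTwo := two_of hc hP M hij
  zcS := card_zcS M hc hP hF
  sS := hs
  sSo := hs1
  vV := line_le M i hn
  v1 := hn1
  vSo := fun _ hx => stab_comm hF hn hn1 hx

/-- **`Base` for two natural `SL₂(2)`-factors.** -/
theorem base_of (hc : IsCharacteristicTwoType G) (hP : IsParS (S : Subgroup G) P)
    (M : FFThm.NatK F (S : Subgroup G) P (zl (S : Subgroup G) P) ⊥ 2) (hF : Nat.card F = 2) {i j : Fin 2}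
    (hij : i ≠ j) {n : G} (hn : n ∈ line M i) (hn1 : n ≠ 1) {s : G} (hs : s ∈ (S : Subgroup G))
    (hs1 : s ∉ stab M i) (hsyl : ¬ 2 ∣ (stab M i).relIndex (centralizer ({n} : Set G))) :
    One.Base (stab M i) (fac M i) (fac M j) (grp M {i}) (grp M {j}) n (s * n * s⁻¹) s := by
  refine (pre_of hc hP M hF hij hn hn1 hs hs1).base hc ?_ ?_ hsyl
  · rw [card_fac, hF]
    norm_num
  · rw [card_fac, hF]
    norm_num

end nat

end Cfsg.Agent.Omega.IId.Sym

end

section


/-!
# II.d, mixed pairs: normal form of the partner `O₄⁻(2)` in CASE 1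

* `Adapt.cj` : labels of the conjugate module;
* `exists_nf` : a conjugate of the partner by an element of `C_G(n)` is a member over `S` with `e nn = n`,
  `e aa = s n s⁻¹`.
-/

set_option autoImplicit false
set_option linter.unusedSectionVars false

namespace Cfsg.Agent.Omega.IId.Sym

open Subgroup Cfsg Cfsg.Agent.ZN.ChoiceBase
open Cfsg.Agent.ZN (o2 zc zl)
open Cfsg.Agent.Omega.MinPar
open Cfsg.Agent.Omega.S5.Mod Cfsg.Agent.Omega.S5.TT Cfsg.Agent.Omega.S5.Types
open Cfsg.Agent.Omega.IId.Two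

universe u

variable {G : Type u} [Group G]

theorem Adapt.cj {V L S : Subgroup G} {N : FiveMod V L} (h : Adapt S N) (g : G) :
    Adapt (ZN.ChoiceBase.cj g S) (N.cj g) where
  SL := cj_mono g h.SL
  d8 x hx p hp := h.d8 _ (ZN.ChoiceBase.mem_cj.1 hx) p (N.ind_of_cj hp)
  ex p hp := by
    obtain ⟨y, hy, hi⟩ := h.ex p hp
    exact ⟨g * y * g⁻¹, ⟨y, hy, rfl⟩, N.cj_ind hi⟩
  zc := by
    intro x hx
    rw [ZN.ChoiceBase.mem_cj]
    apply h.zc
    obtain ⟨h1, h2, h3⟩ := MinSimple.VModule.mem_zc.1 hx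
    refine MinSimple.VModule.mem_zc.2 ⟨ZN.ChoiceBase.mem_cj.1 h1, fun y hy => ?_, ?_⟩
    · have h4 := h2 (g * y * g⁻¹) ⟨y, hy, rfl⟩
      calc y * (g⁻¹ * x * g) = g⁻¹ * (g * y * g⁻¹ * x) * g := by group
        _ = g⁻¹ * x * g * y := by rw [h4]; group
    · calc (g⁻¹ * x * g) ^ 2 = g⁻¹ * x ^ 2 * g := by rw [pow_two, pow_two]; group
        _ = 1 := by rw [h3]; group

theorem card_eq_sylow [Finite G] (S S' : Sylow 2 G) :
    Nat.card (S' : Subgroup G) = Nat.card (S : Subgroup G) := by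
  have : Fact (Nat.Prime 2) := ⟨Nat.prime_two⟩
  rw [S'.card_eq_multiplicity, S.card_eq_multiplicity]

/-- A 2-subgroup of `C` is conjugate in `C` into a Sylow 2-subgroup of `C`. -/
theorem exists_conj_le_syl [Finite G] {C T X : Subgroup G} (hX : X ≤ C) (hTp : IsPGroup 2 T)
    (hXp : IsPGroup 2 X) (hidx : ¬ 2 ∣ T.relIndex C) : ∃ c ∈ C, cj c X ≤ T := by
  have : Fact (Nat.Prime 2) := ⟨Nat.prime_two⟩
  have hS' : IsPGroup 2 (T.subgroupOf C) := hTp.comap_of_injective C.subtype Subtype.val_injective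
  have hX' : IsPGroup 2 (X.subgroupOf C) := hXp.comap_of_injective C.subtype Subtype.val_injective
  obtain ⟨Q, hQ⟩ := hX'.exists_le_sylow
  obtain ⟨c, hc⟩ := MulAction.exists_smul_eq C Q (hS'.toSylow hidx)
  refine ⟨c, c.2, ?_⟩
  rintro _ ⟨y, hy, rfl⟩
  have h1 : (⟨y, hX hy⟩ : C) ∈ (Q : Subgroup C) := hQ (Subgroup.mem_subgroupOf.2 hy)
  have h2 : c * ⟨y, hX hy⟩ * c⁻¹ ∈ ((c • Q : Sylow 2 C) : Subgroup C) := by
    have : c * ⟨y, hX hy⟩ * c⁻¹ = (MulAut.conj c) • (⟨y, hX hy⟩ : C) := rfl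
    rw [this]
    exact Subgroup.smul_mem_pointwise_smul _ _ _ h1
  rw [hc] at h2
  exact Subgroup.mem_subgroupOf.1 h2

theorem cj_of_mem {S : Subgroup G} {s : G} (hs : s ∈ S) : cj s S = S :=
  cj_eq_of_mem_normalizer (le_normalizer hs)

theorem le_normalizer_two [Finite G] {T S : Subgroup G} (h : T ≤ S) (hc : Nat.card S = 2 * Nat.card T) :
    S ≤ normalizer (T : Set G) :=
  le_normalizer_of fun _ hs _ hx => conj_mem_of_two h (two_cosets h hc) hs hx

/-- **Normal form**: the partner over the same Sylow subgroup `S`, with the same points `n` and `s n s⁻¹`. -/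
theorem exists_nf [Finite G] {S S' : Sylow 2 G} {T V₁ V₂ L₁ L₂ : Subgroup G} {n s : G}
    (h : Pre S T V₁ V₂ L₁ L₂ s n) {V L : Subgroup G} {N : FiveMod V L} (hN : Adapt (S' : Subgroup G) N)
    (hn : N.e nn = n) (hsyl : ¬ 2 ∣ T.relIndex (centralizer ({n} : Set G))) :
    ∃ g : G, g * n = n * g ∧ cj g (S' : Subgroup G) = (S : Subgroup G) ∧
      g * N.e aa * g⁻¹ = s * n * s⁻¹ := by
  have hTS : T ≤ (S : Subgroup G) := h.SoS
  have hTp : IsPGroup 2 T := S.isPGroup'.to_le hTS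
  set C := centralizer ({n} : Set G) with hC
  set T' := (S' : Subgroup G) ⊓ C with hT'
  have hcT' : Nat.card T' = Nat.card T := by
    have h1 := card_T hN
    have h2 := card_eq_sylow S S'
    have h3 := h.card
    rw [hn] at h1
    have h4 : 2 * Nat.card T' = 2 * Nat.card T := by rw [← h3, ← h2, h1]
    omega
  -- `T'^c = T`
  obtain ⟨c, hc, hcT⟩ := exists_conj_le_syl (inf_le_right : T' ≤ C) hTp (S'.isPGroup'.to_le inf_le_left)
    hsyl
  have hcT2 : cj c T' = T := eq_of_le_of_card_ge hcT (by rw [card_cj, hcT'])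
  -- both `S` and `S'^c` normalise `T`
  have hS1 : (S : Subgroup G) ≤ normalizer (T : Set G) := le_normalizer_two hTS h.card
  have hS2 : cj c (S' : Subgroup G) ≤ normalizer (T : Set G) := by
    refine le_normalizer_two ?_ ?_
    · rw [← hcT2]; exact cj_mono c inf_le_left
    · rw [card_cj, card_eq_sylow S S', h.card]
  obtain ⟨x, hx, hx1⟩ := exists_conj_le_sylow S (normalizer (T : Set G)) (cj c (S' : Subgroup G)) hS1
    (S'.isPGroup'.map _) hS2
  have hxS : cj (x * c) (S' : Subgroup G) = (S : Subgroup G) := by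
    rw [← cj_cj]
    refine eq_of_le_of_card_ge ?_ ?_
    · rintro _ ⟨y, hy, rfl⟩
      exact hx1 y hy
    · rw [card_cj, card_cj, card_eq_sylow S S']
  -- the labels over `S`
  have hA : Adapt (S : Subgroup G) (N.cj (x * c)) := by
    have := hN.cj (x * c)
    rwa [hxS] at this
  have hcn : c * n * c⁻¹ = n := by
    rw [mem_centralizer_singleton_iff.1 hc, mul_inv_cancel_right]
  have hy : (N.cj (x * c)).e nn = x * n * x⁻¹ := by
    rw [FiveMod.cj_e, hn]
    calc x * c * n * (x * c)⁻¹ = x * (c * n * c⁻¹) * x⁻¹ := by group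
      _ = x * n * x⁻¹ := by rw [hcn]
  obtain ⟨t, ht, -, htn⟩ := exists_t hA
  have hyz : x * n * x⁻¹ ∈ ZN.zc T := by
    obtain ⟨h1, h2, h3⟩ := MinSimple.VModule.mem_zc.1 h.v_zc
    have h4 := mem_normalizer_iff.1 hx
    refine MinSimple.VModule.mem_zc.2 ⟨(h4 n).1 h1, fun y hy => ?_, ?_⟩
    · have h5 : x⁻¹ * y * x ∈ T := by
        rw [h4]
        have e : x * (x⁻¹ * y * x) * x⁻¹ = y := by group
        rwa [e]
      have h6 := h2 _ h5
      calc y * (x * n * x⁻¹) = x * (x⁻¹ * y * x * n) * x⁻¹ := by group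
        _ = x * n * x⁻¹ * y := by rw [h6]; group
    · calc (x * n * x⁻¹) ^ 2 = x * n ^ 2 * x⁻¹ := by rw [pow_two, pow_two]; group
        _ = 1 := by rw [h3]; group
  -- a conjugate by an element of `S`
  obtain ⟨r, hr, hrn⟩ : ∃ r ∈ (S : Subgroup G), r * (x * n * x⁻¹) * r⁻¹ = n := by
    rcases h.zcSo_cases hyz with h1 | h1 | h1 | h1
    · exfalso
      apply h.v1
      have e : n = x⁻¹ * (x * n * x⁻¹) * x := by group
      rw [e, h1]; group
    · exact ⟨1, one_mem _, by rw [h1]; group⟩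
    · exact ⟨s⁻¹, inv_mem h.sS, by rw [h1]; group⟩
    · exfalso
      rw [hy, h1] at htn
      have h2 := (MinSimple.VModule.mem_zc.1 h.zS).2.1 t ht
      rw [h2, mul_inv_cancel_right] at htn
      have h3 : (N.cj (x * c)).e nn = (N.cj (x * c)).e aa := by rw [hy, h1, htn]
      exact Pos.n_ne_a (N.cj (x * c)) h3
  refine ⟨r * (x * c), ?_, ?_, ?_⟩
  · apply mul_inv_eq_iff_eq_mul.1
    calc r * (x * c) * n * (r * (x * c))⁻¹ = r * (x * (c * n * c⁻¹) * x⁻¹) * r⁻¹ := by group
      _ = n := by rw [hcn, hrn]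
  · rw [← cj_cj, hxS, cj_of_mem hr]
  · -- `t' = r t r⁻¹` moves `n`
    have h1 : r * (x * c) * N.e aa * (r * (x * c))⁻¹ = (r * t * r⁻¹) * n * (r * t * r⁻¹)⁻¹ := by
      calc r * (x * c) * N.e aa * (r * (x * c))⁻¹ = r * ((N.cj (x * c)).e aa) * r⁻¹ := by
            rw [FiveMod.cj_e]; group
        _ = r * (t * (x * n * x⁻¹) * t⁻¹) * r⁻¹ := by rw [← htn, hy]
        _ = r * t * r⁻¹ * (r * (x * n * x⁻¹) * r⁻¹) * (r * t * r⁻¹)⁻¹ := by group
        _ = (r * t * r⁻¹) * n * (r * t * r⁻¹)⁻¹ := by rw [hrn]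
    have hrt : r * t * r⁻¹ ∈ (S : Subgroup G) := mul_mem (mul_mem hr ht) (inv_mem hr)
    have hrT : r * t * r⁻¹ ∉ T := by
      intro h2
      have h3 := h.vSo _ h2
      apply Pos.n_ne_a (N.cj (x * c))
      rw [← htn, hy]
      have h4 : ∀ u : G, r * u * r⁻¹ = n → t * u * t⁻¹ = u := by
        intro u hu
        calc t * u * t⁻¹ = r⁻¹ * ((r * t * r⁻¹) * (r * u * r⁻¹) * (r * t * r⁻¹)⁻¹) * r := by group
          _ = r⁻¹ * (r * u * r⁻¹) * r := by rw [hu, h3, mul_inv_cancel_right]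
          _ = u := by group
      exact (h4 _ hrn).symm
    rw [h1]
    have h5 := h.vSo _ (h.two s h.sS _ hrt h.sSo hrT)
    calc r * t * r⁻¹ * n * (r * t * r⁻¹)⁻¹ = s * (s⁻¹ * (r * t * r⁻¹) * n) * (r * t * r⁻¹)⁻¹ := by group
      _ = s * n * s⁻¹ := by rw [h5]; group

end Cfsg.Agent.Omega.IId.Sym

end
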