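import Cfsg.Agent.Mrg.Omega.IId.ExcKill
import Cfsg.Agent.Mrg.Omega.IId.SymHalf


/-!
# The exceptional case of LEMMA NORM without any Sylow hypothesis on `O₂(C_G(r))` (helper540)

`ExcKill.core` needs `O₂(C_G(r)) ≤ So`.  Here only `O₂(C_G(r)) ∩ N_G(V) ≤ So` is needed (true if `So` is a Sylow
2-subgroup of `N_G(V)`); instead the full action of `O₂(N_G(R))` on `V` is used.

* `core` : the group-theoretic form;
* `exc_false` : the same from `PreMod.Exc`.
-/

set_option autoImplicit false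
set_option linter.unusedSectionVars false

namespace Cfsg.Agent.Omega.IId.ExcFree

open Subgroup Cfsg Cfsg.Agent.ZN Cfsg.Agent.Omega.MinPar Cfsg.Agent.Omega.NatPair
open Cfsg.Agent.Lib.SL2Mat
open Cfsg.Agent.Omega.IId.ExcKill (four_comm exists_tor)
open Cfsg.Agent.MinSimple.VModule (o2_isPGroup)

universe u

variable {G : Type u} [Group G]

theorem mem_H {r y : G} : y ∈ centralizer ({r} : Set G) ↔ y * r = r * y := mem_centralizer_singleton_iff

/-- conjugation of `O₂(C_G(r))` -/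
theorem o2_cj [Finite G] {r r' d q : G} (h : d * r * d⁻¹ = r') (hq : q ∈ ZN.o2 (centralizer ({r} : Set G))) :
    d * q * d⁻¹ ∈ ZN.o2 (centralizer ({r'} : Set G)) := by
  have e1 : cj d (centralizer ({r} : Set G)) = centralizer ({r'} : Set G) := by
    ext x
    rw [mem_cj, mem_H, mem_H, ← h]
    constructor
    · intro h1
      calc x * (d * r * d⁻¹) = d * (d⁻¹ * x * d * r) * d⁻¹ := by group
        _ = d * (r * (d⁻¹ * x * d)) * d⁻¹ := by rw [h1]
        _ = d * r * d⁻¹ * x := by group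
    · intro h1
      calc d⁻¹ * x * d * r = d⁻¹ * (x * (d * r * d⁻¹)) * d := by group
        _ = d⁻¹ * (d * r * d⁻¹ * x) * d := by rw [h1]
        _ = r * (d⁻¹ * x * d) := by group
  have e2 : ZN.o2 (cj d (centralizer ({r} : Set G))) = cj d (ZN.o2 (centralizer ({r} : Set G))) :=
    ZN.o2_map _ (MulAut.conj d).injective _
  rw [← e1, e2, mem_cj]
  have e3 : d⁻¹ * (d * q * d⁻¹) * d = q := by group
  rw [e3]
  exact hq

/-- **The core.** -/
theorem core [Finite G] (hG : IsCharacteristicTwoType G) {V R So : Subgroup G} {r : G} (hRV : R ≤ V) (hr : r ∈ R)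
    (hr1 : r ≠ 1) (hR4 : Nat.card R = 4) (hVc : ∀ x ∈ V, ∀ y ∈ V, x * y = y * x) (h2 : ∀ x ∈ V, x * x = 1)
    (hSoR : ∀ s ∈ So, ∀ x ∈ R, s * x * s⁻¹ ∈ R)
    (hQ : ZN.o2 (centralizer ({r} : Set G)) ⊓ normalizer (V : Set G) ≤ So)
    (hfuse : ∀ v ∈ V, v ∉ R → ∃ g ∈ normalizer (V : Set G), g⁻¹ * r * g ∈ R ∧ g⁻¹ * v * g ∈ R)
    (htr : ∀ x ∈ R, x ≠ 1 → ∃ d ∈ normalizer (V : Set G), d ∈ normalizer (R : Set G) ∧ d * r * d⁻¹ = x)
    (hVQ : V ≤ ZN.o2 (normalizer (R : Set G))) (hQV : ZN.o2 (normalizer (R : Set G)) ≤ normalizer (V : Set G))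
    (hQR : ZN.o2 (normalizer (R : Set G)) ≤ centralizer (R : Set G))
    (hup : ∀ q ∈ ZN.o2 (normalizer (R : Set G)), (∀ v ∈ V, v * q * v⁻¹ * q⁻¹ = 1 ∨ v * q * v⁻¹ * q⁻¹ = r) →
      ∀ v ∈ V, v * q = q * v)
    (hc : ∃ c ∈ normalizer (R : Set G), ∃ v ∈ V, ∃ w ∈ V, v * (c * w * c⁻¹) * v⁻¹ * (c * w * c⁻¹)⁻¹ ∈ R ∧
      v * (c * w * c⁻¹) * v⁻¹ * (c * w * c⁻¹)⁻¹ ≠ 1 ∧ v * (c * w * c⁻¹) * v⁻¹ * (c * w * c⁻¹)⁻¹ ≠ r) :
    False := by
  set H : Subgroup G := centralizer ({r} : Set G) with hH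
  set W : Subgroup G := ZN.o2 H with hW
  have hmC : ∀ {y : G}, y ∈ H ↔ y * r = r * y := mem_H
  have hWH : W ≤ H := o2_le H
  have hn : ∀ {c q : G}, c ∈ H → q ∈ W → c⁻¹ * q * c ∈ W := fun {c q} hc hq => by
    have := (mem_normalizer_iff.1 (le_normalizer_o2 H (inv_mem hc)) q).1 hq
    rwa [inv_inv] at this
  -- adjusting to `C_G(r)`
  have adj : ∀ g : G, g⁻¹ * r * g ∈ R → ∃ d ∈ normalizer (V : Set G), d ∈ normalizer (R : Set G) ∧
      g * d ∈ H := by
    intro g hg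
    have hg1 : g⁻¹ * r * g ≠ 1 := by
      intro h
      apply hr1
      have e : r = g * (g⁻¹ * r * g) * g⁻¹ := by group
      rw [e, h]; group
    obtain ⟨d, hd, hd', hdr⟩ := htr _ hg hg1
    refine ⟨d, hd, hd', hmC.2 ?_⟩
    have e : g * d * r * (g * d)⁻¹ = r := by
      have e1 : g * d * r * (g * d)⁻¹ = g * (d * r * d⁻¹) * g⁻¹ := by group
      rw [e1, hdr]; group
    calc g * d * r = g * d * r * (g * d)⁻¹ * (g * d) := by group
      _ = r * (g * d) := by rw [e]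
  -- the elements of `W ∩ N(V)`
  have key : ∀ v ∈ V, ∀ q ∈ W, q ∈ normalizer (V : Set G) →
      v * q * v⁻¹ * q⁻¹ = 1 ∨ v * q * v⁻¹ * q⁻¹ = r := by
    intro v hv q hq hqV
    have hqr : q * r = r * q := hmC.1 (hWH hq)
    by_cases hvR : v ∈ R
    · exact four_comm hR4 (fun x hx => h2 x (hRV hx)) hr hr1 hvR (hSoR q (hQ ⟨hq, hqV⟩) v hvR) hqr
    · obtain ⟨g, hgV, hgr, hgv⟩ := hfuse v hv hvR
      obtain ⟨d, hd, hd', hgd⟩ := adj g hgr
      set n := g * d with hnn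
      have hnN : n ∈ normalizer (V : Set G) := mul_mem hgV hd
      have hnv : n⁻¹ * v * n ∈ R := by
        have e : n⁻¹ * v * n = d⁻¹ * (g⁻¹ * v * g) * d := by rw [hnn]; group
        rw [e]
        have := (mem_normalizer_iff.1 (inv_mem hd') _).1 hgv
        rwa [inv_inv] at this
      have hnq := hn hgd hq
      have hnq' : n⁻¹ * q * n ∈ normalizer (V : Set G) := mul_mem (mul_mem (inv_mem hnN) hqV) hnN
      have h3 := four_comm hR4 (fun x hx => h2 x (hRV hx)) hr hr1 hnv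
        (hSoR _ (hQ ⟨hnq, hnq'⟩) _ hnv) (hmC.1 (hWH hnq))
      have e : v * q * v⁻¹ * q⁻¹ =
          n * ((n⁻¹ * v * n) * (n⁻¹ * q * n) * (n⁻¹ * v * n)⁻¹ * (n⁻¹ * q * n)⁻¹) * n⁻¹ := by group
      rcases h3 with h3 | h3
      · left
        rw [e, h3]; group
      · right
        rw [e, h3, hmC.1 hgd]; group
  have hCRH : centralizer (R : Set G) ≤ H := by
    intro x hx
    exact hmC.2 (mem_centralizer_iff.1 hx r hr).symm
  -- `C_W(R) ≤ O₂(N(R))`
  have hWR : W ⊓ centralizer (R : Set G) ≤ ZN.o2 (normalizer (R : Set G)) := by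
    have h3 : W ⊓ centralizer (R : Set G) ≤ ZN.o2 (centralizer (R : Set G)) := by
      refine le_o2 inf_le_right ((o2_isPGroup H).to_le inf_le_left) ?_
      exact Half.le_normalizer_inf (hCRH.trans (le_normalizer_o2 H)) le_normalizer
    refine h3.trans (le_o2 ((o2_le _).trans (centralizer_le_normalizer _)) (o2_isPGroup _) ?_)
    exact (NLFree.le_normalizer_cent le_rfl).trans (ZN.normalizer_le_normalizer_o2 _)
  -- (α)
  have alpha : ∀ q ∈ W, q ∈ centralizer (R : Set G) → ∀ v ∈ V, v * q = q * v := by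
    intro q hq hqR
    have h3 := hWR ⟨hq, hqR⟩
    exact hup q h3 fun v hv => key v hv q hq (hQV h3)
  have alpha' : ∀ r' ∈ R, r' ≠ 1 → ∀ q ∈ ZN.o2 (centralizer ({r'} : Set G)), q ∈ centralizer (R : Set G) →
      ∀ v ∈ V, v * q = q * v := by
    intro r' hr' hr1' q hq hqR v hv
    obtain ⟨d, hd, hd', hdr⟩ := htr r' hr' hr1'
    have e0 : d⁻¹ * r' * d⁻¹⁻¹ = r := by rw [← hdr]; group
    have h3 := o2_cj e0 hq
    rw [inv_inv] at h3
    have h4 : d⁻¹ * q * d ∈ centralizer (R : Set G) := by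
      have := NLFree.conj_mem_of (NLFree.le_normalizer_cent (V := R) le_rfl) (inv_mem hd') hqR
      rwa [inv_inv] at this
    have hv' : d⁻¹ * v * d ∈ V := by
      have := (mem_normalizer_iff.1 (inv_mem hd) v).1 hv
      rwa [inv_inv] at this
    have h5 := alpha _ h3 h4 _ hv'
    calc v * q = d * (d⁻¹ * v * d * (d⁻¹ * q * d)) * d⁻¹ := by group
      _ = d * (d⁻¹ * q * d * (d⁻¹ * v * d)) * d⁻¹ := by rw [h5]
      _ = q * v := by group
  obtain ⟨c, hcR, v, hv, w, hw, hρ, hρ1, hρr⟩ := hc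
  set y := c * w * c⁻¹ with hy
  have hcr : c⁻¹ * r * c ∈ R := by
    have := (mem_normalizer_iff.1 (inv_mem hcR) r).1 hr
    rwa [inv_inv] at this
  have hcr1 : c⁻¹ * r * c ≠ 1 := by
    intro h
    apply hr1
    have e : r = c * (c⁻¹ * r * c) * c⁻¹ := by group
    rw [e, h]; group
  -- `y` centralises `C_W(R)`
  have alphac : ∀ q ∈ W, q ∈ centralizer (R : Set G) → y * q = q * y := by
    intro q hq hqR
    have e0 : c⁻¹ * r * c⁻¹⁻¹ = c⁻¹ * r * c := by group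
    have h3 := o2_cj e0 hq
    rw [inv_inv] at h3
    have h4 : c⁻¹ * q * c ∈ centralizer (R : Set G) := by
      have := NLFree.conj_mem_of (NLFree.le_normalizer_cent (V := R) le_rfl) (inv_mem hcR) hqR
      rwa [inv_inv] at this
    have h5 := alpha' _ hcr hcr1 _ h3 h4 w hw
    calc y * q = c * (w * (c⁻¹ * q * c)) * c⁻¹ := by rw [hy]; group
      _ = c * (c⁻¹ * q * c * w) * c⁻¹ := by rw [h5]
      _ = q * y := by rw [hy]; group
  have hyQ : y ∈ ZN.o2 (normalizer (R : Set G)) :=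
    (mem_normalizer_iff.1 (le_normalizer_o2 _ hcR) w).1 (hVQ hw)
  have hvQ := hVQ hv
  -- (β)
  have beta : ¬ W ≤ centralizer (R : Set G) := by
    intro hWC
    have hVW : V ≤ W := by
      intro x hx
      refine MinSimple.Basic.char2_centralizer hG (by rw [pow_two]; exact h2 r (hRV hr)) hr1
        (mem_inf.2 ⟨?_, mem_centralizer_iff.2 fun q hq => (alpha q hq (hWC hq) x hx).symm⟩)
      exact hmC.2 (hVc x hx r (hRV hr))
    obtain ⟨d, hd, hd', hdr⟩ := htr _ hcr hcr1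
    have h3 : w ∈ ZN.o2 (centralizer ({c⁻¹ * r * c} : Set G)) := by
      have hw' : d⁻¹ * w * d ∈ V := by
        have := (mem_normalizer_iff.1 (inv_mem hd) w).1 hw
        rwa [inv_inv] at this
      have h4 := o2_cj hdr (hVW hw')
      have e : d * (d⁻¹ * w * d) * d⁻¹ = w := by group
      rwa [e] at h4
    have h4 : y ∈ W := o2_cj (d := c) (by group) h3
    have h5 := alpha y h4 (hWC h4) v hv
    apply hρ1
    calc v * y * v⁻¹ * y⁻¹ = y * v * v⁻¹ * y⁻¹ := by rw [h5]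
      _ = 1 := by group
  -- a fixed coset
  set W0 : Subgroup G := W ⊓ centralizer (R : Set G) with hW0
  have hW0n : ZN.o2 (normalizer (R : Set G)) ≤ normalizer (W0 : Set G) :=
    Half.le_normalizer_inf ((hQR.trans hCRH).trans (le_normalizer_o2 H))
      ((o2_le _).trans (NLFree.le_normalizer_cent le_rfl))
  have hW2 : IsPGroup 2 W := o2_isPGroup H
  have hlt : W0 < W := lt_of_le_of_ne inf_le_left fun e => beta (by
    have : W ≤ W0 := e.ge
    exact this.trans inf_le_right)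
  have hfact : Fact (Nat.Prime 2) := ⟨Nat.prime_two⟩
  have hlt' := Lib.GoldschmidtFusion.lt_inf_normalizer hW2 hlt
  set N0 : Subgroup G := W ⊓ normalizer (W0 : Set G) with hN0
  have hN0n : ZN.o2 (normalizer (R : Set G)) ≤ normalizer (N0 : Set G) := by
    refine Half.le_normalizer_inf ((hQR.trans hCRH).trans (le_normalizer_o2 H)) ?_
    exact hW0n.trans le_normalizer
  have hN02 : IsPGroup 2 N0 := hW2.to_le inf_le_left
  set T : Subgroup G := N0 ⊔ ZN.o2 (normalizer (R : Set G)) with hT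
  have hT2 : IsPGroup 2 T := IsPGroup.to_sup_of_normal_left' hN02 (o2_isPGroup _) hN0n
  have hTW0 : T ≤ normalizer (W0 : Set G) := sup_le inf_le_right hW0n
  have hTN0 : T ≤ normalizer (N0 : Set G) := sup_le le_normalizer hN0n
  obtain ⟨x, hx, hx0, hxf⟩ := NLFree.exists_fix_mod (S := T) (M := W0) (Q := N0) hT2
    (hlt'.le.trans le_sup_left) le_sup_left hTW0 hTN0 (fun h => hlt'.not_ge h)
  -- `x` commutes with `[v, y]`
  have ha : v * x * v⁻¹ * x⁻¹ ∈ W0 := hxf v (mem_sup_right hvQ)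
  have hb : y * x * y⁻¹ * x⁻¹ ∈ W0 := hxf y (mem_sup_right hyQ)
  set a := v * x * v⁻¹ * x⁻¹ with hadef
  set b := y * x * y⁻¹ * x⁻¹ with hbdef
  have cv : ∀ z ∈ W0, Commute z v := fun z hz => (alpha z hz.1 hz.2 v hv).symm
  have cy : ∀ z ∈ W0, Commute z y := fun z hz => (alphac z hz.1 hz.2).symm
  have cab : Commute a b := by
    have h3 : Commute a y := cy a ha
    have h4 : Commute a (x * y⁻¹ * x⁻¹) := by
      have h5 : x⁻¹ * a * x ∈ W0 := by
        have := (mem_normalizer_iff.1 (inv_mem (mem_inf.1 hx).2) a).1 ha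
        rwa [inv_inv] at this
      have h6 : Commute (x⁻¹ * a * x) y⁻¹ := (cy _ h5).inv_right
      have h7 : x⁻¹ * a * x * y⁻¹ = y⁻¹ * (x⁻¹ * a * x) := h6.eq
      show a * (x * y⁻¹ * x⁻¹) = x * y⁻¹ * x⁻¹ * a
      calc a * (x * y⁻¹ * x⁻¹) = x * (x⁻¹ * a * x * y⁻¹) * x⁻¹ := by group
        _ = x * (y⁻¹ * (x⁻¹ * a * x)) * x⁻¹ := by rw [h7]
        _ = x * y⁻¹ * x⁻¹ * a := by group
    have h8 : b = y * (x * y⁻¹ * x⁻¹) := by rw [hbdef]; group
    rw [h8]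
    exact h3.mul_right h4
  have ea : x * v * x⁻¹ = a⁻¹ * v := by rw [hadef]; group
  have eb : x * y * x⁻¹ = b⁻¹ * y := by rw [hbdef]; group
  have c1 : Commute a⁻¹ v := (cv a ha).inv_left
  have c2 : Commute a⁻¹ y := (cy a ha).inv_left
  have c3 : Commute b⁻¹ v := (cv b hb).inv_left
  have c4 : Commute b⁻¹ y := (cy b hb).inv_left
  have c5 : Commute a⁻¹ b⁻¹ := (cab.inv_left).inv_right
  have e1 : x * (v * y * v⁻¹ * y⁻¹) * x⁻¹ = v * y * v⁻¹ * y⁻¹ := by
    have s0 : x * (v * y * v⁻¹ * y⁻¹) * x⁻¹ = (a⁻¹ * v) * (b⁻¹ * y) * (a⁻¹ * v)⁻¹ * (b⁻¹ * y)⁻¹ := by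
      rw [← ea, ← eb]; group
    have s1 : (a⁻¹ * v) * (b⁻¹ * y) * (a⁻¹ * v)⁻¹ = v * (b⁻¹ * y) * v⁻¹ := by
      have t1 : Commute a⁻¹ (v * (b⁻¹ * y) * v⁻¹) := (c1.mul_right (c5.mul_right c2)).mul_right c1.inv_right
      calc (a⁻¹ * v) * (b⁻¹ * y) * (a⁻¹ * v)⁻¹ = a⁻¹ * (v * (b⁻¹ * y) * v⁻¹) * a⁻¹⁻¹ := by group
        _ = (v * (b⁻¹ * y) * v⁻¹) * a⁻¹ * a⁻¹⁻¹ := by rw [t1.eq]
        _ = v * (b⁻¹ * y) * v⁻¹ := by group
    have s2 : v * (b⁻¹ * y) * v⁻¹ = b⁻¹ * (v * y * v⁻¹) := by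
      calc v * (b⁻¹ * y) * v⁻¹ = (v * b⁻¹) * (y * v⁻¹) := by group
        _ = (b⁻¹ * v) * (y * v⁻¹) := by rw [c3.eq]
        _ = b⁻¹ * (v * y * v⁻¹) := by group
    have t2 : Commute b⁻¹ (v * y * v⁻¹ * y⁻¹) :=
      ((c3.mul_right c4).mul_right c3.inv_right).mul_right c4.inv_right
    rw [s0, s1, s2]
    calc b⁻¹ * (v * y * v⁻¹) * (b⁻¹ * y)⁻¹ = b⁻¹ * (v * y * v⁻¹ * y⁻¹) * b⁻¹⁻¹ := by group
      _ = (v * y * v⁻¹ * y⁻¹) * b⁻¹ * b⁻¹⁻¹ := by rw [t2.eq]
      _ = v * y * v⁻¹ * y⁻¹ := by group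
  set ρ := v * y * v⁻¹ * y⁻¹ with hρdef
  have hxρ : x * ρ = ρ * x := by
    calc x * ρ = x * ρ * x⁻¹ * x := by group
      _ = ρ * x := by rw [e1]
  have hxr : x * r = r * x := hmC.1 (hWH (mem_inf.1 hx).1)
  -- `R = {1, r, ρ, rρ}`
  apply hx0
  show x ∈ W ⊓ centralizer (R : Set G)
  refine mem_inf.2 ⟨(mem_inf.1 hx).1, mem_centralizer_iff.2 fun t ht => ?_⟩
  have hrR := h2 r (hRV hr)
  have hsub : ({1, r, ρ, r * ρ} : Set G) = (R : Set G) := by
    have hinj : r ≠ ρ := fun h => hρr h.symm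
    have hrρ1 : r * ρ ≠ 1 := by
      intro h
      apply hρr
      have : ρ = r⁻¹ := (inv_eq_of_mul_eq_one_right h).symm
      rw [this]
      exact inv_eq_of_mul_eq_one_left hrR
    have hrρr : r ≠ r * ρ := fun h => hρ1 (mul_eq_left.1 h.symm)
    have hρrρ : ρ ≠ r * ρ := fun h => hr1 (mul_eq_right.1 h.symm)
    apply Set.eq_of_subset_of_ncard_le
    · rintro z (rfl | rfl | rfl | rfl)
      · exact one_mem _
      · exact hr
      · exact hρ
      · exact mul_mem hr hρ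
    · have h3 : (R : Set G).ncard = 4 := hR4
      rw [h3, Set.ncard_insert_of_notMem, Set.ncard_insert_of_notMem, Set.ncard_pair hρrρ]
      · rintro (h | h)
        · exact hinj h
        · exact hrρr h
      · rintro (h | h | h)
        · exact hr1 h.symm
        · exact hρ1 h.symm
        · exact hrρ1 h.symm
    · exact Set.toFinite _
  have ht' : t ∈ ({1, r, ρ, r * ρ} : Set G) := by rw [hsub]; exact ht
  rcases ht' with rfl | rfl | rfl | rfl
  · rw [one_mul, mul_one]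
  · exact hxr.symm
  · exact hxρ.symm
  · calc r * ρ * x = r * (ρ * x) := by group
      _ = r * (x * ρ) := by rw [hxρ]
      _ = (r * x) * ρ := by group
      _ = x * (r * ρ) := by rw [← hxr]; group

/-! ### `PreMod` -/

section mod

variable {F : Type*} [Field F] {V : Subgroup G} (M : PreMod F V)

/-- **The exceptional case is impossible**: `So` a 2-group with `O₂(C_G(r)) ∩ N_G(V) ≤ So` for `r ∈ C_V(So)#`. -/
theorem exc_false [Finite G] [Finite F] [CharP F 2] (hG : IsCharacteristicTwoType G) {So : Subgroup G}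
    (hSo2 : IsPGroup 2 So) (hE : M.Exc So) {w : Fin 2 → F} (hw : w ≠ 0)
    (hSoR : So ≤ normalizer (M.line w : Set G))
    (hQ : ∀ r ∈ V, r ≠ 1 → (∀ s ∈ So, s * r = r * s) →
      ZN.o2 (centralizer ({r} : Set G)) ⊓ normalizer (V : Set G) ≤ So)
    (hVQ : V ≤ ZN.o2 (normalizer (M.line w : Set G)))
    (hQV : ZN.o2 (normalizer (M.line w : Set G)) ≤ normalizer (V : Set G))
    (hQR : ZN.o2 (normalizer (M.line w : Set G)) ≤ centralizer (M.line w : Set G))
    (hup : ∀ q ∈ ZN.o2 (normalizer (M.line w : Set G)), ∀ r ∈ M.line w,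
      (∀ v ∈ V, v * q * v⁻¹ * q⁻¹ = 1 ∨ v * q * v⁻¹ * q⁻¹ = r) → ∀ v ∈ V, v * q = q * v)
    {c : G} (hc : c ∈ normalizer (M.line w : Set G))
    (hR : ∀ ρ ∈ M.line w, ∃ v ∈ V, ∃ x ∈ V, v * (c * x * c⁻¹) * v⁻¹ * (c * x * c⁻¹)⁻¹ = ρ) : False := by
  have h4 : Nat.card (M.line w) = 4 := by rw [M.card_line hw, hE.card]
  have hlV := M.line_le w
  have hl2 : IsPGroup 2 (M.line w) := by
    rintro ⟨x, hx⟩
    refine ⟨1, Subtype.ext ?_⟩
    change x ^ 2 ^ 1 = 1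
    rw [pow_one, pow_two]
    exact M.sq (hlV hx)
  have hne : M.line w ≠ ⊥ := by
    intro h
    rw [h, card_bot] at h4
    omega
  obtain ⟨r, hr, hr1, hrc⟩ := Half.exists_fixed hl2 hne hSo2 hSoR
  have hrc' : ∀ s ∈ So, s * r = r * s := fun s hs => mul_inv_eq_iff_eq_mul.1 (hrc s hs)
  refine core hG hlV hr hr1 h4 (fun x hx y hy => M.comm hx hy) (fun x hx => M.sq hx)
    (fun s hs x hx => (mem_normalizer_iff.1 (hSoR hs) x).1 hx) (hQ r (hlV hr) hr1 hrc') ?_ ?_ hVQ hQV hQR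
    (fun q hq h => hup q hq r hr h) ?_
  · intro v hv hvR
    obtain ⟨g, hg, h1, h2⟩ := hE.fuse w hw r hr hr1 v hv hvR
    exact ⟨g, hg, mem_cj.1 h1, mem_cj.1 h2⟩
  · intro x hx hx1
    exact exists_tor M hr hr1 hx hx1
  · refine ⟨c, hc, ?_⟩
    -- an element of the line different from `1`, `r`
    obtain ⟨ρ, hρ, hρ1, hρr⟩ : ∃ ρ ∈ M.line w, ρ ≠ 1 ∧ ρ ≠ r := by
      by_contra hcon
      push Not at hcon
      have h1 : ((M.line w : Subgroup G) : Set G) ⊆ {1, r} := by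
        intro x hx
        by_cases hx1 : x = 1
        · exact Or.inl hx1
        · exact Or.inr (hcon x hx hx1)
      have h2 := Set.ncard_le_ncard h1 (Set.toFinite _)
      have h3 : ({1, r} : Set G).ncard ≤ 2 := (Set.ncard_insert_le 1 {r}).trans (by rw [Set.ncard_singleton])
      have h5 : ((M.line w : Subgroup G) : Set G).ncard = 4 := h4
      omega
    obtain ⟨v, hv, x, hx, h1⟩ := hR ρ hρ
    exact ⟨v, hv, x, hx, by rw [h1]; exact hρ, by rw [h1]; exact hρ1, by rw [h1]; exact hρr⟩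

end mod

end Cfsg.Agent.Omega.IId.ExcFree
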