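import Cfsg.Agent.Mrg.Omega.IId.SymHalf

section


/-!
# II.d, `q = 2`, CASE 1: first consequences (helper478 #12430 (0)-(2))

Notation: `Cᵢ = cz vᵢ`, `Qᵢ = O₂(Cᵢ)`, `N₁ = nc v₁ {v₂}`, `F₁ = C_{C₁}(N₁)`.

* `Q_le`, `V1_le_Kk`, `Kk_le_o2`, `V1_le_Q`;
* `V2_le_N1`, `N1_le_zc`, `N1_comm`, `N1_sq`, `V1_le_N2`, `F1_le`;
* `eq_F1` : `O₂(C₁/F₁) = 1`;
* `N1_fix` : `C_{N₁}(T) ≤ {1, v₁, v₂, v₁v₂}`;
* `no_compl` : `N₁` has no `C₁`-invariant complement to `⟨v₁⟩`;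
* `Base.one_of_mut`, `Base.one_of_mixed` : `Base` and a mutual pair give `One`;
* `Base.stepF` : STEP F.
-/

set_option autoImplicit false
set_option linter.dupNamespace false
set_option linter.unusedSectionVars false

namespace Cfsg.Agent.Omega.IId.One

open Subgroup Cfsg Cfsg.Agent.ZN Cfsg.Agent.Omega.MinPar Cfsg.Agent.MinSimple.VModule
open Cfsg.Agent.MinSimple.Basic
open Cfsg.Agent.Omega.IId.Two (le_normalizer_of)
open Cfsg.Agent.Omega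

universe u

variable {G : Type u} [Group G]

/-- `Kk v ≤ O₂(C_G(v))`. -/
theorem Kk_le_o2 [Finite G] (hG : IsCharacteristicTwoType G) {v : G} (hv : v * v = 1) (hv1 : v ≠ 1) :
    Kk v ≤ ZN.o2 (cz v) := by
  refine le_o2 (Kk_le v) ?_ (le_normalizer_Kk v)
  rintro ⟨g, hg⟩
  have h1 : g * g ∈ ZN.o2 (cz v) := by
    refine char2_centralizer hG (by rw [pow_two, hv]) hv1
      ⟨mul_mem hg.1 hg.1, mem_centralizer_iff.2 fun x hx => ?_⟩
    have hx2 : g * x * g⁻¹ = x ∨ g * x * g⁻¹ = v * x := Kk_conj hv hg hx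
    have hgv : g * v * g⁻¹ = v := by rw [mem_cz.1 hg.1, mul_inv_cancel_right]
    have h2 : g * (g * x * g⁻¹) * g⁻¹ = x := by
      rcases hx2 with h3 | h3
      · rw [h3, h3]
      · rw [h3]
        calc g * (v * x) * g⁻¹ = (g * v * g⁻¹) * (g * x * g⁻¹) := by group
          _ = x := by rw [hgv, h3, ← mul_assoc, hv, one_mul]
    calc x * (g * g) = g * (g * x * g⁻¹) * g⁻¹ * (g * g) := by rw [h2]
      _ = g * g * x := by group
  obtain ⟨k, hk⟩ := (o2_isPGroup (cz v)) ⟨g * g, h1⟩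
  refine ⟨k + 1, Subtype.ext ?_⟩
  have h2 : (g * g) ^ 2 ^ k = 1 := congrArg Subtype.val hk
  change g ^ 2 ^ (k + 1) = 1
  rw [pow_succ, mul_comm, pow_mul, pow_two, h2]

/-- `T` a Sylow 2-subgroup of `C`, `A`, `F` normal in `C`, `AF/F` a 2-group: `A ≤ TF`. -/
theorem le_sup_of_two [Finite G] {C F A T : Subgroup G} (nF : C ≤ normalizer (F : Set G))
    (hA : A ≤ C) (nA : C ≤ normalizer (A : Set G)) (pT : IsPGroup 2 T)
    (sT : ¬ 2 ∣ T.relIndex C) (h2 : ∀ a ∈ A, ∃ k : ℕ, a ^ 2 ^ k ∈ F) : A ≤ T ⊔ F := by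
  have : Fact (Nat.Prime 2) := ⟨Nat.prime_two⟩
  have nF' : (F.subgroupOf C).Normal := normal_subgroupOf_of_le_normalizer nF
  have nA' : (A.subgroupOf C).Normal := normal_subgroupOf_of_le_normalizer nA
  have hs := QuotientGroup.mk'_surjective (F.subgroupOf C)
  let S : Sylow 2 C := (pT.comap_of_injective C.subtype C.subtype_injective).toSylow sT
  let S' := S.mapSurjective hs
  have n1 : ((A.subgroupOf C).map (QuotientGroup.mk' (F.subgroupOf C))).Normal := nA'.map _ hs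
  have p1 : IsPGroup 2 ((A.subgroupOf C).map (QuotientGroup.mk' (F.subgroupOf C))) := by
    rintro ⟨_, a, ha, rfl⟩
    obtain ⟨k, hk⟩ := h2 a ha
    refine ⟨k, Subtype.ext ?_⟩
    change (QuotientGroup.mk' (F.subgroupOf C)) a ^ 2 ^ k = 1
    rw [← map_pow]
    exact (QuotientGroup.eq_one_iff _).2 hk
  have h1 : (A.subgroupOf C).map (QuotientGroup.mk' (F.subgroupOf C)) ≤ S' := by
    have p2 : IsPGroup 2 (((S' : Sylow 2 _) : Subgroup (C ⧸ F.subgroupOf C)) ⊔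
        (A.subgroupOf C).map (QuotientGroup.mk' (F.subgroupOf C)) : Subgroup _) :=
      S'.isPGroup'.to_sup_of_normal_right p1
    have h3 := S'.is_maximal' p2 le_sup_left
    calc (A.subgroupOf C).map (QuotientGroup.mk' (F.subgroupOf C)) ≤ _ := le_sup_right
      _ = S' := h3
  intro a ha
  have h3 : (QuotientGroup.mk' (F.subgroupOf C)) ⟨a, hA ha⟩ ∈ (S' : Subgroup _) := h1 ⟨⟨a, hA ha⟩, ha, rfl⟩
  rw [Sylow.coe_mapSurjective] at h3
  obtain ⟨t, ht, e⟩ := h3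
  have h4 : t⁻¹ * ⟨a, hA ha⟩ ∈ F.subgroupOf C := QuotientGroup.eq.1 e
  have h5 : (t : G)⁻¹ * a ∈ F := h4
  have h6 : (t : G) ∈ T := ht
  have e2 : a = t * ((t : G)⁻¹ * a) := by group
  rw [e2]
  exact mul_mem (mem_sup_left h6) (mem_sup_right h5)

namespace Base

variable [Finite G] {T V₁ V₂ L₁ L₂ : Subgroup G} {v₁ v₂ s : G}

section basic

variable (h : Base T V₁ V₂ L₁ L₂ v₁ v₂ s)
include h

/-- `T` is a Sylow 2-subgroup of `H`, `T ≤ H ≤ C₁`. -/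
theorem syl {H : Subgroup G} (hT : T ≤ H) (hH : H ≤ cz v₁) : ¬ 2 ∣ T.relIndex H := by
  obtain ⟨U, h1, h2, h3, h4⟩ := Half.exists_sylow_le h.pT hT
  have h5 : U = T := le_antisymm (h.syl1 U h3 h1 fun x hx => mem_cz.1 (hH (h2 hx))) h1
  rwa [h5] at h4

theorem char2 : cz v₁ ⊓ centralizer (ZN.o2 (cz v₁) : Set G) ≤ ZN.o2 (cz v₁) :=
  char2_centralizer h.C2T (by rw [pow_two, h.vq1]) h.v1

theorem Q_le : ZN.o2 (cz v₁) ≤ T := o2_le_of_sylow h.pT (h.syl h.T_le le_rfl)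

theorem v1_mem_Q : v₁ ∈ ZN.o2 (cz v₁) :=
  h.char2 ⟨mem_cz.2 rfl, mem_centralizer_iff.2 fun _ hx => mem_cz.1 (o2_le _ hx)⟩

theorem v2_mem_Q : v₂ ∈ ZN.o2 (cz v₁) := h.half1 h.vV2

theorem V1_le_Kk : V₁ ≤ Kk v₁ := by
  intro v hv
  refine ⟨h.V1_le hv, fun x hx => ?_⟩
  have e : v * x * v⁻¹ * x⁻¹ = v * (x * v * x⁻¹)⁻¹ := by group
  rw [e]
  rcases h.T_conj1 (h.Q_le hx) hv with h1 | h1
  · rw [h1, mul_inv_cancel]; exact one_mem _
  · rw [h1]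
    have e2 : v * (v₁ * v)⁻¹ = v₁⁻¹ := by group
    rw [e2]
    exact inv_mem (mem_zpowers v₁)

theorem Kk_le_Q : Kk v₁ ≤ ZN.o2 (cz v₁) := Kk_le_o2 h.C2T h.vq1 h.v1

theorem V1_le_Q : V₁ ≤ ZN.o2 (cz v₁) := h.V1_le_Kk.trans h.Kk_le_Q

theorem Kk_le_T : Kk v₁ ≤ T := h.Kk_le_Q.trans h.Q_le

/-! ### `N₁` -/

theorem v2_mem_N1 : v₂ ∈ nc v₁ {v₂} := subset_nc v₁ {v₂} rfl

theorem V2_le_N1 : V₂ ≤ nc v₁ {v₂} :=
  h.symm.V1_le_of (h.L2_le.trans (le_normalizer_nc _ _)) h.v2_mem_N1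

theorem N1_eq : nc v₁ {v₂} = nc v₁ (V₂ : Set G) := by
  apply le_antisymm
  · refine nc_le ?_ (le_normalizer_nc _ _)
    rw [Set.singleton_subset_iff]
    exact subset_nc v₁ _ h.vV2
  · exact nc_le h.V2_le_N1 (le_normalizer_nc _ _)

theorem N1_le_zc : nc v₁ {v₂} ≤ zc (ZN.o2 (cz v₁)) := by
  refine nc_le ?_ ((le_normalizer_o2 _).trans (normalizer_le_normalizer_zc _))
  rw [Set.singleton_subset_iff]
  exact mem_zc.2 ⟨h.v2_mem_Q, fun x hx => h.halfc1 x hx _ h.vV2, by rw [pow_two, h.vq2]⟩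

theorem N1_le_Q : nc v₁ {v₂} ≤ ZN.o2 (cz v₁) := h.N1_le_zc.trans (zc_le _)

theorem N1_le_T : nc v₁ {v₂} ≤ T := h.N1_le_Q.trans h.Q_le

theorem N1_le : nc v₁ {v₂} ≤ cz v₁ := h.N1_le_T.trans h.T_le

theorem Q_N1 {x y : G} (hx : x ∈ ZN.o2 (cz v₁)) (hy : y ∈ nc v₁ {v₂}) : x * y = y * x :=
  (mem_zc.1 (h.N1_le_zc hy)).2.1 x hx

theorem N1_comm {x y : G} (hx : x ∈ nc v₁ {v₂}) (hy : y ∈ nc v₁ {v₂}) : x * y = y * x :=
  h.Q_N1 (h.N1_le_Q hx) hy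

theorem N1_sq {x : G} (hx : x ∈ nc v₁ {v₂}) : x * x = 1 := by
  rw [← pow_two]; exact (mem_zc.1 (h.N1_le_zc hx)).2.2

theorem V1_le_N2 : V₁ ≤ nc v₂ {v₁} := h.symm.V2_le_N1

/-- `F₁ = C_{C₁}(N₁)` is normal in `C₁`. -/
theorem F1_norm : cz v₁ ≤ normalizer ((cz v₁ ⊓ centralizer (nc v₁ {v₂} : Set G) : Subgroup G) : Set G) := by
  refine Half.le_normalizer_inf le_normalizer ?_
  apply le_normalizer_of
  intro k hk v hv
  rw [mem_centralizer_iff] at hv ⊢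
  intro y hy
  have h2 := (mem_normalizer_iff.1 (inv_mem (le_normalizer_nc v₁ {v₂} hk)) y).1 hy
  have h3 := hv _ h2
  rw [inv_inv] at h3
  calc y * (k * v * k⁻¹) = k * (k⁻¹ * y * k * v) * k⁻¹ := by group
    _ = k * (v * (k⁻¹ * y * k)) * k⁻¹ := by rw [h3]
    _ = k * v * k⁻¹ * y := by group

theorem F1_le : cz v₁ ⊓ centralizer (nc v₁ {v₂} : Set G) ≤ cz v₁ ⊓ cz v₂ := by
  rintro x ⟨h1, h2⟩
  exact ⟨h1, mem_cz.2 (mem_centralizer_iff.1 h2 v₂ h.v2_mem_N1).symm⟩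

theorem Q_le_F1 : ZN.o2 (cz v₁) ≤ cz v₁ ⊓ centralizer (nc v₁ {v₂} : Set G) := fun _ hx =>
  ⟨o2_le _ hx, mem_centralizer_iff.2 fun _ hy => (h.Q_N1 hx hy).symm⟩

/-- `C_{N₁}(T) ≤ Y`. -/
theorem N1_fix {x : G} (hx : x ∈ nc v₁ {v₂}) (hc : ∀ t ∈ T, t * x = x * t) :
    x = 1 ∨ x = v₁ ∨ x = v₂ ∨ x = v₁ * v₂ :=
  h.fix x (h.N1_le_T hx) (h.N1_sq hx) hc

/-- An element of `C₁` centralising all `v₂^c` lies in `F₁`. -/
theorem mem_F1 {x : G} (hx : x ∈ cz v₁)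
    (hc : ∀ c ∈ cz v₁, x * (c * v₂ * c⁻¹) = c * v₂ * c⁻¹ * x) :
    x ∈ cz v₁ ⊓ centralizer (nc v₁ {v₂} : Set G) := by
  refine Subgroup.mem_inf.2 ⟨hx, ?_⟩
  have h1 : nc v₁ {v₂} ≤ cz x := by
    rw [nc, closure_le]
    rintro _ ⟨g, hg, a, ha, rfl⟩
    rw [Set.mem_singleton_iff.1 ha]
    exact mem_cz.2 (hc g hg).symm
  rw [mem_centralizer_iff]
  intro y hy
  exact mem_cz.1 (h1 hy)

/-- `O₂(C₁/F₁) = 1`. -/
theorem eq_F1 {A : Subgroup G} (hA : A ≤ cz v₁) (hn : cz v₁ ≤ normalizer (A : Set G))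
    (h2 : ∀ a ∈ A, ∃ k : ℕ, a ^ 2 ^ k ∈ cz v₁ ⊓ centralizer (nc v₁ {v₂} : Set G)) :
    A ≤ cz v₁ ⊓ centralizer (nc v₁ {v₂} : Set G) := by
  have : Fact (Nat.Prime 2) := ⟨Nat.prime_two⟩
  set F := cz v₁ ⊓ centralizer (nc v₁ {v₂} : Set G) with hF
  -- `A` centralises `v₂`
  have key : ∀ a ∈ A, a * v₂ = v₂ * a := by
    have h1 : A ≤ T ⊔ F := le_sup_of_two h.F1_norm hA hn h.pT (h.syl h.T_le le_rfl) h2
    have h3 : T ⊔ F ≤ cz v₂ := sup_le h.T_le2 (h.F1_le.trans inf_le_right)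
    exact fun a ha => mem_cz.1 (h3 (h1 ha))
  intro a ha
  refine h.mem_F1 (hA ha) fun c hc => ?_
  have h3 : c⁻¹ * a * c ∈ A := by
    have := (mem_normalizer_iff.1 (inv_mem (hn hc)) a).1 ha
    rwa [inv_inv] at this
  have h4 := key _ h3
  calc a * (c * v₂ * c⁻¹) = c * (c⁻¹ * a * c * v₂) * c⁻¹ := by group
    _ = c * (v₂ * (c⁻¹ * a * c)) * c⁻¹ := by rw [h4]
    _ = c * v₂ * c⁻¹ * a := by group

/-- `N₁` has no `C₁`-invariant complement to `⟨v₁⟩`. -/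
theorem no_compl {N : Subgroup G} (hn : L₂ ≤ normalizer (N : Set G)) (hv : v₂ ∈ N ∨ v₁ * v₂ ∈ N) :
    v₂ ∈ N := by
  rcases hv with hv | hv
  · exact hv
  -- another element of `V₂#`
  obtain ⟨v, hv2, hv3, hv4⟩ : ∃ v ∈ V₂, v ≠ 1 ∧ v ≠ v₂ := by
    by_contra hcon
    push Not at hcon
    have h1 : V₂ ≤ zpowers v₂ := by
      intro x hx
      by_cases hx1 : x = 1
      · rw [hx1]; exact one_mem _
      · rw [hcon x hx hx1]; exact mem_zpowers _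
    have h2 := card_le_of_le h1
    rw [h.card2, Nat.card_zpowers] at h2
    have h3 : orderOf v₂ ≤ 2 := orderOf_le_of_pow_eq_one (by norm_num) (by rw [pow_two, h.vq2])
    omega
  obtain ⟨l, hl, rfl⟩ := h.t2 v₂ h.vV2 h.v2 v hv2 hv3
  have h1 : l * (v₁ * v₂) * l⁻¹ ∈ N := (mem_normalizer_iff.1 (hn hl) _).1 hv
  have h2 : l * (v₁ * v₂) * l⁻¹ = v₁ * (l * v₂ * l⁻¹) := by
    calc l * (v₁ * v₂) * l⁻¹ = (l * v₁) * v₂ * l⁻¹ := by group
      _ = v₁ * (l * v₂ * l⁻¹) := by rw [h.L21 l hl _ h.vV1]; group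
  have h3 : v₂ * (l * v₂ * l⁻¹) ∈ N := by
    have h4 := mul_mem hv h1
    rw [h2] at h4
    have e : v₁ * v₂ * (v₁ * (l * v₂ * l⁻¹)) = v₂ * (l * v₂ * l⁻¹) := by
      calc v₁ * v₂ * (v₁ * (l * v₂ * l⁻¹)) = (v₁ * v₂) * v₁ * (l * v₂ * l⁻¹) := by group
        _ = (v₂ * v₁) * v₁ * (l * v₂ * l⁻¹) := by rw [h.vc]
        _ = v₂ * (l * v₂ * l⁻¹) := by rw [mul_assoc v₂, h.vq1, mul_one]
    rwa [e] at h4
  have h5 : v₂ * (l * v₂ * l⁻¹) ∈ V₂ := mul_mem h.vV2 hv2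
  have h6 : v₂ * (l * v₂ * l⁻¹) ≠ 1 := fun e => hv4 (by
    have h7 : l * v₂ * l⁻¹ = v₂⁻¹ := (eq_inv_of_mul_eq_one_right e)
    rw [h7]
    exact inv_eq_of_mul_eq_one_left h.vq2)
  obtain ⟨l', hl', h7⟩ := h.t2 _ h5 h6 v₂ h.vV2 h.v2
  rw [← h7]
  exact (mem_normalizer_iff.1 (hn hl') _).1 h3

/-! ### `N_G(V₂)` -/

/-- `T` is a Sylow 2-subgroup of `N_G(V₂)`. -/
theorem syl_N2 : ¬ 2 ∣ T.relIndex (normalizer (V₂ : Set G)) := by
  obtain ⟨U, h1, h2, h3, h4⟩ := Half.exists_sylow_le h.pT h.T_norm2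
  obtain ⟨v, hv, hv1, hvc⟩ := Half.exists_fixed (h.pT.to_le h.V2T) h.symm.V1_ne_bot h3 h2
  have h5 : v = v₂ := by
    rcases h.symm.fix1 hv (fun t ht => mul_inv_eq_iff_eq_mul.1 (hvc t (h1 ht))) with h6 | h6
    · exact absurd h6 hv1
    · exact h6
  have h6 : U = T := le_antisymm
    (h.syl2 U h3 h1 fun x hx => mul_inv_eq_iff_eq_mul.1 (h5 ▸ hvc x hx)) h1
  rwa [h6] at h4

/-- `V₁ ≤ Ω₁Z(O₂(N_G(V₂)))`. -/
theorem V1_le_zcN : V₁ ≤ zc (ZN.o2 (normalizer (V₂ : Set G))) := by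
  have hc := char2_normalizer h.C2T (h.pT.to_le h.V2T) h.symm.V1_ne_bot
  have h1 := zc_le_zc_o2 h.T_norm2 h.pT h.syl_N2 hc
  have h2 : v₁ ∈ zc T := mem_zc.2 ⟨h.V1T h.vV1, h.Tv1, by rw [pow_two, h.vq1]⟩
  have h3 : L₁ ≤ normalizer (V₂ : Set G) := by
    intro l hl
    apply (centralizer_le_normalizer (V₂ : Set G))
    rw [mem_centralizer_iff]
    intro y hy
    exact (h.L12 l hl y hy).symm
  exact h.V1_le_of (h3.trans ((le_normalizer_o2 _).trans (normalizer_le_normalizer_zc _))) (h1 h2)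

end basic

/-! ### Mutual pairs -/

/-- (1') for mixed pairs: if `V₁`, `V₁'^c` do not commute for some `c ∈ C₁` then `C₁` does not normalise `V₂`. -/
theorem not_norm_of_mixed {V₁' V₂' L₁' L₂' : Subgroup G} (h : Base T V₁ V₂ L₁ L₂ v₁ v₂ s)
    (h' : Base T V₁' V₂' L₁' L₂' v₁ v₂ s)
    (hm : ∃ c ∈ cz v₁, ∃ a ∈ V₁, ∃ b ∈ V₁', a * (c * b * c⁻¹) ≠ c * b * c⁻¹ * a) :
    ¬ cz v₁ ≤ normalizer (V₂ : Set G) := by
  intro hn
  have e2 : V₂' = V₂ := by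
    have h1 : nc v₁ {v₂} ≤ V₂ := nc_le (Set.singleton_subset_iff.2 h.vV2) hn
    exact eq_of_le_of_card_ge (h'.V2_le_N1.trans h1) (by rw [h.card2, h'.card2])
  have e1 : V₁' = V₁ := by
    have key : V₁' ≤ V₁ := by
      intro x hx
      have h1 : s * x * s⁻¹ ∈ V₂ := e2 ▸ h'.s1 x hx
      -- `V₁ → V₂` is onto
      have h2 : (V₁.map (MulAut.conj s).toMonoidHom) = V₂ := by
        refine eq_of_le_of_card_ge ?_ ?_
        · rintro _ ⟨y, hy, rfl⟩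
          exact h.s1 y hy
        · rw [card_map_of_injective (MulAut.conj s).injective, h.card1, h.card2]
      rw [← h2] at h1
      obtain ⟨y, hy, e⟩ := h1
      have e3 : s * y * s⁻¹ = s * x * s⁻¹ := e
      have e4 : y = x := by
        calc y = s⁻¹ * (s * y * s⁻¹) * s := by group
          _ = x := by rw [e3]; group
      rwa [← e4]
    exact eq_of_le_of_card_ge key (by rw [h.card1, h'.card1])
  obtain ⟨c, hc, a, ha, b, hb, hne⟩ := hm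
  apply hne
  have h1 := h.V1_le_zcN
  have h2 : c * b * c⁻¹ ∈ zc (ZN.o2 (normalizer (V₂ : Set G))) := by
    have h3 := (hn hc)
    exact (mem_normalizer_iff.1 (((le_normalizer_o2 _).trans (normalizer_le_normalizer_zc _)) h3) b).1
      (h1 (e1 ▸ hb))
  exact (zc_comm _ a (h1 ha) _ h2)

theorem one_of_mixed {V₁' V₂' L₁' L₂' : Subgroup G} (h : Base T V₁ V₂ L₁ L₂ v₁ v₂ s)
    (h' : Base T V₁' V₂' L₁' L₂' v₁ v₂ s)
    (hm : ∃ c ∈ cz v₁, ∃ a ∈ V₁, ∃ b ∈ V₁', a * (c * b * c⁻¹) ≠ c * b * c⁻¹ * a) :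
    One T V₁ V₂ L₁ L₂ v₁ v₂ s := by
  have hm2 : ∃ c ∈ cz v₂, ∃ a ∈ V₂, ∃ b ∈ V₂', a * (c * b * c⁻¹) ≠ c * b * c⁻¹ * a := by
    obtain ⟨c, hc, a, ha, b, hb, hne⟩ := hm
    refine ⟨s * c * s⁻¹, conj_cz h.sv1 hc, s * a * s⁻¹, h.s1 a ha, s * b * s⁻¹, h'.s1 b hb, ?_⟩
    intro e
    apply hne
    have e1 : s * a * s⁻¹ * (s * c * s⁻¹ * (s * b * s⁻¹) * (s * c * s⁻¹)⁻¹) =
        s * (a * (c * b * c⁻¹)) * s⁻¹ := by group
    have e2 : s * c * s⁻¹ * (s * b * s⁻¹) * (s * c * s⁻¹)⁻¹ * (s * a * s⁻¹) =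
        s * (c * b * c⁻¹ * a) * s⁻¹ := by group
    rw [e1, e2] at e
    exact mul_left_cancel (mul_right_cancel e)
  refine ⟨h, ?_, ?_, h.not_norm_of_mixed h' hm, h.symm.not_norm_of_mixed h'.symm hm2⟩
  · obtain ⟨c, hc, a, ha, b, hb, hne⟩ := hm
    exact ⟨c * b * c⁻¹, (mem_normalizer_iff.1 (le_normalizer_Kk v₁ hc) b).1 (h'.V1_le_Kk hb), a, ha,
      Ne.symm hne⟩
  · obtain ⟨c, hc, a, ha, b, hb, hne⟩ := hm2
    exact ⟨c * b * c⁻¹, (mem_normalizer_iff.1 (le_normalizer_Kk v₂ hc) b).1 (h'.symm.V1_le_Kk hb), a, ha,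
      Ne.symm hne⟩

theorem one_of_mut (h : Base T V₁ V₂ L₁ L₂ v₁ v₂ s)
    (hm : ∃ c ∈ cz v₁, ∃ a ∈ V₁, ∃ b ∈ V₁, a * (c * b * c⁻¹) ≠ c * b * c⁻¹ * a) :
    One T V₁ V₂ L₁ L₂ v₁ v₂ s := h.one_of_mixed h hm

/-- A mutual pair `V₁`, `V₁'^g` with a common point gives `c ∈ C₁` with `[V₁, V₁'^c] ≠ 1`. -/
theorem exists_mut {V₁' V₂' L₁' L₂' : Subgroup G} (h : Base T V₁ V₂ L₁ L₂ v₁ v₂ s)
    (h' : Base T V₁' V₂' L₁' L₂' v₁ v₂ s) {g u : G} (hu : u ∈ V₁) (hu1 : u ≠ 1)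
    (hug : g⁻¹ * u * g ∈ V₁') (hne : ∃ a ∈ V₁, ∃ b ∈ V₁', a * (g * b * g⁻¹) ≠ g * b * g⁻¹ * a) :
    ∃ c ∈ cz v₁, ∃ a ∈ V₁, ∃ b ∈ V₁', a * (c * b * c⁻¹) ≠ c * b * c⁻¹ * a := by
  obtain ⟨l, hl, e1⟩ := h.t1 u hu hu1 v₁ h.vV1 h.v1
  have hu2 : g⁻¹ * u * g ≠ 1 := fun e => hu1 (by
    calc u = g * (g⁻¹ * u * g) * g⁻¹ := by group
      _ = 1 := by rw [e]; group)
  obtain ⟨l', hl', e2⟩ := h'.t1 v₁ h'.vV1 h'.v1 _ hug hu2
  refine ⟨l * g * l', ?_, ?_⟩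
  · rw [mem_cz]
    have e3 : l * g * l' * v₁ * (l * g * l')⁻¹ = v₁ := by
      calc l * g * l' * v₁ * (l * g * l')⁻¹ = l * g * (l' * v₁ * l'⁻¹) * (l * g)⁻¹ := by group
        _ = l * u * l⁻¹ := by rw [e2]; group
        _ = v₁ := e1
    exact mul_inv_eq_iff_eq_mul.1 e3
  · obtain ⟨a, ha, b, hb, hab⟩ := hne
    refine ⟨l * a * l⁻¹, h.L1 l hl a ha, l'⁻¹ * b * l', ?_, ?_⟩
    · have := (mem_normalizer_iff.1 (inv_mem (h'.L_norm1 hl')) b).1 hb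
      rwa [inv_inv] at this
    · intro e
      apply hab
      have e3 : l * a * l⁻¹ * (l * g * l' * (l'⁻¹ * b * l') * (l * g * l')⁻¹) =
          l * (a * (g * b * g⁻¹)) * l⁻¹ := by group
      have e4 : l * g * l' * (l'⁻¹ * b * l') * (l * g * l')⁻¹ * (l * a * l⁻¹) =
          l * (g * b * g⁻¹ * a) * l⁻¹ := by group
      rw [e3, e4] at e
      exact mul_left_cancel (mul_right_cancel e)

/-- STEP F: if `C₁ = ⟨M, L₂⟩`, `M = C₁ ∩ C₂`, and `F₁` is transitive on `V₁^M`, then `⟨V₁^{C₁}⟩` is abelian. -/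
theorem stepF (h : Base T V₁ V₂ L₁ L₂ v₁ v₂ s) (hg : cz v₁ ≤ (cz v₁ ⊓ cz v₂) ⊔ L₂)
    (ht : ∀ m ∈ cz v₁ ⊓ cz v₂, ∃ f ∈ cz v₁ ⊓ centralizer (nc v₁ {v₂} : Set G),
      f⁻¹ * m ∈ normalizer (V₁ : Set G)) :
    ∀ c ∈ cz v₁, ∀ a ∈ V₁, ∀ b ∈ V₁, a * (c * b * c⁻¹) = c * b * c⁻¹ * a := by
  set F := cz v₁ ⊓ centralizer (nc v₁ {v₂} : Set G) with hF
  -- `N' = ⟨V₁^{F₁}⟩`
  set N : Subgroup G := closure {y : G | ∃ f ∈ F, ∃ a ∈ V₁, y = f * a * f⁻¹} with hN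
  have hsub : ∀ f ∈ F, ∀ a ∈ V₁, f * a * f⁻¹ ∈ N := fun f hf a ha => subset_closure ⟨f, hf, a, ha, rfl⟩
  have hV : V₁ ≤ N := fun a ha => by simpa using hsub 1 (one_mem _) a ha
  have hFM : F ≤ cz v₁ ⊓ cz v₂ := h.F1_le
  have hnorm : ∀ g ∈ cz v₁, (∀ f ∈ F, ∀ a ∈ V₁, g * (f * a * f⁻¹) * g⁻¹ ∈ N) → g ∈ normalizer (N : Set G) := by
    intro g hg hga
    apply mem_normalizer_of_map_le
    rw [hN, MonoidHom.map_closure, closure_le]
    rintro _ ⟨y, ⟨f, hf, a, ha, rfl⟩, rfl⟩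
    exact hga f hf a ha
  have hM : cz v₁ ⊓ cz v₂ ≤ normalizer (N : Set G) := by
    intro m hm
    refine hnorm m hm.1 fun f hf a ha => ?_
    obtain ⟨f', hf', h1⟩ := ht (m * f) (mul_mem hm (hFM hf))
    have e : m * (f * a * f⁻¹) * m⁻¹ = f' * ((f'⁻¹ * (m * f)) * a * (f'⁻¹ * (m * f))⁻¹) * f'⁻¹ := by group
    rw [e]
    exact hsub f' hf' _ ((mem_normalizer_iff.1 h1 a).1 ha)
  have hL : L₂ ≤ normalizer (N : Set G) := by
    intro l hl
    refine hnorm l (h.L2_le hl) fun f hf a ha => ?_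
    have h1 : l * f * l⁻¹ ∈ F := (mem_normalizer_iff.1 (h.F1_norm (h.L2_le hl)) f).1 hf
    have e : l * (f * a * f⁻¹) * l⁻¹ = (l * f * l⁻¹) * (l * a * l⁻¹) * (l * f * l⁻¹)⁻¹ := by group
    have e2 : l * a * l⁻¹ = a := by rw [h.L21 l hl a ha, mul_inv_cancel_right]
    rw [e, e2]
    exact hsub _ h1 a ha
  have hN2 : N ≤ nc v₂ {v₁} := by
    rw [hN, closure_le]
    rintro _ ⟨f, hf, a, ha, rfl⟩
    exact (mem_normalizer_iff.1 (le_normalizer_nc v₂ {v₁} (hFM hf).2) a).1 (h.V1_le_N2 ha)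
  intro c hc a ha b hb
  have h1 : c ∈ normalizer (N : Set G) := (sup_le hM hL) (hg hc)
  have h2 : c * b * c⁻¹ ∈ N := (mem_normalizer_iff.1 h1 b).1 (hV hb)
  exact h.symm.N1_comm (h.V1_le_N2 ha) (hN2 h2)

end Base

/-- The configuration from `IId.Two` (helper774). -/
theorem of_two [Finite G] (hG : IsCharacteristicTwoType G) {S : Sylow 2 G} {So V₁ V₂ L₁ L₂ : Subgroup G}
    (h : IId.Two (S : Subgroup G) So V₁ V₂ L₁ L₂) (hz : Nat.card (zc (S : Subgroup G)) = 2)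
    (hc : Nat.card V₁ = 4) {s v : G} (hs : s ∈ (S : Subgroup G)) (hs1 : s ∉ So) (hv : v ∈ V₁) (hv1 : v ≠ 1)
    (hvS : ∀ x ∈ So, x * v = v * x)
    (syl : ∀ U : Subgroup G, IsPGroup 2 U → So ≤ U → (∀ x ∈ U, x * v = v * x) → U ≤ So) :
    Base So V₁ V₂ L₁ L₂ v (s * v * s⁻¹) s := by
  have two := IId.Two.two_cosets h.SoS h.card
  have ss : s * s ∈ So := by
    have h1 := two s⁻¹ (inv_mem hs) s hs (fun h1 => hs1 (inv_mem_iff.1 h1)) hs1
    rwa [inv_inv] at h1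
  have conjS : ∀ x ∈ So, s * x * s⁻¹ ∈ So := fun x hx => IId.Two.conj_mem_of_two h.SoS two hs hx
  have conjS' : ∀ x ∈ So, s⁻¹ * x * s ∈ So := fun x hx => by
    have h1 := IId.Two.conj_mem_of_two h.SoS two (inv_mem hs) hx
    rwa [inv_inv] at h1
  have pSo : IsPGroup 2 So := S.isPGroup'.to_le h.SoS
  have hw : s * v * s⁻¹ ∈ V₂ := h.sw1 s hs hs1 v hv
  have hw1 : s * v * s⁻¹ ≠ 1 := fun h1 => hv1 (by
    have h2 : v = s⁻¹ * (s * v * s⁻¹) * s := by group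
    rw [h2, h1]; group)
  have hwS : ∀ x ∈ So, x * (s * v * s⁻¹) = s * v * s⁻¹ * x := by
    intro x hx
    have h1 := hvS _ (conjS' x hx)
    calc x * (s * v * s⁻¹) = s * (s⁻¹ * x * s * v) * s⁻¹ := by group
      _ = s * (v * (s⁻¹ * x * s)) * s⁻¹ := by rw [h1]
      _ = s * v * s⁻¹ * x := by group
  have sws : s * (s * v * s⁻¹) * s⁻¹ = v := by
    have h1 := hvS _ ss
    calc s * (s * v * s⁻¹) * s⁻¹ = s * s * v * (s * s)⁻¹ := by group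
      _ = v := by rw [h1]; group
  have vv : v * v = 1 := by rw [← pow_two]; exact h.q1 v hv
  have ww : s * v * s⁻¹ * (s * v * s⁻¹) = 1 := by rw [← pow_two]; exact h.q2 _ hw
  have vwc : v * (s * v * s⁻¹) = s * v * s⁻¹ * v := h.c12 v hv _ hw
  have hvw : v ≠ s * v * s⁻¹ := fun h1 => hv1 (h.inf v hv (by rw [h1]; exact hw))
  have zne : v * (s * v * s⁻¹) ≠ 1 := fun h1 => hvw (mul_right_cancel (h1.trans ww.symm))
  have card2 : Nat.card V₂ = 4 := by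
    have h1 : V₁.map (MulAut.conj s).toMonoidHom ≤ V₂ := by
      rintro _ ⟨y, hy, rfl⟩
      exact h.sw1 s hs hs1 y hy
    have h2 : V₂.map (MulAut.conj s).toMonoidHom ≤ V₁ := by
      rintro _ ⟨y, hy, rfl⟩
      exact h.sw2 s hs hs1 y hy
    have h3 := card_le_of_le h1
    have h4 := card_le_of_le h2
    rw [card_map_of_injective (MulAut.conj s).injective] at h3 h4
    omega
  -- an element of `Ω₁Z(So)` fixed by `s` is `1` or `v w`
  have fixs : ∀ x ∈ So, x * x = 1 → (∀ t ∈ So, t * x = x * t) → s * x * s⁻¹ = x →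
      x = 1 ∨ x = v * (s * v * s⁻¹) := by
    intro x hx hx2 hxc hxs
    have mem : ∀ y ∈ So, y * y = 1 → (∀ t ∈ So, t * y = y * t) → s * y * s⁻¹ = y →
        y ∈ zc (S : Subgroup G) := by
      intro y hy hy2 hyc hys
      refine mem_zc.2 ⟨h.SoS hy, fun b hb => ?_, by rw [pow_two, hy2]⟩
      by_cases hb1 : b ∈ So
      · exact hyc b hb1
      · have h1 : s⁻¹ * b ∈ So := two s hs b hb hs1 hb1
        have h2 := hyc _ h1
        have h3 : s * y = y * s := mul_inv_eq_iff_eq_mul.1 hys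
        calc b * y = s * (s⁻¹ * b * y) := by group
          _ = s * y * (s⁻¹ * b) := by rw [h2]; group
          _ = y * b := by rw [h3]; group
    have h1 := mem x hx hx2 hxc hxs
    have h2 : v * (s * v * s⁻¹) ∈ zc (S : Subgroup G) := by
      refine mem _ (mul_mem (h.V1So hv) (h.V2So hw)) ?_ (fun t ht => ?_) ?_
      · calc v * (s * v * s⁻¹) * (v * (s * v * s⁻¹)) = v * (s * v * s⁻¹ * v) * (s * v * s⁻¹) := by group
          _ = v * v * (s * v * s⁻¹ * (s * v * s⁻¹)) := by rw [← vwc]; group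
          _ = 1 := by rw [vv, ww, one_mul]
      · calc t * (v * (s * v * s⁻¹)) = t * v * (s * v * s⁻¹) := by group
          _ = v * (t * (s * v * s⁻¹)) := by rw [hvS t ht]; group
          _ = v * (s * v * s⁻¹) * t := by rw [hwS t ht]; group
      · calc s * (v * (s * v * s⁻¹)) * s⁻¹ = s * v * s⁻¹ * (s * (s * v * s⁻¹) * s⁻¹) := by group
          _ = v * (s * v * s⁻¹) := by rw [sws, vwc]
    exact IId.Two.eq_or_eq_of_card_two hz h2 zne h1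
  have fixS : ∀ x ∈ So, x * x = 1 → (∀ t ∈ So, t * x = x * t) →
      x = 1 ∨ x = v ∨ x = s * v * s⁻¹ ∨ x = v * (s * v * s⁻¹) := by
    intro x hx hx2 hxc
    -- `y = x x^s` is fixed by `s`
    have hsx : s * x * s⁻¹ ∈ So := conjS x hx
    have hsxc : ∀ t ∈ So, t * (s * x * s⁻¹) = s * x * s⁻¹ * t := by
      intro t ht
      have h1 := hxc _ (conjS' t ht)
      calc t * (s * x * s⁻¹) = s * (s⁻¹ * t * s * x) * s⁻¹ := by group
        _ = s * (x * (s⁻¹ * t * s)) * s⁻¹ := by rw [h1]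
        _ = s * x * s⁻¹ * t := by group
    have hsx2 : s * x * s⁻¹ * (s * x * s⁻¹) = 1 := by
      calc s * x * s⁻¹ * (s * x * s⁻¹) = s * (x * x) * s⁻¹ := by group
        _ = 1 := by rw [hx2]; group
    have hcomm : x * (s * x * s⁻¹) = s * x * s⁻¹ * x := hsxc x hx
    have hssx : s * (s * x * s⁻¹) * s⁻¹ = x := by
      have h1 := hxc _ ss
      calc s * (s * x * s⁻¹) * s⁻¹ = s * s * x * (s * s)⁻¹ := by group
        _ = x := by rw [h1]; group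
    have key : ∀ y ∈ So, y * y = 1 → (∀ t ∈ So, t * y = y * t) → y * (s * y * s⁻¹) = 1 →
        y = 1 ∨ y = v * (s * v * s⁻¹) := by
      intro y hy hy2 hyc hys
      refine fixs y hy hy2 hyc ?_
      have h1 : s * y * s⁻¹ = y⁻¹ := eq_inv_of_mul_eq_one_right hys
      rw [h1]
      exact inv_eq_of_mul_eq_one_left hy2
    have h1 : x * (s * x * s⁻¹) = 1 ∨ x * (s * x * s⁻¹) = v * (s * v * s⁻¹) := by
      refine fixs _ (mul_mem hx hsx) ?_ (fun t ht => ?_) ?_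
      · calc x * (s * x * s⁻¹) * (x * (s * x * s⁻¹)) = x * (s * x * s⁻¹ * x) * (s * x * s⁻¹) := by group
          _ = x * x * (s * x * s⁻¹ * (s * x * s⁻¹)) := by rw [← hcomm]; group
          _ = 1 := by rw [hx2, hsx2, one_mul]
      · calc t * (x * (s * x * s⁻¹)) = t * x * (s * x * s⁻¹) := by group
          _ = x * (t * (s * x * s⁻¹)) := by rw [hxc t ht]; group
          _ = x * (s * x * s⁻¹) * t := by rw [hsxc t ht]; group
      · calc s * (x * (s * x * s⁻¹)) * s⁻¹ = s * x * s⁻¹ * (s * (s * x * s⁻¹) * s⁻¹) := by group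
          _ = x * (s * x * s⁻¹) := by rw [hssx, hcomm]
    rcases h1 with h1 | h1
    · rcases key x hx hx2 hxc h1 with h2 | h2
      · exact Or.inl h2
      · exact Or.inr (Or.inr (Or.inr h2))
    · -- `y = x v`
      have hxv : x * v = v * x := (hxc v (h.V1So hv)).symm
      have hy : (x * v) * (s * (x * v) * s⁻¹) = 1 := by
        calc (x * v) * (s * (x * v) * s⁻¹) = x * (v * (s * x * s⁻¹)) * (s * v * s⁻¹) := by group
          _ = x * (s * x * s⁻¹) * v * (s * v * s⁻¹) := by rw [hsxc v (h.V1So hv)]; group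
          _ = v * (s * v * s⁻¹ * v) * (s * v * s⁻¹) := by rw [h1]; group
          _ = v * v * (s * v * s⁻¹ * (s * v * s⁻¹)) := by rw [← vwc]; group
          _ = 1 := by rw [vv, ww, one_mul]
      rcases key (x * v) (mul_mem hx (h.V1So hv)) (by
          calc x * v * (x * v) = x * (v * x) * v := by group
            _ = (x * x) * (v * v) := by rw [← hxv]; group
            _ = 1 := by rw [hx2, vv, one_mul]) (fun t ht => by
          calc t * (x * v) = t * x * v := by group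
            _ = x * (t * v) := by rw [hxc t ht]; group
            _ = x * v * t := by rw [hvS t ht]; group) hy with h2 | h2
      · right; left
        calc x = x * v * v := by rw [mul_assoc, vv, mul_one]
          _ = v := by rw [h2, one_mul]
      · right; right; left
        calc x = x * v * v := by rw [mul_assoc, vv, mul_one]
          _ = v * (s * v * s⁻¹ * v) := by rw [h2]; group
          _ = v * v * (s * v * s⁻¹) := by rw [← vwc]; group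
          _ = s * v * s⁻¹ := by rw [vv, one_mul]
  have ch1 : cz v ⊓ centralizer (ZN.o2 (cz v) : Set G) ≤ ZN.o2 (cz v) :=
    char2_centralizer hG (h.q1 v hv) hv1
  have ch2 : cz (s * v * s⁻¹) ⊓ centralizer (ZN.o2 (cz (s * v * s⁻¹)) : Set G) ≤ ZN.o2 (cz (s * v * s⁻¹)) :=
    char2_centralizer hG (h.q2 _ hw) hw1
  have half1 := h.half hv hv1 (H := cz v) (fun x hx => mem_cz.1 hx) ch1 (fun x hx => mem_cz.2 (hvS x hx))
    (fun l hl => mem_cz.2 (h.L21 l hl v hv))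
  have half2 := h.symm.half hw hw1 (H := cz (s * v * s⁻¹)) (fun x hx => mem_cz.1 hx) ch2
    (fun x hx => mem_cz.2 (hwS x hx)) (fun l hl => mem_cz.2 (h.L12 l hl _ hw))
  exact
  { C2T := hG
    pT := pSo
    V1T := h.V1So
    V2T := h.V2So
    card1 := hc
    card2 := card2
    c1 := h.c1
    c2 := h.c2
    q1 := fun x hx => by rw [← pow_two]; exact h.q1 x hx
    q2 := fun x hx => by rw [← pow_two]; exact h.q2 x hx
    c12 := h.c12
    inf := h.inf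
    vV1 := hv
    vV2 := hw
    v1 := hv1
    v2 := hw1
    Tv1 := hvS
    Tv2 := hwS
    T1 := h.So1
    T2 := h.So2
    L1 := h.L1
    L2 := h.L2
    L12 := h.L12
    L21 := h.L21
    t1 := h.t1
    t2 := h.t2
    fix := fixS
    syl1 := syl
    syl2 := fun U hU hSU hUc => by
      have h1 : U.map (MulAut.conj s⁻¹).toMonoidHom ≤ So := by
        refine syl _ (hU.map _) (fun x hx => ?_) ?_
        · refine ⟨s * x * s⁻¹, hSU (conjS x hx), ?_⟩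
          change s⁻¹ * (s * x * s⁻¹) * s⁻¹⁻¹ = x
          group
        · rintro _ ⟨y, hy, rfl⟩
          have h2 := hUc y hy
          change s⁻¹ * y * s⁻¹⁻¹ * v = v * (s⁻¹ * y * s⁻¹⁻¹)
          calc s⁻¹ * y * s⁻¹⁻¹ * v = s⁻¹ * (y * (s * v * s⁻¹)) * s := by group
            _ = s⁻¹ * (s * v * s⁻¹ * y) * s := by rw [h2]
            _ = v * (s⁻¹ * y * s⁻¹⁻¹) := by group
      intro y hy
      have h2 : s⁻¹ * y * s ∈ So := by
        have := h1 ⟨y, hy, rfl⟩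
        change s⁻¹ * y * s⁻¹⁻¹ ∈ So at this
        rwa [inv_inv] at this
      have h3 := conjS _ h2
      have e : s * (s⁻¹ * y * s) * s⁻¹ = y := by group
      rwa [e] at h3
    half1 := half1.1
    half2 := half2.1
    halfc1 := fun x hx y hy => (mem_centralizer_iff.1 (half1.2 hx) y hy).symm
    halfc2 := fun x hx y hy => (mem_centralizer_iff.1 (half2.2 hx) y hy).symm
    sT := conjS
    s1 := h.sw1 s hs hs1
    s2 := h.sw2 s hs hs1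
    sv1 := rfl
    sv2 := sws }

end Cfsg.Agent.Omega.IId.One

end

section


/-!
# II.d, `q = 2`, CASE 1: `⟨C₁, C₂⟩` is nonlocal (helper593 #14067 (N))

`h : Base T V₁ V₂ L₁ L₂ v₁ v₂ s`, `|U| ≤ 2|T|` for every 2-group `U ≥ T`.

* `swap` : if `O` is a 2-group normalised by `T`, `O ≰ T`, `TO` a 2-group, then the elements of `O - T`
  interchange `v₁` and `v₂`;
* `o2_le_T` : `O₂(H) ≤ T` for every `H ≥ T, L₂` (`H` arbitrary);
* `vi_mem_zc` : `v₁, v₂ ∈ Ω₁Z(O₂(H))` for `H = N_G(U) ≥ T, L₂`, `U` a nontrivial 2-group;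
* `nonLoc_mixed` : `⟨C₁, C₂⟩` is nonlocal, if there is a second `Base T V₁' V₂' L₁' L₂' v₁ v₂ s` and `c ∈ C₁` with
  `[V₁, V₁'^c] ≠ 1`; `nonLoc` : the case `V₁' = V₁`;
* `card_le_two` : the hypothesis on `|U|` from `IId.Two`.
-/

set_option autoImplicit false
set_option linter.dupNamespace false
set_option linter.unusedSectionVars false

namespace Cfsg.Agent.Omega.IId.One

open Subgroup Cfsg Cfsg.Agent.ZN Cfsg.Agent.Omega.MinPar Cfsg.Agent.MinSimple.VModule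
open Cfsg.Agent.MinSimple.Basic
open Cfsg.Agent.Omega.IId.Two (le_normalizer_of)
open Cfsg.Agent.Omega

universe u

variable {G : Type u} [Group G]

namespace Base

variable [Finite G] {T V₁ V₂ L₁ L₂ : Subgroup G} {v₁ v₂ s : G}

section basic

variable (h : Base T V₁ V₂ L₁ L₂ v₁ v₂ s)
  (hT2 : ∀ U : Subgroup G, IsPGroup 2 U → T ≤ U → Nat.card U ≤ 2 * Nat.card T)

include h hT2

/-- The elements of `U - T`, `U ≥ T` a 2-group, interchange `v₁` and `v₂`. -/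
theorem swap {U : Subgroup G} (hU : IsPGroup 2 U) (hTU : T ≤ U) {x : G} (hx : x ∈ U) (hxT : x ∉ T) :
    x * v₁ * x⁻¹ = v₂ ∧ x * v₂ * x⁻¹ = v₁ := by
  have hne : T ≠ U := fun e => hxT (e ▸ hx)
  have hc : Nat.card U = 2 * Nat.card T := by
    have h1 := Half.card_mul_relIndex hTU
    have h2 := hT2 U hU hTU
    have h3 : 0 < Nat.card T := Nat.card_pos
    have h4 : T.relIndex U ≠ 1 := fun h5 => hne (le_antisymm hTU (relIndex_eq_one.mp h5))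
    have h5 : T.relIndex U ≠ 0 := by
      intro h6
      rw [h6, mul_zero] at h1
      have : 0 < Nat.card U := Nat.card_pos
      omega
    have h6 : T.relIndex U ≤ 2 := by
      by_contra h7
      push Not at h7
      nlinarith
    have h7 : T.relIndex U = 2 := by omega
    rw [← h1, h7, mul_comm]
  have two := IId.Two.two_cosets hTU hc
  have conjT : ∀ {y z : G}, y ∈ U → z ∈ T → y * z * y⁻¹ ∈ T := fun hy hz =>
    IId.Two.conj_mem_of_two hTU two hy hz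
  -- `x` acts on `Y`
  have hY : ∀ y ∈ T, y * y = 1 → (∀ t ∈ T, t * y = y * t) →
      x * y * x⁻¹ = 1 ∨ x * y * x⁻¹ = v₁ ∨ x * y * x⁻¹ = v₂ ∨ x * y * x⁻¹ = v₁ * v₂ := by
    intro y hy hy2 hyc
    refine h.fix _ (conjT hx hy) ?_ fun t ht => ?_
    · calc x * y * x⁻¹ * (x * y * x⁻¹) = x * (y * y) * x⁻¹ := by group
        _ = 1 := by rw [hy2]; group
    · have h1 : x⁻¹ * t * x ∈ T := by
        have := conjT (inv_mem hx) ht
        rwa [inv_inv] at this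
      have h2 := hyc _ h1
      calc t * (x * y * x⁻¹) = x * (x⁻¹ * t * x * y) * x⁻¹ := by group
        _ = x * y * x⁻¹ * t := by rw [h2]; group
  have hY1 := hY v₁ (h.V1T h.vV1) h.vq1 h.Tv1
  have hY2 := hY v₂ (h.V2T h.vV2) h.vq2 h.Tv2
  have inv_of : ∀ y z : G, x * y * x⁻¹ = z → y = x⁻¹ * z * x := by
    rintro y z rfl
    group
  -- `x` does not centralise `v₁` or `v₂`
  have nfix : ∀ w : G, (∀ t ∈ T, t * w = w * t) → x * w = w * x →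
      ∀ y ∈ U, y * w = w * y := by
    intro w hw hxw y hy
    by_cases hyT : y ∈ T
    · exact hw y hyT
    · have h1 := hw _ (two x hx y hy hxT hyT)
      calc y * w = x * (x⁻¹ * y * w) := by group
        _ = (x * w) * (x⁻¹ * y) := by rw [h1]; group
        _ = w * y := by rw [hxw]; group
  have hn1 : x * v₁ * x⁻¹ ≠ v₁ := fun e =>
    hxT (h.syl1 U hU hTU (nfix v₁ h.Tv1 (mul_inv_eq_iff_eq_mul.1 e)) hx)
  have hn2 : x * v₂ * x⁻¹ ≠ v₂ := fun e =>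
    hxT (h.syl2 U hU hTU (nfix v₂ h.Tv2 (mul_inv_eq_iff_eq_mul.1 e)) hx)
  -- `x² ∈ T`
  have hxx : x * x ∈ T := by
    have h1 := two x⁻¹ (inv_mem hx) x hx (fun h2 => hxT (inv_mem_iff.1 h2)) hxT
    rwa [inv_inv] at h1
  have x2 : ∀ w : G, (∀ t ∈ T, t * w = w * t) → x * (x * w * x⁻¹) * x⁻¹ = w := by
    intro w hw
    calc x * (x * w * x⁻¹) * x⁻¹ = (x * x) * w * (x * x)⁻¹ := by group
      _ = w := by rw [hw _ hxx]; group
  have e1 : x * v₁ * x⁻¹ = v₂ := by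
    rcases hY1 with h1 | h1 | h1 | h1
    · exfalso; apply h.v1; rw [inv_of _ _ h1]; group
    · exact absurd h1 hn1
    · exact h1
    · exfalso
      -- `x (v₁v₂) x⁻¹ = v₁`, so `x` fixes `v₂`
      have h2 := x2 v₁ h.Tv1
      rw [h1] at h2
      have h3 : x * (v₁ * v₂) * x⁻¹ = (x * v₁ * x⁻¹) * (x * v₂ * x⁻¹) := by group
      rw [h3, h1] at h2
      apply hn2
      have h4 : x * v₂ * x⁻¹ = (v₁ * v₂)⁻¹ * v₁ := eq_inv_mul_of_mul_eq h2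
      rw [h4, mul_inv_rev, mul_assoc, inv_mul_cancel, mul_one]
      exact inv_eq_of_mul_eq_one_left h.vq2
  refine ⟨e1, ?_⟩
  have h2 := x2 v₁ h.Tv1
  rwa [e1] at h2

/-- `O₂(H) ≤ T` for `H ≥ T, L₂`. -/
theorem o2_le_T {H : Subgroup G} (hTH : T ≤ H) (hL : L₂ ≤ H) : ZN.o2 H ≤ T := by
  obtain ⟨U, h1, h2, h3, h4⟩ := Half.exists_sylow_le h.pT hTH
  have h5 : ZN.o2 H ≤ U := o2_le_of_sylow h3 h4
  intro x hx
  by_contra hxT
  have key : ∀ y ∈ ZN.o2 H, y ∉ T → y * v₁ * y⁻¹ = v₂ := fun y hy hyT =>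
    (h.swap hT2 h3 h1 (h5 hy) hyT).1
  -- an element `l ∈ L₂` moving `v₂`
  obtain ⟨w, hw, hw1, hw2⟩ : ∃ w ∈ V₂, w ≠ 1 ∧ w ≠ v₂ := by
    by_contra hcon
    push Not at hcon
    have h6 : V₂ ≤ zpowers v₂ := by
      intro y hy
      by_cases hy1 : y = 1
      · rw [hy1]; exact one_mem _
      · rw [hcon y hy hy1]; exact mem_zpowers _
    have h7 := card_le_of_le h6
    rw [h.card2, Nat.card_zpowers] at h7
    have h8 : orderOf v₂ ≤ 2 := orderOf_le_of_pow_eq_one (by norm_num) (by rw [pow_two, h.vq2])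
    omega
  obtain ⟨l, hl, hlw⟩ := h.t2 v₂ h.vV2 h.v2 w hw hw1
  have hlx : l * x * l⁻¹ ∈ ZN.o2 H := (mem_normalizer_iff.1 (le_normalizer_o2 H (hL hl)) x).1 hx
  have hl1 : l⁻¹ * v₁ * l = v₁ := by
    calc l⁻¹ * v₁ * l = l⁻¹ * (v₁ * l) := by group
      _ = v₁ := by rw [← h.L21 l hl v₁ h.vV1]; group
  have e1 : l * x * l⁻¹ * v₁ * (l * x * l⁻¹)⁻¹ = w := by
    calc l * x * l⁻¹ * v₁ * (l * x * l⁻¹)⁻¹ = l * (x * (l⁻¹ * v₁ * l) * x⁻¹) * l⁻¹ := by group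
      _ = w := by rw [hl1, key x hx hxT, hlw]
  by_cases hlT : l * x * l⁻¹ ∈ T
  · have h6 := h.Tv1 _ hlT
    rw [h6, mul_inv_cancel_right] at e1
    exact h.v1 (h.inf v₁ h.vV1 (e1 ▸ hw))
  · rw [key _ hlx hlT] at e1
    exact hw2 e1.symm

/-- `v₁, v₂ ∈ Ω₁Z(O₂(H))`, `H = N_G(U) ≥ T, L₂`. -/
theorem vi_mem_zc {U : Subgroup G} (hU : IsPGroup 2 U) (hU1 : U ≠ ⊥) (hTU : T ≤ normalizer (U : Set G))
    (hL : L₂ ≤ normalizer (U : Set G)) :
    v₁ ∈ zc (ZN.o2 (normalizer (U : Set G))) ∧ v₂ ∈ zc (ZN.o2 (normalizer (U : Set G))) := by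
  have h1 := h.o2_le_T hT2 hTU hL
  have h2 := char2_normalizer h.C2T hU hU1
  have key : ∀ w ∈ T, (∀ t ∈ T, t * w = w * t) → w * w = 1 → w ∈ zc (ZN.o2 (normalizer (U : Set G))) := by
    intro w hw hwc hw2
    have h3 : ∀ y ∈ ZN.o2 (normalizer (U : Set G)), y * w = w * y := fun y hy => hwc y (h1 hy)
    refine mem_zc.2 ⟨h2 ⟨hTU hw, mem_centralizer_iff.2 h3⟩, h3, by rw [pow_two, hw2]⟩
  exact ⟨key v₁ (h.V1T h.vV1) h.Tv1 h.vq1, key v₂ (h.V2T h.vV2) h.Tv2 h.vq2⟩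

end basic

/-- **`⟨C₁, C₂⟩` is nonlocal** (mixed pair). -/
theorem nonLoc_mixed {V₁' V₂' L₁' L₂' : Subgroup G} (h : Base T V₁ V₂ L₁ L₂ v₁ v₂ s)
    (h' : Base T V₁' V₂' L₁' L₂' v₁ v₂ s)
    (hT2 : ∀ U : Subgroup G, IsPGroup 2 U → T ≤ U → Nat.card U ≤ 2 * Nat.card T)
    (hm : ∃ c ∈ cz v₁, ∃ a ∈ V₁, ∃ b ∈ V₁', a * (c * b * c⁻¹) ≠ c * b * c⁻¹ * a)
    {U : Subgroup G} (hU : IsPGroup 2 U) (h1 : cz v₁ ≤ normalizer (U : Set G))
    (h2 : cz v₂ ≤ normalizer (U : Set G)) : U = ⊥ := by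
  by_contra hU1
  have hz := h.vi_mem_zc hT2 hU hU1 (h.T_le.trans h1) (h.L2_le.trans h1)
  have hn : normalizer (U : Set G) ≤ normalizer (zc (ZN.o2 (normalizer (U : Set G))) : Set G) :=
    (le_normalizer_o2 _).trans (normalizer_le_normalizer_zc _)
  have hV : V₁ ≤ zc (ZN.o2 (normalizer (U : Set G))) := h.V1_le_of (h.L1_le.trans (h2.trans hn)) hz.1
  have hV' : V₁' ≤ zc (ZN.o2 (normalizer (U : Set G))) := h'.V1_le_of (h'.L1_le.trans (h2.trans hn)) hz.1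
  obtain ⟨c, hc, a, ha, b, hb, hne⟩ := hm
  exact hne (zc_comm _ a (hV ha) _ ((mem_normalizer_iff.1 (hn (h1 hc)) b).1 (hV' hb)))

/-- **`⟨C₁, C₂⟩` is nonlocal.** -/
theorem nonLoc (h : Base T V₁ V₂ L₁ L₂ v₁ v₂ s)
    (hT2 : ∀ U : Subgroup G, IsPGroup 2 U → T ≤ U → Nat.card U ≤ 2 * Nat.card T)
    (hm : ∃ c ∈ cz v₁, ∃ a ∈ V₁, ∃ b ∈ V₁, a * (c * b * c⁻¹) ≠ c * b * c⁻¹ * a)
    {U : Subgroup G} (hU : IsPGroup 2 U) (h1 : cz v₁ ≤ normalizer (U : Set G))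
    (h2 : cz v₂ ≤ normalizer (U : Set G)) : U = ⊥ := h.nonLoc_mixed h hT2 hm hU h1 h2

end Base

/-- `|U| ≤ 2|So|` for every 2-group `U`. -/
theorem card_le_two [Finite G] {S : Sylow 2 G} {So V₁ V₂ L₁ L₂ : Subgroup G}
    (h : IId.Two (S : Subgroup G) So V₁ V₂ L₁ L₂) (U : Subgroup G) (hU : IsPGroup 2 U) :
    Nat.card U ≤ 2 * Nat.card So := by
  rw [← h.card]
  obtain ⟨Q, hQ⟩ := hU.exists_le_sylow
  have h1 : Nat.card (Q : Subgroup G) = Nat.card (S : Subgroup G) := by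
    have : Fact (Nat.Prime 2) := ⟨Nat.prime_two⟩
    rw [Q.card_eq_multiplicity, S.card_eq_multiplicity]
  rw [← h1]
  exact card_le_of_le hQ

end Cfsg.Agent.Omega.IId.One

end
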