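import Cfsg.Agent.Mrg.Omega.IId.PlaneSy
import Cfsg.Agent.Mrg.Omega.IId.OneBase
import Cfsg.Agent.Mrg.Omega.VP
import Cfsg.Agent.Mrg.Omega.TV.Sym

section


/-!
# II.d, CASE 1, `q = 2`: KILL OF `Sp₄(2)` (#14451; referee #14584)

`One`, case B (`[N₁, N₂] ≠ 1`), `|N₁| = 32` and an invariant quadratic form on `N₁` with radical `⟨v₁⟩`:
impossible.
-/

set_option autoImplicit false

namespace Cfsg.Agent.Omega.IId.SpKill

open Subgroup Cfsg.Agent.Omega.NoFF.Basic Cfsg Cfsg.Agent.ZN Cfsg.Agent.Omega.IId.SpSide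
open Cfsg.Agent.Omega.IId.SpForm Cfsg.Agent.Omega.IId.One
open scoped Pointwise

universe u

variable {G : Type u} [Group G]

section

variable {T V₁ V₂ L₁ L₂ : Subgroup G} {v₁ v₂ s : G}

/-- `N₁ = ⟨V₂^{C₁}⟩` -/
abbrev NN (v₁ : G) (V₂ : Subgroup G) : Subgroup G := nc v₁ (V₂ : Set G)

theorem V2_le_NN (v₁ : G) (V₂ : Subgroup G) : V₂ ≤ NN v₁ V₂ := subset_nc v₁ _

section basic

variable (h : Base T V₁ V₂ L₁ L₂ v₁ v₂ s)
include h

/-- `N₁ ≤ O₂(C₁)` -/
theorem NN_le_o2 : NN v₁ V₂ ≤ ZN.o2 (cz v₁) := nc_le h.half1 (le_normalizer_o2 _)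

/-- `O₂(C₁)` centralises `N₁`. -/
theorem NN_le_cent : NN v₁ V₂ ≤ centralizer (ZN.o2 (cz v₁) : Set G) := by
  refine nc_le (fun x hx => ?_) ?_
  · rw [SetLike.mem_coe, mem_centralizer_iff]
    exact fun y hy => h.halfc1 y hy x hx
  · intro c hc
    apply mem_normalizer_of_conj
    rw [Side.conj_centralizer, SpSide.conj_eq (le_normalizer_o2 _ hc)]

theorem NN_comm : NN v₁ V₂ ≤ centralizer (NN v₁ V₂ : Set G) :=
  (NN_le_cent h).trans (centralizer_le (NN_le_o2 h))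

theorem NN_sq : ∀ x ∈ NN v₁ V₂, x * x = 1 := by
  intro x hx
  have key : NN v₁ V₂ ≤
      { carrier := {x | x ∈ NN v₁ V₂ ∧ x * x = 1}
        one_mem' := ⟨one_mem _, one_mul 1⟩
        mul_mem' := by
          rintro x y ⟨hx, hx2⟩ ⟨hy, hy2⟩
          refine ⟨mul_mem hx hy, ?_⟩
          have h1 : x * y = y * x := (mem_centralizer_iff.1 (NN_comm h hx) y hy).symm
          calc x * y * (x * y) = x * (y * x) * y := by group
            _ = x * (x * y) * y := by rw [h1]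
            _ = (x * x) * (y * y) := by group
            _ = 1 := by rw [hx2, hy2, one_mul]
        inv_mem' := by
          rintro x ⟨hx, hx2⟩
          refine ⟨inv_mem hx, ?_⟩
          rw [← mul_inv_rev, hx2, inv_one] } := by
    refine (closure_le _).2 ?_
    rintro _ ⟨g, hg, a, ha, rfl⟩
    refine ⟨conj_mem_nc hg ha, ?_⟩
    calc g * a * g⁻¹ * (g * a * g⁻¹) = g * (a * a) * g⁻¹ := by group
      _ = 1 := by rw [h.q2 a ha]; group
  exact (key hx).2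

theorem NN_le_cz2 : NN v₁ V₂ ≤ cz v₂ := by
  refine (NN_le_cent h).trans (centralizer_le ?_)
  rintro _ rfl
  exact h.half1 h.vV2

/-- `⁅N₁, N₂⁆ ≤ N₁ ∩ N₂` -/
theorem comm_le : ⁅NN v₁ V₂, NN v₂ V₁⁆ ≤ NN v₁ V₂ ⊓ NN v₂ V₁ :=
  le_inf (le_normalizer_iff_commutator_le_left.1 ((NN_le_cz2 h.symm).trans (le_normalizer_nc _ _)))
    (le_normalizer_iff_commutator_le_right.1 ((NN_le_cz2 h).trans (le_normalizer_nc _ _)))

theorem conj_V2 [Finite G] : MulAut.conj s • V₂ = V₁ := by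
  apply Subgroup.eq_of_le_of_card_ge
  · intro x hx
    rw [mem_conj] at hx
    have := h.s2 _ hx
    have e : s * (s⁻¹ * x * s) * s⁻¹ = x := by group
    rwa [e] at this
  · rw [Side.card_conj, h.card1, h.card2]

/-- conjugation by `s` -/
theorem conj_s [Finite G] : MulAut.conj s • NN v₁ V₂ = NN v₂ V₁ := by
  apply le_antisymm
  · intro x hx
    rw [mem_conj] at hx
    have := conj_nc h.sv1 h.s2 hx
    have e : s * (s⁻¹ * x * s) * s⁻¹ = x := by group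
    rwa [e] at this
  · intro x hx
    rw [mem_conj]
    have hv : s⁻¹ * v₂ * s⁻¹⁻¹ = v₁ := by rw [← h.sv1]; group
    have hA : ∀ a ∈ (V₁ : Set G), s⁻¹ * a * s⁻¹⁻¹ ∈ (V₂ : Set G) := by
      intro a ha
      have h1 : a ∈ MulAut.conj s • V₂ := by rw [conj_V2 h]; exact ha
      rw [mem_conj] at h1
      rw [inv_inv]
      exact h1
    have := conj_nc hv hA hx
    rwa [inv_inv] at this

end basic

/-- case B gives `v₁ ∈ N₁` -/
theorem v1_mem [Finite G] (h : Base T V₁ V₂ L₁ L₂ v₁ v₂ s) (hNT : ZN.o2 (cz v₁) ≤ T)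
    (hB : ¬ NN v₁ V₂ ≤ centralizer (NN v₂ V₁ : Set G)) : v₁ ∈ NN v₁ V₂ := by
  have hne : ⁅NN v₁ V₂, NN v₂ V₁⁆ ≠ ⊥ := fun e => hB (commutator_eq_bot_iff_le_centralizer.1 e)
  have hle := comm_le h
  have hT : T ≤ normalizer ((⁅NN v₁ V₂, NN v₂ V₁⁆ : Subgroup G) : Set G) := by
    intro t ht
    apply mem_normalizer_of_conj
    have h1 : MulAut.conj t • NN v₁ V₂ = NN v₁ V₂ := SpSide.conj_eq (le_normalizer_nc _ _ (h.T_le ht))
    have h2 : MulAut.conj t • NN v₂ V₁ = NN v₂ V₁ := SpSide.conj_eq (le_normalizer_nc _ _ (h.T_le2 ht))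
    have h3 : MulAut.conj t • ⁅NN v₁ V₂, NN v₂ V₁⁆ = ⁅MulAut.conj t • NN v₁ V₂, MulAut.conj t • NN v₂ V₁⁆ :=
      Subgroup.map_commutator _ _ _
    rw [h3, h1, h2]
  obtain ⟨x, hx, hx1, hxT⟩ := NoFF.LinesPlug.exists_fixed h.pT
    ((hle.trans inf_le_left).trans ((NN_le_o2 h).trans hNT)) hT hne
  have hxN : x ∈ NN v₁ V₂ := (hle hx).1
  rcases h.fix x (hNT (NN_le_o2 h hxN)) (NN_sq h x hxN) hxT with h1 | h1 | h1 | h1
  · exact absurd h1 hx1
  · exact h1 ▸ hxN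
  · have h3 : MulAut.conj s • ⁅NN v₁ V₂, NN v₂ V₁⁆ = ⁅MulAut.conj s • NN v₁ V₂, MulAut.conj s • NN v₂ V₁⁆ :=
      Subgroup.map_commutator _ _ _
    have h4 : MulAut.conj s • ⁅NN v₁ V₂, NN v₂ V₁⁆ = ⁅NN v₁ V₂, NN v₂ V₁⁆ := by
      rw [h3, conj_s h, conj_s h.symm, commutator_comm]
    have h5 : s * x * s⁻¹ ∈ MulAut.conj s • ⁅NN v₁ V₂, NN v₂ V₁⁆ := SpSide.conj_mem hx
    rw [h4, h1, h.sv2] at h5
    exact (hle h5).1
  · have h2 : x * v₂⁻¹ = v₁ := by rw [h1]; group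
    have h3 := mul_mem hxN (inv_mem (V2_le_NN v₁ _ h.vV2))
    rw [h2] at h3
    exact h3

/-- The side `(v₁, V₁, N₁)`. -/
theorem exists_side [Finite G] (h : One T V₁ V₂ L₁ L₂ v₁ v₂ s) (hV : V₁ ≤ ZN.o2 (cz v₁))
    (hK : Kk v₁ ≤ ZN.o2 (cz v₁)) (hv : v₁ ∈ NN v₁ V₂) {v' : G} (hv' : v' ∈ V₁) (hv'1 : v' ≠ 1) (hv'v : v' ≠ v₁) :
    ∃ w, ∃ l ∈ L₁, Side V₁ V₂ (NN v₁ V₂) v₁ v' w l := by
  obtain ⟨w, hw, x, hx, hwx⟩ := h.k1
  obtain ⟨l, hl, hlv⟩ := h.t1 v₁ h.vV1 h.v1 v' hv' hv'1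
  have hb := h.toBase
  have hwx' : w * x * w⁻¹ = v₁ * x := by
    rcases Kk_conj hb.vq1 hw (hV hx) with h1 | h1
    · rw [mul_inv_eq_iff_eq_mul] at h1
      exact absurd h1 hwx
    · exact h1
  have hwv : w * v₁ * w⁻¹ = v₁ := by rw [mem_cz.1 hw.1, mul_inv_cancel_right]
  -- `w` moves `v'`
  have hwv' : w * v' * w⁻¹ = v₁ * v' := by
    rcases Kk_conj hb.vq1 hw (hV hv') with h1 | h1
    · exfalso
      apply hwx
      rcases hb.mem_V1 hx hv' hv'1 hv'v with h2 | h2 | h2 | h2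
      · rw [h2]; group
      · rw [h2]; exact mem_cz.1 hw.1
      · rw [h2]; rw [mul_inv_eq_iff_eq_mul] at h1; exact h1
      · rw [h2]
        have e : w * (v₁ * v') * w⁻¹ = v₁ * v' := by
          calc w * (v₁ * v') * w⁻¹ = (w * v₁ * w⁻¹) * (w * v' * w⁻¹) := by group
            _ = v₁ * v' := by rw [hwv, h1]
        rw [mul_inv_eq_iff_eq_mul] at e
        exact e
    · exact h1
  refine ⟨w, l, hl, ?_⟩
  exact {
    memV := fun y => ⟨fun hy => hb.mem_V1 hy hv' hv'1 hv'v, by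
      rintro (rfl | rfl | rfl | rfl)
      · exact one_mem _
      · exact h.vV1
      · exact hv'
      · exact mul_mem h.vV1 hv'⟩
    v1 := h.v1
    v'1 := hv'1
    ne := Ne.symm hv'v
    vv := hb.vq1
    v'v' := h.q1 _ hv'
    comm := h.c1 _ h.vV1 _ hv'
    nor := le_normalizer_nc _ _
    ab := NN_comm hb
    sq := NN_sq hb
    WN := V2_le_NN _ _
    vN := hv
    NV := (NN_le_cent hb).trans (centralizer_le hV)
    l_v := hlv
    l_V := hb.L_norm1 hl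
    l_W := mem_centralizer_iff.2 fun y hy => (h.L12 l hl y hy).symm
    w_v' := hwv'
    w_N := mem_centralizer_iff.2 fun y hy => (mem_centralizer_iff.1 (NN_le_cent hb hy) w (hK hw)).symm
    w_Q := fun y hy => by
      rcases Kk_conj hb.vq1 hw hy with h1 | h1
      · left; rw [h1, inv_mul_cancel]
      · right
        rw [h1]
        have h2 := mem_cz.1 (o2_le _ hy)
        rw [← h2, ← mul_assoc, inv_mul_cancel, one_mul] }

theorem frm [Finite G] (h : Base T V₁ V₂ L₁ L₂ v₁ v₂ s) (hv : v₁ ∈ NN v₁ V₂) {Q : G → ZMod 2}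
    (hQ : QF (NN v₁ V₂) (cz v₁) v₁ Q) (hQ2 : Q v₂ = 0) (h32 : Nat.card (NN v₁ V₂) = 32) :
    Frm (NN v₁ V₂) V₂ (cz v₁) v₁ Q where
  toQF := hQ
  ab := fun x hx y hy => (mem_centralizer_iff.1 (NN_comm h hx) y hy).symm
  sq := NN_sq h
  WN := V2_le_NN _ _
  vN := hv
  cN := h32
  cW := h.card2
  QW := fun x hx => by
    by_cases hx1 : x = 1
    · rw [hx1]; exact hQ.Q_one
    obtain ⟨l, hl, rfl⟩ := h.t2 v₂ h.vV2 h.v2 x hx hx1
    rw [hQ.inv l (h.L2_le hl) v₂ (V2_le_NN _ _ h.vV2), hQ2]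

/-- **KILL OF `Sp₄(2)`** -/
theorem kill [Finite G] (h : One T V₁ V₂ L₁ L₂ v₁ v₂ s) (hNT : ZN.o2 (cz v₁) ≤ T) (hV : V₁ ≤ ZN.o2 (cz v₁))
    (hK : Kk v₁ ≤ ZN.o2 (cz v₁)) (hB : ¬ NN v₁ V₂ ≤ centralizer (NN v₂ V₁ : Set G)) {Q : G → ZMod 2}
    (hQ : QF (NN v₁ V₂) (cz v₁) v₁ Q) (hQ2 : Q v₂ = 0) (h32 : Nat.card (NN v₁ V₂) = 32) : False := by
  have hb := h.toBase
  have hv := v1_mem hb hNT hB
  have hs1 : s⁻¹ * v₁ * s⁻¹⁻¹ = v₂ := by rw [← h.sv2]; group
  -- side 2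
  have hv2 : v₂ ∈ NN v₂ V₁ := by
    rw [← conj_s hb, ← h.sv1]
    exact SpSide.conj_mem hv
  have hV2 : V₂ ≤ ZN.o2 (cz v₂) := by
    intro x hx
    rw [← conj_V2 hb.symm, mem_conj] at hx
    have := conj_o2_cz h.sv1 (hV hx)
    have e : s * (s⁻¹ * x * s) * s⁻¹ = x := by group
    rwa [e] at this
  have hK2 : Kk v₂ ≤ ZN.o2 (cz v₂) := by
    intro x hx
    have h1 := conj_o2_cz hs1 (hK (conj_Kk h.sv2 hx))
    have e : s⁻¹ * (s * x * s⁻¹) * s⁻¹⁻¹ = x := by group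
    rwa [e] at h1
  obtain ⟨w0, hw0, v', hv', hwv'⟩ := h.k1
  have hv'1 : v' ≠ 1 := by rintro rfl; exact hwv' (by group)
  have hv'v : v' ≠ v₁ := by rintro rfl; exact hwv' (mem_cz.1 hw0.1)
  obtain ⟨w, l, hl, S1⟩ := exists_side h hV hK hv hv' hv'1 hv'v
  have hv2' : s * v' * s⁻¹ ∈ V₂ := h.s1 v' hv'
  have hv2'1 : s * v' * s⁻¹ ≠ 1 := fun e => hv'1 (by
    calc v' = s⁻¹ * (s * v' * s⁻¹) * s := by group
      _ = 1 := by rw [e]; group)
  have hv2'v : s * v' * s⁻¹ ≠ v₂ := fun e => hv'v (by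
    calc v' = s⁻¹ * (s * v' * s⁻¹) * s := by group
      _ = s⁻¹ * (s * v₁ * s⁻¹) * s := by rw [e, h.sv1]
      _ = v₁ := by group)
  obtain ⟨w2, l2, hl2, S2⟩ := exists_side h.symm hV2 hK2 hv2 hv2' hv2'1 hv2'v
  set F : Subgroup G := NN v₁ V₂ ⊓ MulAut.conj l • NN v₁ V₂ with hF
  set E : Subgroup G := NN v₂ V₁ ⊓ MulAut.conj l2 • NN v₂ V₁ with hE
  have hFE : MulAut.conj s • F = E := by
    rw [hF, hE, Side.conj_inf, conj_s hb]
    congr 1
    rw [← conj_s hb, conj_conj, conj_conj]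
    apply S1.conj_N_eq
    have e1 : s * l * v₁ * (s * l)⁻¹ = s * (l * v₁ * l⁻¹) * s⁻¹ := by group
    have e2 : l2 * s * v₁ * (l2 * s)⁻¹ = l2 * (s * v₁ * s⁻¹) * l2⁻¹ := by group
    rw [e1, e2, S1.l_v, h.sv1, S2.l_v]
  have hfrm := frm hb hv hQ hQ2 h32
  have hL2V : L₂ ≤ centralizer (V₁ : Set G) := fun l hl => mem_centralizer_iff.2 fun y hy => (h.L21 l hl y hy).symm
  have hvF : v₁ ∉ F := fun hcon => S1.v_not_mem hcon.2
  rcases hfrm.dich (F := F) (L := L₂) inf_le_left S1.W_le_F hvF hb.L2_le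
    (hL2V.trans S1.centralizer_le_normalizer_F) h.L2 h.t2 with h1 | h1
  · -- `F = V₂`, `E = V₁`
    have hEV : E = V₁ := by rw [← hFE, h1, conj_V2 hb]
    have hCN : centralizer (NN v₁ V₂ : Set G) ≤ normalizer (V₁ : Set G) := by
      rw [← hEV]
      exact (centralizer_le (V2_le_NN v₁ V₂)).trans S2.centralizer_le_normalizer_F
    have hc4 : Nat.card F = 4 := by rw [h1, h.card2]
    by_cases hc : MulAut.conj l • NN v₁ V₂ ≤ centralizer (NN v₁ V₂ : Set G)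
    · have := S1.card_le hc hCN
      rw [← hF] at this
      omega
    · have halt : Alt (NN v₁ V₂) (MulAut.conj l • NN v₁ V₂) V₂ v₁ Q := {
        ab := hfrm.ab
        ab' := fun x hx y hy => by
          rw [mem_conj] at hx hy
          have h3 := hfrm.ab _ hx _ hy
          have h4 := congrArg (fun t => l * t * l⁻¹) h3
          simpa [mul_assoc] using h4
        sq := hfrm.sq
        WN := hfrm.WN
        WN' := S1.W_le_N'
        vN := hv
        v1 := h.v1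
        vN' := fun b hb' => (mem_centralizer_iff.1 (S1.N'_V hb') v₁ h.vV1).symm
        cm := fun x hx b hb' => by
          have := S1.comm_mem hx hb'
          rw [← hF, h1] at this
          exact this
        add := hQ.add
        inv := fun b hb' x hx => hQ.inv b (S1.centralizer_V_le (S1.N'_V hb')) x hx
        Qv := hQ.Qv
        rad := hQ.rad
        QW := hfrm.QW
        perp := hfrm.perp
        W4 := fun a ha b hb ha1 hb1 hab x hx =>
          four_mem h.card2 (fun y hy => h.q2 y hy) ha hb ha1 hb1 hab hx }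
      have c1 := halt.card_le
      have c2 := halt.card_cent_le hc
      have c3 := S1.card_cent
      have c4 : Nat.card (MulAut.conj l • NN v₁ V₂ : Subgroup G) = 32 := by rw [Side.card_conj, h32]
      have c5 := h.card2
      omega
  · -- `N₁ = F⟨v₁⟩`, `N₂ = E⟨v₂⟩`
    apply hB
    have h2 : ∀ y ∈ NN v₂ V₁, y ∈ E ∨ y * v₂ ∈ E := by
      intro y hy
      rw [← conj_s hb, mem_conj] at hy
      rcases h1 _ hy with h3 | h3
      · left
        rw [← hFE, mem_conj]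
        exact h3
      · right
        rw [← hFE, mem_conj]
        have e : s⁻¹ * (y * v₂) * s = s⁻¹ * y * s * v₁ := by
          have e2 : s⁻¹ * v₂ * s = v₁ := by rw [← h.sv1]; group
          calc s⁻¹ * (y * v₂) * s = (s⁻¹ * y * s) * (s⁻¹ * v₂ * s) := by group
            _ = s⁻¹ * y * s * v₁ := by rw [e2]
        rw [e]
        exact h3
    -- `E ∩ F = 1`
    have hEF : F ⊓ E = ⊥ := by
      by_contra hne
      have hT : T ≤ normalizer ((F ⊓ E : Subgroup G) : Set G) := by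
        intro t ht
        apply mem_normalizer_of_conj
        rw [Side.conj_inf, S1.conj_F (hb.T_le ht) (h.T1 t ht _ hv'), S2.conj_F (hb.T_le2 ht) (h.T2 t ht _ hv2')]
      obtain ⟨x, hx, hx1, hxT⟩ := NoFF.LinesPlug.exists_fixed h.pT
        ((inf_le_left.trans inf_le_left).trans ((NN_le_o2 hb).trans hNT)) hT hne
      have hxF : x ∈ F := hx.1
      have hxE : x ∈ E := hx.2
      rcases h.fix x (hNT (NN_le_o2 hb hxF.1)) (NN_sq hb x hxF.1) hxT with h3 | h3 | h3 | h3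
      · exact hx1 h3
      · exact S1.v_not_mem (h3 ▸ hxF.2)
      · exact S2.v_not_mem (h3 ▸ hxE.2)
      · -- `l2 w2 l2⁻¹` centralises `E ∋ v₁v₂`, `v₁` and moves `v₂`
        have h4 : l2 * w2 * l2⁻¹ ∈ centralizer (E : Set G) := centralizer_le (fun y hy => hy.2) S2.w'_N'
        have h5 := SpSide.fix h4 hxE
        have h6 := SpSide.fix h4 (S2.W_le_F h.vV1)
        rw [h3] at h5
        have h7 := S2.w'_v
        have h8 : l2 * w2 * l2⁻¹ * (v₁ * v₂) * (l2 * w2 * l2⁻¹)⁻¹ =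
            (l2 * w2 * l2⁻¹ * v₁ * (l2 * w2 * l2⁻¹)⁻¹) * (l2 * w2 * l2⁻¹ * v₂ * (l2 * w2 * l2⁻¹)⁻¹) := by group
        rw [h8, h6, h7] at h5
        have h9 := mul_left_cancel h5
        exact hv2'1 (mul_eq_left.1 h9)
    -- `[F, E] = 1`
    have hFEc : ∀ x ∈ F, ∀ y ∈ E, x * y = y * x := by
      intro x hx y hy
      have hxE : x ∈ normalizer (E : Set G) := by
        apply S2.centralizer_le_normalizer_F
        exact centralizer_le h.half1 (NN_le_cent hb hx.1)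
      have hyF : y ∈ normalizer (F : Set G) := by
        apply S1.centralizer_le_normalizer_F
        exact centralizer_le h.half2 (NN_le_cent hb.symm hy.1)
      have h3 : x * y * x⁻¹ * y⁻¹ ∈ F ⊓ E := by
        refine ⟨?_, E.mul_mem ((mem_normalizer_iff.1 hxE y).1 hy) (E.inv_mem hy)⟩
        have h4 := F.mul_mem hx ((mem_normalizer_iff.1 hyF x⁻¹).1 (F.inv_mem hx))
        have e : x * y * x⁻¹ * y⁻¹ = x * (y * x⁻¹ * y⁻¹) := by group
        rw [e]
        exact h4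
      rw [hEF, mem_bot] at h3
      rw [mul_inv_eq_one, mul_inv_eq_iff_eq_mul] at h3
      exact h3
    -- `v₁`, `v₂` are central in `N₁N₂`
    have c11 : ∀ x ∈ NN v₁ V₂, x * v₁ = v₁ * x := fun x hx => hfrm.ab x hx v₁ hv
    have c12 : ∀ x ∈ NN v₁ V₂, x * v₂ = v₂ * x := fun x hx => mem_cz.1 (NN_le_cz2 hb hx)
    have c21 : ∀ y ∈ NN v₂ V₁, y * v₁ = v₁ * y := fun y hy => mem_cz.1 (NN_le_cz2 hb.symm hy)
    have c22 : ∀ y ∈ NN v₂ V₁, y * v₂ = v₂ * y := fun y hy => (mem_centralizer_iff.1 (NN_comm hb.symm hy) v₂ hv2).symm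
    have key : ∀ x ∈ NN v₁ V₂, ∀ y ∈ E, x * y = y * x := by
      intro x hx y hy
      rcases h1 x hx with h3 | h3
      · exact hFEc x h3 y hy
      · have h4 := hFEc _ h3 y hy
        have h5 : x * y * v₁ = y * x * v₁ := by
          calc x * y * v₁ = x * (y * v₁) := by group
            _ = x * v₁ * y := by rw [c21 y hy.1]; group
            _ = y * x * v₁ := by rw [h4]; group
        exact mul_right_cancel h5
    intro x hx
    rw [mem_centralizer_iff]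
    intro y hy
    rcases h2 y hy with h3 | h3
    · exact (key x hx y h3).symm
    · have h4 := key x hx _ h3
      have h5 : y * x * v₂ = x * y * v₂ := by
        calc y * x * v₂ = y * (x * v₂) := by group
          _ = y * v₂ * x := by rw [c12 x hx]; group
          _ = x * y * v₂ := by rw [← h4]; group
      exact mul_right_cancel h5

/-- **KILL OF `Sp₄(2)`**, final form: `One`, case B, `|N₁| = 32` and a `C₁`-invariant quadratic form on `N₁` with
radical `⟨v₁⟩`, `Q(v₁) = 1`, `Q(v₂) = 0`. -/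
theorem false_of [Finite G] (h : One T V₁ V₂ L₁ L₂ v₁ v₂ s) (hB : ¬ nc v₁ {v₂} ≤ centralizer (nc v₂ {v₁} : Set G))
    {Q : G → ZMod 2} (hQ : QF (nc v₁ {v₂}) (cz v₁) v₁ Q) (hQ2 : Q v₂ = 0) (h32 : Nat.card (nc v₁ {v₂}) = 32) : False := by
  have hb := h.toBase
  rw [hb.N1_eq] at hQ h32 hB
  rw [hb.symm.N1_eq] at hB
  exact kill h hb.Q_le hb.V1_le_Q hb.Kk_le_Q hB hQ hQ2 h32

end

end Cfsg.Agent.Omega.IId.SpKill

end

section


/-!
# II.d, CASE 1, `q = 2`: KILL OF `Sp₄(2)` from the orthogonal structure `GOrth` (helper304)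
-/

set_option autoImplicit false

namespace Cfsg.Agent.Omega.IId.SpPlug

open Subgroup Cfsg Cfsg.Agent.ZN Cfsg.Agent.Omega.IId.SpForm Cfsg.Agent.Omega.IId.One Cfsg.Agent.Omega.TV

universe u

variable {G : Type u} [Group G]

theorem pol_eq {C : Subgroup G} {r x y : G} : pol (Qg C r) x y = Bg C r x y := rfl

/-- `GOrth` gives `QF`. -/
theorem qf {C N : Subgroup G} {r c : G} (h : GOrth C N r c) : QF N C c (Qg C r) where
  add := fun x hx y hy z hz => h.add_left hx hy hz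
  inv := h.inv
  Qv := h.Qc
  vrad := h.Bc
  rad := h.rad

/-- **KILL OF `Sp₄(2)`**: `One`, case B, `GOrth`, `|N₁| = 32`. -/
theorem false_of [Finite G] {T V₁ V₂ L₁ L₂ : Subgroup G} {v₁ v₂ s : G} (h : One T V₁ V₂ L₁ L₂ v₁ v₂ s)
    (hB : ¬ nc v₁ {v₂} ≤ centralizer (nc v₂ {v₁} : Set G)) (hO : GOrth (cz v₁) (nc v₁ {v₂}) v₂ v₁)
    (h32 : Nat.card (nc v₁ {v₂}) = 32) : False :=
  SpKill.false_of h hB (qf hO) Qg_self h32

end Cfsg.Agent.Omega.IId.SpPlug

end
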