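import Cfsg.Agent.Mrg.Omega.IId.Sup
import Cfsg.Agent.Mrg.Omega.IId.SideOf
import Cfsg.Agent.Mrg.Omega.IId.OneBase
import Cfsg.Agent.Mrg.Omega.IId.Fac
import Cfsg.Agent.Mrg.Omega.IId.LineAct
import Cfsg.Agent.Mrg.Omega.IId.Match
import Cfsg.Agent.Mrg.Omega.S5.Pair

section


/-!
# II.d, CASE 1, `q = 2`: the configuration `One` from the frame of `WrMain2`

* `exists_cj` : conjugates of `M : NatK F S P (zl S P) ⊥ k` over a given conjugate of `S`;
* `exists_align` : two pairs `T ≤ S`, `T' ≤ S'` (index 2) with `T`, `T'` Sylow 2-subgroups of `C_G(v)` are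
  conjugate in `C_G(v)`, if `Base T V₁ V₂ L₁ L₂ v v₂ s` with `s ∈ S`;
* `exists_one` : the frame of `WrMain2` gives `One` and `⟨C₁, C₂⟩` nonlocal;
* `NoOne` : there is no such configuration; `wrMain2 : NoOne → WrMain2 K`.
-/

set_option autoImplicit false
set_option linter.unusedSectionVars false

namespace Cfsg.Agent.Omega.IId

open Subgroup Pointwise Cfsg Cfsg.Agent.ZN Cfsg.Agent.ZN.ChoiceBase
open Cfsg.Agent.Omega.MinPar Cfsg.Agent.Omega.Frame Cfsg.Agent.Omega.FFThm Cfsg.Agent.Omega.FrameMulti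
open Cfsg.Agent.Lib.SL2Mat
open Cfsg.Agent.Omega.IId.Triangle (KK)
open Cfsg.Agent.Omega.IId.One (cz Kk Base One)

universe u

variable {G : Type u} [Group G] {F : Type} [Field F]

section cj

variable {S P : Subgroup G} {k : ℕ}

/-- Conjugates of sums of natural modules. -/
theorem exists_cj (M : NatK F S P (zl S P) ⊥ k) (d : G) {S₂ : Subgroup G} (h : ChoiceBase.cj d S = S₂) :
    ∃ M₂ : NatK F S₂ (ChoiceBase.cj d P) (zl S₂ (ChoiceBase.cj d P)) ⊥ k,
      (∀ i, fac M₂ i = ChoiceBase.cj d (fac M i)) ∧ (∀ i, line M₂ i = ChoiceBase.cj d (line M i)) ∧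
        ∀ i, stab M₂ i = ChoiceBase.cj d (stab M i) := by
  subst h
  have key : ∀ (V₂ D₂ : Subgroup G), ChoiceBase.cj d (zl S P) = V₂ → ChoiceBase.cj d (⊥ : Subgroup G) = D₂ →
      ∃ M₂ : NatK F (ChoiceBase.cj d S) (ChoiceBase.cj d P) V₂ D₂ k, ∀ v, M₂.e v = M.e (d⁻¹ * v * d) := by
    rintro _ _ rfl rfl
    exact ⟨NatK.cj M d, fun v => rfl⟩
  obtain ⟨M₂, hM⟩ := key _ _ (zl_cj d S P).symm (Subgroup.map_bot _)
  have hf : ∀ i, fac M₂ i = ChoiceBase.cj d (fac M i) := by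
    intro i
    ext v
    have h1 : v ∈ zl (ChoiceBase.cj d S) (ChoiceBase.cj d P) ↔ d⁻¹ * v * d ∈ zl S P := by
      rw [zl_cj, mem_cj_iff]
    rw [mem_cj_iff, mem_fac, mem_fac, h1]
    refine and_congr_right fun _ => ?_
    simp only [hM]
  refine ⟨M₂, hf, fun i => ?_, fun i => ?_⟩
  · ext v
    rw [mem_cj_iff, mem_line, mem_line, hf, mem_cj_iff, hM]
  · rw [stab, stab, hf, cj_inf, cj_normalizer]

end cj

section align

variable [Finite G] {T V₁ V₂ L₁ L₂ : Subgroup G} {v₁ v₂ s : G}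

/-- **Alignment**: `T' ≤ S'` (index 2), `T'` a Sylow 2-subgroup of `C₁ = C_G(v₁)`: some `d ∈ C₁` maps `(S', T')` to
`(S, T)`. -/
theorem exists_align (hb : Base T V₁ V₂ L₁ L₂ v₁ v₂ s) (S S' : Sylow 2 G) (hTS : T ≤ (S : Subgroup G))
    (hcS : Nat.card (S : Subgroup G) = 2 * Nat.card T) (hs : s ∈ (S : Subgroup G))
    (hz : v₁ * v₂ ∈ zc (S : Subgroup G)) {T' : Subgroup G}
    (hTS' : T' ≤ (S' : Subgroup G)) (hcS' : Nat.card (S' : Subgroup G) = 2 * Nat.card T')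
    (hT' : T' ≤ cz v₁) :
    ∃ d ∈ cz v₁, ChoiceBase.cj d (S' : Subgroup G) = (S : Subgroup G) ∧ ChoiceBase.cj d T' = T := by
  have : Fact (Nat.Prime 2) := ⟨Nat.prime_two⟩
  have hcc : Nat.card (S' : Subgroup G) = Nat.card (S : Subgroup G) := by
    rw [S.card_eq_multiplicity, S'.card_eq_multiplicity]
  have hcT : Nat.card T' = Nat.card T := by omega
  have eq_of_le : ∀ {g : G} {A B : Subgroup G}, Nat.card A = Nat.card B → ChoiceBase.cj g A ≤ B →
      ChoiceBase.cj g A = B := by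
    intro g A B h1 h2
    exact eq_of_le_of_card_ge h2 (by rw [card_cj, h1])
  -- `T'^c = T`
  obtain ⟨c, hc, hcT'⟩ := Lib.GoldschmidtFusion.exists_conj_le_in (p := 2) hb.pT (hb.syl hb.T_le le_rfl) hT'
    (S'.isPGroup'.to_le hTS')
  have e1 : ChoiceBase.cj c T' = T := eq_of_le hcT hcT'
  -- `S'^c` and `S` normalise `T`
  have two_norm : ∀ {U : Subgroup G}, T ≤ U → Nat.card U = 2 * Nat.card T → U ≤ normalizer (T : Set G) := by
    intro U h1 h2
    exact Two.le_normalizer_of fun a ha x hx => Two.conj_mem_of_two h1 (Two.two_cosets h1 h2) ha hx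
  have hS'' : T ≤ ChoiceBase.cj c (S' : Subgroup G) := by
    rw [← e1]
    exact cj_mono c hTS'
  have hn1 : ChoiceBase.cj c (S' : Subgroup G) ≤ normalizer (T : Set G) :=
    two_norm hS'' (by rw [card_cj, hcc, hcS])
  have hn2 : (S : Subgroup G) ≤ normalizer (T : Set G) := two_norm hTS hcS
  obtain ⟨n, hn, hnS⟩ := Lib.GoldschmidtFusion.exists_conj_le_in (p := 2) S.isPGroup'
    (MinSimple.Basic.not_dvd_relIndex S hn2) hn1 (isPGroup_cj c S'.isPGroup')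
  have e2 : ChoiceBase.cj n (ChoiceBase.cj c (S' : Subgroup G)) = (S : Subgroup G) := by
    refine eq_of_le ?_ hnS
    rw [card_cj, hcc]
  have e3 : ChoiceBase.cj n T = T := cj_eq_of_mem_normalizer hn
  -- `n v₁ n⁻¹ ∈ Y`
  have hconj : ∀ x ∈ T, n * x * n⁻¹ ∈ T := fun x hx => (mem_normalizer_iff.1 hn x).1 hx
  have hconj' : ∀ x ∈ T, n⁻¹ * x * n ∈ T := fun x hx => by
    have := (mem_normalizer_iff.1 (inv_mem hn) x).1 hx
    rwa [inv_inv] at this
  have hY : n * v₁ * n⁻¹ = 1 ∨ n * v₁ * n⁻¹ = v₁ ∨ n * v₁ * n⁻¹ = v₂ ∨ n * v₁ * n⁻¹ = v₁ * v₂ := by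
    refine hb.fix _ (hconj _ (hb.V1T hb.vV1)) ?_ fun t ht => ?_
    · calc n * v₁ * n⁻¹ * (n * v₁ * n⁻¹) = n * (v₁ * v₁) * n⁻¹ := by group
        _ = 1 := by rw [hb.vq1]; group
    · have h2 := hb.Tv1 _ (hconj' t ht)
      calc t * (n * v₁ * n⁻¹) = n * (n⁻¹ * t * n * v₁) * n⁻¹ := by group
        _ = n * v₁ * n⁻¹ * t := by rw [h2]; group
  rcases hY with h1 | h1 | h1 | h1
  · exfalso
    apply hb.v1
    calc v₁ = n⁻¹ * (n * v₁ * n⁻¹) * n := by group
      _ = 1 := by rw [h1]; group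
  · refine ⟨n * c, mul_mem (One.mem_cz.2 (mul_inv_eq_iff_eq_mul.1 h1)) hc, ?_, ?_⟩
    · rw [← cj_cj, e2]
    · rw [← cj_cj, e1, e3]
  · refine ⟨s * n * c, ?_, ?_, ?_⟩
    · refine mul_mem (One.mem_cz.2 (mul_inv_eq_iff_eq_mul.1 ?_)) hc
      calc s * n * v₁ * (s * n)⁻¹ = s * (n * v₁ * n⁻¹) * s⁻¹ := by group
        _ = v₁ := by rw [h1, hb.sv2]
    · rw [← cj_cj, ← cj_cj, e2]
      exact cj_eq_of_mem_normalizer (le_normalizer hs)
    · rw [← cj_cj, ← cj_cj, e1, e3]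
      exact eq_of_le rfl (by
        rintro _ ⟨x, hx, rfl⟩
        exact hb.sT x hx)
  · exfalso
    -- `S^{n⁻¹}` centralises `v₁`
    have h2 : ChoiceBase.cj n⁻¹ (S : Subgroup G) ≤ T := by
      refine hb.syl1 _ (isPGroup_cj _ S.isPGroup') ?_ ?_
      · intro x hx
        rw [mem_cj_iff, inv_inv]
        exact hTS (hconj x hx)
      · intro x hx
        rw [mem_cj_iff, inv_inv] at hx
        have h3 := (Cfsg.Agent.MinSimple.VModule.mem_zc.1 hz).2.1 _ hx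
        have h4 : v₁ = n⁻¹ * (v₁ * v₂) * n := by rw [← h1]; group
        calc x * v₁ = n⁻¹ * (n * x * n⁻¹ * (v₁ * v₂)) * n := by
              nth_rewrite 1 [h4]; group
          _ = n⁻¹ * (v₁ * v₂) * n * x := by rw [h3]; group
          _ = v₁ * x := by rw [← h4]
    have h3 := Subgroup.card_le_of_le h2
    rw [card_cj, hcS] at h3
    have h4 : 0 < Nat.card T := Nat.card_pos
    omega

end align

section main

/-- **The configuration of CASE 1.** -/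
theorem exists_one [Finite G] [Finite F] [CharP F 2] {F' : Type} [Field F'] [Finite F'] [CharP F' 2]
    (hc : IsCharacteristicTwoType G) {S S' : Sylow 2 G} {P P' : Subgroup G} (hp : Pair S S' P P')
    (hT : NoOver (zl (S : Subgroup G) P) P) (hT' : NoOver (zl (S' : Subgroup G) P') P') {k' : ℕ}
    (M : NatK F (S : Subgroup G) P (zl (S : Subgroup G) P) ⊥ 2)
    (M' : NatK F' (S' : Subgroup G) P' (zl (S' : Subgroup G) P') ⊥ k') (hk' : 1 ≤ k') (hk2 : k' ≤ 2)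
    {i : Fin 2} (hR : ⁅zl (S : Subgroup G) P, zl (S' : Subgroup G) P'⁆ = line M i)
    (hd : ¬ 2 ∣ (stab M i).relIndex (normalizer (line M i : Set G))) (hF : Nat.card F = 2) :
    ∃ (T V₁ V₂ L₁ L₂ : Subgroup G) (v₁ v₂ s : G), T ≤ (S : Subgroup G) ∧ s ∈ (S : Subgroup G) ∧
      Nat.card (S : Subgroup G) = 2 * Nat.card T ∧ One T V₁ V₂ L₁ L₂ v₁ v₂ s ∧
      NonLoc (cz v₁) (cz v₂) := by
  have hSP : (S : Subgroup G) ≤ P := hp.star.isLoc.le
  have hSP' : (S' : Subgroup G) ≤ P' := hp.star'.isLoc.le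
  obtain ⟨j, hij⟩ : ∃ j : Fin 2, i ≠ j := ⟨i + 1, by omega⟩
  obtain ⟨v, hv1, hv⟩ : ∃ v : G, v ≠ 1 ∧ v ∈ line M i := by
    by_contra hcon
    push Not at hcon
    apply line_ne_bot (M := M) i
    rw [eq_bot_iff]
    intro x hx
    rw [mem_bot]
    by_contra hx1
    exact hcon x hx1 hx
  have h2 := two_of hc hp.star M hij
  obtain ⟨s, hs, hs1⟩ := Two.exists_not_mem h2.SoS h2.card
  have hsyl : ¬ 2 ∣ (stab M i).relIndex (centralizer ({v} : Set G)) := by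
    rw [← normalizer_line_eq M hF hv hv1]
    exact hd
  have hb := Sym.base_of hc hp.star M hF hij hv hv1 hs hs1 hsyl
  have hz : v * (s * v * s⁻¹) ∈ zc (S : Subgroup G) :=
    (Sym.pre_of hc hp.star M hF hij hv hv1 hs hs1).zS
  -- the partner
  obtain ⟨hk, -⟩ := SideOf.partner hc hp hT hT' M M' hk' hk2 hR hd
  subst hk
  obtain ⟨j', hl, hcard, a, ha, b, hb', hne⟩ := exists_partner hc hp hT hT' M M' hk' hR
  have hF' : Nat.card F' = 2 := hcard.trans hF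
  obtain ⟨d, hdv, hdS, hdT⟩ := exists_align hb S S' h2.SoS h2.card hs hz (stab_le M' j')
    (card_stab M' hSP' j') (fun x hx => One.mem_cz.2 (stab_comm_line M' hSP' hF' (hl ▸ hv) hx))
  obtain ⟨M₂, hM₂f, hM₂l, hM₂s⟩ := exists_cj M' d hdS
  have hP₂ : IsParS (S : Subgroup G) (ChoiceBase.cj d P') := by
    have := isParS_cj hp.star' d
    rwa [hdS] at this
  obtain ⟨l, hjl⟩ : ∃ l : Fin 2, j' ≠ l := ⟨j' + 1, by omega⟩
  have hst : stab M₂ j' = stab M i := by rw [hM₂s, hdT]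
  have hv' : v ∈ line M₂ j' := by
    rw [hM₂l, mem_cj_iff, ← hl]
    have e : d⁻¹ * v * d = v := by
      calc d⁻¹ * v * d = d⁻¹ * (v * d) := by group
        _ = v := by rw [← One.mem_cz.1 hdv]; group
    rwa [e]
  have hb2 := Sym.base_of hc hP₂ M₂ hF' hjl hv' hv1 hs (by rw [hst]; exact hs1) (by rw [hst]; exact hsyl)
  rw [hst] at hb2
  have hm : ∃ c ∈ cz v, ∃ a ∈ fac M i, ∃ b ∈ fac M₂ j', a * (c * b * c⁻¹) ≠ c * b * c⁻¹ * a := by
    refine ⟨d⁻¹, inv_mem hdv, a, ha, d * b * d⁻¹, ?_, ?_⟩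
    · rw [hM₂f, mem_cj_iff]
      have e : d⁻¹ * (d * b * d⁻¹) * d = b := by group
      rwa [e]
    · have e : d⁻¹ * (d * b * d⁻¹) * d⁻¹⁻¹ = b := by group
      rw [e]
      exact fun h0 => hne h0.symm
  refine ⟨_, _, _, _, _, _, _, s, h2.SoS, hs, h2.card, hb.one_of_mixed hb2 hm, ?_⟩
  intro U hU h1 h2'
  exact hb.nonLoc_mixed hb2 (fun U hU _ => One.card_le_two h2 U hU) hm hU h1 h2'

variable (K : Cls.{u})

/-- There is no configuration `One` with `⟨C₁, C₂⟩` nonlocal. (CASE A: helper64; CASE B: helper304, helper110,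
helper895, ...) -/
def NoOne : Prop :=
  ∀ (G : Type u) [Group G] [Finite G] (S : Sylow 2 G), Hyp K S → ∀ (T V₁ V₂ L₁ L₂ : Subgroup G) (v₁ v₂ s : G),
    T ≤ (S : Subgroup G) → s ∈ (S : Subgroup G) → Nat.card (S : Subgroup G) = 2 * Nat.card T →
      One T V₁ V₂ L₁ L₂ v₁ v₂ s → NonLoc (cz v₁) (cz v₂) → False

variable {K}

/-- **CASE 1, `q = 2`, from `NoOne`.** -/
theorem wrMain2 (h : NoOne K) : WrMain2 K := by
  intro G _ _ S S' hH P P' hp F F' _ _ _ _ _ _ k' M M' hk' hk2 i hR hd hF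
  obtain ⟨T, V₁, V₂, L₁, L₂, v₁, v₂, s, hTS, hs, hcS, hO, hN⟩ := exists_one hH.ctx.char2 hp
    (hH.typed' hp).1.noOver (hH.typed' hp).2.noOver M M' hk' hk2 hR hd hF
  exact h G S hH T V₁ V₂ L₁ L₂ v₁ v₂ s hTS hs hcS hO hN

end main

end Cfsg.Agent.Omega.IId

end

section


/-!
# II.d, mixed pairs, CASE 1: `V_i* = V_i` is impossible

`N` : adapted labels of an `O₄⁻(2)`-module `V` over `S`.

* `same_of_centre` : two elements of `N_G(V)` which act on `V` as transvections with the same centre act in the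
  same way.
-/

set_option autoImplicit false
set_option linter.unusedSectionVars false

namespace Cfsg.Agent.Omega.IId.Sym

open Subgroup Cfsg Cfsg.Agent.ZN.ChoiceBase
open Cfsg.Agent.ZN (o2 zc zl)
open Cfsg.Agent.Omega.MinPar
open Cfsg.Agent.Omega.S5.Mod Cfsg.Agent.Omega.S5.TT Cfsg.Agent.Omega.S5.Types
open Cfsg.Agent.Omega.IId.Two

universe u

variable {G : Type u} [Group G]

/-- The transvections in `D₈`. -/
theorem tv_d8 : ∀ p : Equiv.Perm (Fin 5), p * dd = dd * p → ∀ y : Vec,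
    (∀ x : Vec, (x ∘ p.symm + x = 0 ∨ x ∘ p.symm + x = 1) ∨ (x ∘ p.symm + x = y ∨ x ∘ p.symm + x = y + 1)) →
    p = 1 ∨ (p = Equiv.swap 0 1 ∧ (y = nn ∨ y = nn + 1)) ∨ (p = Equiv.swap 2 3 ∧ (y = aa ∨ y = aa + 1)) := by
  decide +kernel

/-- `g` acts on `V` as `1` or as a transvection with centre `w`. -/
def Tv (V : Subgroup G) (w g : G) : Prop :=
  g ∈ normalizer (V : Set G) ∧ ∀ v ∈ V, g * v * g⁻¹ = v ∨ g * v * g⁻¹ = w * v

section tv

variable {V : Subgroup G} {w : G} (hw : w ∈ V) (hq : ∀ v ∈ V, v * v = 1)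

include hq in
theorem comm_of_sq {x y : G} (hx : x ∈ V) (hy : y ∈ V) : x * y = y * x := by
  have h1 := hq _ (mul_mem hx hy)
  have h2 := hq _ hx
  have h3 := hq _ hy
  calc x * y = x * (x * y * (x * y)) * y := by rw [h1, mul_one]
    _ = (x * x) * (y * x) * (y * y) := by group
    _ = y * x := by rw [h2, h3, one_mul, mul_one]

include hw hq in
theorem Tv.fix {g : G} (h : Tv V w g) : g * w * g⁻¹ = w := by
  rcases h.2 w hw with h1 | h1
  · exact h1
  · rw [hq w hw] at h1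
    have h2 : w = g⁻¹ * (g * w * g⁻¹) * g := by group
    rw [h1] at h2
    have h3 : w = 1 := by rw [h2]; group
    rw [h3]; group

/-- The group of the elements which act as `1` or as a transvection with centre `w`. -/
def tvg (hw : w ∈ V) (hq : ∀ v ∈ V, v * v = 1) : Subgroup G where
  carrier := {g | Tv V w g}
  one_mem' := ⟨one_mem _, fun v _ => by left; group⟩
  mul_mem' := by
    rintro a b ha hb
    refine ⟨mul_mem ha.1 hb.1, fun v hv => ?_⟩
    have e : a * b * v * (a * b)⁻¹ = a * (b * v * b⁻¹) * a⁻¹ := by group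
    rw [e]
    rcases hb.2 v hv with h1 | h1
    · rw [h1]; exact ha.2 v hv
    · rw [h1]
      have e2 : a * (w * v) * a⁻¹ = (a * w * a⁻¹) * (a * v * a⁻¹) := by group
      rw [e2, ha.fix hw hq]
      rcases ha.2 v hv with h2 | h2
      · right; rw [h2]
      · left; rw [h2, ← mul_assoc, hq w hw, one_mul]
  inv_mem' := by
    rintro a ha
    refine ⟨inv_mem ha.1, fun v hv => ?_⟩
    have hu : a⁻¹ * v * a⁻¹⁻¹ ∈ V := (mem_normalizer_iff.1 (inv_mem ha.1) v).1 hv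
    have e : a * (a⁻¹ * v * a⁻¹⁻¹) * a⁻¹ = v := by group
    rcases ha.2 _ hu with h1 | h1
    · left; rw [← h1, e]
    · right
      rw [e] at h1
      calc a⁻¹ * v * a⁻¹⁻¹ = w * (w * (a⁻¹ * v * a⁻¹⁻¹)) := by rw [← mul_assoc w w, hq w hw, one_mul]
        _ = w * v := by rw [← h1]

theorem mem_tvg {hw : w ∈ V} {hq : ∀ v ∈ V, v * v = 1} {g : G} : g ∈ tvg hw hq ↔ Tv V w g := Iff.rfl

/-- The elements which act on `V` as an element of `R`. -/
def actg {V R : Subgroup G} (hR : R ≤ normalizer (V : Set G)) : Subgroup G where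
  carrier := {g | g ∈ normalizer (V : Set G) ∧ ∃ r ∈ R, ∀ v ∈ V, g * v * g⁻¹ = r * v * r⁻¹}
  one_mem' := ⟨one_mem _, 1, one_mem _, fun v _ => rfl⟩
  mul_mem' := by
    rintro a b ⟨ha, r, hr, h1⟩ ⟨hb, r', hr', h2⟩
    refine ⟨mul_mem ha hb, r * r', mul_mem hr hr', fun v hv => ?_⟩
    have h3 : r' * v * r'⁻¹ ∈ V := (mem_normalizer_iff.1 (hR hr') v).1 hv
    calc a * b * v * (a * b)⁻¹ = a * (b * v * b⁻¹) * a⁻¹ := by group
      _ = r * (r' * v * r'⁻¹) * r⁻¹ := by rw [h2 v hv, h1 _ h3]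
      _ = r * r' * v * (r * r')⁻¹ := by group
  inv_mem' := by
    rintro a ⟨ha, r, hr, h1⟩
    refine ⟨inv_mem ha, r⁻¹, inv_mem hr, fun v hv => ?_⟩
    have h2 : r⁻¹ * v * r⁻¹⁻¹ ∈ V := (mem_normalizer_iff.1 (inv_mem (hR hr)) v).1 hv
    have h3 := h1 _ h2
    have e : r * (r⁻¹ * v * r⁻¹⁻¹) * r⁻¹ = v := by group
    rw [e] at h3
    calc a⁻¹ * v * a⁻¹⁻¹ = a⁻¹ * (a * (r⁻¹ * v * r⁻¹⁻¹) * a⁻¹) * a⁻¹⁻¹ := by rw [h3]
      _ = r⁻¹ * v * r⁻¹⁻¹ := by group

/-- Two elements of a group `A` of automorphisms of `V` with `A/C_A(V)` elementary abelian act like elements of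
a 2-group. -/
theorem exists_two_group [Finite G] (hw : w ∈ V) (hq : ∀ v ∈ V, v * v = 1) :
    ∃ R : Subgroup G, IsPGroup 2 R ∧ R ≤ normalizer (V : Set G) ∧
      ∀ g, Tv V w g → ∃ r ∈ R, ∀ v ∈ V, g * v * g⁻¹ = r * v * r⁻¹ := by
  set K := tvg hw hq with hK
  have hKV : K ≤ normalizer (V : Set G) := fun g hg => (mem_tvg.1 hg).1
  obtain ⟨R, -, hRK, hR, hs⟩ := Half.exists_sylow_le (IsPGroup.of_bot : IsPGroup 2 (⊥ : Subgroup G))
    (bot_le : (⊥ : Subgroup G) ≤ K)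
  have hKF : K ≤ normalizer ((centralizer (V : Set G) : Subgroup G) : Set G) := by
    apply le_normalizer_of
    intro k hk c hc
    rw [mem_centralizer_iff] at hc ⊢
    intro v hv
    have h1 : k⁻¹ * v * k ∈ V := by
      have := (mem_normalizer_iff.1 (inv_mem (hKV hk)) v).1 hv
      rwa [inv_inv] at this
    have h2 := hc _ h1
    calc v * (k * c * k⁻¹) = k * (k⁻¹ * v * k * c) * k⁻¹ := by group
      _ = k * c * k⁻¹ * v := by rw [h2]; group
  have hle : K ≤ R ⊔ centralizer (V : Set G) := by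
    refine One.le_sup_of_two hKF le_rfl le_normalizer hR hs ?_
    intro a ha
    refine ⟨1, ?_⟩
    rw [pow_one, pow_two, mem_centralizer_iff]
    intro v hv
    have h1 : a * a * v * (a * a)⁻¹ = v := by
      have e : a * a * v * (a * a)⁻¹ = a * (a * v * a⁻¹) * a⁻¹ := by group
      rw [e]
      have ha' : Tv V w a := ha
      rcases ha'.2 v hv with h2 | h2
      · rw [h2, h2]
      · rw [h2]
        have e2 : a * (w * v) * a⁻¹ = (a * w * a⁻¹) * (a * v * a⁻¹) := by group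
        rw [e2, ha'.fix hw hq, h2, ← mul_assoc, hq w hw, one_mul]
    exact (mul_inv_eq_iff_eq_mul.1 h1).symm
  refine ⟨R, hR, hRK.trans hKV, fun g hg => ?_⟩
  have h1 : R ⊔ centralizer (V : Set G) ≤ actg (hRK.trans hKV) := by
    refine sup_le ?_ ?_
    · exact fun r hr => ⟨(hRK.trans hKV) hr, r, hr, fun v _ => rfl⟩
    · intro c hc
      refine ⟨centralizer_le_normalizer _ hc, 1, one_mem _, fun v hv => ?_⟩
      have h2 := mem_centralizer_iff.1 hc v hv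
      rw [← h2]; group
  exact (h1 (hle (show g ∈ K from hg))).2

end tv

/-- **Two transvections of `N_G(V)` with the same centre act in the same way.** -/
theorem same_of_centre [Finite G] {V L : Subgroup G} {S : Sylow 2 G} {N : FiveMod V L}
    (h : Adapt (S : Subgroup G) N) {a b w : G} (hw : w ∈ V) (ha : Tv V w a) (hb : Tv V w b)
    (ha1 : ∃ v ∈ V, a * v * a⁻¹ ≠ v) (hb1 : ∃ v ∈ V, b * v * b⁻¹ ≠ v) :
    ∀ v ∈ V, a * v * a⁻¹ = b * v * b⁻¹ := by
  have hq : ∀ v ∈ V, v * v = 1 := fun v hv => N.sq hv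
  obtain ⟨R, hR, hRV, hRact⟩ := exists_two_group hw hq
  have hSV : (S : Subgroup G) ≤ normalizer (V : Set G) := h.SL.trans N.le_normalizer
  obtain ⟨g, hg, hgR⟩ := exists_conj_le_sylow S (normalizer (V : Set G)) R hSV hR hRV
  have hgV : ∀ v ∈ V, g * v * g⁻¹ ∈ V := fun v hv => (mem_normalizer_iff.1 hg v).1 hv
  have hgV' : ∀ v ∈ V, g⁻¹ * v * g ∈ V := fun v hv => by
    have := (mem_normalizer_iff.1 (inv_mem hg) v).1 hv
    rwa [inv_inv] at this
  obtain ⟨y, hy⟩ := (N.mem_iff _).1 (hgV w hw)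
  -- the permutation of a transvection
  have key : ∀ c : G, Tv V w c → (∃ v ∈ V, c * v * c⁻¹ ≠ v) → ∃ r : G, (∀ v ∈ V, c * v * c⁻¹ = r * v * r⁻¹) ∧
      ∃ p, N.Ind (g * r * g⁻¹) p ∧ ((p = Equiv.swap 0 1 ∧ (y = nn ∨ y = nn + 1)) ∨
        (p = Equiv.swap 2 3 ∧ (y = aa ∨ y = aa + 1))) := by
    intro c hc hc1
    obtain ⟨r, hr, hr1⟩ := hRact c hc
    have hrS := hgR r hr
    obtain ⟨p, hp⟩ := N.exists_ind (h.SL hrS)
    refine ⟨r, hr1, p, hp, ?_⟩
    have hact : ∀ v ∈ V, g * r * g⁻¹ * v * (g * r * g⁻¹)⁻¹ = v ∨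
        g * r * g⁻¹ * v * (g * r * g⁻¹)⁻¹ = (g * w * g⁻¹) * v := by
      intro v hv
      have h1 := hr1 _ (hgV' v hv)
      rcases hc.2 _ (hgV' v hv) with h2 | h2
      · left
        calc g * r * g⁻¹ * v * (g * r * g⁻¹)⁻¹ = g * (r * (g⁻¹ * v * g) * r⁻¹) * g⁻¹ := by group
          _ = g * (g⁻¹ * v * g) * g⁻¹ := by rw [← h1, h2]
          _ = v := by group
      · right
        calc g * r * g⁻¹ * v * (g * r * g⁻¹)⁻¹ = g * (r * (g⁻¹ * v * g) * r⁻¹) * g⁻¹ := by group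
          _ = g * (w * (g⁻¹ * v * g)) * g⁻¹ := by rw [← h1, h2]
          _ = g * w * g⁻¹ * v := by group
    have h3 : ∀ x : Vec, (x ∘ p.symm + x = 0 ∨ x ∘ p.symm + x = 1) ∨
        (x ∘ p.symm + x = y ∨ x ∘ p.symm + x = y + 1) := by
      intro x
      have h4 := hp x
      have h5 : N.e (x ∘ p.symm + x) = g * r * g⁻¹ * N.e x * (g * r * g⁻¹)⁻¹ * N.e x := by
        rw [N.e_add, ← h4]
      rcases hact _ (N.e_mem x) with h6 | h6
      · left
        rw [← N.ker, h5, h6, N.e_sq]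
      · right
        rw [← N.e_eq_iff, h5, h6, mul_assoc, N.e_sq, mul_one, ← hy]
    rcases tv_d8 p (h.d8 _ hrS p hp) y h3 with h4 | h4
    · exfalso
      obtain ⟨v, hv, hv1⟩ := hc1
      apply hv1
      rw [h4] at hp
      have h5 := mem_centralizer_iff.1 (FiveMod.ind_one_iff.1 hp) _ (hgV v hv)
      rw [hr1 v hv]
      have h6 : g * v * g⁻¹ = g * (r * v * r⁻¹) * g⁻¹ := by
        calc g * v * g⁻¹ = g * v * g⁻¹ * (g * r * g⁻¹) * (g * r * g⁻¹)⁻¹ := by group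
          _ = g * (r * v * r⁻¹) * g⁻¹ := by rw [h5]; group
      calc r * v * r⁻¹ = g⁻¹ * (g * (r * v * r⁻¹) * g⁻¹) * g := by group
        _ = v := by rw [← h6]; group
    · exact h4
  obtain ⟨r, hr1, p, hp, hp1⟩ := key a ha ha1
  obtain ⟨r', hr1', p', hp', hp1'⟩ := key b hb hb1
  have hpp : p = p' := by
    rcases hp1 with ⟨h1, h2⟩ | ⟨h1, h2⟩ <;> rcases hp1' with ⟨h3, h4⟩ | ⟨h3, h4⟩
    · rw [h1, h3]
    · exfalso
      rcases h2 with rfl | rfl <;> rcases h4 with h5 | h5 <;> revert h5 <;> decide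
    · exfalso
      rcases h2 with rfl | rfl <;> rcases h4 with h5 | h5 <;> revert h5 <;> decide
    · rw [h1, h3]
  subst hpp
  intro v hv
  rw [hr1 v hv, hr1' v hv]
  obtain ⟨x, hx⟩ := (N.mem_iff _).1 (hgV v hv)
  have h1 := hp x
  have h2 := hp' x
  rw [hx] at h1 h2
  have h3 := h1.trans h2.symm
  calc r * v * r⁻¹ = g⁻¹ * (g * r * g⁻¹ * (g * v * g⁻¹) * (g * r * g⁻¹)⁻¹) * g := by group
    _ = r' * v * r'⁻¹ := by rw [h3]; group

end Cfsg.Agent.Omega.IId.Sym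

end

section


/-!
# II.d, mixed pairs, CASE 1: `One` and nonlocality

* `Sit` : the normal form of CASE 1 against one `O₄⁻(2)`-module;
* `Sit.one` : `One`;
* `Sit.nonLoc` : `⟨C₁, C₂⟩` is nonlocal.
-/

set_option autoImplicit false
set_option linter.unusedSectionVars false

namespace Cfsg.Agent.Omega.IId.Sym

open Subgroup Cfsg Cfsg.Agent.ZN.ChoiceBase
open Cfsg.Agent.ZN (o2 zc zl)
open Cfsg.Agent.Omega.MinPar
open Cfsg.Agent.Omega.S5.Mod Cfsg.Agent.Omega.S5.TT Cfsg.Agent.Omega.S5.Types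
open Cfsg.Agent.Omega.IId.Two

universe u

variable {G : Type u} [Group G]

/-! ### Permutations -/

theorem split_dec : ∀ x : Vec, ∃ y z : Vec, InU y ∧ InU z ∧
    (x = y ∘ tt.symm + z ∨ x = y ∘ tt.symm + z + 1) := by
  decide +kernel

theorem swap_dec : ∀ p : Equiv.Perm (Fin 5), p * dd = dd * p → (nn ∘ p.symm = aa ∨ nn ∘ p.symm = aa + 1) →
    InU (((0 : Vec) ∘ tt.symm) ∘ p.symm) ∧ InU ((aa ∘ tt.symm) ∘ p.symm) ∧ InU ((bb ∘ tt.symm) ∘ p.symm) ∧
      InU ((cc ∘ tt.symm) ∘ p.symm) := by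
  decide +kernel

/-- `{0, 4}` -/
def mm : Vec := ![1, 0, 0, 0, 1]

theorem tv_04 : ∀ x : Vec, (x ∘ (Equiv.swap 0 4 : Equiv.Perm (Fin 5)).symm + x = 0 ∨
    x ∘ (Equiv.swap 0 4 : Equiv.Perm (Fin 5)).symm + x = 1) ∨
    (x ∘ (Equiv.swap 0 4 : Equiv.Perm (Fin 5)).symm + x = mm ∨
      x ∘ (Equiv.swap 0 4 : Equiv.Perm (Fin 5)).symm + x = mm + 1) := by
  decide +kernel

/-! ### The configuration -/

/-- CASE 1 against one `O₄⁻(2)`-module, in normal form. -/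
structure Sit [Finite G] (S : Sylow 2 G) (T V₁ V₂ L₁ L₂ : Subgroup G) (n s : G) {V L : Subgroup G}
    (N : FiveMod V L) : Prop where
  base : One.Base T V₁ V₂ L₁ L₂ n (s * n * s⁻¹) s
  two : IId.Two (S : Subgroup G) T V₁ V₂ L₁ L₂
  sS : s ∈ (S : Subgroup G)
  sT : s ∉ T
  ad : Adapt (S : Subgroup G) N
  nn : N.e S5.TT.nn = n
  aa : N.e S5.TT.aa = s * n * s⁻¹
  mv : ∃ c ∈ One.cz n, ∃ a ∈ V₁, ∃ b ∈ V, a * (c * b * c⁻¹) ≠ c * b * c⁻¹ * a

namespace Sit

variable [Finite G] {S : Sylow 2 G} {T V₁ V₂ L₁ L₂ : Subgroup G} {n s : G} {V L : Subgroup G}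
  {N : FiveMod V L} (h : Sit S T V₁ V₂ L₁ L₂ n s N)

include h

theorem s' {v : G} (hv : v ∈ V₂) : s⁻¹ * v * s ∈ V₁ := by
  have h1 := h.two.sw2 s⁻¹ (inv_mem h.sS) (fun h1 => h.sT (inv_mem_iff.1 h1)) v hv
  rwa [inv_inv] at h1

theorem s'' {v : G} (hv : v ∈ V₁) : s⁻¹ * v * s ∈ V₂ := by
  have h1 := h.two.sw1 s⁻¹ (inv_mem h.sS) (fun h1 => h.sT (inv_mem_iff.1 h1)) v hv
  rwa [inv_inv] at h1

omit [Finite G] h in
/-- Every element of `V` is the product of an element of `V_1*` and an element of `V_2*`. -/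
theorem split (N : FiveMod V L) {v : G} (hv : v ∈ V) : ∃ a ∈ vn (N.relabel tt), ∃ b ∈ vn N, v = a * b := by
  obtain ⟨x, rfl⟩ := (N.mem_iff v).1 hv
  obtain ⟨y, z, hy, hz, h1⟩ := split_dec x
  refine ⟨_, ⟨y, hy, rfl⟩, _, ⟨z, hz, rfl⟩, ?_⟩
  rw [FiveMod.relabel_e, ← N.e_add, N.e_eq_iff]
  exact h1

/-- `s` maps `V_1*` to `V_2*`. -/
theorem s_vn {v : G} (hv : v ∈ vn (N.relabel tt)) : s * v * s⁻¹ ∈ vn N := by
  obtain ⟨p, hp⟩ := N.exists_ind (h.ad.SL h.sS)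
  have h1 := hp S5.TT.nn
  rw [h.nn, ← h.aa, N.e_eq_iff] at h1
  have h1' : S5.TT.nn ∘ p.symm = S5.TT.aa ∨ S5.TT.nn ∘ p.symm = S5.TT.aa + 1 := by
    rcases h1 with h1 | h1
    · exact Or.inl h1.symm
    · right
      rw [h1, add_assoc, S5.Mod.add_self, add_zero]
  obtain ⟨h2, h3, h4, h5⟩ := swap_dec p (h.ad.d8 _ h.sS p hp) h1'
  obtain ⟨x, hx, rfl⟩ := hv
  rw [FiveMod.relabel_e, hp]
  rcases hx with rfl | rfl | rfl | rfl
  · exact ⟨_, h2, rfl⟩
  · exact ⟨_, h3, rfl⟩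
  · exact ⟨_, h4, rfl⟩
  · exact ⟨_, h5, rfl⟩

/-- An element of `Kk n` which does not commute with `V₁`. -/
theorem exists_b : ∃ b ∈ One.Kk n, ∃ a ∈ V₁, b * a ≠ a * b := by
  obtain ⟨c, hc, a, ha, b, hb, hne⟩ := h.mv
  have h1 : b ∈ One.Kk n := by
    have := le_Kk h.base.C2T h.ad hb
    rwa [h.nn] at this
  exact ⟨c * b * c⁻¹, (mem_normalizer_iff.1 (One.le_normalizer_Kk n hc) b).1 h1, a, ha, Ne.symm hne⟩

/-- **S5 END**: `V_i* = V_i` is impossible. -/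
theorem false_of_le (h2 : vn N ≤ V₂) (h1 : vn (N.relabel tt) ≤ V₁) : False := by
  obtain ⟨b, hb, a, ha, hne⟩ := h.exists_b
  have hbQ : b ∈ ZN.o2 (One.cz n) := h.base.Kk_le_Q hb
  have hb2 : ∀ v ∈ V₂, b * v = v * b := h.base.halfc1 b hbQ
  have hb1 : ∀ v ∈ V₁, b * v * b⁻¹ = v ∨ b * v * b⁻¹ = n * v := fun v hv =>
    One.Kk_conj h.base.vq1 hb (h.base.V1_le_Q hv)
  have hbn : b * n = n * b := One.mem_cz.1 hb.1
  -- the point `w = {0, 4}`
  set w := N.e mm with hw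
  have hwV : w ∈ V := N.e_mem mm
  have hw1 : w ∈ V₁ := h1 ⟨bb, Or.inr (Or.inr (Or.inl rfl)), by
    rw [FiveMod.relabel_e, hw, N.e_eq_iff]; left; decide⟩
  have hwne : w ≠ 1 := by
    rw [hw, Ne, N.ker]; decide
  have hwn : w ≠ n := by
    rw [hw, ← h.nn, Ne, N.e_eq_iff]; decide
  obtain ⟨l, hl, hln⟩ := h.base.t1 n h.base.vV1 h.base.v1 w hw1 hwne
  have hlV : ∀ v ∈ V₁, l⁻¹ * v * l ∈ V₁ := fun v hv => by
    have := (mem_normalizer_iff.1 (inv_mem (h.base.L_norm1 hl)) v).1 hv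
    rwa [inv_inv] at this
  have hl2 : ∀ v ∈ V₂, l * v = v * l := h.base.L12 l hl
  set A := l * b * l⁻¹ with hA
  have hA2 : ∀ v ∈ V₂, A * v * A⁻¹ = v := by
    intro v hv
    have e1 : l⁻¹ * v * l = v := by
      rw [mul_assoc, ← hl2 v hv]; group
    calc A * v * A⁻¹ = l * (b * (l⁻¹ * v * l) * b⁻¹) * l⁻¹ := by rw [hA]; group
      _ = l * v * l⁻¹ := by rw [e1, hb2 v hv, mul_inv_cancel_right]
      _ = v := by rw [hl2 v hv, mul_inv_cancel_right]
  have hA1 : ∀ v ∈ V₁, A * v * A⁻¹ = v ∨ A * v * A⁻¹ = w * v := by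
    intro v hv
    have e1 : A * v * A⁻¹ = l * (b * (l⁻¹ * v * l) * b⁻¹) * l⁻¹ := by rw [hA]; group
    rcases hb1 _ (hlV v hv) with h3 | h3
    · left; rw [e1, h3]; group
    · right; rw [e1, h3, ← hln]; group
  have hAV : ∀ v ∈ V, A * v * A⁻¹ = v ∨ A * v * A⁻¹ = w * v := by
    intro v hv
    obtain ⟨x, hx, y, hy, rfl⟩ := split N hv
    have e1 : A * (x * y) * A⁻¹ = (A * x * A⁻¹) * (A * y * A⁻¹) := by group
    rw [e1, hA2 y (h2 hy)]
    rcases hA1 x (h1 hx) with h3 | h3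
    · left; rw [h3]
    · right; rw [h3]; group
  have hAn : Tv V w A := by
    refine ⟨?_, hAV⟩
    have h3 : cj A V ≤ V := by
      rintro _ ⟨v, hv, rfl⟩
      rcases hAV v hv with h4 | h4
      · change A * v * A⁻¹ ∈ V
        rw [h4]; exact hv
      · change A * v * A⁻¹ ∈ V
        rw [h4]; exact mul_mem hwV hv
    have h4 : cj A V = V := eq_of_le_of_card_ge h3 (by rw [card_cj])
    rw [mem_normalizer_iff]
    intro v
    constructor
    · intro hv; exact h3 ⟨v, hv, rfl⟩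
    · intro hv
      rw [← h4] at hv
      obtain ⟨u, hu, e⟩ := hv
      have e2 : A * u * A⁻¹ = A * v * A⁻¹ := e
      have e3 : u = v := mul_left_cancel (mul_right_cancel e2)
      rwa [← e3]
  -- `A` moves `n`
  have hAne : ∃ v ∈ V, A * v * A⁻¹ ≠ v := by
    refine ⟨n, by rw [← h.nn]; exact N.e_mem _, fun e => ?_⟩
    have e1 : b * (l⁻¹ * n * l) = l⁻¹ * n * l * b := by
      have e2 : b * (l⁻¹ * n * l) * b⁻¹ = l⁻¹ * (A * n * A⁻¹) * l := by rw [hA]; group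
      rw [e] at e2
      exact mul_inv_eq_iff_eq_mul.1 e2
    have hne1 : l⁻¹ * n * l ≠ 1 := fun e2 => h.base.v1 (by
      calc n = l * (l⁻¹ * n * l) * l⁻¹ := by group
        _ = 1 := by rw [e2]; group)
    have hne2 : l⁻¹ * n * l ≠ n := fun e2 => hwn (by
      rw [← hln]
      calc l * n * l⁻¹ = l * (l⁻¹ * n * l) * l⁻¹ := by rw [e2]
        _ = n := by group)
    apply hne
    rcases h.base.mem_V1 ha (hlV n h.base.vV1) hne1 hne2 with h3 | h3 | h3 | h3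
    · rw [h3, mul_one, one_mul]
    · rw [h3]; exact hbn
    · rw [h3]; exact e1
    · rw [h3]
      calc b * (n * (l⁻¹ * n * l)) = (b * n) * (l⁻¹ * n * l) := by group
        _ = n * (b * (l⁻¹ * n * l)) := by rw [hbn]; group
        _ = n * (l⁻¹ * n * l) * b := by rw [e1]; group
  -- the transposition `(0 4)`
  obtain ⟨B, hB, hBi⟩ := N.exists_lift (Equiv.swap 0 4)
  have hBn : Tv V w B := by
    refine ⟨N.le_normalizer hB, fun v hv => ?_⟩
    obtain ⟨x, rfl⟩ := (N.mem_iff v).1 hv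
    have e1 : B * N.e x * B⁻¹ = N.e (x ∘ (Equiv.swap 0 4 : Equiv.Perm (Fin 5)).symm + x) * N.e x := by
      rw [hBi x, ← N.e_add, add_add_cancel']
    rw [e1]
    rcases tv_04 x with h3 | h3
    · left
      rw [(N.ker _).2 h3, one_mul]
    · right
      rw [N.e_eq_iff.2 h3]
  have hcne : N.e cc ≠ N.e (cc ∘ (Equiv.swap 0 4 : Equiv.Perm (Fin 5)).symm) := by
    rw [Ne, N.e_eq_iff]; decide
  have hBne : ∃ v ∈ V, B * v * B⁻¹ ≠ v := ⟨N.e cc, N.e_mem _, by rw [hBi]; exact hcne.symm⟩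
  have h3 := same_of_centre h.ad hwV hAn hBn hAne hBne (N.e cc) (N.e_mem _)
  rw [hA2 _ (h2 (cc_mem N)), hBi] at h3
  exact hcne h3

/-- `V_2* = ⟨v₂^{C_{P*}(n)}⟩`. -/
theorem vn_le_of {A : Subgroup G} (hA : One.cz n ≤ normalizer (A : Set G)) (hv : s * n * s⁻¹ ∈ A) :
    vn N ≤ A := by
  intro v hv1
  by_cases hv2 : v = 1
  · rw [hv2]; exact one_mem _
  obtain ⟨g, hg, e⟩ := trans_vn N (aa_mem N) (Pos.a_ne N) hv1 hv2
  have h1 : g ∈ One.cz n := by
    rw [One.mem_cz, ← h.nn]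
    exact ((mem_lz N).1 hg).2
  rw [← e, h.aa]
  exact (mem_normalizer_iff.1 (hA h1) _).1 hv

/-- `V_1* = ⟨v₁^{C_{P*}(v₂)}⟩`. -/
theorem vm_le_of {A : Subgroup G} (hA : One.cz (s * n * s⁻¹) ≤ normalizer (A : Set G)) (hv : n ∈ A) :
    vn (N.relabel tt) ≤ A := by
  have e1 : (N.relabel tt).e S5.TT.aa = n := by
    rw [FiveMod.relabel_e, ← h.nn, N.e_eq_iff]; left; decide
  have e2 : (N.relabel tt).e S5.TT.nn = s * n * s⁻¹ := by
    rw [FiveMod.relabel_e, ← h.aa, N.e_eq_iff]; left; decide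
  intro v hv1
  by_cases hv2 : v = 1
  · rw [hv2]; exact one_mem _
  obtain ⟨g, hg, e⟩ := trans_vn (N.relabel tt) (aa_mem _) (Pos.a_ne _) hv1 hv2
  have h1 : g ∈ One.cz (s * n * s⁻¹) := by
    rw [One.mem_cz, ← e2]
    exact ((mem_lz _).1 hg).2
  rw [← e, e1]
  exact (mem_normalizer_iff.1 (hA h1) _).1 hv

theorem n1 : ¬ One.cz n ≤ normalizer (V₂ : Set G) := by
  intro hn
  have h2 : vn N ≤ V₂ := h.vn_le_of hn h.base.vV2
  refine h.false_of_le h2 fun v hv => ?_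
  have h3 := h.s' (h2 (h.s_vn hv))
  have e : s⁻¹ * (s * v * s⁻¹) * s = v := by group
  rwa [e] at h3

theorem n2 : ¬ One.cz (s * n * s⁻¹) ≤ normalizer (V₁ : Set G) := by
  intro hn
  apply h.n1
  apply le_normalizer_of
  intro c hc v hv
  have h1 := One.conj_cz h.base.sv1 hc
  have h2 := (mem_normalizer_iff.1 (hn h1) _).1 (h.base.s2 v hv)
  have h3 := h.s'' h2
  have e : s⁻¹ * (s * c * s⁻¹ * (s * v * s⁻¹) * (s * c * s⁻¹)⁻¹) * s = c * v * c⁻¹ := by group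
  rwa [e] at h3

/-- **`One`.** -/
theorem one : One.One T V₁ V₂ L₁ L₂ n (s * n * s⁻¹) s := by
  refine ⟨h.base, ?_, ?_, h.n1, h.n2⟩
  · obtain ⟨b, hb, a, ha, hne⟩ := h.exists_b
    exact ⟨b, hb, a, ha, hne⟩
  · obtain ⟨b, hb, a, ha, hne⟩ := h.exists_b
    refine ⟨s * b * s⁻¹, One.conj_Kk h.base.sv1 hb, s * a * s⁻¹, h.base.s1 a ha, fun e => hne ?_⟩
    have e1 : s * b * s⁻¹ * (s * a * s⁻¹) = s * (b * a) * s⁻¹ := by group
    have e2 : s * a * s⁻¹ * (s * b * s⁻¹) = s * (a * b) * s⁻¹ := by group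
    rw [e1, e2] at e
    exact mul_left_cancel (mul_right_cancel e)

/-- **`⟨C₁, C₂⟩` is nonlocal.** -/
theorem nonLoc : NonLoc (One.cz n) (One.cz (s * n * s⁻¹)) := by
  intro U hU h1 h2
  by_contra hU1
  have hb := h.base
  have hz := hb.vi_mem_zc (fun U hU _ => One.card_le_two h.two U hU) hU hU1 (hb.T_le.trans h1)
    (hb.L2_le.trans h1)
  have hn : normalizer (U : Set G) ≤ normalizer (ZN.zc (ZN.o2 (normalizer (U : Set G))) : Set G) :=
    (MinSimple.VModule.le_normalizer_o2 _).trans (MinSimple.VModule.normalizer_le_normalizer_zc _)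
  set A := ZN.zc (ZN.o2 (normalizer (U : Set G))) with hA
  have hV1 : V₁ ≤ A := hb.V1_le_of (hb.L1_le.trans (h2.trans hn)) hz.1
  have hV : V ≤ A := by
    intro v hv
    obtain ⟨x, hx, y, hy, rfl⟩ := split N hv
    exact mul_mem (h.vm_le_of (h2.trans hn) hz.1 hx) (h.vn_le_of (h1.trans hn) hz.2 hy)
  obtain ⟨c, hc, a, ha, b, hb', hne⟩ := h.mv
  exact hne (MinSimple.VModule.zc_comm _ a (hV1 ha) _ ((mem_normalizer_iff.1 (hn (h1 hc)) b).1 (hV hb')))

end Sit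

end Cfsg.Agent.Omega.IId.Sym

end

section


/-!
# II.d, `SwNat` : a natural member `P'` (`k' = 1, 2`) against a partner which supplies transvections

helper341 (head of `SwNat`), text of helper84 #16986 (2) (referee helper930 #17244).

`SN V₁ n` : `V₁ ≤ K_n`, and `V₁ ≤ O₂(H)` for every 2-local `H ≥ C_G(n)` with `O₂(H) ≤ C_G(n)` (LEMMA X).
If `n ∈ line M' i` and some element of `fac M' i` does not commute with `V₁`:

* `exitN2` : `k' = 1` : `ExitN2 S' P'`;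
* `false_tri` : `k' = 2`, `N_{S'}(V'_i)` is Sylow in `C_G(n)` (there is no triangle, `TriFalse`);
* `one_of`, `nonLoc_of` : `k' = 2`, `N_{S'}(V'_i)` Sylow in `C_G(n)` : `One` with `⟨C₁, C₂⟩` nonlocal;
* `known'` : together (`known`, `known_tri` : the old interface, with an unused `NO3S.Two K`).
-/

set_option autoImplicit false
set_option linter.unusedSectionVars false

namespace Cfsg.Agent.Omega.IId.SwN

open Subgroup Cfsg Cfsg.Agent.ZN.ChoiceBase
open Cfsg.Agent.ZN (o2 zc zl)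
open Cfsg.Agent.Omega.MinPar Cfsg.Agent.Omega.FFThm Cfsg.Agent.Omega.Frame
open Cfsg.Agent.Omega.IId.Sym (exists_tri base_of)
open Cfsg.Agent.Omega.IId.One (cz Kk)

universe u

variable {G : Type u} [Group G]

/-- `V₁ ≤ K_n` and LEMMA X for `V₁`, `n`. -/
structure SN (V₁ : Subgroup G) (n : G) : Prop where
  kk : V₁ ≤ Kk n
  x : ∀ U : Subgroup G, IsPGroup 2 U → U ≠ ⊥ → cz n ≤ normalizer (U : Set G) →
    o2 (normalizer (U : Set G)) ≤ cz n → V₁ ≤ o2 (normalizer (U : Set G))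

variable [Finite G] {F : Type} [Field F] [Finite F] [CharP F 2] {S : Sylow 2 G} {P : Subgroup G}

/-- The natural member: `n ∈ line M i`, `w ∈ fac M i` does not commute with `u ∈ V₁`. -/
theorem false_of_le {V₁ U A : Subgroup G} {n w u : G} (h : SN V₁ n) (hU : IsPGroup 2 U) (hU1 : U ≠ ⊥)
    (hC : cz n ≤ normalizer (U : Set G)) (ho : o2 (normalizer (U : Set G)) ≤ cz n)
    (hA : A ≤ zc (o2 (normalizer (U : Set G)))) (hw : w ∈ A) (hu : u ∈ V₁) (hne : w * u ≠ u * w) : False := by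
  have h1 := h.x U hU hU1 hC ho hu
  exact hne ((MinSimple.VModule.mem_zc.1 (hA hw)).2.1 u h1).symm

/-- `n ∈ Ω₁Z(O₂(H))` -/
theorem mem_zc_of {U : Subgroup G} {n : G} (hc : IsCharacteristicTwoType G) (hn2 : n * n = 1)
    (hU : IsPGroup 2 U) (hU1 : U ≠ ⊥) (hnU : n ∈ normalizer (U : Set G))
    (ho : o2 (normalizer (U : Set G)) ≤ cz n) : n ∈ zc (o2 (normalizer (U : Set G))) := by
  have h2 := MinSimple.Basic.char2_normalizer hc hU hU1
  have h3 : ∀ y ∈ o2 (normalizer (U : Set G)), y * n = n * y := fun y hy => One.mem_cz.1 (ho hy)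
  exact MinSimple.VModule.mem_zc.2 ⟨h2 ⟨hnU, mem_centralizer_iff.2 h3⟩, h3, by rw [pow_two, hn2]⟩

/-! ### `k' = 1` -/

theorem stab_eq_one (M : NatK F (S : Subgroup G) P (zl (S : Subgroup G) P) ⊥ 1) (hSP : (S : Subgroup G) ≤ P) :
    (S : Subgroup G) ≤ stab M 0 := by
  refine le_inf le_rfl ?_
  have h1 : fac M 0 = zl (S : Subgroup G) P := by
    apply le_antisymm (fac_le M 0)
    intro v hv
    exact ⟨hv, fun j hj => absurd (Subsingleton.elim j 0) hj⟩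
  rw [h1]
  exact hSP.trans (MinSimple.VModule.le_normalizer_zl _ _)

/-- **`k' = 1`: exit N2.** -/
theorem exitN2 (hc : IsCharacteristicTwoType G) (hP : IsParS (S : Subgroup G) P)
    (M : NatK F (S : Subgroup G) P (zl (S : Subgroup G) P) ⊥ 1) (hF : Nat.card F = 2) {V₁ : Subgroup G} {n : G}
    (hn : n ∈ line M 0) (hn1 : n ≠ 1) (h : SN V₁ n)
    (hne : ∃ w ∈ zl (S : Subgroup G) P, ∃ u ∈ V₁, w * u ≠ u * w) : S5.Main.ExitN2 (S : Subgroup G) P := by
  have hSP := hP.isLoc.le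
  have hst := stab_eq_one M hSP
  have hSn : (S : Subgroup G) ≤ cz n := fun x hx => One.mem_cz.2 (stab_comm_line M hSP hF hn (hst hx))
  refine ⟨hP, ?_, ?_⟩
  · rw [S5.Nat.card_eq M rfl, hF]
    norm_num
  · intro U hU h1 h2
    by_contra hU1
    have hzn : zc (S : Subgroup G) ≤ zpowers n := by
      intro z hz
      by_cases hz1 : z = 1
      · rw [hz1]; exact one_mem _
      have h3 : z ∈ fac M 0 := ⟨ZN.ChoiceSit.zc_le_zl _ _ hz, fun j hj => absurd (Subsingleton.elim j 0) hj⟩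
      have h4 : z ∈ line M 0 := fix_le_line M hSP h3 fun t ht =>
        (MinSimple.VModule.mem_zc.1 hz).2.1 t (stab_le M 0 ht)
      have h5 : Nat.card (line M 0) = 2 := by rw [card_line, hF]
      rw [(Two.eq_or_eq_of_card_two h5 hn hn1 h4).resolve_left hz1]
      exact mem_zpowers n
    have hC : cz n ≤ normalizer (U : Set G) := by
      refine le_trans ?_ h2
      intro x hx
      refine mem_centralizer_iff.2 fun z hz => ?_
      obtain ⟨k, rfl⟩ := mem_zpowers_iff.1 (hzn hz)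
      exact (Commute.zpow_left (One.mem_cz.1 hx).symm k)
    have hSU : (S : Subgroup G) ≤ normalizer (U : Set G) := hSP.trans h1
    have ho : o2 (normalizer (U : Set G)) ≤ (S : Subgroup G) :=
      MinSimple.VModule.o2_le_of_sylow S.isPGroup' (MinSimple.Basic.not_dvd_relIndex S hSU)
    have hz : zc (S : Subgroup G) ≤ zc (o2 (normalizer (U : Set G))) :=
      MinSimple.VModule.zc_le_zc_o2 hSU S.isPGroup' (MinSimple.Basic.not_dvd_relIndex S hSU) (MinSimple.Basic.char2_normalizer hc hU hU1)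
    have hV : zl (S : Subgroup G) P ≤ zc (o2 (normalizer (U : Set G))) :=
      MinSimple.VModule.zl_le hz (h1.trans ((MinSimple.VModule.le_normalizer_o2 _).trans
        (MinSimple.VModule.normalizer_le_normalizer_zc _)))
    obtain ⟨w, hw, u, hu, hwu⟩ := hne
    exact false_of_le h hU hU1 hC (ho.trans hSn) hV hw hu hwu

/-! ### `k' = 2` -/

section two

variable (M : NatK F (S : Subgroup G) P (zl (S : Subgroup G) P) ⊥ 2) {i j : Fin 2}

/-- `N_S(V_i)` is Sylow in `C_G(n)`: there is no triangle. -/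
theorem false_tri (hc : IsCharacteristicTwoType G) (hP : IsParS (S : Subgroup G) P) (hF : Nat.card F = 2)
    (hij : i ≠ j) {n : G} (hn : n ∈ line M i) (hn1 : n ≠ 1)
    (h2 : 2 ∣ (stab M i).relIndex (centralizer ({n} : Set G))) : False := by
  obtain ⟨T, s, hT⟩ := exists_tri hc hP M hF hij hn hn1 h2
  exact TriFalse.false_of hT hc

/-- `N_S(V_i)` not Sylow in `C_G(n)` (the old interface, with the unused `NO3S.Two K`). -/
theorem known_tri {K : Cls.{u}} (_hTwo : NO3S.Two K) (hH : Hyp K S) (hP : IsParS (S : Subgroup G) P)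
    (hF : Nat.card F = 2) (hij : i ≠ j) {V₁ : Subgroup G} {n : G} (hn : n ∈ line M i) (hn1 : n ≠ 1)
    (h2 : 2 ∣ (stab M i).relIndex (centralizer ({n} : Set G))) (_h : SN V₁ n)
    (_hne : ∃ w ∈ fac M i, ∃ u ∈ V₁, w * u ≠ u * w) : IsKnownSimple' G :=
  (false_tri M hH.ctx.char2 hP hF hij hn hn1 h2).elim

/-- `N_S(V_i)` Sylow in `C_G(n)`: `One`. -/
theorem one_of (hc : IsCharacteristicTwoType G) (hP : IsParS (S : Subgroup G) P) (hF : Nat.card F = 2)
    (hij : i ≠ j) {V₁ : Subgroup G} {n s : G} (hn : n ∈ line M i) (hn1 : n ≠ 1)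
    (hs : s ∈ (S : Subgroup G)) (hs1 : s ∉ stab M i)
    (hsyl : ¬ 2 ∣ (stab M i).relIndex (centralizer ({n} : Set G))) (h : SN V₁ n)
    (hne : ∃ w ∈ fac M i, ∃ u ∈ V₁, w * u ≠ u * w) :
    One.One (stab M i) (fac M i) (fac M j) (grp M {i}) (grp M {j}) n (s * n * s⁻¹) s := by
  have hb := base_of hc hP M hF hij hn hn1 hs hs1 hsyl
  have h2 := two_of hc hP M hij
  obtain ⟨w, hw, u, hu, hwu⟩ := hne
  have n1 : ¬ cz n ≤ normalizer (fac M j : Set G) := by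
    intro hle
    have hp : IsPGroup 2 (fac M j) := hb.pT.to_le hb.V2T
    have ho : o2 (normalizer (fac M j : Set G)) ≤ stab M i :=
      MinSimple.VModule.o2_le_of_sylow hb.pT hb.syl_N2
    exact false_of_le h hp hb.symm.V1_ne_bot hle (ho.trans hb.T_le) hb.V1_le_zcN hw hu hwu
  refine ⟨hb, ⟨u, h.kk hu, w, hw, Ne.symm hwu⟩, ⟨s * u * s⁻¹, One.conj_Kk hb.sv1 (h.kk hu), s * w * s⁻¹,
    hb.s1 w hw, fun e => hwu ?_⟩, n1, ?_⟩
  · have e1 : s * u * s⁻¹ * (s * w * s⁻¹) = s * (u * w) * s⁻¹ := by group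
    have e2 : s * w * s⁻¹ * (s * u * s⁻¹) = s * (w * u) * s⁻¹ := by group
    rw [e1, e2] at e
    exact (mul_left_cancel (mul_right_cancel e)).symm
  · intro hn'
    apply n1
    apply Two.le_normalizer_of
    intro c hcc v hv
    have h3 := One.conj_cz hb.sv1 hcc
    have h4 := (mem_normalizer_iff.1 (hn' h3) _).1 (hb.s2 v hv)
    have h5 := h2.sw1 s⁻¹ (inv_mem hs) (fun h0 => hs1 (inv_mem_iff.1 h0)) _ h4
    have e : s⁻¹ * (s * c * s⁻¹ * (s * v * s⁻¹) * (s * c * s⁻¹)⁻¹) * s⁻¹⁻¹ = c * v * c⁻¹ := by group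
    rwa [e] at h5

/-- `N_S(V_i)` Sylow in `C_G(n)`: `⟨C₁, C₂⟩` is nonlocal. -/
theorem nonLoc_of (hc : IsCharacteristicTwoType G) (hP : IsParS (S : Subgroup G) P) (hF : Nat.card F = 2)
    (hij : i ≠ j) {V₁ : Subgroup G} {n s : G} (hn : n ∈ line M i) (hn1 : n ≠ 1)
    (hs : s ∈ (S : Subgroup G)) (hs1 : s ∉ stab M i)
    (hsyl : ¬ 2 ∣ (stab M i).relIndex (centralizer ({n} : Set G))) (h : SN V₁ n)
    (hne : ∃ w ∈ fac M i, ∃ u ∈ V₁, w * u ≠ u * w) : NonLoc (cz n) (cz (s * n * s⁻¹)) := by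
  intro U hU h1 h2
  by_contra hU1
  have hb := base_of hc hP M hF hij hn hn1 hs hs1 hsyl
  have htwo := two_of hc hP M hij
  have hT2 : ∀ U : Subgroup G, IsPGroup 2 U → stab M i ≤ U → Nat.card U ≤ 2 * Nat.card (stab M i) :=
    fun U hU _ => One.card_le_two htwo U hU
  have hTU : stab M i ≤ normalizer (U : Set G) := hb.T_le.trans h1
  have hLU : grp M {j} ≤ normalizer (U : Set G) := hb.L2_le.trans h1
  have hz := hb.vi_mem_zc hT2 hU hU1 hTU hLU
  have ho := hb.o2_le_T hT2 hTU hLU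
  have hnn : normalizer (U : Set G) ≤ normalizer (zc (o2 (normalizer (U : Set G))) : Set G) :=
    (MinSimple.VModule.le_normalizer_o2 _).trans (MinSimple.VModule.normalizer_le_normalizer_zc _)
  have hV : fac M i ≤ zc (o2 (normalizer (U : Set G))) := hb.V1_le_of (hb.L1_le.trans (h2.trans hnn)) hz.1
  obtain ⟨w, hw, u, hu, hwu⟩ := hne
  exact false_of_le h hU hU1 h1 (ho.trans hb.T_le) hV hw hu hwu

end two

/-- **`SwNat`, the natural side.** -/
theorem known' {K : Cls.{u}} (hN2 : S5.Main.NodeN2 K) (hNo : NoOne K) (hH : Hyp K S)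
    (hP : IsParS (S : Subgroup G) P) {k : ℕ} (hk : 1 ≤ k) (hk2 : k ≤ 2)
    (M : NatK F (S : Subgroup G) P (zl (S : Subgroup G) P) ⊥ k) (hF : Nat.card F = 2) {i : Fin k}
    {V₁ : Subgroup G} {n : G} (hn : n ∈ line M i) (hn1 : n ≠ 1) (h : SN V₁ n)
    (hne : ∃ w ∈ fac M i, ∃ u ∈ V₁, w * u ≠ u * w) : IsKnownSimple' G := by
  obtain rfl | rfl : k = 1 ∨ k = 2 := by omega
  · obtain rfl : i = 0 := Subsingleton.elim i 0
    obtain ⟨w, hw, u, hu, hwu⟩ := hne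
    exact hN2 G hH.ctx hH.cls S hH.full hH.allIn P
      (exitN2 hH.ctx.char2 hP M hF hn hn1 h ⟨w, fac_le M 0 hw, u, hu, hwu⟩)
  · obtain ⟨j, hij⟩ : ∃ j : Fin 2, i ≠ j := ⟨i + 1, by omega⟩
    by_cases h2 : 2 ∣ (stab M i).relIndex (centralizer ({n} : Set G))
    · exact (false_tri M hH.ctx.char2 hP hF hij hn hn1 h2).elim
    · have hT := two_of hH.ctx.char2 hP M hij
      obtain ⟨s, hs, hs1⟩ := Two.exists_not_mem hT.SoS hT.card
      exact (hNo G S hH _ _ _ _ _ _ _ s hT.SoS hs hT.card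
        (one_of M hH.ctx.char2 hP hF hij hn hn1 hs hs1 h2 h hne)
        (nonLoc_of M hH.ctx.char2 hP hF hij hn hn1 hs hs1 h2 h hne)).elim

/-- The old interface of `known'`, with the unused `NO3S.Two K`. -/
theorem known {K : Cls.{u}} (hN2 : S5.Main.NodeN2 K) (_hTwo : NO3S.Two K) (hNo : NoOne K) (hH : Hyp K S)
    (hP : IsParS (S : Subgroup G) P) {k : ℕ} (hk : 1 ≤ k) (hk2 : k ≤ 2)
    (M : NatK F (S : Subgroup G) P (zl (S : Subgroup G) P) ⊥ k) (hF : Nat.card F = 2) {i : Fin k}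
    {V₁ : Subgroup G} {n : G} (hn : n ∈ line M i) (hn1 : n ≠ 1) (h : SN V₁ n)
    (hne : ∃ w ∈ fac M i, ∃ u ∈ V₁, w * u ≠ u * w) : IsKnownSimple' G :=
  known' hN2 hNo hH hP hk hk2 M hF hn hn1 h hne

end Cfsg.Agent.Omega.IId.SwN

end
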