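import Cfsg.Agent.Mrg.Omega.IId.OneOf
import Cfsg.Agent.Mrg.Omega.IId.CaseA
import Cfsg.Agent.Mrg.Omega.IId.SpKill
import Cfsg.Agent.Mrg.Omega.IId.PlaneOf
import Cfsg.Agent.Mrg.Omega.IId.Strq
import Cfsg.Agent.Mrg.Omega.IId.SMain
import Cfsg.Agent.Mrg.Omega.NSix.TkPair

section


/-!
# II.d, CASE 1, `q = 2` : `NoOne QK` and `WrMain2 QK`

helper774.  Case A (`[N₁, N₂] = 1`): helper64 (`CaseA.lean`).  Case B (`[N₁, N₂] ≠ 1`): `N₁` is an orthogonal
module (helper304, helper110), `|N₁| = 32` by the 3-rank (helper110), and `Sp₄(2)` is killed by helper304's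
`SpPlug.false_of`.
-/

set_option autoImplicit false

namespace Cfsg.Agent.Omega.IId.NoOne

open Subgroup Cfsg Cfsg.Agent.ZN Cfsg.Agent.ZN.ChoiceBase
open Cfsg.Agent.Omega.MinPar Cfsg.Agent.Omega.IId.One
open Cfsg.Agent.Omega.SQT.Main (QK)

universe u

/-- no configuration `One` with `⟨C₁, C₂⟩` nonlocal and `m₃(G) ≤ 2`. -/
theorem false_of {G : Type u} [Group G] [Finite G] {T V₁ V₂ L₁ L₂ : Subgroup G} {v₁ v₂ s : G}
    (h : One.One T V₁ V₂ L₁ L₂ v₁ v₂ s) (hnl : NonLoc (cz v₁) (cz v₂)) (hr : PRankLE 3 2 G) : False := by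
  by_cases hI : ∃ x ∈ nc v₁ {v₂}, ∃ y ∈ nc v₂ {v₁}, x * y ≠ y * x
  · refine SpPlug.false_of h ?_ (h.orth hI) (h.card_N1 hI hr)
    intro hle
    obtain ⟨x, hx, y, hy, hne⟩ := hI
    exact hne (mem_centralizer_iff.1 (hle hx) y hy).symm
  · push Not at hI
    exact h.caseA hnl hI

/-- **`NoOne` for `QK`.** -/
theorem noOne : NoOne QK.{u} := by
  intro G _ _ S hH T V₁ V₂ L₁ L₂ v₁ v₂ s _ _ _ hO hN
  exact false_of hO hN (SQT.Multi.three hH.cls)

/-- **CASE 1, `q = 2`, for `QK`.** -/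
theorem wrMain2 : WrMain2 QK.{u} := IId.wrMain2 noOne

end Cfsg.Agent.Omega.IId.NoOne

end

section


/-!
# II.d: `WrSymMain K` from the final theorem of CASE 1, `q = 2`

* `exists_sit` : the normal form;
* `wrSymMain` : `NoOne K` implies `WrSymMain K`;
* `wrSymMainQK`, `wrSymQK` : the case `QK`.
-/

set_option autoImplicit false
set_option linter.unusedSectionVars false

namespace Cfsg.Agent.Omega.IId.Sym

open Subgroup Cfsg Cfsg.Agent.ZN.ChoiceBase
open Cfsg.Agent.ZN (o2 zc zl)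
open Cfsg.Agent.Omega.MinPar Cfsg.Agent.Omega.FFThm Cfsg.Agent.Omega.Frame
open Cfsg.Agent.Omega.FrameMulti (IsSym IsNat LeafSymWr)
open Cfsg.Agent.Omega.S5.Mod Cfsg.Agent.Omega.S5.TT Cfsg.Agent.Omega.S5.Types
open Cfsg.Agent.Omega.IId.Two
open scoped commutatorElement

universe u

theorem adapt_congr {G : Type u} [Group G] {V L S S₁ : Subgroup G} {N : FiveMod V L} (h : Adapt S N)
    (e : S = S₁) : Adapt S₁ N := e ▸ h

/-- The normal form of CASE 1. -/
theorem exists_sit {G : Type u} [Group G] [Finite G] (hc : IsCharacteristicTwoType G) {S S' : Sylow 2 G}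
    {P P' : Subgroup G} (hp : Pair S S' P P') {F : Type} [Field F] [Finite F] [CharP F 2]
    (M : NatK F (S : Subgroup G) P (zl (S : Subgroup G) P) ⊥ 2)
    (N : FiveMod (zl (S' : Subgroup G) P') P') {i j : Fin 2} (hij : i ≠ j) (hF : Nat.card F = 2)
    (hN : Adapt (S' : Subgroup G) N) (hI : Ind M (zl (S' : Subgroup G) P') {i}) (hn : N.e nn ∈ line M i)
    (hsyl : ¬ 2 ∣ (stab M i).relIndex (centralizer ({N.e nn} : Set G))) {s : G}
    (hs : s ∈ (S : Subgroup G)) (hs1 : s ∉ stab M i) :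
    ∃ g : G, Sit S (stab M i) (fac M i) (fac M j) (grp M {i}) (grp M {j}) (N.e nn) s (N.cj g) := by
  have hn1 := n_ne_one N
  have hpre := pre_of hc hp.star M hF hij hn hn1 hs hs1
  obtain ⟨g, hg1, hg2, hg3⟩ := exists_nf hpre hN rfl hsyl
  have hVP : zl (S' : Subgroup G) P' ≤ P := hp.le.trans hp.star.isLoc.le
  refine ⟨g, ?_⟩
  have hgn : g * N.e nn * g⁻¹ = N.e nn := by rw [hg1, mul_inv_cancel_right]
  refine ⟨base_of hc hp.star M hF hij hn hn1 hs hs1 hsyl, hpre.toTwo, hs, hs1, adapt_congr (hN.cj g) hg2,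
    ?_, ?_, ?_⟩
  · rw [FiveMod.cj_e, hgn]
  · rw [FiveMod.cj_e, hg3]
  · obtain ⟨w, hw, a, ha, -, h3⟩ := exists_move hI hVP (Set.mem_singleton i)
    refine ⟨g⁻¹, ?_, w, hw, g * a * g⁻¹, ⟨a, ha, rfl⟩, ?_⟩
    · rw [One.mem_cz]
      calc g⁻¹ * N.e nn = g⁻¹ * (N.e nn * g) * g⁻¹ := by group
        _ = N.e nn * g⁻¹ := by rw [← hg1]; group
    · have e : g⁻¹ * (g * a * g⁻¹) * g⁻¹⁻¹ = a := by group
      rw [e]
      intro h4
      apply h3
      rw [commutatorElement_eq_one_iff_mul_comm]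
      exact h4

/-- **`WrSymMain K` from `NoOne K`.** -/
theorem wrSymMain {K : Cls.{u}} (hNo : IId.NoOne K) : WrSymMain K := by
  intro G _ _ S S' hH P P' hp F _ _ _ M N i hF hN hI hn _ _ hsyl
  have hc := hH.ctx.char2
  obtain ⟨j, hij⟩ : ∃ j, i ≠ j := ⟨1 - i, by clear * -; revert i; decide⟩
  have hT := two_of hc hp.star M hij
  obtain ⟨s, hs, hs1⟩ := Two.exists_not_mem hT.SoS hT.card
  obtain ⟨g, h⟩ := exists_sit hc hp M N hij hF hN hI hn hsyl hs hs1
  exact hNo G S hH _ _ _ _ _ _ _ s hT.SoS hs hT.card h.one h.nonLoc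

/-- **`WrSym K`** from `LeafSymWr K`, `WrSymBig K`, `NO3S.Two K` and `NoOne K`. -/
theorem wrSym_of {K : Cls.{u}} (hSW : LeafSymWr K) (hBig : WrSymBig K) (hTwo : Cfsg.Agent.Omega.NO3S.Two K)
    (hNo : IId.NoOne K) : WrSym K := wrSym hSW hBig hTwo (wrSymMain hNo)

/-- `WrSym K` without `NO3S.Two K` (there is no triangle). -/
theorem wrSym_of' {K : Cls.{u}} (hSW : LeafSymWr K) (hBig : WrSymBig K) (hNo : IId.NoOne K) : WrSym K :=
  wrSym_free hSW hBig (wrSymMain hNo)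

open Cfsg.Agent.Omega.SQT.Main (QK)

/-- **`WrSymMain` for `QK`.** -/
theorem wrSymMainQK : WrSymMain QK.{u} := wrSymMain NoOne.noOne

/-- **`WrSym` for `QK`** from `LeafSymWr QK` and `NO3S.Two QK`. -/
theorem wrSymQK (hSW : LeafSymWr QK.{u}) (hTwo : Cfsg.Agent.Omega.NO3S.Two QK.{u}) : WrSym QK.{u} :=
  wrSym_of hSW Strq.wrSymBig hTwo NoOne.noOne

/-- `WrSym` for the quasithin half, from `LeafSymWr QK` only. -/
theorem wrSymQK' (hSW : LeafSymWr QK.{u}) : WrSym QK.{u} := wrSym_of' hSW Strq.wrSymBig NoOne.noOne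

end Cfsg.Agent.Omega.IId.Sym

end

section


/-!
# II.d: `WrSymBig K`, the part `k = 2`, `m' ≥ 3`

Two natural factors, `q = 2`, against one factor `S_{2^m'+1}`, `m' ≥ 3`.

* `exists_fac_swap` : a factor of `V` induces the transposition `(i j)` and its line is `{1, r_ij}`;
* `MSit` : CASE 1 against one even-subset module with the facts (F1), (F2), (H1) (`NSix/AllFacts.lean`);
* `MSit.one`, `MSit.nonLoc` : `One` and nonlocality (helper814's trick `S5.NatBig.kill`);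
* `WrSymMany K` : the part with `k ≥ 3` factors;
* `wrSymBig_of'` : `NoOne K` and `WrSymMany K` imply `WrSymBig K` (`wrSymBig_of` : the old interface, with an
  unused `NO3S.Two K`).
-/

set_option autoImplicit false
set_option linter.unusedSectionVars false

namespace Cfsg.Agent.Omega.IId.Sym

open Subgroup Cfsg Cfsg.Agent.ZN.ChoiceBase
open Cfsg.Agent.ZN (o2 zc zl)
open Cfsg.Agent.Omega.MinPar Cfsg.Agent.Omega.FFThm Cfsg.Agent.Omega.Frame
open Cfsg.Agent.Omega.FrameFF (cv Free)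
open Cfsg.Agent.Omega.FrameMulti (IsSym IsNat Typed AllTyped)
open Cfsg.Agent.Omega.S5.Def
open Cfsg.Agent.Omega.S5.NatBig (Facts kill acts_pair)
open Cfsg.Agent.Omega.NSix.Base (zz rr)
open Cfsg.Agent.Omega.NSix.Basic (zz_mem zz_comm zz_sq zz_inv rr_mem zz_conj rr_sq rr_ne_one)
open Cfsg.Agent.MinSimple.VModule (le_normalizer_zl zc_le)
open Cfsg.Agent.Omega.IId.Two
open scoped commutatorElement

universe u

variable {G : Type u} [Group G]

/-! ### The supply -/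

section supply

variable {m : ℕ} {V L : Subgroup G} {ε : (Fin m → ZMod 2) → G}

/-- An element of `O₂(C_G(r_ij))` maps `z_i` to `z_i` or `z_j`. -/
theorem facts_conj (F : Facts ε L) (h : EvenSet m V L ε) (hm : 3 ≤ m) {i j : Fin m} (hij : i ≠ j) {x : G}
    (hx : x ∈ o2 (centralizer ({rr ε i j} : Set G))) :
    x * zz ε i * x⁻¹ = zz ε i ∨ x * zz ε i * x⁻¹ = zz ε j :=
  acts_pair h hm (F.le i j hij hx) fun k h1 h2 => F.pair i j hij k h1 h2 x hx

/-- `[O₂(C_G(r_ij)), V] ≤ ⟨r_ij⟩`. -/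
theorem facts_comm (F : Facts ε L) (h : EvenSet m V L ε) (hm : 3 ≤ m) {i j : Fin m} (hij : i ≠ j) {x v : G}
    (hx : x ∈ o2 (centralizer ({rr ε i j} : Set G))) (hv : v ∈ V) :
    v * x * v⁻¹ * x⁻¹ = 1 ∨ v * x * v⁻¹ * x⁻¹ = rr ε i j := by
  obtain ⟨u, rfl⟩ := h.surj v hv
  -- `x` acts as `1` or as `(i j)`
  obtain ⟨σ, hσ⟩ := h.perm x (F.le i j hij hx)
  have h1 : ∀ k, k ≠ i → k ≠ j → σ k = k := fun k h1 h2 =>
    (h.fixes_iff hm hσ k).1 (F.pair i j hij k h1 h2 x hx)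
  have h2 : σ = 1 ∨ σ = Equiv.swap i j := by
    by_cases h3 : σ i = i
    · left
      ext k
      by_cases hki : k = i
      · rw [hki, h3]; rfl
      by_cases hkj : k = j
      · rw [hkj]
        have h4 : σ j = j := by
          by_contra h5
          by_cases h6 : σ j = i
          · exact hij (σ.injective (h3.trans h6.symm))
          · exact h5 (σ.injective (h1 _ h6 h5))
        rw [h4]; rfl
      · rw [h1 k hki hkj]; rfl
    · right
      have h4 : σ i = j := by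
        by_contra h5
        exact h3 (σ.injective (h1 _ h3 h5))
      have h5 : σ j = i := by
        by_contra h6
        by_cases h7 : σ j = j
        · exact hij (σ.injective (h4.trans h7.symm))
        · exact h7 (σ.injective (h1 _ h6 h7))
      ext k
      by_cases hki : k = i
      · rw [hki, h4, Equiv.swap_apply_left]
      by_cases hkj : k = j
      · rw [hkj, h5, Equiv.swap_apply_right]
      · rw [h1 k hki hkj, Equiv.swap_apply_of_ne_of_ne hki hkj]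
  have e : ε u * x * (ε u)⁻¹ * x⁻¹ = ε u * (x * ε u * x⁻¹)⁻¹ := by group
  rcases h2 with rfl | rfl
  · left
    have h3 : x * ε u * x⁻¹ = ε u := hσ u
    rw [e, h3, mul_inv_cancel]
  · by_cases hu : u i = u j
    · left
      have h3 := (S5.Pair.acts_swap h hσ u).1 hu
      rw [e, h3, mul_inv_cancel_right, mul_inv_cancel]
    · right
      have h3 := (S5.Pair.acts_swap h hσ u).2 hu
      rw [e, h3, mul_inv_rev, h.inv, h.inv, h.comm _ u, ← mul_assoc, h.sq, one_mul, h.add]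
      rfl

/-- `V ≤ Kk n`, `n = r_ij`. -/
theorem facts_le_Kk (F : Facts ε L) (h : EvenSet m V L ε) (hm : 3 ≤ m) {i j : Fin m} (hij : i ≠ j) :
    V ≤ One.Kk (rr ε i j) := by
  intro v hv
  refine ⟨One.mem_cz.2 (h.comm_mem hv (rr_mem h i j)), fun x hx => ?_⟩
  exact (Triangle.mem_zpowers_iff_of_sq (rr_sq h i j)).2 (facts_comm F h hm hij hx hv)

/-- `V ≤ KK n`, `n = r_ij`. -/
theorem facts_le_KK (F : Facts ε L) (h : EvenSet m V L ε) (hm : 3 ≤ m) {i j : Fin m} (hij : i ≠ j) :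
    V ≤ Triangle.KK (rr ε i j) := by
  intro v hv
  refine ⟨h.comm_mem hv (rr_mem h i j), fun x hx => ?_⟩
  exact (Triangle.mem_zpowers_iff_of_sq (rr_sq h i j)).2 (facts_comm F h hm hij hx hv)

/-- An element acting as `(i j)` does not commute with `z_i`. -/
theorem lswap_ne (h : EvenSet m V L ε) (hm : 3 ≤ m) {i j : Fin m} (hij : i ≠ j) {b : G}
    (hb : Acts ε b (Equiv.swap i j)) : zz ε i * b ≠ b * zz ε i := by
  intro e
  have h1 := hb.single i
  rw [Equiv.swap_apply_left] at h1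
  change b * zz ε i * b⁻¹ = zz ε j at h1
  rw [← e, mul_inv_cancel_right] at h1
  exact hij (h.single_inj hm h1)

end supply

/-! ### CASE 1 -/

/-- CASE 1 against one even-subset module of degree `m ≥ 5`. -/
structure MSit [Finite G] (S : Sylow 2 G) (T V₁ V₂ L₁ L₂ : Subgroup G) (n s : G) {m : ℕ} {V L : Subgroup G}
    (ε : (Fin m → ZMod 2) → G) (i j : Fin m) : Prop where
  base : One.Base T V₁ V₂ L₁ L₂ n (s * n * s⁻¹) s
  two : IId.Two (S : Subgroup G) T V₁ V₂ L₁ L₂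
  sS : s ∈ (S : Subgroup G)
  sT : s ∉ T
  ev : EvenSet m V L ε
  m5 : 5 ≤ m
  F : Facts ε L
  ij : i ≠ j
  nn : rr ε i j = n
  b : ∃ b ∈ V₁, Acts ε b (Equiv.swap i j)

namespace MSit

variable [Finite G] {S : Sylow 2 G} {T V₁ V₂ L₁ L₂ : Subgroup G} {n s : G} {m : ℕ} {V L : Subgroup G}
  {ε : (Fin m → ZMod 2) → G} {i j : Fin m} (h : MSit S T V₁ V₂ L₁ L₂ n s (V := V) (L := L) ε i j)

include h

theorem m3 : 3 ≤ m := le_trans (by norm_num) h.m5

theorem s'' {v : G} (hv : v ∈ V₁) : s⁻¹ * v * s ∈ V₂ := by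
  have h1 := h.two.sw1 s⁻¹ (inv_mem h.sS) (fun h1 => h.sT (inv_mem_iff.1 h1)) v hv
  rwa [inv_inv] at h1

theorem le_Kk : V ≤ One.Kk n := by
  have := facts_le_Kk h.F h.ev h.m3 h.ij
  rwa [h.nn] at this

/-- An element of `Kk n` which does not commute with `V₁`. -/
theorem exists_b : ∃ b ∈ One.Kk n, ∃ a ∈ V₁, b * a ≠ a * b := by
  obtain ⟨b, hb, hbs⟩ := h.b
  exact ⟨zz ε i, h.le_Kk (zz_mem h.ev i), b, hb, lswap_ne h.ev h.m3 h.ij hbs⟩

/-- No local subgroup `M = N_G(U) ≥ C_G(n), L₁` -/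
theorem no_local {U : Subgroup G} (hU : IsPGroup 2 U) (hU1 : U ≠ ⊥)
    (h1 : One.cz n ≤ normalizer (U : Set G)) (h2 : L₁ ≤ normalizer (U : Set G)) : False := by
  have hb := h.base
  have hz := hb.vi_mem_zc (fun U hU _ => One.card_le_two h.two U hU) hU hU1 (hb.T_le.trans h1)
    (hb.L2_le.trans h1)
  have hn : normalizer (U : Set G) ≤ normalizer (ZN.zc (ZN.o2 (normalizer (U : Set G))) : Set G) :=
    (MinSimple.VModule.le_normalizer_o2 _).trans (MinSimple.VModule.normalizer_le_normalizer_zc _)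
  have hV1 : V₁ ≤ ZN.zc (ZN.o2 (normalizer (U : Set G))) := hb.V1_le_of (h2.trans hn) hz.1
  obtain ⟨b, hb1, hbs⟩ := h.b
  have hbz := MinSimple.VModule.mem_zc.1 (hV1 hb1)
  have hnz := MinSimple.VModule.mem_zc.1 hz.1
  refine kill h.base.C2T h.ev h.m5 h.F h.ij (M := normalizer (U : Set G))
    (MinSimple.Basic.char2_normalizer h.base.C2T hU hU1) ?_ ?_ hbs hbz.1 hbz.2.1
  · rw [h.nn]; exact h1
  · rw [h.nn]; exact hnz.2.1

theorem n1 : ¬ One.cz n ≤ normalizer (V₂ : Set G) := by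
  intro hn
  have hb := h.base
  refine h.no_local (U := V₂) (hb.pT.to_le hb.V2T) hb.symm.V1_ne_bot hn ?_
  apply le_normalizer_of
  intro l hl v hv
  rw [hb.L12 l hl v hv, mul_inv_cancel_right]
  exact hv

theorem n2 : ¬ One.cz (s * n * s⁻¹) ≤ normalizer (V₁ : Set G) := by
  intro hn
  apply h.n1
  apply le_normalizer_of
  intro c hc v hv
  have h1 := One.conj_cz h.base.sv1 hc
  have h2 := (mem_normalizer_iff.1 (hn h1) _).1 (h.base.s2 v hv)
  have h3 := h.s'' h2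
  have e : s⁻¹ * (s * c * s⁻¹ * (s * v * s⁻¹) * (s * c * s⁻¹)⁻¹) * s = c * v * c⁻¹ := by group
  rwa [e] at h3

/-- **`One`.** -/
theorem one : One.One T V₁ V₂ L₁ L₂ n (s * n * s⁻¹) s := by
  refine ⟨h.base, ?_, ?_, h.n1, h.n2⟩
  · obtain ⟨b, hb, a, ha, hne⟩ := h.exists_b
    exact ⟨b, hb, a, ha, hne⟩
  · obtain ⟨b, hb, a, ha, hne⟩ := h.exists_b
    refine ⟨s * b * s⁻¹, One.conj_Kk h.base.sv1 hb, s * a * s⁻¹, h.base.s1 a ha, fun e => hne ?_⟩
    have e1 : s * b * s⁻¹ * (s * a * s⁻¹) = s * (b * a) * s⁻¹ := by group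
    have e2 : s * a * s⁻¹ * (s * b * s⁻¹) = s * (a * b) * s⁻¹ := by group
    rw [e1, e2] at e
    exact mul_left_cancel (mul_right_cancel e)

/-- **`⟨C₁, C₂⟩` is nonlocal.** -/
theorem nonLoc : NonLoc (One.cz n) (One.cz (s * n * s⁻¹)) := by
  intro U hU h1 h2
  by_contra hU1
  exact h.no_local hU hU1 h1 (h.base.L1_le.trans h2)

end MSit

/-! ### The transposition in a factor -/

/-- **A factor of `V` induces the transposition `(i j)`, and its line is `{1, r_ij}`.** -/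
theorem exists_fac_swap [Finite G] (hc : IsCharacteristicTwoType G) {S : Sylow 2 G} {P V' L : Subgroup G}
    {F : Type} [Field F] (M : NatK F (S : Subgroup G) P (zl (S : Subgroup G) P) ⊥ 2)
    (hP : IsLoc (S : Subgroup G) P) {I : Set (Fin 2)} (hI : Ind M V' I) (hVP : V' ≤ P) {m : ℕ}
    {ε : (Fin m → ZMod 2) → G} (h : EvenSet m V' L ε) (hm : 3 ≤ m) (Fa : Facts ε L) {i j : Fin m}
    (hij : i ≠ j) {b : G} (hb : b ∈ zl (S : Subgroup G) P) (hbs : Acts ε b (Equiv.swap i j)) :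
    ∃ i₀ : Fin 2, rr ε i j ∈ line M i₀ ∧ ∃ a ∈ fac M i₀, Acts ε a (Equiv.swap i j) := by
  -- the coordinate
  have hne : b * zz ε i ≠ zz ε i * b := Ne.symm (lswap_ne h hm hij hbs)
  obtain ⟨i₀, hi₀, h1⟩ := exists_coord hI hVP hb (zz_mem h i) hne
  obtain ⟨w, hw, h2, h3, h4⟩ := exists_root hI hVP hb hi₀ 1
  have h5 : ⁅b, w⁆ = rr ε i j := by
    obtain ⟨u, rfl⟩ := h.surj w hw
    have h6 : ⁅b, ε u⁆ ≠ 1 := root_ne one_ne_zero h1 h3
    by_cases hu : u i = u j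
    · exfalso
      apply h6
      rw [commutatorElement_eq_one_iff_mul_comm]
      exact (S5.Pair.acts_swap h hbs u).1 hu
    · rw [commutatorElement_def, (S5.Pair.acts_swap h hbs u).2 hu, h.comm, mul_inv_cancel_right, h.add]
      rfl
  have hn : rr ε i j ∈ line M i₀ := by
    rw [← h5, mem_line]
    exact ⟨h2, h4⟩
  refine ⟨i₀, hn, ?_⟩
  obtain ⟨j₀, hij₀⟩ : ∃ j, i₀ ≠ j := ⟨1 - i₀, by clear * -; revert i₀; decide⟩
  obtain ⟨a, ha, h6, h7⟩ := exists_component M hb i₀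
  rw [compl_eq hij₀] at h7
  -- the other factor centralises `V'`
  have hnV := line_le M i₀ hn
  have key : ∀ c ∈ fac M j₀, ∀ v ∈ V', v * c * v⁻¹ * c⁻¹ = 1 := by
    intro c hc' v hv
    have h8 := (Half.NatA.app_two' hc S M hP hij₀ hnV.1 (fun x hx => hnV.2 x hx) (rr_ne_one h hm hij) hc'.1
      (fun x hx => hc'.2 x hx)).1
    refine (facts_comm Fa h hm hij h8 hv).resolve_right fun h9 => ?_
    obtain ⟨d, -, h10⟩ := hI.act v hv
    have h11 := e_comm hc'.1 (hVP hv) h10 i₀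
    have h12 : ⁅c, v⁆ = (rr ε i j)⁻¹ := by
      rw [← h9, commutatorElement_def]; group
    rw [h12, NSix.Basic.rr_inv h] at h11
    have h13 : M.e c i₀ = 0 := hc'.2 i₀ hij₀
    have h14 : M.e (rr ε i j) i₀ = 0 := by
      apply NatPair.ext2
      · rw [h11.2.1, h13]; simp
      · rw [h11.2.2]; rfl
    apply rr_ne_one h hm hij
    refine (e_eq_zero M hnV.1).1 (funext fun x => ?_)
    by_cases hx : x = i₀
    · rw [hx, h14]; rfl
    · exact hnV.2 x hx
  refine ⟨a, ha, fun x => ?_⟩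
  have h8 := key (a⁻¹ * b) h7 (ε x) (h.mem x)
  have h9 : ε x * (a⁻¹ * b) = (a⁻¹ * b) * ε x := by
    rw [mul_inv_eq_one, mul_inv_eq_iff_eq_mul] at h8
    exact h8
  rw [← hbs x]
  calc a * ε x * a⁻¹ = a * (ε x * (a⁻¹ * b)) * b⁻¹ := by group
    _ = b * ε x * b⁻¹ := by rw [h9]; group

/-! ### `WrSymBig` -/

/-- The part of `WrSymBig` with more than two factors. -/
def WrSymMany (K : Cls.{u}) : Prop :=
  ∀ (G : Type u) [Group G] [Finite G] (S S' : Sylow 2 G), Hyp K S → ∀ (P P' : Subgroup G), Pair S S' P P' →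
    ∀ (F : Type) [Field F] [Finite F] [CharP F 2] (k m' : ℕ)
      (_ : NatK F (S : Subgroup G) P (zl (S : Subgroup G) P) ⊥ k)
      (_ : SymK (S' : Subgroup G) P' (zl (S' : Subgroup G) P') ⊥ 1 m'), 2 < k → 2 ≤ m' → Nat.card F = 2 →
      IsKnownSimple' G

/-- **`WrSymBig K`** from `NoOne K` and `WrSymMany K`. -/
theorem wrSymBig_of' {K : Cls.{u}} (hNo : IId.NoOne K) (hMany : WrSymMany K) : WrSymBig K := by
  intro G _ _ S S' hH P P' hp F _ _ _ k m' M M' hk hm' hF hb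
  by_cases hk2 : 2 < k
  · exact hMany G S S' hH P P' hp F k m' M M' hk2 hm' hF
  obtain rfl : k = 2 := by omega
  have hm3 : 3 ≤ m' := by omega
  have hc := hH.ctx.char2
  obtain ⟨t1, t2⟩ := typed_of hH.typed hp
  have f2 : Free (S' : Subgroup G) P' := free_of_sym M' (by omega)
  have hS' : IsSym (S' : Subgroup G) P' 1 m' := by
    refine ⟨?_⟩
    rw [show cv (S' : Subgroup G) P' = ⊥ from f2]
    exact M'
  have o1 := hp.off hc t2.noOver
  have o2 := hp.symm.off hc t1.noOver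
  obtain ⟨ε, hε, h0, hs⟩ := S5.Pair.exists_lab (S' : Subgroup G) hm' hp.star'.isLoc.le hS' f2
  have hn5 : 5 ≤ 2 ^ m' + 1 := S5.Syl.five_le hm'
  have hn3 : 3 ≤ 2 ^ m' + 1 := (by norm_num : 3 ≤ 5).trans hn5
  have Fa : Facts ε P' := NSix.AllFacts.allFacts G hc S' P' m' ε hm3 hp.star' hε h0
  obtain ⟨b, hb, i, j, hij, hbs⟩ := S5.Nat.exists_swap hε (hs _ hp.le' o2) o2.ne
  obtain ⟨I, hI⟩ := exists_ind M hp.le o1
  have hVP : zl (S' : Subgroup G) P' ≤ P := hp.le.trans hp.star.isLoc.le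
  obtain ⟨i₀, hn, a, ha, has⟩ := exists_fac_swap hc M hp.star.isLoc hI hVP hε hn3 Fa hij hb hbs
  obtain ⟨j₀, hij₀⟩ : ∃ j, i₀ ≠ j := ⟨1 - i₀, by clear * -; revert i₀; decide⟩
  have hn1 : rr ε i j ≠ 1 := rr_ne_one hε hn3 hij
  by_cases h2 : 2 ∣ (stab M i₀).relIndex (centralizer ({rr ε i j} : Set G))
  · obtain ⟨T, s, hT⟩ := exists_tri hc hp.star M hF hij₀ hn hn1 h2
    exact (TriFalse.false_of hT hc).elim
  · exfalso
    have hT := two_of hc hp.star M hij₀
    obtain ⟨s, hs1, hs2⟩ := Two.exists_not_mem hT.SoS hT.card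
    have h : MSit S (stab M i₀) (fac M i₀) (fac M j₀) (grp M {i₀}) (grp M {j₀}) (rr ε i j) s
        (V := zl (S' : Subgroup G) P') (L := P') ε i j :=
      ⟨base_of hc hp.star M hF hij₀ hn hn1 hs1 hs2 h2, hT, hs1, hs2, hε, hn5, Fa, hij, rfl, a, ha, has⟩
    exact hNo G S hH _ _ _ _ _ _ _ s hT.SoS hs1 hT.card h.one h.nonLoc

/-- The old interface of `wrSymBig_of'`, with the unused `NO3S.Two K`. -/
theorem wrSymBig_of {K : Cls.{u}} (_hTwo : Cfsg.Agent.Omega.NO3S.Two K) (hNo : IId.NoOne K)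
    (hMany : WrSymMany K) : WrSymBig K := wrSymBig_of' hNo hMany

end Cfsg.Agent.Omega.IId.Sym

end
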