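import Cfsg.Agent.Mrg.Omega.IId.SideOf
import Cfsg.Agent.Mrg.Omega.IId.BtsOf
import Cfsg.Agent.Mrg.Omega.IId.ExcKill
import Cfsg.Agent.Mrg.Omega.NatPair.Pair


/-!
# II.d, CASE 1, `q ≥ 4`: the glue (#15214 (1)-(3), #15359 (0), (1), #15523)

`M : NatK F S P (zl S P) ⊥ 2`, `V₁ = fac M i`, `V₂ = fac M j`, `R = line M i`, `T = stab M i = N_S(V₁)`,
`Q = O₂(N_G(R))`.

* `Four M i` : `T` is a Sylow 2-subgroup of `N_G(R)`, `|F| ≥ 4`; `Four.swap : Four M j`; `four_of`;
* `Four.nonLoc`, `Four.bts` : unmixed pairs give `NatMod F V₁`, `BTS V₁ (pt N)` and `V₂ ≤ CenX V₁ (pt N)`.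
-/

set_option autoImplicit false
set_option linter.unusedSectionVars false

namespace Cfsg.Agent.Omega.IId.FourSide

open Subgroup Cfsg Cfsg.Agent.ZN Cfsg.Agent.ZN.ChoiceBase
open Cfsg.Agent.Omega.MinPar Cfsg.Agent.Omega.FFThm Cfsg.Agent.Omega.Frame
open Cfsg.Agent.Lib.SL2Mat
open Cfsg.Agent.Omega.NatPair (ap ap_mul ap_one ap_inv_ap ap_ap_inv exists_ap ap_add NatMod PreMod)
open scoped commutatorElement

universe u

section four

variable {G : Type u} [Group G] [Finite G] {F : Type} [Field F] [Finite F] [CharP F 2]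
  {S : Sylow 2 G} {P : Subgroup G}

/-- CASE 1, `q ≥ 4`: `N_S(V_i)` is a Sylow 2-subgroup of `N_G(line M i)`. -/
structure Four (M : NatK F (S : Subgroup G) P (zl (S : Subgroup G) P) ⊥ 2) (i : Fin 2) : Prop where
  c2T : IsCharacteristicTwoType G
  par : IsParS (S : Subgroup G) P
  q4 : 4 ≤ Nat.card F
  syl : ¬ 2 ∣ (stab M i).relIndex (normalizer (line M i : Set G))

namespace Four

variable {M : NatK F (S : Subgroup G) P (zl (S : Subgroup G) P) ⊥ 2} {i j : Fin 2} (h : Four M i)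
include h

theorem le : (S : Subgroup G) ≤ P := h.par.isLoc.le

theorem two (hij : i ≠ j) : Two (S : Subgroup G) (stab M i) (fac M i) (fac M j) (grp M {i}) (grp M {j}) :=
  two_of h.c2T h.par M hij

theorem T2 : IsPGroup 2 (stab M i) := S.isPGroup'.to_le (stab_le M i)

/-- The symmetry `i ↔ j`. -/
theorem swap (hij : i ≠ j) : Four M j where
  c2T := h.c2T
  par := h.par
  q4 := h.q4
  syl := SideOf.syl_other h.par M hij h.syl

/-- A 2-group containing `T` which normalises the line is `T`. -/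
theorem le_T {U : Subgroup G} (hU : IsPGroup 2 U) (hTU : stab M i ≤ U)
    (hUR : U ≤ normalizer (line M i : Set G)) : U ≤ stab M i := by
  have h1 := SideOf.card_dvd_of (stab_normalizes_line M h.le i) h.syl hU hUR
  exact (Subgroup.eq_of_le_of_card_ge hTU (Nat.le_of_dvd Nat.card_pos h1)).ge

/-- **Nonlocality** of `⟨N_G(V₁), N_G(R)⟩` for unmixed pairs. -/
theorem nonLoc (hij : i ≠ j)
    (hmt : ∃ g ∈ normalizer (line M i : Set G), ∃ v ∈ fac M i, ∃ w ∈ fac M i,
      v * (g * w * g⁻¹) ≠ g * w * g⁻¹ * v) :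
    NonLoc (normalizer (fac M i : Set G)) (normalizer (line M i : Set G)) := by
  have h' := h.swap hij
  have hst : stab M i = stab M j := stab_eq M h.le hij
  refine BtsOf.nonLoc h.c2T (h.two hij) (line_le M j) ?_ ?_ ?_ hmt
  · rw [hst]
    exact stab_normalizes_line M h.le j
  · intro U hU hTU hUR
    rw [hst] at hTU ⊢
    exact h'.le_T hU hTU hUR
  · intro c hc hcS hc1
    have hcl : c ∈ line M i := fix_le_line M h.le hc hcS
    -- another element of the line
    obtain ⟨w, hw, hw1, hwc⟩ : ∃ w ∈ line M i, w ≠ 1 ∧ w ≠ c := by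
      by_contra hcon
      push Not at hcon
      have h1 : (line M i : Set G) ⊆ {1, c} := by
        intro x hx
        by_cases hx1 : x = 1
        · exact Or.inl hx1
        · exact Or.inr (hcon x hx hx1)
      have h2 := Set.ncard_le_ncard h1 (Set.toFinite _)
      have h3 : ({1, c} : Set G).ncard ≤ 2 := (Set.ncard_insert_le 1 {c}).trans (by rw [Set.ncard_singleton])
      have h4 : (line M i : Set G).ncard = Nat.card F := card_line M i
      have h5 := h.q4
      omega
    obtain ⟨d, hd, hdn, hdc⟩ := exists_tor M hcl hw hc1 hw1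
    refine ⟨d, hdn, ?_, ?_, ?_⟩
    · exact (h.two hij).L12 d hd
    · rw [hdc]
      exact line_le M i hw
    · rw [hdc]
      exact hwc

end Four

/-! ### The module -/

section pre

variable {M : NatK F (S : Subgroup G) P (zl (S : Subgroup G) P) ⊥ 2} {i j : Fin 2}
  {N : PreMod F (fac M i)}

/-- `[V₁, w] = R` for an element `w` acting as `up b`, `b ≠ 0`. -/
theorem line_le_comm {w : G} (hw : ∃ b : F, ∀ v ∈ fac M i, M.e (w * v * w⁻¹) i = ap (up b) (M.e v i))
    (hwn : w ∈ normalizer (fac M i : Set G)) (hne : ∃ v ∈ fac M i, v * w ≠ w * v) {r : G} (hr : r ∈ line M i) :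
    ∃ v ∈ fac M i, ⁅v, w⁆ = r := by
  obtain ⟨b, hb⟩ := hw
  have hb0 : b ≠ 0 := by
    rintro rfl
    obtain ⟨v, hv, hvw⟩ := hne
    apply hvw
    have h1 : w * v * w⁻¹ = v := by
      refine ext_fac M ((mem_normalizer_iff.1 hwn v).1 hv) hv ?_
      rw [hb v hv, up_zero, NatPair.ap_one]
    calc v * w = w * v * w⁻¹ * w := by rw [h1]
      _ = w * v := by group
  obtain ⟨v, hv, hev⟩ := exists_fac M i ![0, - M.e r i 0 / b]
  have hwv := (mem_normalizer_iff.1 hwn _).1 (inv_mem hv)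
  refine ⟨v, hv, ?_⟩
  have e : ⁅v, w⁆ = v * (w * v⁻¹ * w⁻¹) := by rw [commutatorElement_def]; group
  rw [e]
  refine ext_fac M (mul_mem hv hwv) (line_le M i hr) ?_
  rw [M.mul _ hv.1 _ hwv.1, Pi.add_apply, hb _ (inv_mem hv), e_inv M hv.1, Pi.neg_apply, hev]
  apply NatPair.ext2
  · rw [Pi.add_apply, NatPair.ap_zero', up_00, up_01]
    simp only [Matrix.cons_val_zero, Matrix.cons_val_one, Pi.neg_apply]
    field_simp
    ring
  · rw [Pi.add_apply, NatPair.ap_one', up_10, up_11, ((mem_line M).1 hr).2]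
    simp only [Matrix.cons_val_zero, Matrix.cons_val_one, Pi.neg_apply]
    ring

theorem pre_line (hN : ∀ x, M.e (N.e x) i = x) : N.line ![1, 0] = line M i := by
  ext g
  rw [PreMod.mem_line, mem_line]
  constructor
  · rintro ⟨c, rfl⟩
    refine ⟨N.e_mem _, ?_⟩
    rw [hN]
    simp
  · rintro ⟨hg, hg1⟩
    refine ⟨M.e g i 0, ext_fac M (N.e_mem _) hg ?_⟩
    rw [hN]
    apply NatPair.ext2
    · simp
    · rw [hg1]; simp

theorem vec_ne : (![1, 0] : Fin 2 → F) ≠ 0 := by
  intro h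
  have := congrFun h 0
  simp at this

/-- **Unmixed pairs**: the entry to the socket. -/
theorem Four.bts (h : Four M i) (hij : i ≠ j) (hN : ∀ x, M.e (N.e x) i = x)
    (hS1 : ¬ 2 ∣ (stab M i).relIndex (normalizer (fac M i : Set G))) (hNm : ∀ t ∈ stab M i, N.Nm t)
    {c : G} (hc : c ∈ normalizer (line M i : Set G))
    (hne : ∃ v ∈ fac M i, ∃ w ∈ fac M i, v * (c * w * c⁻¹) ≠ c * w * c⁻¹ * v) :
    ∃ N' : NatMod F (fac M i), (∀ x, N'.e x = N.e x) ∧ BTwo.BTS (fac M i) (BTwo.pt N') ∧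
      fac M j ≤ BTwo.CenX (fac M i) (BTwo.pt N') := by
  have hline := pre_line hN
  have hQT := SideOf.o2_le_stab M h.syl
  have hVQ := SideOf.fac_le_o2 h.c2T h.par M h.syl
  -- `V₁ ^ c ≤ Q`
  have hcQ : NatPair.cj c (fac M i) ≤ ZN.o2 (normalizer (line M i : Set G)) := by
    intro x hx
    rw [NatPair.mem_cj] at hx
    have h1 := (mem_normalizer_iff.1 (le_normalizer_o2 _ hc) _).1 (hVQ hx)
    have e : c * (c⁻¹ * x * c) * c⁻¹ = x := by group
    rwa [e] at h1
  -- `[V₁, V₁ ^ c] = R`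
  have hcomm : ∀ r ∈ line M i, ∃ v ∈ fac M i, ∃ w ∈ NatPair.cj c (fac M i), ⁅v, w⁆ = r := by
    intro r hr
    obtain ⟨v, hv, w, hw, hvw⟩ := hne
    have hw' : c * w * c⁻¹ ∈ NatPair.cj c (fac M i) := by
      rw [NatPair.mem_cj]
      have e : c⁻¹ * (c * w * c⁻¹) * c = w := by group
      rwa [e]
    obtain ⟨v', hv', e⟩ := line_le_comm (M := M) (i := i) (SideOf.o2_up h.c2T h.par M h.syl (hcQ hw'))
      (stab_normalizes M i (hQT (hcQ hw'))) ⟨v, hv, hvw⟩ hr
    exact ⟨v', hv', _, hw', e⟩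
  rcases N.dich_sub h.T2 (stab_normalizes M i) hS1 hNm with hall | hE
  · -- the natural module
    set N' : NatMod F (fac M i) := N.toNatMod hall with hN'
    have hline' : N'.line ![1, 0] = line M i := by
      rw [← hline]
      rfl
    have hmut : NatPair.Mutual (fac M i) (NatPair.cj c (fac M i)) := by
      refine ⟨hcQ.trans (hQT.trans (stab_normalizes M i)), ?_, ?_⟩
      · intro x hx
        rw [NatPair.mem_normalizer_cj]
        apply stab_normalizes M i
        apply hQT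
        have := (mem_normalizer_iff.1 (inv_mem (le_normalizer_o2 _ hc)) x).1 (hVQ hx)
        rwa [inv_inv] at this
      · obtain ⟨v, hv, w, hw, hvw⟩ := hne
        refine ⟨v, hv, _, ?_, hvw⟩
        rw [NatPair.mem_cj]
        have e : c⁻¹ * (c * w * c⁻¹) * c = w := by group
        rwa [e]
    have hinf : fac M i ⊓ NatPair.cj c (fac M i) = line M i := by
      obtain ⟨-, w, w', hw, -, hl, -⟩ := NatPair.pair N' (N'.conj c) hmut
      have h1 : line M i ≤ fac M i ⊓ NatPair.cj c (fac M i) := by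
        refine le_inf (line_le M i) fun x hx => ?_
        rw [NatPair.mem_cj]
        apply line_le M i
        have := (mem_normalizer_iff.1 (inv_mem hc) x).1 hx
        rwa [inv_inv] at this
      refine (Subgroup.eq_of_le_of_card_ge h1 ?_).symm
      rw [hl, N'.card_line hw.ne, card_line]
    have a : BTwo.At (fac M i) (N'.line ![1, 0]) c := by
      rw [hline']
      exact ⟨hc, hmut, hinf, hVQ⟩
    have hQ₀ : BTwo.QQ (N'.line ![1, 0]) ≤ normalizer (fac M i : Set G) := by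
      rw [hline']
      exact hQT.trans (stab_normalizes M i)
    have hnl : NonLoc (normalizer (fac M i : Set G)) (normalizer (N'.line ![1, 0] : Set G)) := by
      rw [hline']
      obtain ⟨v, hv, w, hw, hvw⟩ := hne
      exact h.nonLoc hij ⟨c, hc, v, hv, w, hw, hvw⟩
    have b := BtsOf.bts_of_at N' h.c2T vec_ne a hQ₀ hnl
    refine ⟨N', fun x => rfl, b, ?_⟩
    refine BtsOf.le_CenX N' vec_ne b.toBT ?_ ?_
    · rw [hline', Subgroup.le_centralizer_iff]
      exact (SideOf.other h.c2T h.par M hij h.syl).2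
    · intro B
      obtain ⟨l, hl, hlB⟩ := Lns.exists_lift M i B
      refine ⟨l, fun x => ?_, fun a ha => (h.two hij).L12 l hl a ha⟩
      refine ext_fac M ((mem_normalizer_iff.1 (grp_normalizes M {i} {i} hl) _).1 (N.e_mem x)) (N.e_mem _) ?_
      change M.e (l * N.e x * l⁻¹) i = M.e (N.e (ap B x)) i
      rw [hlB _ (N.e_mem x).1, hN, hN]
  · exfalso
    refine ExcKill.exc_false_two h.c2T (h.two hij) N hE vec_ne (c := c) ?_ ?_ ?_
    · rw [hline]
      exact stab_normalizes_line M h.le i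
    · rw [hline]
      exact hc
    · rw [hline]
      intro r hr
      obtain ⟨v, hv, w, hw, rfl⟩ := hcomm r hr
      exact commutator_mem_commutator hv hw

end pre

end four

/-! ### The two sides -/

section both

variable {G : Type u} [Group G] [Finite G] {F F' : Type} [Field F] [Finite F] [CharP F 2]
  [Field F'] [Finite F'] [CharP F' 2] {S S' : Sylow 2 G} {P P' : Subgroup G}

/-- `[V₁, V₁'] ≠ 1`. -/
theorem exists_ne {M : NatK F (S : Subgroup G) P (zl (S : Subgroup G) P) ⊥ 2}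
    {M' : NatK F' (S' : Subgroup G) P' (zl (S' : Subgroup G) P') ⊥ 2} {i i' : Fin 2} (h : Four M i)
    (h' : Four M' i') (hl : line M i = line M' i')
    (hne : ⁅zl (S : Subgroup G) P, zl (S' : Subgroup G) P'⁆ ≠ ⊥) :
    ∃ v ∈ fac M i, ∃ w ∈ fac M' i', v * w ≠ w * v := by
  by_contra hcon
  push Not at hcon
  apply hne
  rw [commutator_eq_bot_iff_le_centralizer]
  obtain ⟨j, hij⟩ : ∃ j : Fin 2, i ≠ j := ⟨i + 1, by omega⟩
  obtain ⟨j', hij'⟩ : ∃ j' : Fin 2, i' ≠ j' := ⟨i' + 1, by omega⟩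
  have a1 := SideOf.fac_le_o2 h.c2T h.par M h.syl
  obtain ⟨a2, a3⟩ := SideOf.other h.c2T h.par M hij h.syl
  have b1 := SideOf.fac_le_o2 h'.c2T h'.par M' h'.syl
  obtain ⟨b2, b3⟩ := SideOf.other h'.c2T h'.par M' hij' h'.syl
  rw [← hl] at b1 b2 b3
  intro v hv
  rw [mem_centralizer_iff]
  intro w hw
  obtain ⟨x, hx, y, hy, rfl⟩ := exists_comp2 M hij hv
  obtain ⟨x', hx', y', hy', rfl⟩ := exists_comp2 M' hij' hw
  have c1 : x * x' = x' * x := hcon x hx x' hx'
  have c2 : x * y' = y' * x := (mem_centralizer_iff.1 (b3 (a1 hx)) y' hy').symm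
  have c3 : y * x' = x' * y := mem_centralizer_iff.1 (a3 (b1 hx')) y hy
  have c4 : y * y' = y' * y := mem_centralizer_iff.1 (a3 (b2 hy')) y hy
  calc x' * y' * (x * y) = x' * (y' * x) * y := by group
    _ = x' * x * (y' * y) := by rw [← c2]; group
    _ = x * (x' * y) * y' := by rw [← c1, ← c4]; group
    _ = x * y * (x' * y') := by rw [← c3]; group

/-- **CASE 1, `q ≥ 4`, both members** (`k' = 2` by `SideOf.partner`). -/
theorem four_of {K : Cls.{u}} (hH : Hyp K S) (hp : Pair S S' P P')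
    (M : NatK F (S : Subgroup G) P (zl (S : Subgroup G) P) ⊥ 2)
    (M' : NatK F' (S' : Subgroup G) P' (zl (S' : Subgroup G) P') ⊥ 2) {i : Fin 2}
    (hi : ⁅zl (S : Subgroup G) P, zl (S' : Subgroup G) P'⁆ = line M i)
    (hd : ¬ 2 ∣ (stab M i).relIndex (normalizer (line M i : Set G))) (h4 : 4 ≤ Nat.card F) :
    Four M i ∧ ∃ i', line M i = line M' i' ∧ Nat.card F' = Nat.card F ∧ Four M' i' ∧
      ∃ v ∈ fac M i, ∃ w ∈ fac M' i', v * w ≠ w * v := by
  have hc := hH.ctx.char2
  obtain ⟨t, t'⟩ := hH.typed' hp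
  have h : Four M i := ⟨hc, hp.star, h4, hd⟩
  obtain ⟨-, i', hl, hd', -⟩ := SideOf.partner hc hp t.noOver t'.noOver M M' (by norm_num) le_rfl hi hd
  have hq : Nat.card F' = Nat.card F := by rw [← card_line M' i', ← hl, card_line]
  have h' : Four M' i' := ⟨hc, hp.star', hq ▸ h4, hd'⟩
  exact ⟨h, i', hl, hq, h', exists_ne h h' hl hp.ne⟩

end both

end Cfsg.Agent.Omega.IId.FourSide
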