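import Cfsg.Agent.Mrg.Omega.IId.OneBase
import Cfsg.Agent.Mrg.Omega.IId.ThmJFull
import Cfsg.Agent.Mrg.Omega.IId.OrthB
import Cfsg.Agent.Mrg.Omega.IId.PlaneSy

section


/-!
# II.d, `q = 2`, CASE 1, case B: THEOREM J for the configuration `One`

helper895, OMEGA / II.d (#12430, #13722).  `N₁ = nc v₁ {v₂}`, `N₂ = nc v₂ {v₁}`.

* `Base.z_mem` : `v₁v₂` lies in every nontrivial elementary abelian subgroup of `T` normalised by `T` and `s`;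
* `Base.v1_mem` : `[N₁, N₂] ≠ 1` implies `v₁ ∈ N₁`;
* `One.side`, `One.ctx` : the hypotheses of THEOREM J;
* `One.inter` : `N₁ ∩ N₂ = {1, v₁, v₂, v₁v₂}`;
* `Base.gsys` : the data of THEOREM TV for `C(v₁)` acting on `N₁`, base point `v₂` (no case distinction).
-/

set_option autoImplicit false
set_option linter.dupNamespace false
set_option linter.unusedSectionVars false

namespace Cfsg.Agent.Omega.IId.One

open Subgroup Cfsg Cfsg.Agent.ZN Cfsg.Agent.ZN.ChoiceBase Cfsg.Agent.Omega.IId.ThmJ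
open Cfsg.Agent.Omega.TV

universe u

variable {G : Type u} [Group G]

theorem nc_eq_NN (v : G) (A : Subgroup G) : nc v (A : Set G) = NN A v :=
  le_antisymm (nc_le (le_NN A v) (CC_le_normalizer_NN A v))
    (NN_le (subset_nc v _) (le_normalizer_nc v _))

/-- A nontrivial subgroup normalised by the 2-group `T ≥ X` contains a nontrivial fixed point. -/
theorem exists_fixed [Finite G] {T X : Subgroup G} (hT : IsPGroup 2 T) (hXT : X ≤ T)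
    (hn : ∀ t ∈ T, ∀ x ∈ X, t * x * t⁻¹ ∈ X) (hne : X ≠ ⊥) :
    ∃ z ∈ X, z ≠ 1 ∧ ∀ t ∈ T, t * z = z * t := by
  have hf : Fact (Nat.Prime 2) := ⟨Nat.prime_two⟩
  let _ : MulAction T X :=
    { smul := fun s x => ⟨s * x * (s : G)⁻¹, hn s s.2 x x.2⟩
      one_smul := fun x => Subtype.ext (by
        show ((1 : T) : G) * x * ((1 : T) : G)⁻¹ = x
        simp)
      mul_smul := fun s t x => Subtype.ext (by
        show ((s * t : T) : G) * x * ((s * t : T) : G)⁻¹ = s * (t * x * (t : G)⁻¹) * (s : G)⁻¹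
        rw [coe_mul]; group) }
  have hval : ∀ (s : T) (x : X), ((s • x : X) : G) = s * x * (s : G)⁻¹ := fun s x => rfl
  have hcard : 2 ∣ Nat.card X := by
    have hX : IsPGroup 2 X := hT.to_le hXT
    obtain ⟨n, hn'⟩ := IsPGroup.iff_card.1 hX
    rw [hn']
    have : n ≠ 0 := by
      rintro rfl
      rw [pow_zero] at hn'
      exact hne (Subgroup.card_eq_one.1 hn')
    exact dvd_pow_self 2 this
  have h1 : (1 : X) ∈ MulAction.fixedPoints T X := fun s => Subtype.ext (by rw [hval]; simp)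
  obtain ⟨z, hz, hz1⟩ := hT.exists_fixed_point_of_prime_dvd_card_of_fixed_point X hcard h1
  refine ⟨z, z.2, fun h => hz1 (Subtype.ext h.symm), fun s hs => ?_⟩
  have h3 := congrArg Subtype.val (hz ⟨s, hs⟩)
  rw [hval] at h3
  calc s * (z : G) = s * z * s⁻¹ * s := by group
    _ = z * s := by rw [h3]

namespace Base

variable [Finite G] {T V₁ V₂ L₁ L₂ : Subgroup G} {v₁ v₂ s : G}

section

variable (h : Base T V₁ V₂ L₁ L₂ v₁ v₂ s)
include h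

/-- `v₁v₂` lies in every nontrivial elementary abelian subgroup of `T` normalised by `T`, `s`. -/
theorem z_mem {X : Subgroup G} (hXT : X ≤ T) (hn : ∀ t ∈ T, ∀ x ∈ X, t * x * t⁻¹ ∈ X)
    (hs : ∀ x ∈ X, s * x * s⁻¹ ∈ X) (h2 : ∀ x ∈ X, x * x = 1) (hne : X ≠ ⊥) : v₁ * v₂ ∈ X := by
  obtain ⟨z, hz, hz1, hzT⟩ := exists_fixed h.pT hXT hn hne
  rcases h.fix z (hXT hz) (h2 z hz) hzT with e | e | e | e
  · exact absurd e hz1
  · have h3 := hs z hz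
    rw [e] at hz h3
    rw [h.sv1] at h3
    exact mul_mem hz h3
  · have h3 := hs z hz
    rw [e] at hz h3
    rw [h.sv2] at h3
    exact mul_mem h3 hz
  · rwa [e] at hz

theorem cj_s_V1 : cj s V₁ = V₂ := by
  apply Subgroup.eq_of_le_of_card_ge
  · rintro _ ⟨v, hv, rfl⟩
    exact h.s1 v hv
  · rw [card_cj, h.card1, h.card2]

theorem cj_s_V2 : cj s V₂ = V₁ := h.symm.cj_s_V1

theorem s_N1 {x : G} (hx : x ∈ nc v₁ {v₂}) : s * x * s⁻¹ ∈ nc v₂ {v₁} :=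
  conj_nc h.sv1 (fun a ha => by rw [Set.mem_singleton_iff.1 ha]; exact h.sv2) hx

theorem s_N2 {x : G} (hx : x ∈ nc v₂ {v₁}) : s * x * s⁻¹ ∈ nc v₁ {v₂} :=
  conj_nc h.sv2 (fun a ha => by rw [Set.mem_singleton_iff.1 ha]; exact h.sv1) hx

theorem T_N1 {t x : G} (ht : t ∈ T) (hx : x ∈ nc v₁ {v₂}) : t * x * t⁻¹ ∈ nc v₁ {v₂} :=
  (mem_normalizer_iff.1 (le_normalizer_nc v₁ _ (h.T_le ht)) x).1 hx

theorem T_N2 {t x : G} (ht : t ∈ T) (hx : x ∈ nc v₂ {v₁}) : t * x * t⁻¹ ∈ nc v₂ {v₁} :=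
  h.symm.T_N1 ht hx

theorem comm_mem_inf {x y : G} (hx : x ∈ nc v₁ {v₂}) (hy : y ∈ nc v₂ {v₁}) :
    x * y * x⁻¹ * y⁻¹ ∈ nc v₁ {v₂} ⊓ nc v₂ {v₁} := by
  refine Subgroup.mem_inf.2 ⟨?_, ?_⟩
  · have e : x * y * x⁻¹ * y⁻¹ = x * (y * x⁻¹ * y⁻¹) := by group
    rw [e]
    exact mul_mem hx (h.T_N1 (h.symm.N1_le_T hy) (inv_mem hx))
  · exact mul_mem (h.T_N2 (h.N1_le_T hx) hy) (inv_mem hy)

/-- `[N₁, N₂] ≠ 1` implies `v₁v₂ ∈ N₁ ∩ N₂`. -/
theorem z_mem_inf (hI : ∃ x ∈ nc v₁ {v₂}, ∃ y ∈ nc v₂ {v₁}, x * y ≠ y * x) :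
    v₁ * v₂ ∈ nc v₁ {v₂} ⊓ nc v₂ {v₁} := by
  apply h.z_mem (X := nc v₁ {v₂} ⊓ nc v₂ {v₁})
  · exact inf_le_left.trans h.N1_le_T
  · exact fun t ht x hx => Subgroup.mem_inf.2 ⟨h.T_N1 ht hx.1, h.T_N2 ht hx.2⟩
  · exact fun x hx => Subgroup.mem_inf.2 ⟨h.s_N2 hx.2, h.s_N1 hx.1⟩
  · exact fun x hx => h.N1_sq hx.1
  · intro h0
    obtain ⟨x, hx, y, hy, hxy⟩ := hI
    apply hxy
    have h1 := h.comm_mem_inf hx hy
    rw [h0, mem_bot] at h1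
    calc x * y = x * y * x⁻¹ * y⁻¹ * (y * x) := by group
      _ = y * x := by rw [h1, one_mul]

/-- Case B: `v₁ ∈ N₁`. -/
theorem v1_mem (hI : ∃ x ∈ nc v₁ {v₂}, ∃ y ∈ nc v₂ {v₁}, x * y ≠ y * x) : v₁ ∈ nc v₁ {v₂} := by
  have h2 := mul_mem (h.z_mem_inf hI).1 h.v2_mem_N1
  rwa [mul_assoc, h.vq2, mul_one] at h2

theorem tr1 : ∀ p ∈ V₁, p ≠ 1 → ∀ p' ∈ V₁, p' ≠ 1 →
    ∃ l ∈ centralizer (V₂ : Set G) ⊓ normalizer (V₁ : Set G), l * p' * l⁻¹ = p := by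
  intro p hp hp1 p' hp' hp1'
  obtain ⟨l, hl, e⟩ := h.t1 p' hp' hp1' p hp hp1
  exact ⟨l, ⟨mem_centralizer_iff.2 fun v hv => (h.L12 l hl v hv).symm, h.L_norm1 hl⟩, e⟩

theorem tr2 : ∀ q ∈ V₂, q ≠ 1 → ∀ q' ∈ V₂, q' ≠ 1 →
    ∃ l ∈ centralizer (V₁ : Set G) ⊓ normalizer (V₂ : Set G), l * q' * l⁻¹ = q := h.symm.tr1

/-- `[w, O₂(C(v₁))] ≤ ⟨v₁⟩` for `w ∈ Kk v₁`. -/
theorem Kk_comm {w x : G} (hw : w ∈ Kk v₁) (hx : x ∈ ZN.o2 (cz v₁)) :
    w * x * w⁻¹ * x⁻¹ = 1 ∨ w * x * w⁻¹ * x⁻¹ = v₁ := mem_zp h.vq1 (hw.2 x hx)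

end

end Base

/-- The data of THEOREM TV for `C` acting on `N`: the chain condition from a Sylow 2-subgroup of `C`
fixing `q`. -/
theorem gsys_of [Finite G] {C N T : Subgroup G} {q : G} (hsqN : ∀ x ∈ N, x * x = 1)
    (hnor : ∀ c ∈ C, ∀ n ∈ N, c * n * c⁻¹ ∈ N) (hq : q ∈ N) (hq1 : q ≠ 1)
    (hgen : N ≤ closure {x | ∃ c ∈ C, x = c * q * c⁻¹}) (hTp : T ≤ C) (hT : IsPGroup 2 T)
    (hi : ¬ 2 ∣ T.relIndex C) (hTq : ∀ t ∈ T, t * q = q * t) : GSys C N q where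
  sq := hsqN
  nor := hnor
  mem := hq
  ne := hq1
  gen := hgen
  chain := by
    have : Fact (Nat.Prime 2) := ⟨Nat.prime_two⟩
    intro U hUN hU c hc hcU hcN n hn
    -- the kernel of the action and the stabilizer of the chain, inside `C`
    let F : Subgroup C :=
      { carrier := {c | ∀ n ∈ N, (c : G) * n * (c : G)⁻¹ = n}
        one_mem' := fun n _ => by simp
        mul_mem' := by
          intro a b ha hb n hn
          have e : ((a * b : C) : G) * n * ((a * b : C) : G)⁻¹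
              = (a : G) * ((b : G) * n * (b : G)⁻¹) * (a : G)⁻¹ := by
            rw [Subgroup.coe_mul]; group
          rw [e, hb n hn, ha n hn]
        inv_mem' := by
          intro a ha n hn
          have e : ((a⁻¹ : C) : G) * n * ((a⁻¹ : C) : G)⁻¹
              = (a : G)⁻¹ * n * (a : G) := by
            rw [Subgroup.coe_inv]; group
          rw [e]
          nth_rewrite 1 [← ha n hn]
          group }
    let K : Subgroup C :=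
      { carrier := {c | (∀ u ∈ U, (c : G) * u * (c : G)⁻¹ = u) ∧
          ∀ n ∈ N, (c : G) * n * (c : G)⁻¹ * n⁻¹ ∈ U}
        one_mem' := ⟨fun u _ => by simp, fun n _ => by simp⟩
        mul_mem' := by
          rintro a b ⟨ha, ha'⟩ ⟨hb, hb'⟩
          refine ⟨fun u hu => ?_, fun n hn => ?_⟩
          · have e : ((a * b : C) : G) * u * ((a * b : C) : G)⁻¹
                = (a : G) * ((b : G) * u * (b : G)⁻¹) * (a : G)⁻¹ := by
              rw [Subgroup.coe_mul]; group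
            rw [e, hb u hu, ha u hu]
          · have h1 := hb' n hn
            have h2 := ha' n hn
            have e : ((a * b : C) : G) * n * ((a * b : C) : G)⁻¹ * n⁻¹
                = (a : G) * ((b : G) * n * (b : G)⁻¹ * n⁻¹) * (a : G)⁻¹ *
                  ((a : G) * n * (a : G)⁻¹ * n⁻¹) := by
              rw [Subgroup.coe_mul]; group
            rw [e]
            exact mul_mem (hU a a.2 _ h1) h2
        inv_mem' := by
          rintro a ⟨ha, ha'⟩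
          have hinv : ∀ u ∈ U, (a : G)⁻¹ * u * (a : G) = u := by
            intro u hu
            nth_rewrite 1 [← ha u hu]
            group
          refine ⟨fun u hu => ?_, fun n hn => ?_⟩
          · have e : ((a⁻¹ : C) : G) * u * ((a⁻¹ : C) : G)⁻¹
                = (a : G)⁻¹ * u * (a : G) := by
              rw [Subgroup.coe_inv]; group
            rw [e, hinv u hu]
          · have h1 := ha' n hn
            have e : ((a⁻¹ : C) : G) * n * ((a⁻¹ : C) : G)⁻¹ * n⁻¹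
                = (a : G)⁻¹ * ((a : G) * n * (a : G)⁻¹ * n⁻¹)⁻¹ * (a : G) := by
              rw [Subgroup.coe_inv]; group
            rw [e, hinv _ (inv_mem h1)]
            exact inv_mem h1 }
    have hFn : F.Normal := by
      constructor
      intro a ha g n hn
      have hn' : (g : G)⁻¹ * n * (g : G) ∈ N := by
        have := hnor _ (inv_mem g.2) n hn
        simpa using this
      have e : ((g * a * g⁻¹ : C) : G) * n * ((g * a * g⁻¹ : C) : G)⁻¹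
          = (g : G) * ((a : G) * ((g : G)⁻¹ * n * (g : G)) * (a : G)⁻¹) * (g : G)⁻¹ := by
        simp only [Subgroup.coe_mul, Subgroup.coe_inv]; group
      rw [e, ha _ hn']
      group
    have hKn : K.Normal := by
      constructor
      rintro a ⟨ha, ha'⟩ g
      refine ⟨fun u hu => ?_, fun n hn => ?_⟩
      · have hu' : (g : G)⁻¹ * u * (g : G) ∈ U := by
          have := hU _ (inv_mem g.2) u hu
          simpa using this
        have e : ((g * a * g⁻¹ : C) : G) * u * ((g * a * g⁻¹ : C) : G)⁻¹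
            = (g : G) * ((a : G) * ((g : G)⁻¹ * u * (g : G)) * (a : G)⁻¹) * (g : G)⁻¹ := by
          simp only [Subgroup.coe_mul, Subgroup.coe_inv]; group
        rw [e, ha _ hu']
        group
      · have hn' : (g : G)⁻¹ * n * (g : G) ∈ N := by
          have := hnor _ (inv_mem g.2) n hn
          simpa using this
        have h1 := hU g g.2 _ (ha' _ hn')
        have e : ((g * a * g⁻¹ : C) : G) * n * ((g * a * g⁻¹ : C) : G)⁻¹ * n⁻¹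
            = (g : G) * ((a : G) * ((g : G)⁻¹ * n * (g : G)) * (a : G)⁻¹ *
              ((g : G)⁻¹ * n * (g : G))⁻¹) * (g : G)⁻¹ := by
          simp only [Subgroup.coe_mul, Subgroup.coe_inv]; group
        rw [e]
        exact h1
    have hsqK : ∀ k ∈ K, k * k ∈ F := by
      rintro k ⟨hk, hk'⟩ n hn
      have h1 := hk' n hn
      have h2 := hsqN _ (hUN h1)
      have e1 : (k : G) * n * (k : G)⁻¹ = (k : G) * n * (k : G)⁻¹ * n⁻¹ * n := by group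
      have e2 : ((k * k : C) : G) * n * ((k * k : C) : G)⁻¹
          = (k : G) * ((k : G) * n * (k : G)⁻¹) * (k : G)⁻¹ := by
        rw [Subgroup.coe_mul]; group
      rw [e2, e1]
      have e3 : (k : G) * ((k : G) * n * (k : G)⁻¹ * n⁻¹ * n) * (k : G)⁻¹
          = (k : G) * ((k : G) * n * (k : G)⁻¹ * n⁻¹) * (k : G)⁻¹ *
            ((k : G) * n * (k : G)⁻¹ * n⁻¹) * n := by group
      rw [e3, hk _ h1, h2, one_mul]
    have hTS : IsPGroup 2 (T.subgroupOf C) := hT.of_equiv (subgroupOfEquivOfLe hTp).symm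
    -- `K` centralizes `q`
    have hKq : ∀ k ∈ K, (k : G) * q * (k : G)⁻¹ = q := by
      intro k hk
      obtain ⟨t, ht, hf⟩ := exists_mem_sylow_of_sq (hTS.toSylow hi) hKn hFn hsqK hk
      have ht' : (t : G) ∈ T := ht
      have htq : (t : G) * q * (t : G)⁻¹ = q := by
        rw [hTq _ ht']
        group
      have h1 := hf q hq
      have e : (k : G) * q * (k : G)⁻¹
          = (t : G) * (((t⁻¹ * k : C) : G) * q * ((t⁻¹ * k : C) : G)⁻¹) * (t : G)⁻¹ := by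
        simp only [Subgroup.coe_mul, Subgroup.coe_inv]; group
      rw [e, h1, htq]
    -- hence all conjugates of `q`, hence `N`
    have hKall : ∀ x ∈ closure {x | ∃ c ∈ C, x = c * q * c⁻¹}, ∀ k ∈ K,
        (k : G) * x * (k : G)⁻¹ = x := by
      intro x hx
      induction hx using closure_induction with
      | mem x hx =>
        obtain ⟨d, hd, rfl⟩ := hx
        intro k hk
        have h1 := hKq _ (hKn.conj_mem k hk (⟨d, hd⟩⁻¹ : C))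
        have e : (k : G) * (d * q * d⁻¹) * (k : G)⁻¹
            = d * ((((⟨d, hd⟩⁻¹ * k * ((⟨d, hd⟩ : C)⁻¹)⁻¹ : C)) : G) * q *
              (((⟨d, hd⟩⁻¹ * k * ((⟨d, hd⟩ : C)⁻¹)⁻¹ : C)) : G)⁻¹) * d⁻¹ := by
          simp only [Subgroup.coe_mul, Subgroup.coe_inv]; group
        rw [e, h1]
      | one => intro k _; simp
      | mul x y _ _ hx hy =>
        intro k hk
        have e : (k : G) * (x * y) * (k : G)⁻¹
            = (k : G) * x * (k : G)⁻¹ * ((k : G) * y * (k : G)⁻¹) := by group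
        rw [e, hx k hk, hy k hk]
      | inv x _ hx =>
        intro k hk
        have e : (k : G) * x⁻¹ * (k : G)⁻¹ = ((k : G) * x * (k : G)⁻¹)⁻¹ := by group
        rw [e, hx k hk]
    exact hKall n (hgen hn) ⟨c, hc⟩ ⟨hcU, hcN⟩

/-- **The data of THEOREM TV** for `C(v₁)` acting on `N₁`, base point `v₂`. -/
theorem Base.gsys [Finite G] {T V₁ V₂ L₁ L₂ : Subgroup G} {v₁ v₂ s : G}
    (h : Base T V₁ V₂ L₁ L₂ v₁ v₂ s) : GSys (cz v₁) (nc v₁ {v₂}) v₂ := by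
  refine gsys_of (T := T) (fun x hx => h.N1_sq hx)
    (fun c hc n hn => (mem_normalizer_iff.1 (le_normalizer_nc v₁ _ hc) n).1 hn) h.v2_mem_N1 h.v2 ?_
    h.T_le h.pT (h.syl h.T_le le_rfl) h.Tv2
  rw [nc, closure_le]
  rintro _ ⟨g, hg, a, ha, rfl⟩
  rw [Set.mem_singleton_iff.1 ha]
  exact subset_closure ⟨g, hg, rfl⟩

namespace One

variable {T V₁ V₂ L₁ L₂ : Subgroup G} {v₁ v₂ s : G}

section

variable [Finite G] (h : One T V₁ V₂ L₁ L₂ v₁ v₂ s)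
include h

theorem side (hI : ∃ x ∈ nc v₁ {v₂}, ∃ y ∈ nc v₂ {v₁}, x * y ≠ y * x) :
    Side V₁ V₂ := by
  refine Side.of_point (v₁ := v₁) h.q1 h.card1 (fun p hp hp1 => h.tr1 p hp hp1 v₁ h.vV1 h.v1)
    h.half1 ?_ h.V1_le_Q (h.Q_le.trans h.T_norm1) ?_ ?_
  · exact fun x hx => mem_centralizer_iff.2 fun v hv => (h.halfc1 x hx v hv).symm
  · obtain ⟨w, hw, v, hv, hne⟩ := h.k1
    exact ⟨w, h.Kk_le_Q hw, fun hc => hne (mem_centralizer_iff.1 hc v hv).symm, fun x hx =>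
      h.Kk_comm hw hx⟩
  · rw [← nc_eq_NN, ← h.N1_eq]
    exact h.v1_mem hI

omit [Finite G] h in
theorem hI_symm (hI : ∃ x ∈ nc v₁ {v₂}, ∃ y ∈ nc v₂ {v₁}, x * y ≠ y * x) :
    ∃ x ∈ nc v₂ {v₁}, ∃ y ∈ nc v₁ {v₂}, x * y ≠ y * x := by
  obtain ⟨x, hx, y, hy, e⟩ := hI
  exact ⟨y, hy, x, hx, fun h => e h.symm⟩

/-- The hypotheses of THEOREM J. -/
theorem ctx (hI : ∃ x ∈ nc v₁ {v₂}, ∃ y ∈ nc v₂ {v₁}, x * y ≠ y * x) :
    Ctx V₁ V₂ := by
  have s1 := h.side hI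
  have s2 := h.symm.side (hI_symm hI)
  refine ⟨s1, s2, ?_⟩
  by_contra hne
  have hle1 : ThmJ.FF V₁ V₂ ≤ nc v₁ {v₂} := fun x hx => by
    rw [h.N1_eq, nc_eq_NN]
    exact mem_FF.1 hx v₁ h.vV1 h.v1
  have hzm : v₁ * v₂ ∈ (ThmJ.FF V₁ V₂ ⊓ ThmJ.FF V₂ V₁ : Subgroup G) := by
    apply h.z_mem (X := ThmJ.FF V₁ V₂ ⊓ ThmJ.FF V₂ V₁) (inf_le_left.trans (hle1.trans h.N1_le_T)) _ _ _ hne
    · intro t ht x hx
      have e1 := cj_eq_of_mem_normalizer (h.T_norm1 ht)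
      have e2 := cj_eq_of_mem_normalizer (h.T_norm2 ht)
      have h1 : t * x * t⁻¹ ∈ cj t (ThmJ.FF V₁ V₂ ⊓ ThmJ.FF V₂ V₁) := mem_map_of_mem _ hx
      rwa [cj_inf, cj_FF, cj_FF, e1, e2] at h1
    · intro x hx
      have h1 : s * x * s⁻¹ ∈ cj s (ThmJ.FF V₁ V₂ ⊓ ThmJ.FF V₂ V₁) := mem_map_of_mem _ hx
      rwa [cj_inf, cj_FF, cj_FF, h.cj_s_V1, h.cj_s_V2, inf_comm] at h1
    · exact fun x hx => h.N1_sq (hle1 hx.1)
  obtain ⟨q, hq, hq1, hne2⟩ := four_exists s2.card v₂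
  obtain ⟨w, hw, hw', -⟩ := s2.tv q hq hq1
  have hwz : w * (v₁ * v₂) * w⁻¹ = v₁ * v₂ := by
    rw [← mem_centralizer_iff.1 (s2.o2_le_cent_NN hq hq1 hw) _ (mem_FF.1 hzm.2 q hq hq1)]
    group
  have hwv : w * v₁ * w⁻¹ = v₁ := by
    rw [← mem_centralizer_iff.1 (s2.cent q hq hq1 hw) _ h.vV1]
    group
  have hws := s2.swap hq hq1 h.vV2 h.v2 hne2.symm hw hw'
  have e : w * (v₁ * v₂) * w⁻¹ = w * v₁ * w⁻¹ * (w * v₂ * w⁻¹) := by group
  rw [e, hwv, hws] at hwz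
  exact hq1 (mul_eq_right.1 (mul_left_cancel hwz))

/-- **THEOREM J for CASE 1, case B**: `N₁ ∩ N₂ = {1, v₁, v₂, v₁v₂}`. -/
theorem inter (hI : ∃ x ∈ nc v₁ {v₂}, ∃ y ∈ nc v₂ {v₁}, x * y ≠ y * x) {j : G}
    (hj : j ∈ nc v₁ {v₂}) (hj' : j ∈ nc v₂ {v₁}) :
    j = 1 ∨ j = v₁ ∨ j = v₂ ∨ j = v₁ * v₂ := by
  rw [h.N1_eq, nc_eq_NN] at hj
  rw [h.symm.N1_eq, nc_eq_NN] at hj'
  exact (h.ctx hI).inter h.tr1 h.tr2 h.vV1 h.v1 h.vV2 h.v2 h.T_le h.pT (h.syl h.T_le le_rfl)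
    h.T_le2 hj hj'

/-- The commutators `[x, y]`, `x ∈ N₁`, `y ∈ N₂`, lie in `{1, v₁, v₂, v₁v₂}`. -/
theorem comm_mem (hI : ∃ x ∈ nc v₁ {v₂}, ∃ y ∈ nc v₂ {v₁}, x * y ≠ y * x) {x y : G}
    (hx : x ∈ nc v₁ {v₂}) (hy : y ∈ nc v₂ {v₁}) :
    x * y * x⁻¹ * y⁻¹ = 1 ∨ x * y * x⁻¹ * y⁻¹ = v₁ ∨ x * y * x⁻¹ * y⁻¹ = v₂ ∨
      x * y * x⁻¹ * y⁻¹ = v₁ * v₂ := by
  have h1 := h.comm_mem_inf hx hy
  exact h.inter hI h1.1 h1.2

end

end One

end Cfsg.Agent.Omega.IId.One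

end

section


/-!
# II.d, `q = 2`, CASE 1, case B: (B1) for the configuration `One`

helper304 (helper478 #12430 (B1), helper895 #13722).  `[N₁, N₂] ≠ 1` implies that `N₁ = nc v₁ {v₂}` is the
orthogonal module of `C(v₁)`: `GOrth (cz v₁) (nc v₁ {v₂}) v₂ v₁`.
-/

set_option autoImplicit false
set_option linter.dupNamespace false

namespace Cfsg.Agent.Omega.IId.One

open Subgroup Cfsg Cfsg.Agent.ZN Cfsg.Agent.ZN.ChoiceBase Cfsg.Agent.Omega.IId.ThmJ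
open Cfsg.Agent.Omega.TV

universe u

variable {G : Type u} [Group G]

namespace One

variable [Finite G] {T V₁ V₂ L₁ L₂ : Subgroup G} {v₁ v₂ s : G} (h : One T V₁ V₂ L₁ L₂ v₁ v₂ s)

include h

/-- **(B1) for `One`.** -/
theorem orth_all (hI : ∃ x ∈ nc v₁ {v₂}, ∃ y ∈ nc v₂ {v₁}, x * y ≠ y * x) :
    GOrth (cz v₁) (nc v₁ {v₂}) v₂ v₁ ∧ (∀ v ∈ V₂, Bg (cz v₁) v₂ v₂ v = 0) ∧
      (∀ y ∈ nc v₂ {v₁}, (∀ n ∈ nc v₁ {v₂}, y * n * y⁻¹ = n) ∨ ∀ n ∈ nc v₁ {v₂},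
        (Bg (cz v₁) v₂ v₂ n = 0 ∧ y * n * y⁻¹ = n) ∨
          (Bg (cz v₁) v₂ v₂ n = 1 ∧ y * n * y⁻¹ = n * (v₂ * v₁))) := by
  have e1 : NN V₂ v₁ = nc v₁ {v₂} := by rw [← nc_eq_NN, ← h.N1_eq]
  have e2 : NN V₁ v₂ = nc v₂ {v₁} := by rw [← nc_eq_NN, ← h.symm.N1_eq]
  have main := (h.ctx hI).orth h.tr1 h.tr2 h.vV1 h.v1 h.vV2 h.v2 h.T_le h.pT (h.syl h.T_le le_rfl)
    h.T_le2 (fun n hn hc => h.N1_fix (by rw [← e1]; exact hn) hc)
    (by
      obtain ⟨x, hx, y, hy, hne⟩ := hI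
      exact ⟨x, by rw [e1]; exact hx, y, by rw [e2]; exact hy, hne⟩)
  rwa [e1, e2] at main

theorem orth (hI : ∃ x ∈ nc v₁ {v₂}, ∃ y ∈ nc v₂ {v₁}, x * y ≠ y * x) :
    GOrth (cz v₁) (nc v₁ {v₂}) v₂ v₁ := (h.orth_all hI).1

omit [Finite G] in
theorem Q_V2 {x : G} (hx : x ∈ V₂) : Qg (cz v₁) v₂ x = 0 := by
  by_cases hx1 : x = 1
  · rw [hx1]; exact Qg_one
  · obtain ⟨l, hl, e⟩ := h.t2 v₂ h.vV2 h.v2 x hx hx1
    rw [← e]
    exact Qg_conj (h.L2_le hl)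

omit [Finite G] in
/-- `V₂` is totally singular. -/
theorem B_V2 {v w : G} (hv : v ∈ V₂) (hw : w ∈ V₂) : Bg (cz v₁) v₂ v w = 0 := by
  unfold Bg
  rw [h.Q_V2 hv, h.Q_V2 hw, h.Q_V2 (mul_mem hv hw), add_zero, add_zero]

end One

end Cfsg.Agent.Omega.IId.One

end

section


/-!
# II.d, CASE 1, `q = 2`: `F₁ = C(N₁)` normalises `V₁` (bb OMEGA #15930 (A))

helper310.  `One`, `[N₁, N₂] ≠ 1` : every element of `C_G(v₁)` centralising `N₁` normalises `V₁`.  [Otherwise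
`A = ⟨V₁^{F₁}⟩ ≤ N₂` is normal in `C₁`, `D = C_{C₁}(A) ≥ N₂` is transitive on `v₂^{C₁}` and normalises `N₁^l`, `l ∈ L₁`:
`N₁ ≤ N₁^l`, against `v₁ ∉ N₁^l`.]
-/

set_option autoImplicit false
set_option linter.unusedSectionVars false
set_option linter.unusedVariables false

namespace Cfsg.Agent.Omega.IId.PlaneF

open Cfsg.Agent.Omega.TV hiding z2
open Subgroup Cfsg Cfsg.Agent.ZN Cfsg.Agent.Omega.IId.PlaneSy Cfsg.Agent.Omega.IId.PlaneRk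
open Cfsg.Agent.Omega.IId.One
open Cfsg.Agent.Omega.IId.Two (le_normalizer_of)
open scoped Pointwise

universe u

variable {G : Type u} [Group G]

section

variable [Finite G] {T V₁ V₂ L₁ L₂ : Subgroup G} {v₁ v₂ s : G} (h : One T V₁ V₂ L₁ L₂ v₁ v₂ s)

include h

/-- an element of `V₁ ∖ ⟨v₁⟩` -/
theorem exists_x : ∃ x ∈ V₁, x ≠ 1 ∧ x ≠ v₁ := by
  obtain ⟨w, hw, x, hx, hne⟩ := h.k1
  exact ⟨x, hx, fun e => hne (by rw [e]; group), fun e => hne (by rw [e]; exact mem_cz.1 hw.1)⟩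

omit [Finite G] in
/-- `Q₁` is zero on `V₂`, for every pair with the same `T`, `v₁`, `v₂` -/
theorem Q_zero {T' V₁' V₂' L₁' L₂' : Subgroup G} (h' : Base T' V₁' V₂' L₁' L₂' v₁ v₂ s) {x : G} (hx : x ∈ V₂') :
    Qg (cz v₁) v₂ x = 0 := by
  by_cases hx1 : x = 1
  · rw [hx1]; exact Qg_one
  · obtain ⟨l, hl, e⟩ := h'.t2 v₂ h'.vV2 h'.v2 x hx hx1
    rw [← e]
    exact Qg_conj (h'.L2_le hl)

omit [Finite G] in
theorem B_zero {T' V₁' V₂' L₁' L₂' : Subgroup G} (h' : Base T' V₁' V₂' L₁' L₂' v₁ v₂ s) {x y : G} (hx : x ∈ V₂')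
    (hy : y ∈ V₂') : Bg (cz v₁) v₂ x y = 0 := by
  unfold Bg
  rw [Q_zero h h' hx, Q_zero h h' hy, Q_zero h h' (mul_mem hx hy), add_zero, add_zero]

/-- `C₁ = ⟨M, L₂⟩` -/
theorem gen (o : GOrth (cz v₁) (nc v₁ {v₂}) v₂ v₁) : cz v₁ ≤ (cz v₁ ⊓ cz v₂) ⊔ L₂ := by
  have hs := sy_of o
  obtain ⟨u, hu, hu1, huv⟩ := exists_x h.symm
  obtain ⟨l, hl, e⟩ := h.t2 v₂ h.vV2 h.v2 u hu hu1
  refine hs.perp_gen (p := v₂) (k := l) o.r_mem ?_ ?_ (mem_sup_right hl) (h.L2_le hl) ?_ ?_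
  · intro e
    rcases (mem_zp2 h.vq1).1 e with e | e
    · exact h.v2 e
    · exact h.ne e.symm
  · intro g hg e
    apply mem_sup_left
    refine ⟨hg, ?_⟩
    have hgN := o.nor g hg v₂ o.r_mem
    rcases (mem_zp2 h.vq1).1 e with e | e
    · have e1 : g * v₂ * g⁻¹ = v₂ := by
        calc g * v₂ * g⁻¹ = g * v₂ * g⁻¹ * v₂ * v₂ := by rw [mul_assoc _ v₂ v₂, h.vq2, mul_one]
          _ = v₂ := by rw [e, one_mul]
      exact mem_cz.2 (mul_inv_eq_iff_eq_mul.1 e1)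
    · exfalso
      have e1 : g * v₂ * g⁻¹ = v₂ * v₁ := by
        calc g * v₂ * g⁻¹ = g * v₂ * g⁻¹ * v₂ * v₂ := by rw [mul_assoc _ v₂ v₂, h.vq2, mul_one]
          _ = v₂ * v₁ := by rw [e, h.vc]
      have h1 : Qg (cz v₁) v₂ (g * v₂ * g⁻¹) = 0 := Qg_conj hg
      rw [e1, o.Qmulc o.r_mem, Qg_self] at h1
      exact absurd h1 (by decide)
  · rw [e]; exact B_zero h h.toBase h.vV2 hu
  · rw [e]
    intro e2
    rcases (mem_zp2 h.vq1).1 e2 with e3 | e3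
    · apply huv
      calc u = v₂ * (v₂ * u) := by rw [← mul_assoc, h.vq2, one_mul]
        _ = v₂ := by rw [e3, mul_one]
    · exact h.v1 (h.inf _ h.vV1 (e3 ▸ mul_mem h.vV2 hu))

section point

variable (o : GOrth (cz v₂) (nc v₂ {v₁}) v₁ v₂)
include o

theorem mem_yr' {y : G} (hy : y ∈ yr (sy_of o) o.r_mem) : y = 1 ∨ y = v₂ ∨ y = v₁ ∨ y = v₁ * v₂ := by
  rcases hy with hy | ⟨hy, hy'⟩
  · rcases (mem_zp2 h.vq2).1 hy with e | e
    · exact Or.inl e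
    · exact Or.inr (Or.inl e)
  · rcases (mem_zp2 h.vq2).1 hy' with e | e
    · right; right; left
      calc y = y * v₁ * v₁ := by rw [mul_assoc, h.vq1, mul_one]
        _ = v₁ := by rw [e, one_mul]
    · right; right; right
      calc y = y * v₁ * v₁ := by rw [mul_assoc, h.vq1, mul_one]
        _ = v₁ * v₂ := by rw [e, h.vc]

theorem v1_yr : v₁ ∈ yr (sy_of o) o.r_mem :=
  Or.inr ⟨o.r_mem, by rw [h.vq1]; exact one_mem _⟩

/-- the point of a `T`-invariant line -/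
theorem pt_mem {V₁' V₂' L₁' L₂' : Subgroup G} (h' : Base T V₁' V₂' L₁' L₂' v₁ v₂ s) {x : G} (hx : x ∈ V₁')
    (hx1 : x ≠ 1) (hxv : x ≠ v₁) : x ∈ (sy_of o).pp o.r_mem ∧ x ∉ yr (sy_of o) o.r_mem := by
  refine ⟨⟨h'.V1_le_N2 hx, B_zero h.symm h'.symm h'.vV1 hx⟩, fun e => ?_⟩
  rcases mem_yr' h o e with e | e | e | e
  · exact hx1 e
  · exact h'.v2 (h'.inf _ (e ▸ hx) h'.vV2)
  · exact hxv e
  · apply h'.v2
    refine h'.inf _ ?_ h'.vV2
    have e2 : v₂ = v₁⁻¹ * x := by rw [e]; group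
    rw [e2]
    exact mul_mem (inv_mem h'.vV1) hx

/-- the points over `yr` have two singular vectors: `y`, `v₁y` -/
theorem sing_of {x y : G} (hx : x ∈ nc v₂ {v₁}) (hxv : Bg (cz v₂) v₁ v₁ x = 0) (hy : y ∈ nc v₂ {v₁})
    (hQx : Qg (cz v₂) v₁ x = 0) (hQy : Qg (cz v₂) v₁ y = 0) (e : y * x ∈ yr (sy_of o) o.r_mem) :
    y = x ∨ y = v₁ * x := by
  have hxx := o.sq x hx
  have hyx : ∀ t, y * x = t → y = t * x := fun t e => by
    rw [← e, mul_assoc, hxx, mul_one]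
  have hQv : Qg (cz v₂) v₁ (v₁ * x) = 0 := by
    rw [GOrth.Q_mul, Qg_self, hQx, hxv]; decide
  have hv1x : v₁ * x ∈ nc v₂ {v₁} := mul_mem o.r_mem hx
  rcases mem_yr' h o e with e | e | e | e
  · left; rw [hyx _ e, one_mul]
  · exfalso
    rw [hyx _ e, (sy_of o).mc o.c_mem hx, o.Qmulc hx, hQx] at hQy
    exact absurd hQy (by decide)
  · exact Or.inr (hyx _ e)
  · exfalso
    have e2 : v₁ * v₂ * x = v₁ * x * v₂ := by
      rw [mul_assoc, (sy_of o).mc o.c_mem hx, mul_assoc]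
    rw [hyx _ e, e2, o.Qmulc hv1x, hQv] at hQy
    exact absurd hQy (by decide)

/-- The stabiliser of the point `x` in `M` is `N_M(V₁)`. -/
theorem stab_iff {x g : G} (hx : x ∈ V₁) (hx1 : x ≠ 1) (hxv : x ≠ v₁) (hg : g ∈ cz v₂ ⊓ cz v₁) :
    g * x * g⁻¹ * x ∈ yr (sy_of o) o.r_mem ↔ g ∈ normalizer (V₁ : Set G) := by
  have hxN := h.V1_le_N2 hx
  have hB := B_zero h.symm h.toBase.symm h.vV1 hx
  have hQ := Q_zero h.symm h.toBase.symm hx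
  have hgv : g * v₁ * g⁻¹ = v₁ := by rw [mem_cz.1 hg.2, mul_inv_cancel_right]
  constructor
  · intro e
    have h1 := sing_of h o hxN hB (o.nor g hg.1 x hxN) hQ (by rw [o.inv g hg.1 x hxN, hQ]) e
    have h2 : g * x * g⁻¹ ∈ V₁ := by
      rcases h1 with h1 | h1
      · rw [h1]; exact hx
      · rw [h1]; exact mul_mem h.vV1 hx
    apply SpSide.mem_normalizer_of_conj
    apply Subgroup.eq_of_le_of_card_ge
    · rintro _ ⟨y, hy, rfl⟩
      show g * y * g⁻¹ ∈ V₁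
      rcases h.toBase.mem_V1 hy hx hx1 hxv with rfl | rfl | rfl | rfl
      · simp
      · rw [hgv]; exact h.vV1
      · exact h2
      · have e3 : g * (v₁ * x) * g⁻¹ = g * v₁ * g⁻¹ * (g * x * g⁻¹) := by group
        rw [e3, hgv]
        exact mul_mem h.vV1 h2
    · exact (SpSide.Side.card_conj g V₁).symm.le
  · intro hn
    have h1 := (mem_normalizer_iff.1 hn x).1 hx
    rcases h.toBase.conj1 hg.2 h1 hx with e | e
    · rw [e, h.q1 x hx]; exact one_mem _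
    · rw [e, mul_assoc, h.q1 x hx, mul_one]; exact v1_yr h o

/-- `F₁` transitive on `V₁^M`: `⟨V₁^{F₁}⟩` is normal in `C₁`. -/
theorem norm_of (o₁ : GOrth (cz v₁) (nc v₁ {v₂}) v₂ v₁)
    (ht : ∀ m ∈ cz v₁ ⊓ cz v₂, ∃ f ∈ cz v₁ ⊓ centralizer (nc v₁ {v₂} : Set G), f⁻¹ * m ∈ normalizer (V₁ : Set G)) :
    ∃ A : Subgroup G, V₁ ≤ A ∧ A ≤ nc v₂ {v₁} ∧ cz v₁ ≤ normalizer (A : Set G) := by
  set F := cz v₁ ⊓ centralizer (nc v₁ {v₂} : Set G) with hF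
  set N : Subgroup G := closure {y : G | ∃ f ∈ F, ∃ a ∈ V₁, y = f * a * f⁻¹} with hN
  have hsub : ∀ f ∈ F, ∀ a ∈ V₁, f * a * f⁻¹ ∈ N := fun f hf a ha => subset_closure ⟨f, hf, a, ha, rfl⟩
  have hV : V₁ ≤ N := fun a ha => by simpa using hsub 1 (one_mem _) a ha
  have hFM : F ≤ cz v₁ ⊓ cz v₂ := h.F1_le
  have hnorm : ∀ g ∈ cz v₁, (∀ f ∈ F, ∀ a ∈ V₁, g * (f * a * f⁻¹) * g⁻¹ ∈ N) → g ∈ normalizer (N : Set G) := by
    intro g hg hga
    apply Cfsg.Agent.MinSimple.VModule.mem_normalizer_of_map_le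
    rw [hN, MonoidHom.map_closure, closure_le]
    rintro _ ⟨y, ⟨f, hf, a, ha, rfl⟩, rfl⟩
    exact hga f hf a ha
  have hM : cz v₁ ⊓ cz v₂ ≤ normalizer (N : Set G) := by
    intro m hm
    refine hnorm m hm.1 fun f hf a ha => ?_
    obtain ⟨f', hf', h1⟩ := ht (m * f) (mul_mem hm (hFM hf))
    have e : m * (f * a * f⁻¹) * m⁻¹ = f' * ((f'⁻¹ * (m * f)) * a * (f'⁻¹ * (m * f))⁻¹) * f'⁻¹ := by group
    rw [e]
    exact hsub f' hf' _ ((mem_normalizer_iff.1 h1 a).1 ha)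
  have hL : L₂ ≤ normalizer (N : Set G) := by
    intro l hl
    refine hnorm l (h.L2_le hl) fun f hf a ha => ?_
    have h1 : l * f * l⁻¹ ∈ F := (mem_normalizer_iff.1 (h.F1_norm (h.L2_le hl)) f).1 hf
    have e : l * (f * a * f⁻¹) * l⁻¹ = (l * f * l⁻¹) * (l * a * l⁻¹) * (l * f * l⁻¹)⁻¹ := by group
    have e2 : l * a * l⁻¹ = a := by rw [h.L21 l hl a ha, mul_inv_cancel_right]
    rw [e, e2]
    exact hsub _ h1 a ha
  refine ⟨N, hV, ?_, (gen h o₁).trans (sup_le hM hL)⟩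
  rw [hN, closure_le]
  rintro _ ⟨f, hf, a, ha, rfl⟩
  exact (mem_normalizer_iff.1 (le_normalizer_nc v₂ {v₁} (hFM hf).2) a).1 (h.V1_le_N2 ha)

/-- **(A)** `F₁ ≤ N_G(V₁)`. -/
theorem F_le (o₁ : GOrth (cz v₁) (nc v₁ {v₂}) v₂ v₁)
    (hI : ∃ x ∈ nc v₁ {v₂}, ∃ y ∈ nc v₂ {v₁}, x * y ≠ y * x) {v' w l : G}
    (S : SpSide.Side V₁ V₂ (nc v₁ {v₂}) v₁ v' w l) :
    cz v₁ ⊓ centralizer (nc v₁ {v₂} : Set G) ≤ normalizer (V₁ : Set G) := by
  intro f hf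
  by_contra hfn
  obtain ⟨x, hx, hx1, hxv⟩ := exists_x h
  have hs := sy_perp (sy_of o) o.r_mem
  set F := cz v₁ ⊓ centralizer (nc v₁ {v₂} : Set G) with hF
  have hFM : F ≤ cz v₂ ⊓ cz v₁ := fun g hg => ⟨(h.F1_le hg).2, (h.F1_le hg).1⟩
  have hFn : ∀ m ∈ cz v₂ ⊓ cz v₁, ∀ k ∈ F, m * k * m⁻¹ ∈ F := fun m hm k hk =>
    (mem_normalizer_iff.1 (h.F1_norm hm.2) k).1 hk
  obtain ⟨hxp, hxy⟩ := pt_mem h o h.toBase hx hx1 hxv
  have htr : ∀ q ∈ (sy_of o).pp o.r_mem, q ∉ yr (sy_of o) o.r_mem → ∃ g ∈ F, g * x * g⁻¹ * q ∈ yr (sy_of o) o.r_mem :=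
    fun q hq hqy => hs.norm_trans hFM hFn hxp hxy hf (fun e => hfn ((stab_iff h o hx hx1 hxv (hFM hf)).1 e)) hq hqy
  have ht : ∀ m ∈ cz v₁ ⊓ cz v₂, ∃ f ∈ F, f⁻¹ * m ∈ normalizer (V₁ : Set G) := by
    intro m hm
    have hm' : m ∈ cz v₂ ⊓ cz v₁ := ⟨hm.2, hm.1⟩
    have h1 : m * x * m⁻¹ ∉ yr (sy_of o) o.r_mem := fun e => hxy (by
      have := hs.norY' hm' e
      have e2 : m⁻¹ * (m * x * m⁻¹) * m = x := by group
      rwa [e2] at this)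
    obtain ⟨g, hg, e⟩ := htr _ (hs.nor m hm' x hxp) h1
    refine ⟨g, hg, (stab_iff h o hx hx1 hxv (mul_mem (inv_mem (hFM hg)) hm')).1 ?_⟩
    have h2 := hs.norY' (hFM hg) (hs.eqv_symm (hs.nor g (hFM hg) x hxp) (hs.nor m hm' x hxp) e)
    have e2 : g⁻¹ * (m * x * m⁻¹ * (g * x * g⁻¹)) * g = g⁻¹ * m * x * (g⁻¹ * m)⁻¹ * x := by group
    rwa [e2] at h2
  obtain ⟨A, hVA, hAN, hnA⟩ := norm_of h o o₁ ht
  -- `D = C_{C₁}(A)`
  set D : Subgroup G := cz v₁ ⊓ centralizer (A : Set G) with hD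
  have hDn : ∀ m ∈ cz v₁, ∀ k ∈ D, m * k * m⁻¹ ∈ D := by
    intro m hm k hk
    refine mem_inf.2 ⟨mul_mem (mul_mem hm hk.1) (inv_mem hm), mem_centralizer_iff.2 fun a ha => ?_⟩
    have h1 := (mem_normalizer_iff.1 (inv_mem (hnA hm)) a).1 ha
    rw [inv_inv] at h1
    have h2 := mem_centralizer_iff.1 hk.2 _ h1
    calc a * (m * k * m⁻¹) = m * (m⁻¹ * a * m * k) * m⁻¹ := by group
      _ = m * (k * (m⁻¹ * a * m)) * m⁻¹ := by rw [h2]
      _ = m * k * m⁻¹ * a := by group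
  have hN2D : nc v₂ {v₁} ≤ D := fun y hy => ⟨h.T_le (h.symm.N1_le_T hy), mem_centralizer_iff.2 fun a ha =>
    h.symm.N1_comm (hAN ha) hy⟩
  -- `D` moves a point
  have hs1 := sy_of o₁
  have v2Y : v₂ ∉ zpowers v₁ := fun e => by
    rcases (mem_zp2 h.vq1).1 e with e | e
    · exact h.v2 e
    · exact h.ne e.symm
  obtain ⟨d, hd, hdv⟩ : ∃ d ∈ D, d * v₂ * d⁻¹ * v₂ ∉ zpowers v₁ := by
    obtain ⟨n, hn, y, hy, hne⟩ := hI
    have hyD := hN2D hy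
    -- `y` moves `n`
    obtain ⟨q, hq, hqB⟩ := hs1.sep1 hn fun e => by
      rcases (mem_zp2 h.vq1).1 e with e | e
      · exact hne (by rw [e]; group)
      · exact hne (by rw [e]; exact (mem_cz.1 hyD.1).symm)
    by_contra hcon
    push Not at hcon
    -- `D` fixes all points
    have hfix : ∀ c ∈ cz v₁, ∀ d ∈ D, d * (c * v₂ * c⁻¹) * d⁻¹ = c * v₂ * c⁻¹ := by
      intro c hc d hd
      have h1 : c⁻¹ * d * c ∈ D := by
        have := hDn c⁻¹ (inv_mem hc) d hd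
        rwa [inv_inv] at this
      have h2 := hcon _ h1
      have h3 : c⁻¹ * d * c * v₂ * (c⁻¹ * d * c)⁻¹ = v₂ := by
        rcases (mem_zp2 h.vq1).1 h2 with e | e
        · calc c⁻¹ * d * c * v₂ * (c⁻¹ * d * c)⁻¹ = c⁻¹ * d * c * v₂ * (c⁻¹ * d * c)⁻¹ * v₂ * v₂ := by
                rw [mul_assoc _ v₂ v₂, h.vq2, mul_one]
            _ = v₂ := by rw [e, one_mul]
        · exfalso
          have e1 : c⁻¹ * d * c * v₂ * (c⁻¹ * d * c)⁻¹ = v₂ * v₁ := by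
            calc c⁻¹ * d * c * v₂ * (c⁻¹ * d * c)⁻¹ = c⁻¹ * d * c * v₂ * (c⁻¹ * d * c)⁻¹ * v₂ * v₂ := by
                  rw [mul_assoc _ v₂ v₂, h.vq2, mul_one]
              _ = v₂ * v₁ := by rw [e, h.vc]
          have h1 : Qg (cz v₁) v₂ (c⁻¹ * d * c * v₂ * (c⁻¹ * d * c)⁻¹) = 0 := Qg_conj h1.1
          rw [e1, o₁.Qmulc o₁.r_mem, Qg_self] at h1
          exact absurd h1 (by decide)
      calc d * (c * v₂ * c⁻¹) * d⁻¹ = c * (c⁻¹ * d * c * v₂ * (c⁻¹ * d * c)⁻¹) * c⁻¹ := by group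
        _ = c * v₂ * c⁻¹ := by rw [h3]
    apply hne
    have h4 : nc v₁ {v₂} ≤ cz y := by
      rw [nc, closure_le]
      rintro _ ⟨c, hc, a, ha, rfl⟩
      rw [Set.mem_singleton_iff.1 ha]
      exact mem_cz.2 (mul_inv_eq_iff_eq_mul.1 (hfix c hc y hyD)).symm
    exact mem_cz.1 (h4 hn)
  -- `D` is transitive on `v₂^{C₁}`
  have hDtr : ∀ c ∈ cz v₁, ∃ d ∈ D, d * v₂ * d⁻¹ = c * v₂ * c⁻¹ := by
    intro c hc
    have hcv := o₁.nor c hc v₂ o₁.r_mem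
    obtain ⟨g, hg, e⟩ := hs1.norm_trans (inf_le_left : D ≤ cz v₁) hDn o₁.r_mem v2Y hd hdv hcv fun e => v2Y (by
      have := hs1.norY' hc e
      have e2 : c⁻¹ * (c * v₂ * c⁻¹) * c = v₂ := by group
      rwa [e2] at this)
    refine ⟨g, hg, ?_⟩
    have hcc := o₁.sq _ hcv
    rcases (mem_zp2 h.vq1).1 e with e | e
    · calc g * v₂ * g⁻¹ = g * v₂ * g⁻¹ * (c * v₂ * c⁻¹) * (c * v₂ * c⁻¹) := by
            rw [mul_assoc _ (c * v₂ * c⁻¹) _, hcc, mul_one]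
        _ = c * v₂ * c⁻¹ := by rw [e, one_mul]
    · exfalso
      have e1 : g * v₂ * g⁻¹ = c * v₂ * c⁻¹ * v₁ := by
        calc g * v₂ * g⁻¹ = g * v₂ * g⁻¹ * (c * v₂ * c⁻¹) * (c * v₂ * c⁻¹) := by
              rw [mul_assoc _ (c * v₂ * c⁻¹) _, hcc, mul_one]
          _ = c * v₂ * c⁻¹ * v₁ := by rw [e, hs1.mc o₁.c_mem hcv]
      have h1 : Qg (cz v₁) v₂ (g * v₂ * g⁻¹) = 0 := Qg_conj hg.1
      rw [e1, o₁.Qmulc hcv, Qg_conj hc] at h1
      exact absurd h1 (by decide)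
  -- `N₁ ≤ N₁^l`
  have hv2 : v₂ ∈ MulAut.conj l • nc v₁ {v₂} := S.W_le_N' h.vV2
  have hDV : D ≤ centralizer ({v'} : Set G) := fun d hd => SpSide.mem_centralizer_singleton.2
    (mem_centralizer_iff.1 hd.2 v' (hVA S.v'V)).symm
  have hle : nc v₁ {v₂} ≤ MulAut.conj l • nc v₁ {v₂} := by
    conv_lhs => rw [nc]
    rw [closure_le]
    rintro _ ⟨c, hc, a, ha, rfl⟩
    rw [Set.mem_singleton_iff.1 ha]
    obtain ⟨d, hd, e⟩ := hDtr c hc
    rw [← e]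
    exact (mem_normalizer_iff.1 (S.nor' (hDV hd)) _).1 hv2
  exact S.v_not_mem (hle o₁.c_mem)

end point

end

end Cfsg.Agent.Omega.IId.PlaneF

end
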